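import Mathlib
import Cfsg.Agent.S1394
import Cfsg.Agent.S1395
import Cfsg.Agent.Lib.Helper71.BG11a
import Cfsg.Agent.Lib.Helper59.BenderUniq

set_option autoImplicit false
set_option linter.unusedSectionVars false

/-! Bender–Glauberman: "Lemma Z".  `M` maximal, `r ∉ σ(M)`, `B ≤ M` elementary abelian of order
`r ^ 2` with `C_G(B) ≤ M`: no prime of `σ(M)` divides `|C_G(B)|`, in particular `C_{M_σ}(B) = 1`. -/

namespace Cfsg.Agent.Lib.Helper27.BGZ

open Cfsg Cfsg.Agent.Lib.Helper55 Cfsg.Agent.Lib.Helper31 Cfsg.Agent.Lib.Helper71.BG10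
  Cfsg.Agent.Lib.Helper71.BG11

variable {G : Type*} [Group G] [Finite G]

variable {M B : Subgroup G} {r : ℕ} [Fact r.Prime]

/-- the `r`-rank of `M` is exactly two -/
theorem rank_two (hG : IsMinSimpleOddOrder G) (hM : IsCoatom M) (hr : r ∉ sigma M) (hBM : B ≤ M)
    (hB : IsElementaryAbelian r B) (hB2 : Nat.card B = r ^ 2) :
    PRankLE r 2 M ∧ ¬ PRankLE r 1 M := by
  constructor
  · by_contra h
    exact hr (Bg10.mem_sigma_of_rank_three hG hM h)
  · rw [not_pRankLE_sub_iff]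
    refine ⟨B, hBM, ?_, hB.2, ?_⟩
    · intro a ha b hb
      exact congrArg Subtype.val (hB.1.is_comm.comm (⟨a, ha⟩ : B) ⟨b, hb⟩)
    · rw [hB2, pow_one]
      have hp : 1 < r := (Fact.out : r.Prime).one_lt
      nlinarith

theorem maxElem (hG : IsMinSimpleOddOrder G) (hM : IsCoatom M) (hr : r ∉ sigma M) (hBM : B ≤ M)
    (hB : IsElementaryAbelian r B) (hB2 : Nat.card B = r ^ 2) (B' : Subgroup G)
    (hB' : IsElementaryAbelian r B') (hle : B ≤ B') : B' = B :=
  (Cfsg.Agent.S1408.result hG M hM r hr (rank_two hG hM hr hBM hB hB2).1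
    (rank_two hG hM hr hBM hB hB2).2).2 B hBM hB hB2 B' hB' hle

/-- `B = Ω₁(C_G(B))` for a maximal elementary abelian `B` -/
theorem mem_of_cent (hB : IsElementaryAbelian r B)
    (hmax : ∀ B' : Subgroup G, IsElementaryAbelian r B' → B ≤ B' → B' = B) {x : G}
    (hx : x ∈ Subgroup.centralizer (B : Set G)) (hxr : x ^ r = 1) : x ∈ B := by
  have hZ : IsElementaryAbelian r (Subgroup.zpowers x) := by
    refine ⟨inferInstance, ?_⟩
    intro y hy
    obtain ⟨k, rfl⟩ := Subgroup.mem_zpowers_iff.mp hy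
    rw [← zpow_natCast, ← zpow_mul, mul_comm, zpow_mul, zpow_natCast, hxr, one_zpow]
  have hc : ∀ a ∈ B, ∀ b ∈ Subgroup.zpowers x, a * b = b * a := by
    intro a ha b hb
    obtain ⟨k, rfl⟩ := Subgroup.mem_zpowers_iff.mp hb
    have h1 : Commute a x := (Subgroup.mem_centralizer_iff.mp hx a ha)
    exact (h1.zpow_right k).eq
  have h2 := hmax _ (Cfsg.Agent.Lib.Helper99.isEA_sup hB hZ hc) le_sup_left
  rw [← h2]
  exact (le_sup_right : Subgroup.zpowers x ≤ B ⊔ Subgroup.zpowers x) (Subgroup.mem_zpowers x)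

/-- a maximal elementary abelian `r`-subgroup (nontrivial) satisfies the transitivity hypothesis -/
theorem transHyp_of_maxElem (hG : IsMinSimpleOddOrder G) (hB : IsElementaryAbelian r B)
    (hB1 : B ≠ ⊥)
    (hmax : ∀ B' : Subgroup G, IsElementaryAbelian r B' → B ≤ B' → B' = B) :
    TransitivityHypothesis B := by
  have hBp : IsPGroup r B := isPGroup_of_pow_eq_one hB.2
  have hrG : r ∣ Nat.card G :=
    (ms_prime_dvd_card hG hBp hB1).trans (Subgroup.card_subgroup_dvd_card B)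
  exact Cfsg.Agent.S1396.result hG r hrG B hBp hB.1
    (Or.inl ⟨fun x hx => ⟨fun hxr => mem_of_cent hB hmax hx hxr, fun hxB => hB.2 x hxB⟩,
      fun H hH => Cfsg.Agent.S1410.result hG r H hH⟩)

theorem ne_bot_of_card (hB2 : Nat.card B = r ^ 2) : B ≠ ⊥ := by
  intro hA
  rw [hA, Subgroup.card_bot] at hB2
  have hp : 1 < r := (Fact.out : r.Prime).one_lt
  have : 1 < r ^ 2 := Nat.one_lt_pow two_ne_zero hp
  omega

theorem le_centralizer_self (hB : IsElementaryAbelian r B) :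
    B ≤ Subgroup.centralizer (B : Set G) := by
  intro a ha
  rw [Subgroup.mem_centralizer_iff]
  intro x hx
  exact congrArg Subtype.val (hB.1.is_comm.comm (⟨x, hx⟩ : B) ⟨a, ha⟩)

/-- **Lemma Z**, prime-divisor form. -/
theorem not_dvd_card_centralizer (hG : IsMinSimpleOddOrder G) (hM : IsCoatom M)
    (hr : r ∉ sigma M) (hBM : B ≤ M) (hB : IsElementaryAbelian r B) (hB2 : Nat.card B = r ^ 2)
    (hC : Subgroup.centralizer (B : Set G) ≤ M) {s : ℕ} (hs : s ∈ sigma M) :
    ¬ s ∣ Nat.card (Subgroup.centralizer (B : Set G)) := by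
  intro hsd
  have : Fact s.Prime := ⟨hs.1⟩
  have hrp : r.Prime := Fact.out
  have hsr : s ≠ r := fun e => hr (e ▸ hs)
  have hsB : ¬ s ∣ Nat.card B := by
    rw [hB2]
    intro hd
    exact hsr ((Nat.prime_dvd_prime_iff_eq hs.1 hrp).mp (hs.1.dvd_of_dvd_pow hd))
  have hB1 : B ≠ ⊥ := ne_bot_of_card hB2
  have hBp : IsPGroup r B := isPGroup_of_pow_eq_one hB.2
  have hmax := maxElem hG hM hr hBM hB hB2
  have hTH := transHyp_of_maxElem hG hB hB1 hmax
  have hZ : ¬ RankLE 1 ↥(B ⊓ Subgroup.centralizer (B : Set G)) := by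
    intro h
    have h1 := h r hrp
    revert h1
    rw [imp_false, not_pRankLE_sub_iff]
    refine ⟨B, le_inf le_rfl (le_centralizer_self hB), ?_, hB.2, ?_⟩
    · intro a ha b hb
      exact congrArg Subtype.val (hB.1.is_comm.comm (⟨a, ha⟩ : B) ⟨b, hb⟩)
    · rw [hB2, pow_one]
      have hp : 1 < r := hrp.one_lt
      nlinarith
  have htr := Cfsg.Agent.S1394.result hG B hTH hZ s hs.1 hsB hsd
  obtain ⟨S, hS, hBS⟩ := exists_isSylowIn_ge hBM hBp
  have hStop : S ≠ ⊤ := ms_pgroup_ne_top hG hS.2.1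
  have hS1 : S ≠ ⊥ := by
    rintro rfl
    exact hB1 (le_bot_iff.mp hBS)
  have hPπ : ∀ q : ℕ, q.Prime → q ∣ Nat.card S → q ∣ Nat.card B := by
    intro q hq hqd
    obtain ⟨n, hn⟩ := hS.2.1.exists_card_eq
    rw [hn] at hqd
    have : q = r := (Nat.prime_dvd_prime_iff_eq hq hrp).mp (hq.dvd_of_dvd_pow hqd)
    rw [this, hB2]
    exact dvd_pow_self r two_ne_zero
  have hsn : (B.subgroupOf S).IsSubnormal := by
    have : Group.IsNilpotent ↥S := hS.2.1.isNilpotent
    exact Cfsg.Agent.Lib.Helper59.Bender.isSubnormal_of_isNilpotent _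
  have h95 := Cfsg.Agent.S1395.result hG B hTH s hs.1 hsB S hStop hPπ hBS hsn htr
  -- an `S`-invariant Sylow `s`-subgroup of `M_σ`
  have hsolvS : Group.IsSolvable S := ms_solvable hG hStop
  have hcop : (Nat.card S).Coprime (Nat.card (sigmaCore M)) := by
    obtain ⟨n, hn⟩ := hS.2.1.exists_card_eq
    rw [hn]
    apply Nat.Coprime.pow_left
    rw [Nat.Prime.coprime_iff_not_dvd hrp]
    intro hd
    exact hr (sigmaCore_pi hG hM hrp hd)
  have hbotN : S ≤ Subgroup.normalizer (((⊥ : Subgroup G)) : Set G) := by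
    intro x _
    rw [Subgroup.mem_normalizer_iff]
    intro h
    simp
  obtain ⟨Q, -, hQK, hSQ, hQS, hQmax⟩ :=
    exists_inv_sylow_ge (A := S) (K := sigmaCore M) (Q := ⊥) (q := s) hsolvS
      (hS.1.trans (le_normalizer_sigmaCore M)) hcop (sigmaCore_index hG hM hs) bot_le
      IsPGroup.of_bot hbotN
  have hQM : IsSylowIn s M Q :=
    ⟨hQK.trans (sigmaCore_le M), hQS.2.1, fun T' _ hT'p hle => hQS.2.2 T' le_top hT'p hle⟩
  have hNQ : Subgroup.normalizer (Q : Set G) ≤ M := sigma_normalizer_le hs hQM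
  have hNS := (h95.2.2.2 Q hQmax).2
  have hNSM : Subgroup.normalizer (S : Set G) ≤ M := by
    rw [hNS]
    apply sup_le
    · exact (piCoreOf_le _ _).trans
        ((Subgroup.centralizer_le (SetLike.coe_subset_coe.mpr hBS)).trans hC)
    · exact inf_le_right.trans hNQ
  exact hr (Bg10.mem_sigma_of_normalizer_le hS hS1 hNSM)

/-- **Lemma Z**: `C_{M_σ}(B) = 1`. -/
theorem sigmaCore_inf_centralizer_eq_bot (hG : IsMinSimpleOddOrder G) (hM : IsCoatom M)
    (hr : r ∉ sigma M) (hBM : B ≤ M) (hB : IsElementaryAbelian r B) (hB2 : Nat.card B = r ^ 2)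
    (hC : Subgroup.centralizer (B : Set G) ≤ M) :
    sigmaCore M ⊓ Subgroup.centralizer (B : Set G) = ⊥ := by
  by_contra hD
  have hDc : Nat.card ↥(sigmaCore M ⊓ Subgroup.centralizer (B : Set G)) ≠ 1 :=
    fun h1 => hD (Subgroup.card_eq_one.mp h1)
  obtain ⟨s, hsp, hsD⟩ := Nat.exists_prime_and_dvd hDc
  have hs : s ∈ sigma M :=
    sigmaCore_pi hG hM hsp (hsD.trans (Subgroup.card_dvd_of_le inf_le_left))
  exact not_dvd_card_centralizer hG hM hr hBM hB hB2 hC hs
    (hsD.trans (Subgroup.card_dvd_of_le inf_le_right))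

end Cfsg.Agent.Lib.Helper27.BGZ
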