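import Mathlib
import Cfsg.Agent.Lib.Helper75.BG14DP

/-!
# K-1369-P (keystone 136901, architect helper31): coprime commuting parts of `z ∈ KY − (K ∪ Y)`
-/

set_option autoImplicit false

namespace Cfsg.Agent.Lib.Helper27.BG147

open Subgroup

variable {G : Type*} [Group G]

theorem exists_mul_of_mem_sup_of_centralizer {K Y : Subgroup G} (hc : Y ≤ centralizer (K : Set G))
    {z : G} (hz : z ∈ K ⊔ Y) : ∃ x ∈ K, ∃ y ∈ Y, z = x * y := by
  have hcomm : ∀ x ∈ K, ∀ y ∈ Y, x * y = y * x := fun x hx y hy =>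
    (Subgroup.mem_centralizer_iff.mp (hc hy)) x hx
  rw [sup_eq_closure] at hz
  induction hz using Subgroup.closure_induction with
  | mem g hg =>
    rcases hg with hg | hg
    · exact ⟨g, hg, 1, Y.one_mem, (mul_one g).symm⟩
    · exact ⟨1, K.one_mem, g, hg, (one_mul g).symm⟩
  | one => exact ⟨1, K.one_mem, 1, Y.one_mem, (mul_one 1).symm⟩
  | mul a b _ _ ha hb =>
    obtain ⟨x, hx, y, hy, rfl⟩ := ha
    obtain ⟨x', hx', y', hy', rfl⟩ := hb
    refine ⟨x * x', K.mul_mem hx hx', y * y', Y.mul_mem hy hy', ?_⟩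
    calc x * y * (x' * y') = x * (y * x') * y' := by group
      _ = x * (x' * y) * y' := by rw [hcomm x' hx' y hy]
      _ = x * x' * (y * y') := by group
  | inv a _ ha =>
    obtain ⟨x, hx, y, hy, rfl⟩ := ha
    refine ⟨x⁻¹, K.inv_mem hx, y⁻¹, Y.inv_mem hy, ?_⟩
    rw [mul_inv_rev, hcomm x⁻¹ (K.inv_mem hx) y⁻¹ (Y.inv_mem hy)]

theorem zhat_parts [Finite G] {K Y : Subgroup G} (hc : Y ≤ centralizer (K : Set G))
    (hcop : (Nat.card K).Coprime (Nat.card Y)) {z : G}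
    (hz : z ∈ (↑(K ⊔ Y) : Set G) \ ((K : Set G) ∪ ↑Y)) :
    ∃ x ∈ K, ∃ y ∈ Y, x ≠ 1 ∧ y ≠ 1 ∧ z = x * y ∧ x * y = y * x ∧ (∃ a : ℕ, z ^ a = x) ∧
      ∃ b : ℕ, z ^ b = y := by
  obtain ⟨hz1, hz2⟩ := hz
  obtain ⟨x, hx, y, hy, rfl⟩ := exists_mul_of_mem_sup_of_centralizer hc hz1
  have hxy : x * y = y * x := (Subgroup.mem_centralizer_iff.mp (hc hy)) x hx
  have hxK : x ^ Nat.card K = 1 := by
    have h := pow_card_eq_one' (G := K) (x := ⟨x, hx⟩)
    exact congrArg Subtype.val h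
  have hyY : y ^ Nat.card Y = 1 := by
    have h := pow_card_eq_one' (G := Y) (x := ⟨y, hy⟩)
    exact congrArg Subtype.val h
  refine ⟨x, hx, y, hy, ?_, ?_, rfl, hxy, ?_, ?_⟩
  · rintro rfl
    apply hz2
    right
    simpa using hy
  · rintro rfl
    apply hz2
    left
    simpa using hx
  · exact ⟨_, Cfsg.Agent.Lib.Helper75.BG14D.pow_crt_eq hcop hxK hyY hxy⟩
  · refine ⟨(Nat.chineseRemainder hcop.symm 1 0 : ℕ), ?_⟩
    rw [hxy]
    exact Cfsg.Agent.Lib.Helper75.BG14D.pow_crt_eq hcop.symm hyY hxK hxy.symm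

end Cfsg.Agent.Lib.Helper27.BG147
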