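import Mathlib
import Cfsg.Agent.Lib.Helper73.RUDefs

/-!
# K-RU pack (S2280, architect helper73), leaf I (keystone 228009): the conjugator
`g = 1 - l E_{1,last}` with `g a = b g`, `det g = 1`, and `b = a (1 + l e_0 e_lastᵀ)`.
-/

set_option autoImplicit false

namespace Cfsg.Agent.Lib.Helper27.RU

open Matrix Cfsg.Agent.Lib.Helper73.RU

theorem rui_one_ne_last (m : ℕ) : (1 : Fin (m + 3)) ≠ Fin.last (m + 2) := by
  intro h
  have := congrArg Fin.val h
  change 1 = m + 2 at this
  omega

theorem rui_zero_ne_one (m : ℕ) : (0 : Fin (m + 3)) ≠ 1 := by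
  intro h
  have := congrArg Fin.val h
  change 0 = 1 at this
  omega

theorem rui_aMat_apply (m : ℕ) (F : Type*) [Field F] (i j : Fin (m + 3)) :
    aMat m F i j = if i = j ∨ i.val + 1 = j.val then 1 else 0 := rfl

/-- the last row of `aMat` is `e_lastᵀ` -/
theorem rui_aMat_last (m : ℕ) (F : Type*) [Field F] (j : Fin (m + 3)) :
    aMat m F (Fin.last (m + 2)) j = if Fin.last (m + 2) = j then 1 else 0 := by
  rw [rui_aMat_apply]
  by_cases h : Fin.last (m + 2) = j
  · rw [if_pos (Or.inl h), if_pos h]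
  · rw [if_neg h, if_neg]
    rintro (h' | h')
    · exact h h'
    · have hj := j.2
      change m + 2 + 1 = j.val at h'
      omega

/-- column `0` of `aMat` is `e_0` -/
theorem rui_aMat_col_zero (m : ℕ) (F : Type*) [Field F] (i : Fin (m + 3)) :
    aMat m F i 0 = if i = 0 then 1 else 0 := by
  rw [rui_aMat_apply]
  by_cases h : i = 0
  · rw [if_pos (Or.inl h), if_pos h]
  · rw [if_neg h, if_neg]
    rintro (h' | h')
    · exact h h'
    · change i.val + 1 = 0 at h'
      omega

/-- column `1` of `aMat` is `e_0 + e_1` -/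
theorem rui_aMat_col_one (m : ℕ) (F : Type*) [Field F] (i : Fin (m + 3)) :
    aMat m F i 1 = (if i = 1 then 1 else 0) + (if i = 0 then 1 else 0) := by
  rw [rui_aMat_apply]
  by_cases h1 : i = 1
  · subst h1
    rw [if_pos (Or.inl rfl), if_pos rfl, if_neg (rui_zero_ne_one m).symm, add_zero]
  · by_cases h0 : i = 0
    · subst h0
      have h01 : ((0 : Fin (m + 3)) = 1 ∨ (0 : Fin (m + 3)).val + 1 = (1 : Fin (m + 3)).val) :=
        Or.inr rfl
      rw [if_pos h01, if_neg h1, if_pos rfl, zero_add]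
    · rw [if_neg h1, if_neg h0, add_zero, if_neg]
      rintro (h' | h')
      · exact h1 h'
      · change i.val + 1 = 1 at h'
        exact h0 (Fin.ext (by change i.val = 0; omega))

/-- `E_{1,last} a = E_{1,last}` -/
theorem rui_single_mul_aMat (m : ℕ) (F : Type*) [Field F] (c : F) :
    Matrix.single (1 : Fin (m + 3)) (Fin.last (m + 2)) c * aMat m F =
      Matrix.single 1 (Fin.last (m + 2)) c := by
  ext i j
  by_cases hi : i = 1
  · subst hi
    rw [Matrix.single_mul_apply_same, rui_aMat_last, Matrix.single_apply]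
    by_cases hj : Fin.last (m + 2) = j
    · rw [if_pos hj, if_pos ⟨rfl, hj⟩, mul_one]
    · rw [if_neg hj, if_neg (fun h => hj h.2), mul_zero]
  · rw [Matrix.single_mul_apply_of_ne _ _ _ _ _ hi, Matrix.single_apply,
      if_neg (fun h => hi h.1.symm)]

/-- `a E_{0,last} = E_{0,last}` -/
theorem rui_aMat_mul_single_zero (m : ℕ) (F : Type*) [Field F] (c : F) :
    aMat m F * Matrix.single (0 : Fin (m + 3)) (Fin.last (m + 2)) c =
      Matrix.single 0 (Fin.last (m + 2)) c := by
  ext i j
  by_cases hj : j = Fin.last (m + 2)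
  · subst hj
    rw [Matrix.mul_single_apply_same, rui_aMat_col_zero, Matrix.single_apply]
    by_cases hi : i = 0
    · rw [if_pos hi, if_pos ⟨hi.symm, rfl⟩, one_mul]
    · rw [if_neg hi, if_neg (fun h => hi h.1.symm), zero_mul]
  · rw [Matrix.mul_single_apply_of_ne _ _ _ _ _ hj, Matrix.single_apply,
      if_neg (fun h => hj h.2.symm)]

/-- `a E_{1,last} = E_{1,last} + E_{0,last}` -/
theorem rui_aMat_mul_single_one (m : ℕ) (F : Type*) [Field F] (c : F) :
    aMat m F * Matrix.single (1 : Fin (m + 3)) (Fin.last (m + 2)) c =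
      Matrix.single 1 (Fin.last (m + 2)) c + Matrix.single 0 (Fin.last (m + 2)) c := by
  ext i j
  rw [Matrix.add_apply]
  by_cases hj : j = Fin.last (m + 2)
  · subst hj
    rw [Matrix.mul_single_apply_same, rui_aMat_col_one, Matrix.single_apply, Matrix.single_apply]
    by_cases h1 : i = 1
    · subst h1
      rw [if_pos rfl, if_neg (rui_zero_ne_one m).symm, if_pos ⟨rfl, rfl⟩,
        if_neg (fun h => rui_zero_ne_one m h.1), add_zero, add_zero, one_mul]
    · by_cases h0 : i = 0
      · subst h0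
        rw [if_neg h1, if_pos rfl, if_neg (fun h => h1 h.1.symm), if_pos ⟨rfl, rfl⟩, zero_add,
          zero_add, one_mul]
      · rw [if_neg h1, if_neg h0, if_neg (fun h => h1 h.1.symm), if_neg (fun h => h0 h.1.symm),
          add_zero, zero_mul]
  · rw [Matrix.mul_single_apply_of_ne _ _ _ _ _ hj, Matrix.single_apply, Matrix.single_apply,
      if_neg (fun h => hj h.2.symm), if_neg (fun h => hj h.2.symm), add_zero]

/-- **K-RU leaf I (1)** -/
theorem det_gMat (m : ℕ) (F : Type*) [Field F] (l : F) : (gMat m F l).det = 1 := by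
  have : gMat m F l = Matrix.transvection (1 : Fin (m + 3)) (Fin.last (m + 2)) (-l) := rfl
  rw [this]
  exact Matrix.det_transvection_of_ne _ _ (rui_one_ne_last m) _

/-- **K-RU leaf I (2)** -/
theorem gMat_mul_aMat (m : ℕ) (F : Type*) [Field F] (l : F) :
    gMat m F l * aMat m F = bMat m F l * gMat m F l := by
  unfold gMat bMat
  have hd : Matrix.single (0 : Fin (m + 3)) (Fin.last (m + 2)) l *
      Matrix.single (1 : Fin (m + 3)) (Fin.last (m + 2)) (-l) = 0 :=
    Matrix.single_mul_single_of_ne _ _ _ _ (rui_one_ne_last m).symm _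
  have hs : Matrix.single (0 : Fin (m + 3)) (Fin.last (m + 2)) l +
      Matrix.single (0 : Fin (m + 3)) (Fin.last (m + 2)) (-l) = 0 := by
    rw [← Matrix.single_add, add_neg_cancel, Matrix.single_zero]
  rw [Matrix.add_mul, Matrix.one_mul, rui_single_mul_aMat, Matrix.mul_assoc]
  have e : (1 + Matrix.single (0 : Fin (m + 3)) (Fin.last (m + 2)) l) *
      (1 + Matrix.single (1 : Fin (m + 3)) (Fin.last (m + 2)) (-l)) =
      1 + Matrix.single (0 : Fin (m + 3)) (Fin.last (m + 2)) l +
        Matrix.single (1 : Fin (m + 3)) (Fin.last (m + 2)) (-l) := by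
    rw [Matrix.mul_add, Matrix.mul_one, Matrix.add_mul, Matrix.one_mul, hd, add_zero]
  rw [e, Matrix.mul_add, Matrix.mul_add, Matrix.mul_one, rui_aMat_mul_single_zero,
    rui_aMat_mul_single_one]
  calc aMat m F + Matrix.single 1 (Fin.last (m + 2)) (-l)
      = aMat m F + (Matrix.single (0 : Fin (m + 3)) (Fin.last (m + 2)) l +
          Matrix.single (0 : Fin (m + 3)) (Fin.last (m + 2)) (-l)) +
          Matrix.single 1 (Fin.last (m + 2)) (-l) := by rw [hs, add_zero]
    _ = aMat m F + Matrix.single 0 (Fin.last (m + 2)) l +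
          (Matrix.single 1 (Fin.last (m + 2)) (-l) + Matrix.single 0 (Fin.last (m + 2)) (-l)) := by
        abel

/-- **K-RU leaf I (3)** -/
theorem bMat_eq (m : ℕ) (F : Type*) [Field F] (l : F) :
    bMat m F l = aMat m F *
      tvm (l • (Pi.single 0 1 : Fin (m + 3) → F)) (Pi.single (Fin.last (m + 2)) 1) := by
  unfold bMat tvm
  congr 2
  ext i j
  rw [Matrix.single_apply, Matrix.vecMulVec_apply, Pi.smul_apply, Pi.single_apply, Pi.single_apply,
    smul_eq_mul]
  by_cases hi : i = 0
  · by_cases hj : j = Fin.last (m + 2)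
    · rw [if_pos ⟨hi.symm, hj.symm⟩, if_pos hi, if_pos hj, mul_one, mul_one]
    · rw [if_neg (fun h => hj h.2.symm), if_neg hj, mul_zero]
  · rw [if_neg (fun h => hi h.1.symm), if_neg hi, mul_zero, zero_mul]

end Cfsg.Agent.Lib.Helper27.RU
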