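import Mathlib
import Cfsg.Agent.Lib.Helper73.RUDefs
import Cfsg.Agent.Lib.Helper73.RUHub

set_option autoImplicit false

/-!
# K-RU4 leaf G (S2279): the axes, upwards from `e_0` (mirror of `single_mem_Ax_of`, with `C = aMat`)
-/

namespace Cfsg.Agent.Lib.Helper27.RU4x

open Matrix Cfsg.Agent.Lib.Helper73.RU Cfsg.Agent.Lib.Helper73.RUSpec

/-- row `j` of `aMat` is `e_j + e_(j+1)` -/
theorem g_single_vecMul_aMat (m : ℕ) (F : Type*) [Field F] (j : Fin (m + 3)) (hj : j.val + 1 < m + 3) :
    (Pi.single j 1 : Fin (m + 3) → F) ᵥ* aMat m F =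
      Pi.single j 1 + Pi.single ⟨j.val + 1, hj⟩ 1 := by
  ext k
  rw [single_vecMul, one_smul]
  unfold aMat
  simp only [Matrix.row, of_apply, Pi.add_apply, Pi.single_apply]
  by_cases h0 : k = j
  · subst h0
    have h1 : ¬ (k = (⟨k.val + 1, hj⟩ : Fin (m + 3))) := by
      intro h
      have := congrArg Fin.val h
      simp at this
    rw [if_pos (Or.inl rfl), if_pos rfl, if_neg h1, add_zero]
  · by_cases h1 : k = (⟨j.val + 1, hj⟩ : Fin (m + 3))
    · subst h1
      rw [if_pos (Or.inr rfl), if_neg h0, if_pos rfl, zero_add]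
    · have h2 : ¬ (j = k ∨ j.val + 1 = k.val) := by
        rintro (h | h)
        · exact h0 h.symm
        · apply h1
          ext
          exact h.symm
      rw [if_neg h2, if_neg h0, if_neg h1, add_zero]

theorem single_mem_Ax_up {m : ℕ} {F : Type*} [Field F]
    {G : Subgroup (SpecialLinearGroup (Fin (m + 3)) F)} (ha : InG G (aMat m F))
    (h0 : (Pi.single 0 1 : Fin (m + 3) → F) ∈ Ax G) :
    ∀ j : Fin (m + 3), (Pi.single j 1 : Fin (m + 3) → F) ∈ Ax G := by
  have key : ∀ (k : ℕ) (hk : k < m + 3), (Pi.single (⟨k, hk⟩ : Fin (m + 3)) 1 : Fin (m + 3) → F) ∈ Ax G := by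
    intro k
    induction k with
    | zero =>
      intro hk
      exact h0
    | succ k ih =>
      intro hk
      have hk' : k < m + 3 := by omega
      have hcur := ih hk'
      have hrow := g_single_vecMul_aMat m F (⟨k, hk'⟩ : Fin (m + 3)) hk
      have h1 : ((Pi.single (⟨k, hk'⟩ : Fin (m + 3)) 1 : Fin (m + 3) → F) +
          Pi.single (⟨k + 1, hk⟩ : Fin (m + 3)) 1) ∈ Ax G := by
        rw [← hrow]
        exact ax_vecMul hcur ha
      have h2 : ((-1 : F) • (Pi.single (⟨k, hk'⟩ : Fin (m + 3)) 1 : Fin (m + 3) → F)) ∈ Ax G :=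
        ax_smul (-1) hcur
      have hne : (⟨k, hk'⟩ : Fin (m + 3)) ≠ ⟨k + 1, hk⟩ := by
        intro h
        have := congrArg Fin.val h
        simp at this
      have h3 := ax_add_of h1 h2 (Pi.single (⟨k + 1, hk⟩ : Fin (m + 3)) 1)
        (by
          rw [add_dotProduct, single_dotProduct, single_dotProduct, one_mul, one_mul,
            Pi.single_apply, Pi.single_apply, if_neg hne, if_pos rfl, zero_add])
        (by
          rw [smul_dotProduct, single_dotProduct, one_mul, Pi.single_apply, if_neg hne, smul_zero])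
      have h4 : ((Pi.single (⟨k, hk'⟩ : Fin (m + 3)) 1 : Fin (m + 3) → F) +
          Pi.single (⟨k + 1, hk⟩ : Fin (m + 3)) 1) +
          (-1 : F) • (Pi.single (⟨k, hk'⟩ : Fin (m + 3)) 1 : Fin (m + 3) → F) =
          Pi.single (⟨k + 1, hk⟩ : Fin (m + 3)) 1 := by
        rw [neg_one_smul]
        abel
      rw [h4] at h3
      exact h3
  intro j
  exact key j.val j.isLt

end Cfsg.Agent.Lib.Helper27.RU4x
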