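import Mathlib
import Cfsg.Agent.S5082
import Cfsg.Agent.Lib.Helper87.FusionNormalizer
import Cfsg.Agent.Lib.Helper87.FusionAut
import Cfsg.Agent.Lib.Helper89.FusionConj
import Cfsg.Agent.Lib.Helper89.Alperin

/-!
# Alperin's theorem with a threshold

If `Aut_F(U) ≤ Aut_E(U)` for every fully normalized centric `U` of order `> m`, then every map of `F`
defined on a subgroup of order `> m` is a map of `E`.
-/

set_option autoImplicit false

namespace Cfsg.Agent.Lib.Helper27.FusGen

open Cfsg Cfsg.FusionSystem Cfsg.Agent.Lib.Helper87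

variable {Ω : Type*} [Group Ω] {S : Subgroup Ω}

/-- The maps of `F` which, on sources of order `> m`, belong to `E`. -/
def geSystem [Finite S] (F E : FusionSystem S) (m : ℕ) : FusionSystem S where
  Hom P := {φ | φ ∈ F.Hom P ∧ (m < Nat.card P → φ ∈ E.Hom P)}
  le_of_mem h := F.le_of_mem h.1
  injective_of_mem h := F.injective_of_mem h.1
  conj_mem := by
    intro P g hP hg
    exact ⟨F.conj_mem hP hg, fun _ => E.conj_mem hP hg⟩
  comp_mem := by
    rintro P R φ ψ ⟨hφ, hφk⟩ ⟨hψ, hψk⟩ h
    refine ⟨F.comp_mem hφ hψ h, fun hk => ?_⟩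
    have hRS : R ≤ S := (F.le_of_mem hψ).1
    have : Finite R := finite_of_le hRS
    have hcard : Nat.card P ≤ Nat.card R := by
      apply Nat.card_le_card_of_injective (φ.codRestrict R h)
      intro a b hab
      apply F.injective_of_mem hφ
      have := congrArg (fun x : R => (x : Ω)) hab
      exact this
    exact E.comp_mem (hφk hk) (hψk (lt_of_lt_of_le hk hcard)) h
  inv_mem := by
    rintro P φ ⟨hφ, hφk⟩
    by_cases hk : m < Nat.card P
    · obtain ⟨ψ, hψ, hψφ⟩ := E.inv_mem (hφk hk)
      obtain ⟨ψ', hψ', hψφ'⟩ := F.inv_mem hφ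
      refine ⟨ψ', ⟨hψ', fun _ => ?_⟩, hψφ'⟩
      refine hom_congr E hψ (fun y => ?_)
      obtain ⟨x, hx⟩ := y.2
      have e : y = ⟨φ x, ⟨x, rfl⟩⟩ := Subtype.ext hx.symm
      rw [e, hψφ, hψφ']
    · obtain ⟨ψ, hψ, hψφ⟩ := F.inv_mem hφ
      refine ⟨ψ, ⟨hψ, fun hk' => ?_⟩, hψφ⟩
      exfalso
      apply hk
      rw [← Cfsg.Agent.Lib.Helper89.card_range_eq F hφ]
      exact hk'

theorem isCentric_self [Finite S] (F : FusionSystem S) : F.IsCentric S := by
  refine ⟨le_rfl, fun R hR => ?_⟩
  have hRS : R ≤ S := isConj_le_right F hR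
  have hcard : Nat.card R = Nat.card S := Cfsg.Agent.Lib.Helper89.isConj_card_eq F hR
  have : R = S := Subgroup.eq_of_le_of_card_ge hRS hcard.ge
  rw [this]
  exact centralizerIn_le S S

/-- **Alperin's theorem with a threshold.** -/
theorem alp_thr [Finite S] (p : ℕ) [Fact p.Prime] (hS : IsPGroup p S)
    (F : FusionSystem S) (hF : F.IsSaturated p) (E : FusionSystem S) (m : ℕ)
    (h : ∀ U : Subgroup Ω, F.IsFullyNormalized U → F.IsCentric U → m < Nat.card U →
      ∀ φ ∈ F.Hom U, φ.range = U → φ ∈ E.Hom U) :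
    ∀ (A : Subgroup Ω), m < Nat.card A → F.Hom A ⊆ E.Hom A := by
  classical
  have hFE : F ≤ geSystem F E m := by
    apply Cfsg.Agent.S5082.result p hS F hF (geSystem F E m)
    intro P hP α hα
    have hPS : P ≤ S := by
      rcases hP with hPeq | hess
      · exact hPeq.le
      · exact hess.1.1
    have hPc : F.IsCentric P := by
      rcases hP with hPeq | hess
      · rw [hPeq]; exact isCentric_self F
      · exact hess.1
    have hPfn : F.IsFullyNormalized P := by
      rcases hP with hPeq | hess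
      · rw [hPeq]; exact Cfsg.Agent.Lib.Helper89.isFullyNormalized_self F
      · exact hess.2.1
    rw [mem_autGroup_iff (geSystem F E m) hPS]
    have hφ := (mem_autGroup_iff F hPS).mp hα
    refine ⟨hφ, fun hk => ?_⟩
    have hr : (P.subtype.comp α.toMonoidHom).range = P := by
      ext y
      constructor
      · rintro ⟨x, rfl⟩
        exact (α x).2
      · intro hy
        exact ⟨α.symm ⟨y, hy⟩, by simp⟩
    exact h P hPfn hPc hk _ hφ hr
  intro A hA φ hφ
  exact (hFE A hφ).2 hA

/-- **Alperin's theorem as an induction principle.** -/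
theorem alp_ind [Finite S] (p : ℕ) [Fact p.Prime] (hS : IsPGroup p S)
    (F : FusionSystem S) (hF : F.IsSaturated p) (E : FusionSystem S)
    (h : ∀ U : Subgroup Ω, F.IsFullyNormalized U → F.IsCentric U →
      Cfsg.Agent.Lib.Helper89.AlpIH F E U → ∀ φ ∈ F.Hom U, φ.range = U → φ ∈ E.Hom U) :
    F ≤ E := by
  have key : ∀ j : ℕ, ∀ A : Subgroup Ω, Nat.card S - j < Nat.card A → F.Hom A ⊆ E.Hom A := by
    intro j
    induction j with
    | zero =>
      intro A hA φ hφ
      exfalso
      have := card_le_of_le (hom_le F hφ)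
      omega
    | succ j ih =>
      apply alp_thr p hS F hF E
      intro U hUfn hUc hU φ hφ hr
      apply h U hUfn hUc ?_ φ hφ hr
      intro R _ hlt
      apply ih R
      omega
  intro A φ hφ
  have hAS : A ≤ S := hom_le F hφ
  have : Finite A := finite_of_le hAS
  have hpos : 0 < Nat.card A := Nat.card_pos
  exact key (Nat.card S) A (by omega) hφ

end Cfsg.Agent.Lib.Helper27.FusGen
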