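import Mathlib
import Cfsg.Agent.Lib.Helper53.WCLocal2

/-!
# Group-theoretic input for the generation theorem `F = ⟨C_F(℧¹(Z(S))), N_F(J(S))⟩`

* `exists_conj_le_sylow`: a `p`-subgroup of `K P₀` (`K` normal, `P₀` Sylow) is conjugate into `P₀` by an
  element of `K`.
* `gt_loc`: Glauberman's local lemma: in a finite group `G` with `C_G(O_p(G)) ≤ O_p(G)` and Sylow
  `p`-subgroup `T` there is a normal subgroup `N` centralizing `℧¹(Z(T))` such that `J(T) ≤ N` or
  `T ∩ N ≰ O_p(G)`.
-/

set_option autoImplicit false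

namespace Cfsg.Agent.Lib.Helper27.FusGen

open Cfsg Cfsg.Agent.Lib.Helper41 Cfsg.Agent.Lib.Helper81 Cfsg.Agent.Lib.Helper53
  Cfsg.Agent.Lib.Helper53.WC
open scoped commutatorElement Pointwise

universe u

section Sylow

variable {G₀ : Type*} [Group G₀] [Finite G₀] {p : ℕ} [Fact p.Prime]

/-- A `p`-subgroup of `K P₀`, with `K` normal and `P₀` a Sylow `p`-subgroup, is conjugate into `P₀` by an
element of `K`. -/
theorem exists_conj_le_sylow (P₀ : Sylow p G₀) (K : Subgroup G₀) [K.Normal] (B : Subgroup G₀)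
    (hB : IsPGroup p B) (hBK : B ≤ (P₀ : Subgroup G₀) ⊔ K) :
    ∃ k ∈ K, ∀ b ∈ B, k * b * k⁻¹ ∈ (P₀ : Subgroup G₀) := by
  classical
  set M : Subgroup G₀ := (P₀ : Subgroup G₀) ⊔ K with hM
  have hPM : (P₀ : Subgroup G₀) ≤ M := le_sup_left
  -- Sylow subgroups of M
  let P₁ : Sylow p M := P₀.subtype hPM
  have hB' : IsPGroup p (B.subgroupOf M) := by
    apply hB.of_injective (Subgroup.subgroupOfEquivOfLe hBK).toMonoidHom
    exact (Subgroup.subgroupOfEquivOfLe hBK).injective
  obtain ⟨R, hR⟩ := hB'.exists_le_sylow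
  obtain ⟨m, hm⟩ := MulAction.exists_smul_eq M R P₁
  -- write m = s * k
  have hmM : (m : G₀) ∈ M := m.2
  have hset : ((M : Subgroup G₀) : Set G₀) = ((P₀ : Subgroup G₀) : Set G₀) * (K : Set G₀) := by
    rw [hM]; exact Subgroup.mul_normal (P₀ : Subgroup G₀) K
  have hm' : (m : G₀) ∈ ((P₀ : Subgroup G₀) : Set G₀) * (K : Set G₀) := by
    rw [← hset]; exact hmM
  obtain ⟨s, hs, k, hk, hsk⟩ := hm'
  refine ⟨k, hk, ?_⟩
  intro b hb
  have hbM : b ∈ M := hBK hb
  have hbR : (⟨b, hbM⟩ : M) ∈ R := hR (Subgroup.mem_subgroupOf.mpr hb)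
  have h1 : m * ⟨b, hbM⟩ * m⁻¹ ∈ ((m • R : Sylow p M) : Subgroup M) := by
    rw [Sylow.coe_subgroup_smul]
    have := Subgroup.smul_mem_pointwise_smul _ (MulAut.conj m) (R : Subgroup M) hbR
    simpa [MulAut.smul_def] using this
  rw [hm] at h1
  have h2 : ((m * ⟨b, hbM⟩ * m⁻¹ : M) : G₀) ∈ (P₀ : Subgroup G₀) := by
    have h1' : m * ⟨b, hbM⟩ * m⁻¹ ∈ (P₀ : Subgroup G₀).subgroupOf M := by
      rw [← Sylow.coe_subtype]; exact h1
    exact Subgroup.mem_subgroupOf.mp h1'
  have h3 : (m : G₀) * b * (m : G₀)⁻¹ ∈ (P₀ : Subgroup G₀) := by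
    simpa using h2
  rw [← hsk] at h3
  have h4 : s⁻¹ * (s * k * b * (s * k)⁻¹) * s ∈ (P₀ : Subgroup G₀) :=
    (P₀ : Subgroup G₀).mul_mem ((P₀ : Subgroup G₀).mul_mem ((P₀ : Subgroup G₀).inv_mem hs) h3) hs
  have h5 : s⁻¹ * (s * k * b * (s * k)⁻¹) * s = k * b * k⁻¹ := by group
  rwa [h5] at h4

end Sylow

section Local

variable {G : Type u} [Group G] [Finite G] {p : ℕ} [Fact p.Prime]

/-- `℧¹(Z(T))`, the subgroup generated by the `p`-th powers of the elements of `Z(T)`. -/
abbrev VZ (p : ℕ) (T : Subgroup G) : Subgroup G :=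
  powerClosure p 1 (T ⊓ Subgroup.centralizer (T : Set G))

omit [Finite G] in
theorem VZ_le_center (p : ℕ) (T : Subgroup G) : VZ p T ≤ T ⊓ Subgroup.centralizer (T : Set G) := by
  unfold VZ powerClosure
  rw [Subgroup.closure_le]
  rintro _ ⟨x, hx, rfl⟩
  exact Subgroup.pow_mem _ hx _

set_option maxHeartbeats 800000 in
/-- **Glauberman's local lemma.** In a finite group `G` with `C_G(O_p(G)) ≤ O_p(G)` and Sylow `p`-subgroup `T`
there is a normal subgroup `N` centralizing `℧¹(Z(T))` with `J(T) ≤ N` or `T ∩ N ≰ O_p(G)`. -/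
theorem gt_loc (T : Sylow p G)
    (hcon : Subgroup.centralizer ((pCore p G : Subgroup G) : Set G) ≤ pCore p G) :
    ∃ N : Subgroup G, N.Normal ∧ N ≤ Subgroup.centralizer ((VZ p (T : Subgroup G) : Subgroup G) : Set G) ∧
      (thompsonSubgroupAOf (T : Subgroup G) ≤ N ∨ ¬ ((T : Subgroup G) ⊓ N ≤ pCore p G)) := by
  classical
  have hQn : (pCore p G).Normal := pCore_normal (G := G) p
  set Q := pCore p G with hQ
  have hQT : Q ≤ (T : Subgroup G) := Cfsg.Agent.Lib.Helper53.pCore_le_sylow T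
  have hTp : IsPGroup p (T : Subgroup G) := T.2
  set U := Q ⊓ Subgroup.centralizer (Q : Set G) with hU
  have hUn : U.Normal := inferInstance
  have hUT : U ≤ (T : Subgroup G) := inf_le_left.trans hQT
  have hUc : ∀ a ∈ U, ∀ b ∈ U, a * b = b * a := by
    intro a ha b hb
    exact (Subgroup.mem_centralizer_iff.mp hb.2 a ha.1)
  have hQU : Q ≤ Subgroup.centralizer (U : Set G) := by
    intro q hq
    rw [Subgroup.mem_centralizer_iff]
    intro u hu
    exact (Subgroup.mem_centralizer_iff.mp hu.2 q hq).symm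
  -- Z(T) ≤ U
  have hZU : (T : Subgroup G) ⊓ Subgroup.centralizer ((T : Subgroup G) : Set G) ≤ U := by
    intro z hz
    have h1 : z ∈ Subgroup.centralizer (Q : Set G) :=
      Subgroup.centralizer_le (by exact_mod_cast hQT) hz.2
    exact ⟨hcon h1, h1⟩
  by_cases hJ : thompsonSubgroupAOf (T : Subgroup G) ≤ Subgroup.centralizer (U : Set G)
  · refine ⟨Subgroup.centralizer (U : Set G), ?_, ?_, Or.inl hJ⟩
    · apply centralizer_normal_of_conj_invariant
      intro g t ht
      exact hUn.conj_mem t ht g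
    · apply Subgroup.centralizer_le
      intro v hv
      exact hZU (VZ_le_center p _ hv)
  · obtain ⟨A, hA, hAU⟩ := exists_isMaxAbIn_not_le hJ
    obtain ⟨h1, h2, h3⟩ := replacementA hTp hUT hUc hA
    set A' := ⁅U, A⁆ ⊔ (A ⊓ Subgroup.centralizer ((⁅U, A⁆ : Subgroup G) : Set G)) with hA'
    have hA'U : ¬ A' ≤ Subgroup.centralizer (U : Set G) :=
      not_le_of_commutator_ne_bot (h3 (commutator_ne_bot_of_not_le hAU))
    obtain ⟨a, haA', haU⟩ := SetLike.not_le_iff_exists.mp hA'U
    have haT : a ∈ (T : Subgroup G) := h1.1 haA'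
    have hex : ∃ k : ℕ, a ^ p ^ k ∈ Subgroup.centralizer (U : Set G) := by
      obtain ⟨k, hk⟩ := hTp ⟨a, haT⟩
      refine ⟨k, ?_⟩
      have : a ^ p ^ k = 1 := by
        have := congrArg Subtype.val hk
        simpa using this
      rw [this]; exact Subgroup.one_mem _
    have hk₀ := Nat.find_spec hex
    have hkmin : ∀ m, m < Nat.find hex → ¬ _ := fun m hm => Nat.find_min hex hm
    generalize Nat.find hex = k₀ at hk₀ hkmin
    have hk₀pos : k₀ ≠ 0 := by
      intro h0
      rw [h0, pow_zero, pow_one] at hk₀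
      exact haU hk₀
    obtain ⟨k, rfl⟩ : ∃ k, k₀ = k + 1 := Nat.exists_eq_succ_of_ne_zero hk₀pos
    set a' := a ^ p ^ k with ha'
    have ha'A' : a' ∈ A' := Subgroup.pow_mem _ haA' _
    have ha'U : a' ∉ Subgroup.centralizer (U : Set G) := hkmin k (Nat.lt_succ_self k)
    have ha'p : a' ^ p ∈ Subgroup.centralizer (U : Set G) := by
      rw [ha', ← pow_mul, ← pow_succ]; exact hk₀
    have hquad : ⁅U, A'⁆ ≤ Subgroup.centralizer (A' : Set G) :=
      (Subgroup.commutator_eq_bot_iff_le_centralizer).mp h2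
    have hcent : ∀ u ∈ U, a' * u ^ p = u ^ p * a' := by
      intro u hu
      set c := ⁅a', u⁆ with hc
      have hcmem : c ∈ ⁅U, A'⁆ := by
        rw [Subgroup.commutator_comm]
        exact Subgroup.commutator_mem_commutator ha'A' hu
      have hcU : c ∈ U := Subgroup.commutator_le_left U A' hcmem
      have hca : a' * c = c * a' := by
        have := Subgroup.mem_centralizer_iff.mp (hquad hcmem) a' ha'A'
        exact this
      have hconj : a' * u * a'⁻¹ = c * u := by
        rw [hc, commutatorElement_def]; group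
      have hp1 := conj_pow_eq_of_comm hconj hca p
      have hp2 : a' ^ p * u * (a' ^ p)⁻¹ = u := by
        have := Subgroup.mem_centralizer_iff.mp ha'p u hu
        rw [← this]; group
      have hcp : c ^ p = 1 := by
        rw [hp2] at hp1
        have : c ^ p * u = 1 * u := by rw [← hp1, one_mul]
        exact mul_right_cancel this
      have hcu : Commute c u := hUc c hcU u hu
      have : a' * u ^ p * a'⁻¹ = u ^ p := by
        have h5 : a' * u ^ p * a'⁻¹ = (a' * u * a'⁻¹) ^ p := by rw [conj_pow]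
        rw [h5, hconj, hcu.mul_pow, hcp, one_mul]
      calc a' * u ^ p = a' * u ^ p * a'⁻¹ * a' := by group
        _ = u ^ p * a' := by rw [this]
    set Tp : Set G := (fun u => u ^ p) '' (U : Set G) with hTpdef
    have hNn : (Subgroup.centralizer Tp).Normal := by
      apply centralizer_normal_of_conj_invariant
      rintro g _ ⟨u, hu, rfl⟩
      refine ⟨g * u * g⁻¹, hUn.conj_mem u hu g, ?_⟩
      show (g * u * g⁻¹) ^ p = g * u ^ p * g⁻¹
      rw [conj_pow]
    have ha'N : a' ∈ Subgroup.centralizer Tp := by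
      rw [Subgroup.mem_centralizer_iff]
      rintro _ ⟨u, hu, rfl⟩
      exact (hcent u hu).symm
    refine ⟨Subgroup.centralizer Tp, hNn, ?_, Or.inr ?_⟩
    · -- N centralizes ℧¹(Z(T))
      have hle : VZ p (T : Subgroup G) ≤ Subgroup.centralizer ((Subgroup.centralizer Tp : Subgroup G) : Set G) := by
        unfold VZ powerClosure
        rw [Subgroup.closure_le]
        rintro _ ⟨z, hz, rfl⟩
        have hzT : z ^ p ^ 1 ∈ Tp := ⟨z, hZU hz, by simp⟩
        show z ^ p ^ 1 ∈ Subgroup.centralizer ((Subgroup.centralizer Tp : Subgroup G) : Set G)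
        rw [Subgroup.mem_centralizer_iff]
        intro n hn
        exact (Subgroup.mem_centralizer_iff.mp hn _ hzT).symm
      intro n hn
      rw [Subgroup.mem_centralizer_iff]
      intro v hv
      exact (Subgroup.mem_centralizer_iff.mp (hle hv) n hn).symm
    · intro hle
      exact ha'U (hQU (hle ⟨Subgroup.pow_mem _ haT _, ha'N⟩))

end Local

end Cfsg.Agent.Lib.Helper27.FusGen
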