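import Mathlib
import Cfsg.Agent.Lib.Helper27.FusGenGroup
import Cfsg.Agent.Lib.Helper27.FusGenAlp
import Cfsg.Agent.Lib.Helper87.FusionSaturated
import Cfsg.Agent.Lib.Helper89.Alperin

/-!
# The Sylow-conjugation trick

Let `U` be fully normalized in the saturated system `F`, `K` a normal subgroup of `Aut_F(U)` contained in
`Aut_E(U)`, and `g ∈ N_S(U) \ U` with `c_g ∈ K`.  Under the inductive hypothesis of Alperin's theorem at `U`
we get `Aut_F(U) ≤ Aut_E(U)`.
-/

set_option autoImplicit false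

namespace Cfsg.Agent.Lib.Helper27.FusGen

open Cfsg Cfsg.FusionSystem Cfsg.Agent.Lib.Helper87
open Cfsg.Agent.Lib.Helper89 (AlpIH)

variable {Ω : Type*} [Group Ω] {S : Subgroup Ω}

theorem conjAut_mem_autGroup (F : FusionSystem S) {U : Subgroup Ω} (hU : U ≤ S) {g : Ω} (hgS : g ∈ S)
    (hgU : g ∈ Subgroup.normalizer (U : Set Ω)) : Cfsg.Agent.Lib.Helper87.conjAut U g hgU ∈ F.autGroup U :=
  autInducedBy_le_autGroup F hU (conjAut_mem_autInducedBy hgS hgU)

set_option maxHeartbeats 800000 in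
theorem aut_le_of_normal_subgroup [Finite S] {p : ℕ} [Fact p.Prime] (hS : IsPGroup p S)
    (F : FusionSystem S) (hF : F.IsSaturated p) (E : FusionSystem S)
    {U : Subgroup Ω} (hUfn : F.IsFullyNormalized U)
    (K : Subgroup (F.autGroup U)) [K.Normal]
    (hKE : ∀ ν ∈ K, (ν : MulAut U) ∈ E.autGroup U)
    (hIH : AlpIH F E U) {g : Ω} (hgS : g ∈ S) (hgU : g ∈ Subgroup.normalizer (U : Set Ω))
    (hgnU : g ∉ U)
    (hgK : (⟨Cfsg.Agent.Lib.Helper87.conjAut U g hgU, conjAut_mem_autGroup F hUfn.1 hgS hgU⟩ : F.autGroup U) ∈ K) :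
    F.autGroup U ≤ E.autGroup U := by
  classical
  have hUS : U ≤ S := hUfn.1
  obtain ⟨hfc, hfa⟩ := fullyNormalized_props p hS F hF U hUfn
  have hrec : F.IsReceptive U := isReceptive_of_isFullyCentralized p hS F hF U hfc
  obtain ⟨-, R₀, hR₀⟩ := hfa
  have : Finite (F.autGroup U) := finite_autGroup F hUS
  intro α hα
  set a : F.autGroup U := ⟨α, hα⟩ with ha
  set cg : F.autGroup U := ⟨Cfsg.Agent.Lib.Helper87.conjAut U g hgU, conjAut_mem_autGroup F hUS hgS hgU⟩ with hcg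
  set b : F.autGroup U := a * cg * a⁻¹ with hb
  have hbK : b ∈ K := ‹K.Normal›.conj_mem cg hgK a
  -- `b` has `p`-power order
  have hcgp : ∃ k : ℕ, cg ^ p ^ k = 1 := by
    have hp := isPGroup_autInducedBy hS U
    obtain ⟨k, hk⟩ := hp ⟨Cfsg.Agent.Lib.Helper87.conjAut U g hgU, conjAut_mem_autInducedBy hgS hgU⟩
    refine ⟨k, ?_⟩
    apply Subtype.ext
    have := congrArg Subtype.val hk
    simpa using this
  obtain ⟨k, hk⟩ := hcgp
  have hbk : b ^ p ^ k = 1 := by
    rw [hb, conj_pow, hk]; group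
  have hB : IsPGroup p (Subgroup.zpowers b) := by
    apply IsPGroup.of_card (n := (Nat.card (Subgroup.zpowers b)).factorization p)
    rw [Nat.card_zpowers]
    have hdvd : orderOf b ∣ p ^ k := orderOf_dvd_of_pow_eq_one hbk
    obtain ⟨j, -, hj⟩ := (Nat.dvd_prime_pow (Fact.out : p.Prime)).mp hdvd
    rw [hj, Nat.Prime.factorization_pow (Fact.out : p.Prime)]
    simp
  have hBK : Subgroup.zpowers b ≤ (R₀ : Subgroup (F.autGroup U)) ⊔ K :=
    (Subgroup.zpowers_le.mpr hbK).trans le_sup_right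
  obtain ⟨ν, hνK, hν⟩ := exists_conj_le_sylow R₀ K (Subgroup.zpowers b) hB hBK
  have h1 : ν * b * ν⁻¹ ∈ (R₀ : Subgroup (F.autGroup U)) := hν b (Subgroup.mem_zpowers b)
  rw [hR₀, Subgroup.mem_subgroupOf] at h1
  obtain ⟨h, hhS, hh⟩ := mem_autInducedBy_iff.mp h1
  set β : F.autGroup U := ν * a with hβ
  -- g lies in the extender of β
  have hext : g ∈ extender S U (U.subtype.comp (β : MulAut U).toMonoidHom) := by
    rw [mem_extender_iff]
    refine ⟨hgS, hgU, h, hhS, fun x hx => ?_⟩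
    have e1 : (ν * b * ν⁻¹ : F.autGroup U) = β * cg * β⁻¹ := by
      rw [hb, hβ]; group
    have h2 := hh ((β : MulAut U) x)
    rw [e1] at h2
    have e2 : ((β * cg * β⁻¹ : F.autGroup U) : MulAut U) ((β : MulAut U) x)
        = (β : MulAut U) ((cg : MulAut U) x) := by
      simp [MulAut.mul_apply]
    rw [e2] at h2
    have e3 : (cg : MulAut U) x = ⟨g * x * g⁻¹, hx⟩ := Subtype.ext (by rw [hcg]; exact conjAut_apply U g hgU x)
    rw [e3] at h2
    exact h2
  have hβE : (β : MulAut U) ∈ E.autGroup U :=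
    hIH.aut_mem_of_extender hrec β.2 hext hgnU
  have hνE := hKE ν hνK
  have : α = (ν : MulAut U)⁻¹ * (β : MulAut U) := by
    rw [hβ]; simp [ha]
  rw [this]
  exact (E.autGroup U).mul_mem ((E.autGroup U).inv_mem hνE) hβE

end Cfsg.Agent.Lib.Helper27.FusGen
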