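import Cfsg.Agent.Lib.Helper98.Sy8

/-!
# S5972 pack, LEAF H (keystone 597208): adding a fixed part

`V' = V × (Fin e → F)`, `B' ((v, a), (w, b)) = B v w + ∑ s, a s * b s`, `y' = y × id`.
-/

set_option autoImplicit false
set_option linter.unusedSimpArgs false
set_option linter.unusedSectionVars false
set_option linter.unusedVariables false

namespace Cfsg.Agent.Lib.Helper27.OsEl

open Module Cfsg.Agent.Lib.Helper98.Elus Cfsg.Agent.Lib.Helper98.Sy

universe u
variable {F : Type u} [Field F] {V : Type u} [AddCommGroup V] [Module F V]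

/-- the dot product on `Fin e → F` -/
noncomputable def dotB (e : ℕ) : LinearMap.BilinForm F (Fin e → F) :=
  ∑ s : Fin e, (LinearMap.mul F F).compl₁₂ (LinearMap.proj s) (LinearMap.proj s)

theorem dotB_apply (e : ℕ) (a b : Fin e → F) : dotB (F := F) e a b = ∑ s, a s * b s := by
  simp [dotB, LinearMap.sum_apply, LinearMap.compl₁₂_apply]

/-- the form on `V × (Fin e → F)` -/
noncomputable def addB (B : LinearMap.BilinForm F V) (e : ℕ) : LinearMap.BilinForm F (V × (Fin e → F)) :=
  B.compl₁₂ (LinearMap.fst F V (Fin e → F)) (LinearMap.fst F V (Fin e → F)) +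
    (dotB (F := F) e).compl₁₂ (LinearMap.snd F V (Fin e → F)) (LinearMap.snd F V (Fin e → F))

theorem addB_apply (B : LinearMap.BilinForm F V) (e : ℕ) (u v : V × (Fin e → F)) :
    addB B e u v = B u.1 v.1 + ∑ s, u.2 s * v.2 s := by
  simp [addB, LinearMap.add_apply, LinearMap.compl₁₂_apply, dotB_apply]

/-- the isometry `y × id` -/
def addY (y : V →ₗ[F] V) (e : ℕ) : (V × (Fin e → F)) →ₗ[F] (V × (Fin e → F)) :=
  LinearMap.prodMap y LinearMap.id

theorem addY_apply (y : V →ₗ[F] V) (e : ℕ) (v : V × (Fin e → F)) : addY y e v = (y v.1, v.2) := rfl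

theorem addY_pow (y : V →ₗ[F] V) (e : ℕ) (k : ℕ) (v : V × (Fin e → F)) :
    (addY y e ^ k) v = ((y ^ k) v.1, v.2) := by
  induction k generalizing v with
  | zero => simp
  | succ k ih =>
    rw [pow_succ, Module.End.mul_apply, ih, addY_apply, pow_succ, Module.End.mul_apply]

theorem gsum_addY (r : ℕ) (y : V →ₗ[F] V) (e : ℕ) (v : V × (Fin e → F)) :
    gsum r (addY y e) v = (gsum r y v.1, (r : F) • v.2) := by
  rw [gsum_apply, gsum_apply]
  simp only [addY_pow]
  ext
  · rw [Prod.fst_sum]
  · rw [Prod.snd_sum]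
    simp [Finset.sum_const, Finset.card_range, nsmul_eq_mul]

/-- LEAF H -/
theorem exists_addfix [FiniteDimensional F V] {B : LinearMap.BilinForm F V}
    (hS : ∀ x y, B x y = B y x) (hV : NonDeg B ⊤) (r : ℕ) (hrF : (r : F) ≠ 0)
    (y : V →ₗ[F] V) (hy : y ^ r = 1) (hiso : Iso B y) (hV1 : ∀ v, gsum r y v = 0) (e : ℕ) :
    ∃ (V' : Type u) (_ : AddCommGroup V') (_ : Module F V') (_ : FiniteDimensional F V')
      (B' : LinearMap.BilinForm F V') (y' : V' →ₗ[F] V'),
      (∀ u v, B' u v = B' v u) ∧ NonDeg B' ⊤ ∧ Iso B' y' ∧ y' ^ r = 1 ∧ (y ≠ 1 → y' ≠ 1) ∧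
      finrank F V' = finrank F V + e ∧ finrank F (V0 y') = e ∧
      ((∀ Z : Submodule F V, Inv y Z → Ort B Z Z → Z = ⊥) →
        ∀ Z' : Submodule F V', Z' ≤ V1 r y' → Inv y' Z' → Ort B' Z' Z' → Z' = ⊥) := by
  classical
  have hfix : ∀ v : V, y v = v → v = 0 := by
    intro v hv
    have h1 := hV1 v
    rw [gsum_apply_of_mem_V0 r y v ((mem_V0 y v).mpr hv)] at h1
    rcases smul_eq_zero.mp h1 with h | h
    · exact absurd h hrF
    · exact h
  refine ⟨V × (Fin e → F), inferInstance, inferInstance, inferInstance, addB B e, addY y e,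
    ?_, ?_, ?_, ?_, ?_, ?_, ?_, ?_⟩
  · intro u v
    rw [addB_apply, addB_apply, hS]
    congr 1
    exact Finset.sum_congr rfl (fun s _ => mul_comm _ _)
  · intro u _ h
    have h1 : u.1 = 0 := by
      apply hV u.1 Submodule.mem_top
      intro w _
      have := h (w, 0) Submodule.mem_top
      rw [addB_apply] at this
      simpa using this
    have h2 : u.2 = 0 := by
      funext s
      have := h (0, Pi.single s 1) Submodule.mem_top
      rw [addB_apply] at this
      simpa [Pi.single_apply] using this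
    exact Prod.ext h1 h2
  · intro u v
    rw [addB_apply, addB_apply, addY_apply, addY_apply]
    simp only [hiso _ _]
  · apply LinearMap.ext
    intro v
    rw [addY_pow, hy]
    rfl
  · intro hne h1
    apply hne
    apply LinearMap.ext
    intro v
    have := congrArg (fun g : (V × (Fin e → F)) →ₗ[F] (V × (Fin e → F)) => (g (v, 0)).1) h1
    simpa [addY_apply] using this
  · rw [Module.finrank_prod, Module.finrank_fin_fun]
  · have h1 : V0 (addY y e) = LinearMap.range (LinearMap.inr F V (Fin e → F)) := by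
      ext v
      rw [mem_V0, addY_apply, LinearMap.mem_range]
      constructor
      · intro h
        have h3 : y v.1 = v.1 := congrArg Prod.fst h
        exact ⟨v.2, Prod.ext (hfix v.1 h3).symm rfl⟩
      · rintro ⟨a, rfl⟩
        simp
    rw [h1, LinearMap.finrank_range_of_inj LinearMap.inr_injective, Module.finrank_fin_fun]
  · intro hZ Z' hZ'1 hZ'inv hZ'ort
    have hsnd : ∀ v ∈ Z', v.2 = 0 := by
      intro v hv
      have h1 := (mem_V1 r (addY y e) v).mp (hZ'1 hv)
      rw [gsum_addY] at h1
      have h3 : (r : F) • v.2 = 0 := congrArg Prod.snd h1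
      rcases smul_eq_zero.mp h3 with h | h
      · exact absurd h hrF
      · exact h
    have hZbot : Z'.comap (LinearMap.inl F V (Fin e → F)) = ⊥ := by
      apply hZ
      · intro v hv
        rw [Submodule.mem_comap] at hv ⊢
        have := hZ'inv _ hv
        rw [addY_apply] at this
        simpa using this
      · intro v hv w hw
        rw [Submodule.mem_comap] at hv hw
        have := hZ'ort _ hv _ hw
        rw [addB_apply] at this
        simpa using this
    rw [eq_bot_iff]
    intro v hv
    have h2 := hsnd v hv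
    have h1 : v.1 ∈ Z'.comap (LinearMap.inl F V (Fin e → F)) := by
      rw [Submodule.mem_comap]
      have : (LinearMap.inl F V (Fin e → F)) v.1 = v := Prod.ext rfl h2.symm
      rw [this]
      exact hv
    rw [hZbot, Submodule.mem_bot] at h1
    rw [Submodule.mem_bot]
    exact Prod.ext h1 h2

end Cfsg.Agent.Lib.Helper27.OsEl
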