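import Mathlib
import Cfsg.Prelude.Def_TwoFusion

set_option autoImplicit false

namespace Cfsg.Agent.Lib.Helper27

open Cfsg

variable {G : Type*} [Group G]

theorem iso_sq {z : G} (hz : IsIsolatedInvolution z) : z * z = 1 := by
  have := pow_orderOf_eq_one z
  rw [hz.1, pow_two] at this
  exact this

theorem iso_inv {z : G} (hz : IsIsolatedInvolution z) : z⁻¹ = z :=
  inv_eq_of_mul_eq_one_left (iso_sq hz)

theorem iso_ne_one {z : G} (hz : IsIsolatedInvolution z) : z ≠ 1 := by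
  intro h
  have := hz.1
  rw [h, orderOf_one] at this
  omega

theorem orderOf_conj' (g z : G) : orderOf (g * z * g⁻¹) = orderOf z := by
  have : g * z * g⁻¹ = (MulAut.conj g).toMonoidHom z := rfl
  rw [this, orderOf_injective _ (MulAut.conj g).injective]

theorem iso_conj {z : G} (hz : IsIsolatedInvolution z) (g : G) :
    IsIsolatedInvolution (g * z * g⁻¹) := by
  refine ⟨?_, ?_⟩
  · rw [orderOf_conj']; exact hz.1
  · intro h hc
    have hc' : Commute z ((g⁻¹ * h * g) * z * (g⁻¹ * h * g)⁻¹) := by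
      have h2 : g * z * g⁻¹ * (h * (g * z * g⁻¹) * h⁻¹) = (h * (g * z * g⁻¹) * h⁻¹) * (g * z * g⁻¹) := hc
      show z * ((g⁻¹ * h * g) * z * (g⁻¹ * h * g)⁻¹) = ((g⁻¹ * h * g) * z * (g⁻¹ * h * g)⁻¹) * z
      calc z * ((g⁻¹ * h * g) * z * (g⁻¹ * h * g)⁻¹)
          = g⁻¹ * (g * z * g⁻¹ * (h * (g * z * g⁻¹) * h⁻¹)) * g := by group
        _ = g⁻¹ * ((h * (g * z * g⁻¹) * h⁻¹) * (g * z * g⁻¹)) * g := by rw [h2]
        _ = _ := by group
    have h1 := hz.2 (g⁻¹ * h * g) hc'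
    calc h * (g * z * g⁻¹) * h⁻¹ = g * (g⁻¹ * h * g * z * (g⁻¹ * h * g)⁻¹) * g⁻¹ := by group
      _ = g * z * g⁻¹ := by rw [h1]

/-- if `z` inverts `a` then `z` inverts `a ^ n` -/
theorem inv_pow_of_inv {z a : G} (h : z * a * z⁻¹ = a⁻¹) (n : ℕ) :
    z * a ^ n * z⁻¹ = (a ^ n)⁻¹ := by
  have : z * a ^ n * z⁻¹ = (z * a * z⁻¹) ^ n := by rw [conj_pow]
  rw [this, h, inv_pow]

theorem conj_of_inv {z a : G} (h : z * a * z⁻¹ = a⁻¹) : a * z * a⁻¹ = a * a * z := by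
  calc a * z * a⁻¹ = a * (z * a * z⁻¹)⁻¹ * z := by group
    _ = a * (a⁻¹)⁻¹ * z := by rw [h]
    _ = a * a * z := by rw [inv_inv]

theorem odd_orderOf_conj_mul [Finite G] {z : G} (hz : IsIsolatedInvolution z) (g : G) :
    Odd (orderOf (g * z * g⁻¹ * z)) := by
  obtain ⟨s, hs⟩ : ∃ s, s = g * z * g⁻¹ := ⟨_, rfl⟩
  rw [← hs]
  have hzz := iso_sq hz
  have hzi := iso_inv hz
  have hss : s * s = 1 := by rw [hs]; exact iso_sq (iso_conj hz g)
  have hsi : s⁻¹ = s := by rw [hs]; exact iso_inv (iso_conj hz g)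
  obtain ⟨u, hu⟩ : ∃ u, u = s * z := ⟨_, rfl⟩
  rw [← hu]
  have hzu : z * u * z⁻¹ = u⁻¹ := by
    rw [hu, mul_inv_rev, hzi, hsi]
    calc z * (s * z) * z = z * s * (z * z) := by group
      _ = z * s := by rw [hzz, mul_one]
  have hsu : s * u * s⁻¹ = u⁻¹ := by
    rw [hu, mul_inv_rev, hzi, hsi]
    calc s * (s * z) * s = (s * s) * z * s := by group
      _ = z * s := by rw [hss, one_mul]
  by_contra hodd
  rw [Nat.not_odd_iff_even] at hodd
  obtain ⟨l, hl⟩ := hodd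
  have hpos : 0 < orderOf u := orderOf_pos u
  have hl0 : 0 < l := by omega
  obtain ⟨w, hw⟩ : ∃ w, w = u ^ l := ⟨_, rfl⟩
  have hw1 : w ≠ 1 := by rw [hw]; exact pow_ne_one_of_lt_orderOf hl0.ne' (by omega)
  have hww : w * w = 1 := by rw [hw, ← pow_add, ← hl, pow_orderOf_eq_one]
  have hwi : w⁻¹ = w := inv_eq_of_mul_eq_one_left hww
  have hzw : z * w * z⁻¹ = w := by rw [hw, inv_pow_of_inv hzu, ← hw, hwi]
  have key : ∃ a : G, a * z * a⁻¹ = w * z := by
    rcases Nat.even_or_odd' l with ⟨j, hj | hj⟩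
    · refine ⟨u ^ j, ?_⟩
      rw [conj_of_inv (inv_pow_of_inv hzu j), ← pow_add, ← two_mul, ← hj, hw]
    · refine ⟨u ^ j * g, ?_⟩
      have h1 : u ^ j * g * z * (u ^ j * g)⁻¹ = u ^ j * s * (u ^ j)⁻¹ := by rw [hs]; group
      rw [h1, conj_of_inv (inv_pow_of_inv hsu j), ← pow_add, ← two_mul]
      have hsz : s = u * z := by rw [hu, mul_assoc, hzz, mul_one]
      rw [hw, hj, pow_succ, mul_assoc, ← hsz]
  obtain ⟨a, ha⟩ := key
  have hcomm : Commute z (a * z * a⁻¹) := by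
    rw [ha]
    show z * (w * z) = w * z * z
    have h2 : z * w = w * z := by
      calc z * w = z * w * z⁻¹ * z := by group
        _ = w * z := by rw [hzw]
    rw [← mul_assoc, h2]
  have h3 := hz.2 a hcomm
  rw [ha] at h3
  exact hw1 (mul_right_cancel (h3.trans (one_mul z).symm))


/-- `k` has odd order and is inverted by `z`. -/
def InK (z k : G) : Prop := Odd (orderOf k) ∧ z * k * z⁻¹ = k⁻¹

theorem eq_of_sq_eq_of_odd {a b : G} (h : a * a = b * b) (ha : Odd (orderOf a))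
    (hb : Odd (orderOf b)) : a = b := by
  obtain ⟨c, hc⟩ := ha.mul hb
  have h1 : a ^ (orderOf a * orderOf b) = 1 := by rw [pow_mul, pow_orderOf_eq_one, one_pow]
  have h2 : b ^ (orderOf a * orderOf b) = 1 := by
    rw [mul_comm, pow_mul, pow_orderOf_eq_one, one_pow]
  have h3 : (a * a) ^ (c + 1) = a := by
    rw [← pow_two, ← pow_mul]
    have : 2 * (c + 1) = orderOf a * orderOf b + 1 := by omega
    rw [this, pow_succ, h1, one_mul]
  have h4 : (b * b) ^ (c + 1) = b := by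
    rw [← pow_two, ← pow_mul]
    have : 2 * (c + 1) = orderOf a * orderOf b + 1 := by omega
    rw [this, pow_succ, h2, one_mul]
  rw [← h3, ← h4, h]

theorem mem_centralizer_iff_conj {z g k : G} :
    g⁻¹ * k ∈ Subgroup.centralizer ({z} : Set G) ↔ k * z * k⁻¹ = g * z * g⁻¹ := by
  rw [Subgroup.mem_centralizer_singleton_iff]
  constructor
  · intro h
    calc k * z * k⁻¹ = g * (g⁻¹ * k * z) * k⁻¹ := by group
      _ = g * (z * (g⁻¹ * k)) * k⁻¹ := by rw [h]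
      _ = g * z * g⁻¹ := by group
  · intro h
    calc g⁻¹ * k * z = g⁻¹ * (k * z * k⁻¹) * k := by group
      _ = g⁻¹ * (g * z * g⁻¹) * k := by rw [h]
      _ = z * (g⁻¹ * k) := by group

theorem K_conj_mul [Finite G] {z : G} (hz : IsIsolatedInvolution z) (g : G) :
    InK z (g * z * g⁻¹ * z) := by
  refine ⟨odd_orderOf_conj_mul hz g, ?_⟩
  have hzz := iso_sq hz
  have hzi := iso_inv hz
  have hsi : (g * z * g⁻¹)⁻¹ = g * z * g⁻¹ := iso_inv (iso_conj hz g)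
  rw [mul_inv_rev, hsi, hzi]
  calc z * (g * z * g⁻¹ * z) * z = z * (g * z * g⁻¹) * (z * z) := by group
    _ = z * (g * z * g⁻¹) := by rw [hzz, mul_one]

theorem K_pow {z k : G} (hk : InK z k) (n : ℕ) : InK z (k ^ n) := by
  refine ⟨?_, inv_pow_of_inv hk.2 n⟩
  exact Odd.of_dvd_nat hk.1 (orderOf_pow_dvd n)

theorem exists_K_pow [Finite G] {z : G} (hz : IsIsolatedInvolution z) (g : G) :
    ∃ n : ℕ, InK z ((g * z * g⁻¹ * z) ^ n) ∧
      (g * z * g⁻¹ * z) ^ n * z * ((g * z * g⁻¹ * z) ^ n)⁻¹ = g * z * g⁻¹ := by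
  have hK := K_conj_mul hz g
  obtain ⟨c, hc⟩ := hK.1
  refine ⟨c + 1, K_pow hK _, ?_⟩
  rw [conj_of_inv (K_pow hK _).2, ← pow_add]
  have : c + 1 + (c + 1) = orderOf (g * z * g⁻¹ * z) + 1 := by omega
  rw [this, pow_succ, pow_orderOf_eq_one, one_mul, mul_assoc, iso_sq hz, mul_one]

theorem exists_K [Finite G] {z : G} (hz : IsIsolatedInvolution z) (g : G) :
    ∃ k, InK z k ∧ k * z * k⁻¹ = g * z * g⁻¹ := by
  obtain ⟨n, h1, h2⟩ := exists_K_pow hz g
  exact ⟨_, h1, h2⟩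

theorem K_unique {z k₁ k₂ : G} (h₁ : InK z k₁) (h₂ : InK z k₂)
    (h : k₁ * z * k₁⁻¹ = k₂ * z * k₂⁻¹) : k₁ = k₂ := by
  rw [conj_of_inv h₁.2, conj_of_inv h₂.2] at h
  exact eq_of_sq_eq_of_odd (mul_right_cancel h) h₁.1 h₂.1


/-- distinct conjugates of an isolated involution lie in distinct cosets of its centralizer -/
theorem conj_eq_of_commute [Finite G] {z : G} (hz : IsIsolatedInvolution z) (g h : G)
    (hc : Commute (g * z * g⁻¹ * (h * z * h⁻¹)) z) : g * z * g⁻¹ = h * z * h⁻¹ := by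
  obtain ⟨s, hs⟩ : ∃ s, s = g * z * g⁻¹ := ⟨_, rfl⟩
  obtain ⟨t, ht⟩ : ∃ t, t = h * z * h⁻¹ := ⟨_, rfl⟩
  rw [← hs, ← ht] at hc ⊢
  have hzz := iso_sq hz
  have hzi := iso_inv hz
  have hss : s * s = 1 := by rw [hs]; exact iso_sq (iso_conj hz g)
  have hsi : s⁻¹ = s := by rw [hs]; exact iso_inv (iso_conj hz g)
  have htt : t * t = 1 := by rw [ht]; exact iso_sq (iso_conj hz h)
  have hti : t⁻¹ = t := by rw [ht]; exact iso_inv (iso_conj hz h)
  have h1 : InK z (s * z) := by rw [hs]; exact K_conj_mul hz g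
  have h2 : InK z (t * z) := by rw [ht]; exact K_conj_mul hz h
  have hc' : s * t * z = z * (s * t) := hc
  have h3 : s * z = t * z := by
    apply K_unique h1 h2
    rw [mul_inv_rev, mul_inv_rev, hzi, hsi, hti]
    -- s z z z s = t z z z t, i.e. s z s = t z t
    calc s * z * z * (z * s) = s * (z * z) * z * s := by group
      _ = s * z * s := by rw [hzz, mul_one]
      _ = s * z * (s * t) * t⁻¹ := by group
      _ = s * (z * (s * t)) * t⁻¹ := by group
      _ = s * (s * t * z) * t⁻¹ := by rw [hc']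
      _ = (s * s) * t * z * t⁻¹ := by group
      _ = t * z * t := by rw [hss, one_mul, hti]
      _ = t * (z * z) * z * t := by rw [hzz, mul_one]
      _ = t * z * z * (z * t) := by group
  exact mul_right_cancel h3


theorem fusion_control [Finite G] {z : G} (hz : IsIsolatedInvolution z) (H : Subgroup G)
    (hzH : z ∈ Subgroup.normalizer (H : Set G)) (x y : G) (hxz : Commute x z)
    (hyz : Commute y z) (h : G) (hh : h ∈ H) (hconj : h * x * h⁻¹ = y) :
    ∃ c ∈ H, Commute c z ∧ c * x * c⁻¹ = y := by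
  obtain ⟨n, h1, h2⟩ := exists_K_pow hz h⁻¹
  rw [inv_inv] at h1 h2
  have hzi := iso_inv hz
  have hu : h⁻¹ * z * h * z ∈ H := by
    have h3 : z * h * z⁻¹ ∈ H := (Subgroup.mem_normalizer_iff.mp hzH h).mp hh
    rw [hzi] at h3
    have : h⁻¹ * z * h * z = h⁻¹ * (z * h * z) := by group
    rw [this]
    exact H.mul_mem (H.inv_mem hh) h3
  have hxz' : x * z = z * x := hxz
  have hyz' : h * x * h⁻¹ * z = z * (h * x * h⁻¹) := by rw [hconj]; exact hyz
  have hxu : Commute x (h⁻¹ * z * h * z) := by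
    show x * (h⁻¹ * z * h * z) = (h⁻¹ * z * h * z) * x
    calc x * (h⁻¹ * z * h * z) = h⁻¹ * (h * x * h⁻¹ * z) * h * z := by group
      _ = h⁻¹ * (z * (h * x * h⁻¹)) * h * z := by rw [hyz']
      _ = h⁻¹ * z * h * (x * z) := by group
      _ = h⁻¹ * z * h * (z * x) := by rw [hxz']
      _ = _ := by group
  have hxk : Commute x ((h⁻¹ * z * h * z) ^ n) := hxu.pow_right n
  refine ⟨h * (h⁻¹ * z * h * z) ^ n, H.mul_mem hh (H.pow_mem hu n), ?_, ?_⟩
  · show h * (h⁻¹ * z * h * z) ^ n * z = z * (h * (h⁻¹ * z * h * z) ^ n)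
    calc h * (h⁻¹ * z * h * z) ^ n * z
        = h * ((h⁻¹ * z * h * z) ^ n * z * ((h⁻¹ * z * h * z) ^ n)⁻¹) * (h⁻¹ * z * h * z) ^ n := by
          group
      _ = h * (h⁻¹ * z * h) * (h⁻¹ * z * h * z) ^ n := by rw [h2]
      _ = _ := by group
  · have hxk' : x * (h⁻¹ * z * h * z) ^ n = (h⁻¹ * z * h * z) ^ n * x := hxk
    calc h * (h⁻¹ * z * h * z) ^ n * x * (h * (h⁻¹ * z * h * z) ^ n)⁻¹
        = h * ((h⁻¹ * z * h * z) ^ n * x) * ((h⁻¹ * z * h * z) ^ n)⁻¹ * h⁻¹ := by group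
      _ = h * (x * (h⁻¹ * z * h * z) ^ n) * ((h⁻¹ * z * h * z) ^ n)⁻¹ * h⁻¹ := by rw [hxk']
      _ = h * x * h⁻¹ := by group
      _ = y := hconj

end Cfsg.Agent.Lib.Helper27
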