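import Mathlib
import Cfsg.Prelude.Def_TwoFusion
import Cfsg.Prelude.Def_CaseTheorems
import Cfsg.Agent.Lib.Helper27.Isolated
import Cfsg.Agent.Lib.Helper29.Cores

set_option autoImplicit false

/-! Glue between Glauberman's Z*-theorem (in the Sylow form of the statement list) and isolated
involutions. -/

namespace Cfsg.Agent.Lib.Helper27

open Cfsg

universe u

/-- The conclusion of the Z*-theorem for the group `G`, as a hypothesis. -/
def ZStarHyp (G : Type u) [Group G] : Prop :=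
  ∀ (P : Sylow 2 G) (u : G), orderOf u = 2 → u ∈ P →
    (∀ g : G, g * u * g⁻¹ ∈ P → g * u * g⁻¹ = u) →
    ∃ N : Subgroup G, N.Normal ∧ Odd (Nat.card N) ∧ ∀ g : G, (u * g * u⁻¹ * g⁻¹) ∈ N

variable {G : Type u} [Group G] [Finite G]

theorem exists_sylow_two_mem {z : G} (hz : orderOf z = 2) : ∃ P : Sylow 2 G, z ∈ P := by
  haveI : Fact (Nat.Prime 2) := ⟨Nat.prime_two⟩
  have hp : IsPGroup 2 (Subgroup.zpowers z) := by
    apply IsPGroup.of_card (n := 1)
    rw [Nat.card_zpowers, hz, pow_one]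
  obtain ⟨P, hP⟩ := hp.exists_le_sylow
  exact ⟨P, hP (Subgroup.mem_zpowers z)⟩

/-- An isolated involution is the only one of its conjugates in a Sylow `2`-subgroup. -/
theorem isolated_sylow_unique {z : G} (hz : IsIsolatedInvolution z) (P : Sylow 2 G) (hzP : z ∈ P)
    (g : G) (hg : g * z * g⁻¹ ∈ P) : g * z * g⁻¹ = z := by
  haveI : Fact (Nat.Prime 2) := ⟨Nat.prime_two⟩
  have hodd := odd_orderOf_conj_mul hz g
  have hmem : g * z * g⁻¹ * z ∈ (P : Subgroup G) := (P : Subgroup G).mul_mem hg hzP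
  obtain ⟨k, hk⟩ := P.2 ⟨_, hmem⟩
  have hk' : (g * z * g⁻¹ * z) ^ 2 ^ k = 1 := by
    have := congrArg Subtype.val hk
    simpa using this
  have hdvd : orderOf (g * z * g⁻¹ * z) ∣ 2 ^ k := orderOf_dvd_of_pow_eq_one hk'
  have h1 : orderOf (g * z * g⁻¹ * z) = 1 := by
    have hcop : Nat.Coprime (orderOf (g * z * g⁻¹ * z)) (2 ^ k) :=
      Nat.Coprime.pow_right k (Nat.coprime_two_right.mpr hodd)
    exact Nat.eq_one_of_dvd_coprimes hcop dvd_rfl hdvd
  have h2 : g * z * g⁻¹ * z = 1 := orderOf_eq_one_iff.mp h1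
  have h3 : g * z * g⁻¹ = z⁻¹ := eq_inv_of_mul_eq_one_left h2
  rw [h3, iso_inv hz]

/-- The Z*-theorem for `G` gives the conclusion of the "soluble Z*-theorem" for every isolated
involution. -/
theorem commutator_mem_oddCore_of_zstar (hZ : ZStarHyp G) {z : G} (hz : IsIsolatedInvolution z)
    (g : G) : z * g * z⁻¹ * g⁻¹ ∈ Cfsg.oddCore G := by
  obtain ⟨P, hzP⟩ := exists_sylow_two_mem hz.1
  obtain ⟨N, hN, hodd, hcomm⟩ := hZ P z hz.1 hzP (isolated_sylow_unique hz P hzP)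
  haveI := hN
  have hle : N ≤ Cfsg.oddCore G :=
    Cfsg.Agent.Lib.Helper29.normal_le_pPrimeCore 2 N (Nat.coprime_two_right.mpr hodd)
  exact hle (hcomm g)

end Cfsg.Agent.Lib.Helper27
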