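import Mathlib
import Cfsg.Prelude.Def_Transfer
import Cfsg.Prelude.Def_CaseTheorems
import Cfsg.Agent.Lib.Helper27.ZStarGlue
import Cfsg.Agent.Lib.Helper55.SylowIn
import Cfsg.Agent.Lib.Helper29.PCore
import Cfsg.Agent.Lib.Helper15.PSolv
import Cfsg.Agent.Lib.Helper15.Lifting
import Cfsg.Agent.Lib.Helper03.BadPair

set_option autoImplicit false

/-! Consequence of the Z*-theorem: a subgroup `A` of `Z(S)`, `S` a Sylow `2`-subgroup, all of whose
subgroups are weakly closed in `S`, is central modulo the odd core. -/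

namespace Cfsg.Agent.Lib.Helper27

open Cfsg Cfsg.Agent.Lib.Helper55

universe u

/-- `A` is a subgroup of `Z(S)` all of whose subgroups are weakly closed in `S`. -/
def WCC {H : Type u} [Group H] (S : Sylow 2 H) (A : Subgroup H) : Prop :=
  A ≤ (S : Subgroup H) ∧ (∀ a ∈ A, ∀ s ∈ (S : Subgroup H), a * s = s * a) ∧
    ∀ B : Subgroup H, B ≤ A → IsWeaklyClosed B (S : Subgroup H)

section basic

variable {H : Type u} [Group H]

theorem WCC.isolated {S : Sylow 2 H} {A : Subgroup H} (h : WCC S A) {u : H} (huA : u ∈ A)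
    (hu : orderOf u = 2) (g : H) (hg : g * u * g⁻¹ ∈ (S : Subgroup H)) : g * u * g⁻¹ = u := by
  have hB : Subgroup.zpowers u ≤ A := by rw [Subgroup.zpowers_le]; exact huA
  have hwc := h.2.2 _ hB
  have hmap : (Subgroup.zpowers u).map (MulAut.conj g).toMonoidHom =
      Subgroup.zpowers (g * u * g⁻¹) := by
    rw [MonoidHom.map_zpowers]; rfl
  have hle : (Subgroup.zpowers u).map (MulAut.conj g).toMonoidHom ≤ (S : Subgroup H) := by
    rw [hmap, Subgroup.zpowers_le]; exact hg
  have heq := hwc.2 g hle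
  have hmem : g * u * g⁻¹ ∈ Subgroup.zpowers u := by
    rw [← heq, hmap]; exact Subgroup.mem_zpowers _
  obtain ⟨k, hk⟩ := Subgroup.mem_zpowers_iff.mp hmem
  have hk' : u ^ (k % 2) = g * u * g⁻¹ := by
    have := zpow_mod_orderOf u k
    rw [hu] at this
    rw [← hk]; exact_mod_cast this
  rcases Int.emod_two_eq_zero_or_one k with h0 | h1
  · rw [h0, zpow_zero] at hk'
    exfalso
    have : u = 1 := by
      have h2 : g⁻¹ * (g * u * g⁻¹) * g = u := by group
      rw [← hk'] at h2
      rw [← h2]; group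
    rw [this, orderOf_one] at hu
    omega
  · rw [h1, zpow_one] at hk'
    exact hk'.symm

theorem cj_eq_self_of_commute {B : Subgroup H} {s : H} (hs : ∀ b ∈ B, b * s = s * b) :
    cj s B = B := by
  ext x
  rw [mem_cj]
  constructor
  · intro hx
    have h1 := hs _ hx
    have h2 : x = s * (s⁻¹ * x * s) * s⁻¹ := by group
    have h3 : s * (s⁻¹ * x * s) * s⁻¹ = s⁻¹ * x * s := by
      rw [← h1]; group
    rw [h2, h3]; exact hx
  · intro hx
    have h1 := hs _ hx
    have : s⁻¹ * x * s = x := by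
      calc s⁻¹ * x * s = s⁻¹ * (x * s) := by group
        _ = s⁻¹ * (s * x) := by rw [h1]
        _ = x := by group
    rw [this]; exact hx

theorem map_cj {H' : Type*} [Group H'] (f : H →* H') (g : H) (K : Subgroup H) :
    (cj g K).map f = cj (f g) (K.map f) := by
  ext x
  constructor
  · rintro ⟨_, ⟨k, hk, rfl⟩, rfl⟩
    exact ⟨f k, ⟨k, hk, rfl⟩, by simp [MulAut.conj_apply]⟩
  · rintro ⟨_, ⟨k, hk, rfl⟩, rfl⟩
    exact ⟨_, ⟨k, hk, rfl⟩, by simp [MulAut.conj_apply]⟩

end basic

section quotient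

variable {H : Type u} [Group H] [Finite H]

/-- The hypothesis passes to every quotient. -/
theorem WCC.map {S : Sylow 2 H} {A : Subgroup H} (h : WCC S A) (N : Subgroup H) [N.Normal] :
    WCC (S.mapSurjective (QuotientGroup.mk'_surjective N)) (A.map (QuotientGroup.mk' N)) := by
  haveI : Fact (Nat.Prime 2) := ⟨Nat.prime_two⟩
  have hSbar : ((S.mapSurjective (QuotientGroup.mk'_surjective N) : Sylow 2 (H ⧸ N)) :
      Subgroup (H ⧸ N)) = (S : Subgroup H).map (QuotientGroup.mk' N) := rfl
  refine ⟨?_, ?_, ?_⟩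
  · rw [hSbar]; exact Subgroup.map_mono h.1
  · rintro _ ⟨a, ha, rfl⟩ sb hs
    rw [hSbar] at hs
    obtain ⟨s, hs, rfl⟩ := hs
    rw [← map_mul, ← map_mul, h.2.1 a ha s hs]
  · intro Bb hBb
    set B : Subgroup H := A ⊓ Bb.comap (QuotientGroup.mk' N) with hB
    have hBmap : B.map (QuotientGroup.mk' N) = Bb := by
      apply le_antisymm
      · rw [Subgroup.map_le_iff_le_comap]; exact inf_le_right
      · intro x hx
        obtain ⟨a, ha, rfl⟩ := hBb hx
        exact ⟨a, ⟨ha, hx⟩, rfl⟩
    have hBA : B ≤ A := inf_le_left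
    have hwc := h.2.2 B hBA
    refine ⟨hBb.trans (by rw [hSbar]; exact Subgroup.map_mono h.1), ?_⟩
    intro gb hgb
    obtain ⟨g, rfl⟩ := QuotientGroup.mk'_surjective N gb
    change cj (QuotientGroup.mk' N g) Bb ≤ _ at hgb
    change cj (QuotientGroup.mk' N g) Bb = Bb
    rw [← hBmap, ← map_cj] at hgb ⊢
    have h1 : cj g B ≤ (S : Subgroup H) ⊔ N := by
      have := Subgroup.map_le_iff_le_comap.mp hgb
      rw [hSbar, Subgroup.comap_map_eq, QuotientGroup.ker_mk'] at this
      exact this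
    have hsyl : IsSylowIn 2 ((S : Subgroup H) ⊔ N) (S : Subgroup H) :=
      isSylowIn_of_sylow_le S le_sup_left
    have hB2 : IsPGroup 2 (cj g B) := isPGroup_cj (S.2.to_le (hBA.trans h.1))
    obtain ⟨y, hy, hyle⟩ := hsyl.exists_conj_le h1 hB2
    rw [← cj_mul] at hyle
    have h2 := hwc.2 (y * g) hyle
    have h3 : cj g B = cj y⁻¹ B := by
      change cj (y * g) B = B at h2
      rw [cj_mul] at h2
      have := congrArg (cj y⁻¹) h2
      rwa [cj_inv_cj] at this
    rw [h3, map_cj]
    have hy' : QuotientGroup.mk' N y⁻¹ ∈ (S : Subgroup H).map (QuotientGroup.mk' N) := by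
      have h4 : QuotientGroup.mk' N y⁻¹ ∈ ((S : Subgroup H) ⊔ N).map (QuotientGroup.mk' N) :=
        ⟨y⁻¹, Subgroup.inv_mem _ hy, rfl⟩
      rwa [Subgroup.map_sup, QuotientGroup.map_mk'_self, sup_bot_eq] at h4
    obtain ⟨s, hs, hsy⟩ := hy'
    rw [← hsy, ← map_cj]
    congr 1
    apply cj_eq_self_of_commute
    intro b hb
    exact h.2.1 b (hBA hb) s hs

end quotient

section central

variable {H : Type u} [Group H] [Finite H]

/-- Burnside's transfer theorem, in the form: a group with trivial odd core and a central Sylow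
`2`-subgroup is a `2`-group. -/
theorem sylow_index_eq_one_of_central (hO : Cfsg.oddCore H = ⊥) (Q : Sylow 2 H)
    (hQ : ∀ q ∈ (Q : Subgroup H), ∀ x : H, q * x = x * q) : (Q : Subgroup H).index = 1 := by
  haveI : Fact (Nat.Prime 2) := ⟨Nat.prime_two⟩
  have hN : Subgroup.normalizer ((Q : Subgroup H) : Set H) ≤
      Subgroup.centralizer ((Q : Subgroup H) : Set H) := by
    intro x _
    rw [Subgroup.mem_centralizer_iff]
    intro q hq
    exact hQ q hq x
  have hc := MonoidHom.ker_transferSylow_isComplement' Q hN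
  have hnd := MonoidHom.not_dvd_card_ker_transferSylow Q hN
  have hle : (MonoidHom.transferSylow Q hN).ker ≤ Cfsg.oddCore H :=
    Cfsg.Agent.Lib.Helper29.normal_le_pPrimeCore 2 _
      ((Nat.Prime.coprime_iff_not_dvd Nat.prime_two).mpr hnd).symm
  rw [hO, le_bot_iff] at hle
  have h1 := hc.card_mul
  rw [hle, Subgroup.card_bot, one_mul] at h1
  have h2 := (Q : Subgroup H).card_mul_index
  rw [h1] at h2
  have hpos : 0 < Nat.card H := Nat.card_pos
  exact Nat.eq_of_mul_eq_mul_left hpos (by rw [h2, mul_one])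

/-- Factoring out a central `2`-subgroup keeps the odd core trivial. -/
theorem oddCore_quotient_central_eq_bot (hO : Cfsg.oddCore H = ⊥) (U : Subgroup H) [U.Normal]
    (hU2 : IsPGroup 2 U) (hUc : ∀ q ∈ U, ∀ x : H, q * x = x * q) :
    Cfsg.oddCore (H ⧸ U) = ⊥ := by
  haveI : Fact (Nat.Prime 2) := ⟨Nat.prime_two⟩
  set Ob : Subgroup (H ⧸ U) := Cfsg.oddCore (H ⧸ U) with hOb
  have hObodd : Odd (Nat.card Ob) :=
    Nat.coprime_two_right.mp (Cfsg.Agent.Lib.Helper29.coprime_card_of_le_pPrimeCore 2 Ob le_rfl)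
  set M : Subgroup H := Ob.comap (QuotientGroup.mk' U) with hM
  haveI hMn : M.Normal := by
    haveI : Ob.Normal := by rw [hOb]; infer_instance
    exact Subgroup.Normal.comap inferInstance _
  have hUM : U ≤ M := by
    intro x hx
    rw [hM, Subgroup.mem_comap]
    have : QuotientGroup.mk' U x = 1 := by
      rw [← MonoidHom.mem_ker, QuotientGroup.ker_mk']; exact hx
    rw [this]; exact Subgroup.one_mem _
  have hrel : U.relIndex M = Nat.card Ob := by
    have h1 : U = (⊥ : Subgroup (H ⧸ U)).comap (QuotientGroup.mk' U) := by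
      exact (QuotientGroup.ker_mk' U).symm
    have h2 := Subgroup.relIndex_comap (⊥ : Subgroup (H ⧸ U)) (QuotientGroup.mk' U) M
    rw [← h1] at h2
    rw [h2, hM, Subgroup.map_comap_eq_self_of_surjective (QuotientGroup.mk'_surjective U),
      Subgroup.relIndex_bot_left]
  -- the Sylow `2`-subgroup of `M`
  have hidx : ¬ 2 ∣ (U.subgroupOf M).index := by
    change ¬ 2 ∣ U.relIndex M
    rw [hrel]
    exact fun h => (Nat.not_even_iff_odd.mpr hObodd) (even_iff_two_dvd.mpr h)
  have hUM2 : IsPGroup 2 (U.subgroupOf M) := hU2.comap_subtype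
  set Q : Sylow 2 ↥M := hUM2.toSylow hidx with hQ
  have hQc : ∀ q ∈ (Q : Subgroup ↥M), ∀ x : ↥M, q * x = x * q := by
    intro q hq x
    have hq' : (q : H) ∈ U := by
      have : q ∈ U.subgroupOf M := by
        rw [hQ, IsPGroup.toSylow_coe] at hq
        exact hq
      exact Subgroup.mem_subgroupOf.mp this
    apply Subtype.ext
    push_cast
    exact hUc _ hq' _
  have hOM : Cfsg.oddCore ↥M = ⊥ := by
    have h1 : (Cfsg.oddCore ↥M).map M.subtype ≤ Cfsg.oddCore H :=
      Cfsg.Agent.Lib.Helper15.map_pPrimeCore_le_of_normal 2 M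
    rw [hO, le_bot_iff] at h1
    exact (Subgroup.map_eq_bot_iff_of_injective _ M.subtype_injective).mp h1
  have h1 := sylow_index_eq_one_of_central hOM Q hQc
  have h2 : (U.subgroupOf M).index = 1 := by
    rw [hQ, IsPGroup.toSylow_coe] at h1
    exact h1
  have h3 : Nat.card Ob = 1 := by
    rw [← hrel]; exact h2
  exact Subgroup.card_eq_one.mp h3

end central

section homArg

variable {H : Type u} [Group H] [Finite H]

/-- If all commutators `[a, h]` lie in a central `2`-subgroup and `a` centralizes a Sylow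
`2`-subgroup, then `a` is central. -/
theorem commute_of_commutator_mem_central (S : Sylow 2 H) (U : Subgroup H) (hU2 : IsPGroup 2 U)
    (hUc : ∀ q ∈ U, ∀ x : H, q * x = x * q) (a : H)
    (haS : ∀ s ∈ (S : Subgroup H), a * s = s * a)
    (hcomm : ∀ h : H, a * h * a⁻¹ * h⁻¹ ∈ U) (h : H) : a * h = h * a := by
  haveI : Fact (Nat.Prime 2) := ⟨Nat.prime_two⟩
  set C : Subgroup H := Subgroup.centralizer ({a} : Set H) with hC
  have hSC : (S : Subgroup H) ≤ C := by
    intro s hs
    rw [hC, Subgroup.mem_centralizer_iff]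
    intro x hx
    rw [Set.mem_singleton_iff] at hx
    rw [hx]; exact haS s hs
  have hodd : ∀ m ∈ (⊤ : Subgroup H), (orderOf m).Coprime 2 → m ∈ C := by
    intro x _ hx
    rw [hC, Subgroup.mem_centralizer_iff]
    intro y hy
    rw [Set.mem_singleton_iff] at hy
    rw [hy]
    set c := a * x * a⁻¹ * x⁻¹ with hc
    have hcU : c ∈ U := hcomm x
    have hcx : a * x * a⁻¹ = c * x := by rw [hc]; group
    have hcomm' : Commute c x := hUc c hcU x
    have h1 : (a * x * a⁻¹) ^ orderOf x = 1 := by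
      rw [conj_pow, pow_orderOf_eq_one]; group
    rw [hcx, hcomm'.mul_pow, pow_orderOf_eq_one, mul_one] at h1
    obtain ⟨j, hj⟩ := hU2 ⟨c, hcU⟩
    have hj' : c ^ 2 ^ j = 1 := by
      have := congrArg Subtype.val hj
      simpa using this
    have hd1 : orderOf c ∣ orderOf x := orderOf_dvd_of_pow_eq_one h1
    have hd2 : orderOf c ∣ 2 ^ j := orderOf_dvd_of_pow_eq_one hj'
    have hcop : (orderOf x).Coprime (2 ^ j) := Nat.Coprime.pow_right j hx
    have hc1 : orderOf c = 1 := Nat.eq_one_of_dvd_coprimes hcop hd1 hd2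
    have hc1' : c = 1 := orderOf_eq_one_iff.mp hc1
    rw [hc1', one_mul] at hcx
    calc a * x = (a * x * a⁻¹) * a := by group
      _ = x * a := by rw [hcx]
  have hidx : ¬ 2 ∣ (S : Subgroup H).relIndex ⊤ := by
    rw [Subgroup.relIndex_top_right]; exact S.not_dvd_index
  have htop := Cfsg.Agent.Lib.Helper03.le_sup_of_sylow_of_pprime (p := 2)
    (M := (⊤ : Subgroup H)) (T := (S : Subgroup H)) (C := C) le_top hidx le_top hodd
  have hle : (S : Subgroup H) ⊔ C ≤ C := sup_le hSC le_rfl
  have hmem : h ∈ C := hle (htop (Subgroup.mem_top h))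
  rw [hC, Subgroup.mem_centralizer_iff] at hmem
  exact hmem a rfl

/-- A nontrivial `2`-element has a power of order `2`. -/
theorem exists_involution_zpowers {a : H} (ha : a ≠ 1) {k : ℕ} (hk : a ^ 2 ^ k = 1) :
    ∃ u ∈ Subgroup.zpowers a, orderOf u = 2 := by
  haveI : Fact (Nat.Prime 2) := ⟨Nat.prime_two⟩
  have hdvd : orderOf a ∣ 2 ^ k := orderOf_dvd_of_pow_eq_one hk
  obtain ⟨j, -, hj⟩ := (Nat.dvd_prime_pow Nat.prime_two).mp hdvd
  have hj0 : j ≠ 0 := by
    intro h0
    rw [h0, pow_zero] at hj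
    exact ha (orderOf_eq_one_iff.mp hj)
  have h2 : 2 ∣ Nat.card (Subgroup.zpowers a) := by
    rw [Nat.card_zpowers, hj]
    exact dvd_pow_self 2 hj0
  obtain ⟨x, hx⟩ := exists_prime_orderOf_dvd_card' 2 h2
  refine ⟨x.1, x.2, ?_⟩
  rw [← hx]
  exact (Subgroup.orderOf_coe x)

end homArg

section main

theorem card_quotient_lt {H : Type u} [Group H] [Finite H] (N : Subgroup H) [N.Normal]
    (hN : N ≠ ⊥) : Nat.card (H ⧸ N) < Nat.card H := by
  rw [← Subgroup.index_eq_card, ← N.card_mul_index]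
  have h1 : 1 < Nat.card N := by
    rcases Nat.lt_or_ge 1 (Nat.card N) with h | h
    · exact h
    · exfalso
      have hpos : 0 < Nat.card N := Nat.card_pos
      have : Nat.card N = 1 := le_antisymm h hpos
      exact hN (Subgroup.card_eq_one.mp this)
  have h2 : 0 < N.index := Nat.pos_of_ne_zero (Subgroup.index_ne_zero_of_finite)
  nlinarith

theorem wcc_commutator_aux (hZ : ∀ (G : Type u) [Group G] [Finite G], ZStarHyp G) :
    ∀ n : ℕ, ∀ (H : Type u) [Group H] [Finite H], Nat.card H = n →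
      ∀ (S : Sylow 2 H) (A : Subgroup H), WCC S A →
      ∀ a ∈ A, ∀ h : H, a * h * a⁻¹ * h⁻¹ ∈ Cfsg.oddCore H := by
  intro n
  induction n using Nat.strong_induction_on with
  | _ n ih =>
  intro H _ _ hn S A hA a ha h
  haveI : Fact (Nat.Prime 2) := ⟨Nat.prime_two⟩
  by_cases hO : Cfsg.oddCore H = ⊥
  · by_cases ha1 : a = 1
    · subst ha1
      have : (1 : H) * h * (1 : H)⁻¹ * h⁻¹ = 1 := by group
      rw [this]; exact Subgroup.one_mem _
    · have haS : a ∈ (S : Subgroup H) := hA.1 ha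
      obtain ⟨k, hk⟩ := S.2 ⟨a, haS⟩
      have hk' : a ^ 2 ^ k = 1 := by
        have := congrArg Subtype.val hk
        simpa using this
      obtain ⟨u, huz, hu2⟩ := exists_involution_zpowers ha1 hk'
      have huA : u ∈ A := (Subgroup.zpowers_le.mpr ha) huz
      have huS : u ∈ (S : Subgroup H) := hA.1 huA
      obtain ⟨N, hN, hNodd, hNc⟩ := hZ H S u hu2 huS (fun g hg => hA.isolated huA hu2 g hg)
      have hNbot : N = ⊥ := by
        haveI := hN
        have h1 : N ≤ Cfsg.oddCore H :=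
          Cfsg.Agent.Lib.Helper29.normal_le_pPrimeCore 2 N (Nat.coprime_two_right.mpr hNodd)
        rw [hO] at h1
        exact le_bot_iff.mp h1
      have huc : ∀ x : H, u * x = x * u := by
        intro x
        have h1 := hNc x
        rw [hNbot, Subgroup.mem_bot] at h1
        calc u * x = (u * x * u⁻¹ * x⁻¹) * x * u := by group
          _ = x * u := by rw [h1, one_mul]
      set U : Subgroup H := Subgroup.zpowers u with hU
      have hUc : ∀ q ∈ U, ∀ x : H, q * x = x * q := by
        intro q hq x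
        obtain ⟨j, rfl⟩ := Subgroup.mem_zpowers_iff.mp hq
        exact (Commute.zpow_left (huc x) j).eq
      haveI hUn : U.Normal := by
        constructor
        intro q hq g
        have h1 := hUc q hq g
        have h2 : g * q * g⁻¹ = q := by
          rw [← h1]; group
        rw [h2]; exact hq
      have hU2 : IsPGroup 2 U := by
        apply IsPGroup.of_card (n := 1)
        rw [hU, Nat.card_zpowers, hu2, pow_one]
      have hUne : U ≠ ⊥ := by
        intro hbot
        have : u ∈ (⊥ : Subgroup H) := by rw [← hbot]; exact Subgroup.mem_zpowers u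
        rw [Subgroup.mem_bot] at this
        rw [this, orderOf_one] at hu2
        omega
      have hcard : Nat.card (H ⧸ U) < n := by rw [← hn]; exact card_quotient_lt U hUne
      have hOq := oddCore_quotient_central_eq_bot hO U hU2 hUc
      have hq := ih _ hcard (H ⧸ U) rfl _ _ (hA.map U)
      have hcommU : ∀ h' : H, a * h' * a⁻¹ * h'⁻¹ ∈ U := by
        intro h'
        have h1 := hq (QuotientGroup.mk' U a) ⟨a, ha, rfl⟩ (QuotientGroup.mk' U h')
        rw [hOq, Subgroup.mem_bot] at h1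
        rw [← QuotientGroup.ker_mk' U, MonoidHom.mem_ker]
        simpa using h1
      have h2 := commute_of_commutator_mem_central S U hU2 hUc a
        (fun s hs => hA.2.1 a ha s hs) hcommU h
      have h1 : a * h * a⁻¹ * h⁻¹ = 1 := by rw [h2]; group
      rw [h1]; exact Subgroup.one_mem _
  · have hcard : Nat.card (H ⧸ Cfsg.oddCore H) < n := by
      rw [← hn]; exact card_quotient_lt _ hO
    have hq := ih _ hcard (H ⧸ Cfsg.oddCore H) rfl _ _ (hA.map (Cfsg.oddCore H))
      (QuotientGroup.mk' (Cfsg.oddCore H) a) ⟨a, ha, rfl⟩ (QuotientGroup.mk' (Cfsg.oddCore H) h)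
    have hbot : Cfsg.oddCore (H ⧸ Cfsg.oddCore H) = ⊥ :=
      Cfsg.Agent.Lib.Helper29.pPrimeCore_quotient_eq_bot 2
    rw [hbot, Subgroup.mem_bot] at hq
    rw [← QuotientGroup.ker_mk' (Cfsg.oddCore H), MonoidHom.mem_ker]
    simpa using hq

/-- Under the Z*-theorem: if `A ≤ Z(S)` and every subgroup of `A` is weakly closed in the Sylow
`2`-subgroup `S`, then `A` is central modulo the odd core. -/
theorem wcc_commutator (hZ : ∀ (G : Type u) [Group G] [Finite G], ZStarHyp G)
    {H : Type u} [Group H] [Finite H] (S : Sylow 2 H) (A : Subgroup H) (hA : WCC S A)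
    (a : H) (ha : a ∈ A) (h : H) : a * h * a⁻¹ * h⁻¹ ∈ Cfsg.oddCore H :=
  wcc_commutator_aux hZ _ H rfl S A hA a ha h

/-- ... and hence `H = O(H) C_H(A)`. -/
theorem wcc_factor (hZ : ∀ (G : Type u) [Group G] [Finite G], ZStarHyp G)
    {H : Type u} [Group H] [Finite H] (S : Sylow 2 H) (A : Subgroup H) (hA : WCC S A) (h : H) :
    ∃ o ∈ Cfsg.oddCore H, ∃ c ∈ Subgroup.centralizer (A : Set H), h = o * c := by
  haveI : Fact (Nat.Prime 2) := ⟨Nat.prime_two⟩
  have hcop : (Nat.card (Cfsg.oddCore H)).Coprime 2 :=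
    Cfsg.Agent.Lib.Helper29.coprime_card_of_le_pPrimeCore 2 _ le_rfl
  have hA2 : IsPGroup 2 A := S.2.to_le hA.1
  have hcent := Cfsg.Agent.Lib.Helper15.centralizer_map_mk_of_coprime (Cfsg.oddCore H) hcop A hA2
  have hmem : QuotientGroup.mk' (Cfsg.oddCore H) h ∈
      Subgroup.centralizer ((A.map (QuotientGroup.mk' (Cfsg.oddCore H)) :
        Subgroup (H ⧸ Cfsg.oddCore H)) : Set (H ⧸ Cfsg.oddCore H)) := by
    rw [Subgroup.mem_centralizer_iff]
    rintro _ ⟨a, ha, rfl⟩
    have h1 := wcc_commutator hZ S A hA a ha h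
    rw [← QuotientGroup.ker_mk' (Cfsg.oddCore H), MonoidHom.mem_ker] at h1
    have h2 : QuotientGroup.mk' (Cfsg.oddCore H) a * QuotientGroup.mk' (Cfsg.oddCore H) h *
        (QuotientGroup.mk' (Cfsg.oddCore H) a)⁻¹ * (QuotientGroup.mk' (Cfsg.oddCore H) h)⁻¹ = 1 := by
      simpa using h1
    calc QuotientGroup.mk' (Cfsg.oddCore H) a * QuotientGroup.mk' (Cfsg.oddCore H) h
        = (QuotientGroup.mk' (Cfsg.oddCore H) a * QuotientGroup.mk' (Cfsg.oddCore H) h *
          (QuotientGroup.mk' (Cfsg.oddCore H) a)⁻¹ * (QuotientGroup.mk' (Cfsg.oddCore H) h)⁻¹) *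
          (QuotientGroup.mk' (Cfsg.oddCore H) h * QuotientGroup.mk' (Cfsg.oddCore H) a) := by group
      _ = QuotientGroup.mk' (Cfsg.oddCore H) h * QuotientGroup.mk' (Cfsg.oddCore H) a := by
        rw [h2, one_mul]
  rw [hcent] at hmem
  obtain ⟨c, hc, hch⟩ := hmem
  refine ⟨h * c⁻¹, ?_, c, hc, by group⟩
  rw [← QuotientGroup.ker_mk' (Cfsg.oddCore H), MonoidHom.mem_ker, map_mul, map_inv, hch]
  group

end main

end Cfsg.Agent.Lib.Helper27
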