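import Mathlib
import Cfsg.Prelude.Def_GeometricClasses
import Cfsg.Agent.Lib.Helper43.OmegaNondeg1
import Cfsg.Agent.Lib.Helper50.StdForms

set_option autoImplicit false
set_option linter.unusedSectionVars false
set_option linter.unusedVariables false

/-! K-OOddMax-X1: the orthogonal complement of a non-degenerate subspace for `quadFormOdd`. -/

namespace Cfsg.Agent.Lib.Helper27.OOddMax

open Cfsg Cfsg.Geo Module
open scoped Matrix MatrixGroups

section generic

variable {F : Type*} [Field F] {ι : Type} [Fintype ι] [DecidableEq ι]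
variable (Q : QuadraticForm F (ι → F))

open Cfsg.Agent.Lib.Helper43

theorem polarBilin_eq (u v : ι → F) :
    QuadraticMap.polarBilin Q u v = QuadraticMap.polar (⇑Q) u v := rfl

theorem disjoint_orthC_of_nondeg (W : Submodule F (ι → F))
    (hW : IsNondegenerateOn (QuadraticMap.polar (⇑Q)) W) : Disjoint W (orthC Q W) := by
  rw [Submodule.disjoint_def]
  intro v hv hv'
  by_contra hne
  obtain ⟨⟨x, hx, hxv⟩, -⟩ := hW v hv hne
  apply hxv
  have := (mem_orthC Q W v).1 hv' x hx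
  rwa [polarBilin_eq] at this

theorem nondeg_orthC (hQ : (QuadraticMap.polarBilin Q).Nondegenerate) (W : Submodule F (ι → F))
    (hW : IsNondegenerateOn (QuadraticMap.polar (⇑Q)) W) :
    IsNondegenerateOn (QuadraticMap.polar (⇑Q)) (orthC Q W) := by
  have hd := disjoint_orthC_of_nondeg Q W hW
  have key : ∀ w ∈ orthC Q W, w ≠ 0 → ∃ x ∈ orthC Q W, QuadraticMap.polar (⇑Q) x w ≠ 0 := by
    intro w hw hw0
    by_contra hcon
    apply hw0
    -- `w` is orthogonal to everything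
    have hall : ∀ v : ι → F, QuadraticMap.polarBilin Q v w = 0 := by
      intro v
      obtain ⟨y, hy, w', hw', rfl⟩ := exists_decomp Q W hd v
      rw [map_add, LinearMap.add_apply]
      have h1 : QuadraticMap.polarBilin Q y w = 0 := (mem_orthC Q W w).1 hw y hy
      have h2 : QuadraticMap.polarBilin Q w' w = 0 := by
        by_contra h
        exact hcon ⟨w', hw', h⟩
      rw [h1, h2, add_zero]
    have hall' : ∀ v : ι → F, QuadraticMap.polarBilin Q w v = 0 := by
      intro v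
      have := hall v
      rw [polarBilin_eq] at this ⊢
      rw [QuadraticMap.polar_comm]
      exact this
    exact hQ.1 w hall'
  intro w hw hw0
  obtain ⟨x, hx, hxw⟩ := key w hw hw0
  refine ⟨⟨x, hx, hxw⟩, ⟨x, hx, ?_⟩⟩
  rwa [QuadraticMap.polar_comm]

theorem polar_mulVec_of_mem {g : GL ι F} (hg : g ∈ isometryGroup F (⇑Q)) (u v : ι → F) :
    QuadraticMap.polar (⇑Q) ((g : Matrix ι ι F) *ᵥ u) ((g : Matrix ι ι F) *ᵥ v) =
      QuadraticMap.polar (⇑Q) u v := by
  have h : ∀ x : ι → F, Q ((g : Matrix ι ι F) *ᵥ x) = Q x := fun x => hg x 0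
  unfold QuadraticMap.polar
  rw [← Matrix.mulVec_add, h, h, h]

theorem mulVec_inv_mulVec' (g : GL ι F) (v : ι → F) :
    (g : Matrix ι ι F) *ᵥ (((g⁻¹ : GL ι F) : Matrix ι ι F) *ᵥ v) = v := by
  rw [Matrix.mulVec_mulVec, ← Units.val_mul, mul_inv_cancel, Units.val_one, Matrix.one_mulVec]

theorem mem_stab_orthC {g : GL ι F} (hg : g ∈ isometryGroup F (⇑Q)) (W : Submodule F (ι → F))
    (hs : g ∈ subspaceStabilizer W) : g ∈ subspaceStabilizer (orthC Q W) := by
  intro v
  change v ∈ orthC Q W ↔ (g : Matrix ι ι F) *ᵥ v ∈ orthC Q W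
  rw [mem_orthC, mem_orthC]
  constructor
  · intro h y hy
    have hy' : ((g⁻¹ : GL ι F) : Matrix ι ι F) *ᵥ y ∈ W := by
      have := hs (((g⁻¹ : GL ι F) : Matrix ι ι F) *ᵥ y)
      change _ ∈ W ↔ (g : Matrix ι ι F) *ᵥ _ ∈ W at this
      rw [mulVec_inv_mulVec'] at this
      exact this.2 hy
    have h1 := h _ hy'
    rw [polarBilin_eq] at h1 ⊢
    rw [← polar_mulVec_of_mem Q hg, mulVec_inv_mulVec'] at h1
    exact h1
  · intro h y hy
    have hy' : (g : Matrix ι ι F) *ᵥ y ∈ W := (hs y).1 hy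
    have h1 := h _ hy'
    rw [polarBilin_eq] at h1 ⊢
    rw [polar_mulVec_of_mem Q hg] at h1
    exact h1

theorem stab_inf_eq (hQ : (QuadraticMap.polarBilin Q).Nondegenerate) (W : Submodule F (ι → F)) :
    subspaceStabilizer W ⊓ isometryGroup F (⇑Q) =
      subspaceStabilizer (orthC Q W) ⊓ isometryGroup F (⇑Q) := by
  apply le_antisymm
  · intro g hg
    exact ⟨mem_stab_orthC Q hg.2 W hg.1, hg.2⟩
  · intro g hg
    refine ⟨?_, hg.2⟩
    have := mem_stab_orthC Q hg.2 (orthC Q W) hg.1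
    rwa [orthC_orthC Q hQ] at this

end generic

variable {F : Type*} [Field F] [Fintype F] {m : ℕ}

/-- K-OOddMax-X1. -/
theorem exists_perp_of_isNondegenerateOn (hodd : Odd (Fintype.card F))
    (W : Submodule F (Unit ⊕ (Fin m ⊕ Fin m) → F))
    (hW : IsNondegenerateOn (QuadraticMap.polar (quadFormOdd m F)) W) :
    ∃ W' : Submodule F (Unit ⊕ (Fin m ⊕ Fin m) → F),
      IsNondegenerateOn (QuadraticMap.polar (quadFormOdd m F)) W' ∧
      Module.finrank F W + Module.finrank F W' = 2 * m + 1 ∧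
      subspaceStabilizer W ⊓ isometryGroup F (quadFormOdd m F) =
        subspaceStabilizer W' ⊓ isometryGroup F (quadFormOdd m F) := by
  have h2 : (2 : F) ≠ 0 := Cfsg.Agent.Lib.Helper50.two_ne_zero_of_odd_card rfl hodd
  have hdet : (Matrix.fromBlocks ((2 * (1 : F)) • (1 : Matrix Unit Unit F))
        (0 : Matrix Unit (Fin m ⊕ Fin m) F) (0 : Matrix (Fin m ⊕ Fin m) Unit F)
        (Matrix.fromBlocks (0 : Matrix (Fin m) (Fin m) F) (1 : Matrix (Fin m) (Fin m) F)
        (1 : Matrix (Fin m) (Fin m) F) (0 : Matrix (Fin m) (Fin m) F))).det ≠ 0 := by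
    rw [Cfsg.Agent.Lib.Helper50.det_odd_gram]
    exact mul_ne_zero (mul_ne_zero h2 one_ne_zero) (pow_ne_zero _ (neg_ne_zero.mpr one_ne_zero))
  have hQ : (QuadraticMap.polarBilin (Cfsg.Agent.Lib.Helper50.QOdd m F)).Nondegenerate :=
    Cfsg.Agent.Lib.Helper50.qfOfPolar_nondegenerate _ _ _ _ hdet
  have hcard : Fintype.card (Unit ⊕ (Fin m ⊕ Fin m)) = 2 * m + 1 := by
    simp; ring
  refine ⟨Cfsg.Agent.Lib.Helper43.orthC (Cfsg.Agent.Lib.Helper50.QOdd m F) W, ?_, ?_, ?_⟩
  · exact nondeg_orthC (Cfsg.Agent.Lib.Helper50.QOdd m F) hQ W hW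
  · rw [← hcard]
    exact Cfsg.Agent.Lib.Helper43.finrank_add_finrank_orthC _ hQ W
  · exact stab_inf_eq (Cfsg.Agent.Lib.Helper50.QOdd m F) hQ W

end Cfsg.Agent.Lib.Helper27.OOddMax
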