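import Mathlib
import Cfsg.Prelude.Def_GeometricClasses
import Cfsg.Agent.Lib.Helper43.OmegaNondeg1
import Cfsg.Agent.Lib.Helper50.GeoBridge
import Cfsg.Agent.Lib.Helper27.OOddMaxX1

set_option autoImplicit false
set_option linter.unusedSectionVars false
set_option linter.unusedVariables false

/-! K-OEvenX-X1: the orthogonal complement (for the polar form) of a non-degenerate subspace, for an arbitrary
non-degenerate quadratic form `Q : (ι → F) → F` in the function-level vocabulary of `Cfsg.Geo` (any characteristic). -/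

namespace Cfsg.Agent.Lib.Helper27.OEvenX

open Cfsg Cfsg.Geo Module
open scoped Matrix MatrixGroups

/-- General index type version. -/
theorem exists_perp_of_isNondegenerateOn' {F : Type*} [Field F] {ι : Type} [Fintype ι] [DecidableEq ι]
    (Q : (ι → F) → F) (hQ : IsNondegenerateQuadraticForm Q)
    (W : Submodule F (ι → F)) (hW : IsNondegenerateOn (QuadraticMap.polar Q) W) :
    ∃ W' : Submodule F (ι → F), IsNondegenerateOn (QuadraticMap.polar Q) W' ∧
      Module.finrank F W + Module.finrank F W' = Fintype.card ι ∧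
      subspaceStabilizer W ⊓ isometryGroup F Q = subspaceStabilizer W' ⊓ isometryGroup F Q ∧
      (∀ v, v ∈ W' ↔ ∀ w ∈ W, QuadraticMap.polar Q w v = 0) := by
  have hnd := Cfsg.Agent.Lib.Helper50.geoForm_nondegenerate Q hQ
  refine ⟨Cfsg.Agent.Lib.Helper43.orthC (Cfsg.Agent.Lib.Helper50.geoForm Q hQ) W, ?_, ?_, ?_, ?_⟩
  · exact Cfsg.Agent.Lib.Helper27.OOddMax.nondeg_orthC (Cfsg.Agent.Lib.Helper50.geoForm Q hQ) hnd W hW
  · exact Cfsg.Agent.Lib.Helper43.finrank_add_finrank_orthC _ hnd W
  · exact Cfsg.Agent.Lib.Helper27.OOddMax.stab_inf_eq (Cfsg.Agent.Lib.Helper50.geoForm Q hQ) hnd W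
  · intro v
    rw [Cfsg.Agent.Lib.Helper43.mem_orthC]
    rfl

variable {F : Type*} [Field F] [Fintype F] {n : ℕ}

/-- K-OEvenX-X1. -/
theorem exists_perp_of_isNondegenerateOn (Q : (Fin n → F) → F) (hQ : IsNondegenerateQuadraticForm Q)
    (W : Submodule F (Fin n → F)) (hW : IsNondegenerateOn (QuadraticMap.polar Q) W) :
    ∃ W' : Submodule F (Fin n → F), IsNondegenerateOn (QuadraticMap.polar Q) W' ∧
      Module.finrank F W + Module.finrank F W' = n ∧
      subspaceStabilizer W ⊓ isometryGroup F Q = subspaceStabilizer W' ⊓ isometryGroup F Q := by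
  obtain ⟨W', h1, h2, h3, -⟩ := exists_perp_of_isNondegenerateOn' Q hQ W hW
  refine ⟨W', h1, ?_, h3⟩
  rw [h2, Fintype.card_fin]

end Cfsg.Agent.Lib.Helper27.OEvenX
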