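import Mathlib
import Cfsg.Prelude.Def_GeometricClasses
import Cfsg.Agent.Lib.Helper50.GeoBridge
import Cfsg.Agent.Lib.Helper50.DecompAux
import Cfsg.Agent.Lib.Helper50.NonMaxPlane

/-!
# Pack O12 (S5871 / S5847), keystone 587103 (K-O12-X23)

`|F| = 3`: an orthogonal decomposition into plus-type planes.  In each plane the vectors of norm one are `± w_i`;
`W = span {w_i}` has dimension `t`, is non-degenerate, and is stabilised by `Stab D ⊓ I`.
-/

set_option autoImplicit false

namespace Cfsg.Agent.Lib.Helper27.O12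

open Cfsg Cfsg.Geo
open scoped Matrix Kronecker MatrixGroups

variable {F : Type*} [Field F] [Fintype F] {n : ℕ}

/-- in a plus-type plane over the field with three elements the vectors of norm one are `± w` -/
theorem exists_norm_one_of_plusPlane (Q : (Fin n → F) → F) (hQ : IsNondegenerateQuadraticForm Q)
    (hq : Fintype.card F = 3) (N : Submodule F (Fin n → F)) (hN : Module.finrank F N = 2)
    (hnd : IsNondegenerateOn (QuadraticMap.polar Q) N) (hplus : IsPlusTypeOn Q N) :
    ∃ w ∈ N, Q w = 1 ∧ ∀ v ∈ N, Q v = 1 → v = w ∨ v = -w := by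
  obtain ⟨e, f, he, hf, hQef, hspan⟩ :=
    Cfsg.Agent.Lib.Helper50.plane_coords (Cfsg.Agent.Lib.Helper50.geoForm Q hQ) N hN hnd hplus
  have hQef' : ∀ x y : F, Q (x • e + y • f) = x * y := hQef
  refine ⟨e + f, N.add_mem he hf, ?_, ?_⟩
  · have := hQef' 1 1
    rwa [one_smul, one_smul, mul_one] at this
  · intro v hv hQv
    obtain ⟨x, y, rfl⟩ := hspan v hv
    rw [hQef'] at hQv
    have hx0 : x ≠ 0 := by
      intro h
      rw [h, zero_mul] at hQv
      exact zero_ne_one hQv
    have hxx := Cfsg.Agent.Lib.Helper50.mul_self_eq_one_of_card_le_three (le_of_eq hq) x hx0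
    have hyx : y = x := by
      calc y = (x * x) * y := by rw [hxx, one_mul]
        _ = x * (x * y) := by ring
        _ = x := by rw [hQv, mul_one]
    rw [hyx]
    have h1 : (x - 1) * (x + 1) = 0 := by linear_combination hxx
    rcases mul_eq_zero.mp h1 with h | h
    · left
      have hx1 : x = 1 := by linear_combination h
      rw [hx1, one_smul, one_smul]
    · right
      have hx1 : x = -1 := by linear_combination h
      rw [hx1, neg_smul, neg_smul, one_smul, one_smul, neg_add]

/-- K-O12-X23 (587103). -/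
theorem planes_plus_card_three (Q : (Fin n → F) → F) (hQ : IsNondegenerateQuadraticForm Q)
    (hq : Fintype.card F = 3) {t : ℕ} (D : Fin t → Submodule F (Fin n → F))
    (hD : IsOrthogonalMDecomposition Q 2 D) (hp : ∀ i, IsPlusTypeOn Q (D i)) :
    ∃ W : Submodule F (Fin n → F), Module.finrank F W = t ∧
      IsNondegenerateOn (QuadraticMap.polar Q) W ∧
      decompositionStabilizer D ⊓ isometryGroup F Q ≤ subspaceStabilizer W := by
  classical
  have hex : ∀ i, ∃ w ∈ D i, Q w = 1 ∧ ∀ v ∈ D i, Q v = 1 → v = w ∨ v = -w := fun i =>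
    exists_norm_one_of_plusPlane Q hQ hq (D i) (hD.decomp.decomp.finrank_eq i)
      (hD.decomp.nondegenerate i) (hp i)
  choose w hwD hwQ hwU using hex
  have h3 : (3 : F) = 0 := by
    have := FiniteField.cast_card_eq_zero F
    rw [hq] at this
    exact_mod_cast this
  have h2 : (2 : F) ≠ 0 := by
    intro h
    have : (1 : F) = 0 := by linear_combination h3 - h
    exact one_ne_zero this
  have hQ0 : Q 0 = 0 := by
    have := hQ.smul 0 0
    simpa using this
  have hw0 : ∀ i, w i ≠ 0 := by
    intro i h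
    have := hwQ i
    rw [h, hQ0] at this
    exact zero_ne_one this
  have hli : LinearIndependent F w :=
    hD.decomp.decomp.indep.linearIndependent D hwD hw0
  have hself : ∀ i, QuadraticMap.polar Q (w i) (w i) = 2 := by
    intro i
    unfold QuadraticMap.polar
    rw [← two_smul F (w i), hQ.smul, hwQ]
    norm_num
  refine ⟨Submodule.span F (Set.range w), ?_, ?_, ?_⟩
  · rw [finrank_span_eq_card hli, Fintype.card_fin]
  · intro u hu hu0
    obtain ⟨c, rfl⟩ := (Submodule.mem_span_range_iff_exists_fun F).mp hu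
    obtain ⟨j, hj⟩ : ∃ j, c j ≠ 0 := by
      by_contra hcon
      apply hu0
      have hc : ∀ j, c j = 0 := fun j => by_contra fun h => hcon ⟨j, h⟩
      simp [hc]
    have hB : QuadraticMap.polar Q (w j) (∑ i, c i • w i) = c j * 2 := by
      have e1 : QuadraticMap.polar Q (w j) (∑ i, c i • w i) =
          QuadraticMap.polarBilin (Cfsg.Agent.Lib.Helper50.geoForm Q hQ) (w j) (∑ i, c i • w i) := rfl
      rw [e1, map_sum, Finset.sum_eq_single j]
      · rw [map_smul, smul_eq_mul]
        congr 1
        exact hself j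
      · intro i _ hij
        rw [map_smul, smul_eq_mul]
        have h0 : QuadraticMap.polar Q (w j) (w i) = 0 :=
          hD.decomp.orthogonal j i (Ne.symm hij) (w j) (hwD j) (w i) (hwD i)
        have e2 : QuadraticMap.polarBilin (Cfsg.Agent.Lib.Helper50.geoForm Q hQ) (w j) (w i) =
            QuadraticMap.polar Q (w j) (w i) := rfl
        rw [e2, h0, mul_zero]
      · intro h
        exact absurd (Finset.mem_univ j) h
    have hne : QuadraticMap.polar Q (w j) (∑ i, c i • w i) ≠ 0 := by
      rw [hB]
      exact mul_ne_zero hj h2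
    refine ⟨⟨w j, Submodule.subset_span ⟨j, rfl⟩, hne⟩, ⟨w j, Submodule.subset_span ⟨j, rfl⟩, ?_⟩⟩
    rw [QuadraticMap.polar_comm]
    exact hne
  · rintro g ⟨⟨σ, hσ⟩, hgI⟩
    have key : ∀ h : GL (Fin n) F, h ∈ decompositionStabilizer D → h ∈ isometryGroup F Q →
        ∀ v ∈ Submodule.span F (Set.range w),
          (h : Matrix (Fin n) (Fin n) F) *ᵥ v ∈ Submodule.span F (Set.range w) := by
      rintro h ⟨τ, hτ⟩ hI v hv
      have hiso : ∀ u, Q ((h : Matrix (Fin n) (Fin n) F) *ᵥ u) = Q u := fun u => hI u 0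
      have hle : (Submodule.span F (Set.range w)).map (Matrix.toLin' (h : Matrix (Fin n) (Fin n) F)) ≤
          Submodule.span F (Set.range w) := by
        rw [Submodule.map_span_le]
        rintro _ ⟨i, rfl⟩
        rw [Matrix.toLin'_apply]
        have h1 : (h : Matrix (Fin n) (Fin n) F) *ᵥ w i ∈ D (τ i) := by
          rw [← hτ i]
          exact ⟨w i, hwD i, Matrix.toLin'_apply _ _⟩
        have h2' : Q ((h : Matrix (Fin n) (Fin n) F) *ᵥ w i) = 1 := by rw [hiso, hwQ]
        rcases hwU (τ i) _ h1 h2' with h3' | h3'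
        · rw [h3']
          exact Submodule.subset_span ⟨τ i, rfl⟩
        · rw [h3']
          exact Submodule.neg_mem _ (Submodule.subset_span ⟨τ i, rfl⟩)
      have := hle ⟨v, hv, rfl⟩
      rwa [Matrix.toLin'_apply] at this
    rw [Cfsg.Agent.Lib.Helper50.mem_subspaceStabilizer_iff]
    intro v
    constructor
    · exact key g ⟨σ, hσ⟩ hgI v
    · intro hv
      have := key g⁻¹ (Subgroup.inv_mem _ ⟨σ, hσ⟩) (Subgroup.inv_mem _ hgI) _ hv
      rwa [Cfsg.Agent.Lib.Helper50.inv_mulVec_mulVec] at this

end Cfsg.Agent.Lib.Helper27.O12
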