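import Mathlib
import Cfsg.Prelude.Def_GeometricClasses
import Cfsg.Agent.Lib.Helper61.AschDefs
import Cfsg.Agent.Lib.Helper61.AschBasic
import Cfsg.Agent.Lib.Helper04.AschE3
import Cfsg.Agent.Lib.Helper46.AschOBasic
import Cfsg.Agent.Lib.Helper46.AschEDefs
import Cfsg.Agent.Lib.Helper36.SLMaxD2
import Cfsg.Agent.Lib.Helper72.AschC6
import Cfsg.Agent.Lib.Helper49.SubfieldGrp
import Cfsg.Agent.Lib.Helper90.AschOA2c

/-!
K-OEven-A2c (architect helper46): an orthogonal frame of isometric 1-spaces over a non-prime field gives the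
subfield class, in any dimension and any characteristic (in characteristic 2 the hypothesis is contradictory).
-/

set_option autoImplicit false
set_option linter.unusedSectionVars false
set_option linter.unusedVariables false

namespace Cfsg.Agent.Lib.Helper27.AschE

open Cfsg Cfsg.Geo Cfsg.Agent.Lib.Helper61.Asch Cfsg.Agent.Lib.Helper46.AschO Cfsg.Agent.Lib.Helper46.AschE
open scoped Matrix Kronecker MatrixGroups

variable {F : Type*} [Field F] [Fintype F] {n : ℕ}

/-- An orthogonal decomposition into non-degenerate lines forces odd characteristic. -/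
theorem two_ne_zero_of_orthogonal_lines (Q : (Fin n → F) → F) (hQ : IsNondegenerateQuadraticForm Q)
    (D : Fin n → Submodule F (Fin n → F)) (hD : IsOrthogonalMDecomposition Q 1 D) (hn : 0 < n) :
    (2 : F) ≠ 0 := by
  intro h2
  obtain ⟨a, v, ha, hvD, hQv, hspan, hpol⟩ :=
    Cfsg.Agent.Lib.Helper90.AschO.exists_frame_vectors Q hQ D hD hn
  let i₀ : Fin n := ⟨0, hn⟩
  have hv0 : v i₀ ≠ 0 := by
    intro h0
    apply ha
    rw [← hQv i₀, h0]
    have := hQ.smul 0 (0 : Fin n → F)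
    rw [zero_smul] at this
    rw [this]; ring
  obtain ⟨x, hx, hx0⟩ := (hD.decomp.nondegenerate i₀ _ (hvD i₀) hv0).1
  obtain ⟨c, hc⟩ := hspan i₀ x hx
  apply hx0
  rw [hc, hQ.polar_bilinear.smul_left, hpol, if_pos rfl, h2, zero_mul, mul_zero]

/-- K-OEven-A2c. -/
theorem egeom_of_frame (Q : (Fin n → F) → F) (hQ : IsNondegenerateQuadraticForm Q)
    (H : Subgroup (GL (Fin n) F)) (hH : H ≤ isometryGroup F Q)
    (t : ℕ) (D : Fin t → Submodule F (Fin n → F)) (hD : IsOrthogonalMDecomposition Q 1 D)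
    (hHD : H ≤ decompositionStabilizer D) (hp : ¬ (Fintype.card F).Prime) :
    EGeom Q (H ⊔ scalars (Fin n) F) := by
  classical
  have htn : t = n := by
    have := Cfsg.Agent.Lib.Helper36.SLMax.mul_eq_of_isMDecomposition D hD.decomp.decomp
    simpa using this
  subst htn
  have hn : 0 < t := by
    have := hD.decomp.decomp.two_le
    omega
  have h2 : (2 : F) ≠ 0 := two_ne_zero_of_orthogonal_lines Q hQ D hD hn
  obtain ⟨a, v, ha, hvD, hQv, hspan, hpol⟩ :=
    Cfsg.Agent.Lib.Helper90.AschO.exists_frame_vectors Q hQ D hD hn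
  have h2a : 2 * a ≠ 0 := mul_ne_zero h2 ha
  obtain ⟨G, hG⟩ : ∃ G : Matrix (Fin t) (Fin t) F, G = gramQ Q := ⟨_, rfl⟩
  obtain ⟨R, hR⟩ : ∃ R : Matrix (Fin t) (Fin t) F, R = Matrix.of v := ⟨_, rfl⟩
  have hRrow : ∀ i, R i = v i := fun i => by rw [hR]; rfl
  have hRGR : R * G * Rᵀ = Matrix.diagonal (fun _ => 2 * a) := by
    ext i j
    have h1 : (R * G * Rᵀ) i j = v i ⬝ᵥ (G *ᵥ v j) := by
      rw [Matrix.mul_assoc, ← hRrow i, ← hRrow j]
      rfl
    rw [h1, hG, ← polar_eq_gram hQ, hpol, Matrix.diagonal_apply]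
  have hdR : R.det ≠ 0 := by
    intro h0
    have h1 := congrArg Matrix.det hRGR
    rw [Matrix.det_mul, Matrix.det_mul, h0, zero_mul, zero_mul, Matrix.det_diagonal, Finset.prod_const] at h1
    exact pow_ne_zero _ h2a h1.symm
  have hdetP : (Rᵀ).det ≠ 0 := by
    rw [Matrix.det_transpose]
    exact hdR
  obtain ⟨P, hP⟩ : ∃ P : GL (Fin t) F, (P : Matrix (Fin t) (Fin t) F) = Rᵀ :=
    ⟨Matrix.GeneralLinearGroup.mkOfDetNeZero _ hdetP, rfl⟩
  have hPGP : (P : Matrix (Fin t) (Fin t) F)ᵀ * G * (P : Matrix (Fin t) (Fin t) F) =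
      Matrix.diagonal (fun _ => 2 * a) := by
    rw [hP, Matrix.transpose_transpose, hRGR]
  -- columns of P
  have hPcol : ∀ j, (P : Matrix (Fin t) (Fin t) F) *ᵥ Pi.single j 1 = v j := by
    intro j
    rw [Matrix.mulVec_single_one, hP]
    ext i
    simp [hR]
  obtain ⟨F₀, r, hr, -, hcard⟩ :=
    Cfsg.Agent.Lib.Helper72.Asch.exists_subfield_prime_index (⊥ : Subfield F)
      (Cfsg.Agent.Lib.Helper90.AschO.bot_ne_top_of_not_prime hp)
  refine ⟨subfieldSubgroup F₀ P,
    Or.inr (Or.inr (Or.inr (Or.inr (Or.inr (Or.inr (Or.inr (Or.inr (Or.inl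
      ⟨F₀, r, P, a⁻¹, hr, hcard, inv_ne_zero ha, ?_, rfl⟩)))))))), ?_⟩
  · -- the rational structure
    intro u hu
    change a⁻¹ * Q ((P : Matrix (Fin t) (Fin t) F) *ᵥ u) ∈ F₀
    rw [Q_eq_half hQ h2, polar_eq_gram hQ, ← hG]
    have h1 : ((P : Matrix (Fin t) (Fin t) F) *ᵥ u) ⬝ᵥ (G *ᵥ ((P : Matrix (Fin t) (Fin t) F) *ᵥ u)) =
        u ⬝ᵥ (((P : Matrix (Fin t) (Fin t) F)ᵀ * G * (P : Matrix (Fin t) (Fin t) F)) *ᵥ u) := by
      rw [Matrix.mul_assoc, ← Matrix.mulVec_mulVec, ← Matrix.mulVec_mulVec]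
      generalize G *ᵥ ((P : Matrix (Fin t) (Fin t) F) *ᵥ u) = w
      rw [Matrix.dotProduct_mulVec u, Matrix.vecMul_transpose]
    rw [h1, hPGP]
    have h3 : a⁻¹ * (2⁻¹ * (u ⬝ᵥ (Matrix.diagonal (fun _ : Fin t => 2 * a) *ᵥ u))) = ∑ i, u i * u i := by
      unfold dotProduct
      rw [Finset.mul_sum, Finset.mul_sum]
      refine Finset.sum_congr rfl fun i _ => ?_
      rw [Matrix.mulVec_diagonal]
      field_simp
    rw [h3]
    exact F₀.sum_mem fun i _ => F₀.mul_mem (hu i) (hu i)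
  · -- containment
    apply sup_le
    · intro h hh
      have hiso := (mem_isometryGroup_iff Q h).mp (hH hh)
      obtain ⟨σ, hσ⟩ := hHD hh
      have hact : ∀ j, ∃ c : F, (c = 1 ∨ c = -1) ∧
          (h : Matrix (Fin t) (Fin t) F) *ᵥ v j = c • v (σ j) := by
        intro j
        have hmem : (h : Matrix (Fin t) (Fin t) F) *ᵥ v j ∈ D (σ j) := by
          rw [← hσ j]
          exact Submodule.mem_map.mpr ⟨v j, hvD j, by rw [Matrix.toLin'_apply]⟩
        obtain ⟨c, hc⟩ := hspan (σ j) _ hmem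
        refine ⟨c, ?_, hc⟩
        have h1 := hiso (v j)
        rw [hc, hQ.smul, hQv, hQv] at h1
        have h3 : c ^ 2 = 1 := by
          apply mul_right_cancel₀ ha
          rw [h1, one_mul]
        have h4 : (c - 1) * (c + 1) = 0 := by linear_combination h3
        rcases mul_eq_zero.mp h4 with h5 | h5
        · left
          exact sub_eq_zero.mp h5
        · right
          exact eq_neg_of_add_eq_zero_left h5
      choose c hc hcv using hact
      have hcmem : ∀ j, c j ∈ F₀ := by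
        intro j
        rcases hc j with h5 | h5
        · rw [h5]; exact F₀.one_mem
        · rw [h5]; exact F₀.neg_mem F₀.one_mem
      have hA : ∀ i j, ((P⁻¹ * h * P : GL (Fin t) F) : Matrix (Fin t) (Fin t) F) i j ∈ F₀ := by
        intro i j
        have h1 : ((P⁻¹ * h * P : GL (Fin t) F) : Matrix (Fin t) (Fin t) F) *ᵥ Pi.single j 1 =
            c j • Pi.single (σ j) 1 := by
          rw [Units.val_mul, Units.val_mul, ← Matrix.mulVec_mulVec, ← Matrix.mulVec_mulVec, hPcol,
            hcv, Matrix.mulVec_smul, ← hPcol (σ j), Matrix.mulVec_mulVec,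
            ← Units.val_mul, inv_mul_cancel, Units.val_one, Matrix.one_mulVec]
        have h3 : ((P⁻¹ * h * P : GL (Fin t) F) : Matrix (Fin t) (Fin t) F) i j =
            (((P⁻¹ * h * P : GL (Fin t) F) : Matrix (Fin t) (Fin t) F) *ᵥ Pi.single j 1) i := by
          rw [Matrix.mulVec_single_one]
          rfl
        rw [h3, h1, Pi.smul_apply, Pi.single_apply, smul_eq_mul]
        split_ifs
        · exact F₀.mul_mem (hcmem j) F₀.one_mem
        · rw [mul_zero]; exact F₀.zero_mem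
      refine Subgroup.mem_map.mpr ⟨P⁻¹ * h * P,
        Subgroup.mem_sup_left (Cfsg.Agent.Lib.Helper49.mem_range_map_of_entries F₀ _ hA), ?_⟩
      change MulAut.conj P (P⁻¹ * h * P) = h
      rw [MulAut.conj_apply]
      group
    · intro z hz
      refine Subgroup.mem_map.mpr ⟨P⁻¹ * z * P, Subgroup.mem_sup_right ?_, ?_⟩
      · have := (scalars_normal (ι := Fin t) (F := F)).conj_mem z hz P⁻¹
        simpa using this
      · change MulAut.conj P (P⁻¹ * z * P) = z
        rw [MulAut.conj_apply]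
        group

end Cfsg.Agent.Lib.Helper27.AschE
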