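import Mathlib
import Cfsg.Prelude.Def_GeometricClasses
import Cfsg.Agent.Lib.Helper73.SU6FDefs
import Cfsg.Agent.Lib.Helper99.FieldSub

/-!
# S5802 pack 2, keystone 580205 (K-SU6-K0)

`|F| = 4`, `K` an adjoint-closed field subalgebra of degree 3 of `M_6(F)`: the self-adjoint elements of `K`
form the subfield with 8 elements, so they satisfy `a ^ 8 = a`.
-/

set_option autoImplicit false

namespace Cfsg.Agent.Lib.Helper27.SU6K

open Cfsg Cfsg.Geo Cfsg.Agent.Lib.Helper73.SU6
open Cfsg.Agent.Lib.Helper84.AschU (adj adj_adj adj_mul adj_apply adj_mem_of_isAdjointClosedFor)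
open scoped Matrix MatrixGroups

variable {F : Type*} [Field F] [Fintype F]

theorem adj_add' {n q : ℕ} (hF : Fintype.card F = q ^ 2) (M N : Matrix (Fin n) (Fin n) F) :
    adj hF (M + N) = adj hF M + adj hF N := by
  ext i j
  rw [Matrix.add_apply, adj_apply, adj_apply, adj_apply, Matrix.add_apply,
    Cfsg.Agent.Lib.Helper19.add_pow_q hF]

theorem adj_one' {n q : ℕ} (hF : Fintype.card F = q ^ 2) :
    adj hF (1 : Matrix (Fin n) (Fin n) F) = 1 := Cfsg.Agent.Lib.Helper46.hconj_one _

theorem adj_zero' {n q : ℕ} (hF : Fintype.card F = q ^ 2) :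
    adj hF (0 : Matrix (Fin n) (Fin n) F) = 0 := Cfsg.Agent.Lib.Helper46.hconj_zero _

theorem adj_smul' {n q : ℕ} (hF : Fintype.card F = q ^ 2) (c : F) (M : Matrix (Fin n) (Fin n) F) :
    adj hF (c • M) = c ^ q • adj hF M := by
  ext i j
  rw [Matrix.smul_apply, adj_apply, adj_apply, Matrix.smul_apply, smul_eq_mul, smul_eq_mul, mul_pow]

/-- A field with four elements has characteristic two. -/
theorem two_eq_zero_of_card_four (hF4 : Fintype.card F = 4) : (2 : F) = 0 := by
  have e2 := FiniteField.pow_card (2 : F)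
  have e3 := FiniteField.pow_card (3 : F)
  rw [hF4] at e2 e3
  linear_combination (-11 : F) * e2 + 2 * e3

/-- A field with four elements contains a primitive cube root of unity. -/
theorem exists_omega_of_card_four (hF4 : Fintype.card F = 4) : ∃ ω : F, ω ^ 2 + ω + 1 = 0 := by
  classical
  obtain ⟨ω, hω0, hω1⟩ : ∃ ω : F, ω ≠ 0 ∧ ω ≠ 1 := by
    by_contra hcon
    have hsub : (Finset.univ : Finset F) ⊆ {0, 1} := by
      intro x _
      by_contra hx
      simp only [Finset.mem_insert, Finset.mem_singleton, not_or] at hx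
      exact hcon ⟨x, hx.1, hx.2⟩
    have h1 := Finset.card_le_card hsub
    have h3 : ({0, 1} : Finset F).card ≤ 2 := Finset.card_le_two
    rw [Finset.card_univ, hF4] at h1
    omega
  refine ⟨ω, ?_⟩
  have e := FiniteField.pow_card ω
  rw [hF4] at e
  have h : ω * (ω - 1) * (ω ^ 2 + ω + 1) = 0 := by linear_combination e
  rcases mul_eq_zero.mp h with h | h
  · rcases mul_eq_zero.mp h with h | h
    · exact absurd h hω0
    · exact absurd (sub_eq_zero.mp h) hω1
  · exact h

/-- K-SU6-K0 -/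
theorem sa_pow_eight (hF : Fintype.card F = 2 ^ 2) (K : Subalgebra F (Matrix (Fin 6) (Fin 6) F))
    (hK : IsFieldSubalgebra 3 K) (hadj : IsAdjointClosedFor (hermForm 6 F 2) K)
    (a : Matrix (Fin 6) (Fin 6) F) (ha : IsSA hF K a) : a ^ 8 = a := by
  classical
  have hF4 : Fintype.card F = 4 := by rw [hF]; norm_num
  have h2 : (2 : F) = 0 := two_eq_zero_of_card_four hF4
  obtain ⟨ω, hω⟩ := exists_omega_of_card_four hF4
  have hω4 : ω ^ 4 = ω := by
    have e := FiniteField.pow_card ω
    rwa [hF4] at e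
  have hmemA : ∀ k ∈ K, adj hF k ∈ K := fun k hk => adj_mem_of_isAdjointClosedFor hF K hadj k hk
  letI : Field ↥K := (Cfsg.Agent.Lib.Helper99.FieldSub.isField K hK).toField
  haveI : Fintype ↥K := Fintype.ofFinite _
  have hcardK : Fintype.card ↥K = 64 := by
    rw [Module.card_eq_pow_finrank (K := F) (V := ↥K), hK.finrank_eq, hF4]
    norm_num
  -- the adjoint as a ring endomorphism of `K`
  let adjK : ↥K →+* ↥K :=
    { toFun := fun k => ⟨adj hF k.1, hmemA k.1 k.2⟩
      map_one' := Subtype.ext (adj_one' hF)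
      map_mul' := fun x y => Subtype.ext (by
        show adj hF (x.1 * y.1) = adj hF x.1 * adj hF y.1
        rw [adj_mul]
        exact hK.comm _ (hmemA y.1 y.2) _ (hmemA x.1 x.2))
      map_zero' := Subtype.ext (adj_zero' hF)
      map_add' := fun x y => Subtype.ext (adj_add' hF x.1 y.1) }
  let K₀ : Subfield ↥K := RingHom.eqLocusField adjK (RingHom.id ↥K)
  have hmem : ∀ k : ↥K, k ∈ K₀ ↔ adj hF k.1 = k.1 := by
    intro k
    show adjK k = (RingHom.id ↥K) k ↔ _
    rw [RingHom.id_apply, Subtype.ext_iff]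
    exact Iff.rfl
  have : Fintype ↥K₀ := Fintype.ofFinite _
  -- the bijection `K₀ × K₀ → K`, `(x, y) ↦ x + ω y`
  let g : ↥K₀ × ↥K₀ → ↥K := fun xy =>
    ⟨xy.1.1.1 + ω • xy.2.1.1, K.add_mem xy.1.1.2 (K.smul_mem xy.2.1.2 ω)⟩
  have hg : Function.Bijective g := by
    constructor
    · rintro ⟨x, y⟩ ⟨x', y'⟩ hxy
      have e1 : x.1.1 + ω • y.1.1 = x'.1.1 + ω • y'.1.1 := congrArg Subtype.val hxy
      have hx := (hmem x.1).mp x.2
      have hy := (hmem y.1).mp y.2
      have hx' := (hmem x'.1).mp x'.2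
      have hy' := (hmem y'.1).mp y'.2
      have e2 : x.1.1 + ω ^ 2 • y.1.1 = x'.1.1 + ω ^ 2 • y'.1.1 := by
        have := congrArg (adj hF) e1
        rwa [adj_add', adj_add', adj_smul', adj_smul', hx, hy, hx', hy'] at this
      have hyy : y.1.1 = y'.1.1 := by
        ext i j
        have f1 := congrFun (congrFun e1 i) j
        have f2 := congrFun (congrFun e2 i) j
        simp only [Matrix.add_apply, Matrix.smul_apply, smul_eq_mul] at f1 f2
        linear_combination (x.1.1 i j - x'.1.1 i j) * h2 + (y.1.1 i j - y'.1.1 i j) * hω - f1 - f2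
      have hxx : x.1.1 = x'.1.1 := by
        rw [hyy] at e1
        exact add_right_cancel e1
      have hX : x = x' := Subtype.ext (Subtype.ext hxx)
      have hY : y = y' := Subtype.ext (Subtype.ext hyy)
      rw [hX, hY]
    · intro k
      have hk1 : ω ^ 2 • k.1 + ω • adj hF k.1 ∈ K :=
        K.add_mem (K.smul_mem k.2 _) (K.smul_mem (hmemA k.1 k.2) _)
      have hk2 : k.1 + adj hF k.1 ∈ K := K.add_mem k.2 (hmemA k.1 k.2)
      have hx0 : (⟨_, hk1⟩ : ↥K) ∈ K₀ := by
        rw [hmem]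
        show adj hF (ω ^ 2 • k.1 + ω • adj hF k.1) = ω ^ 2 • k.1 + ω • adj hF k.1
        rw [adj_add', adj_smul', adj_smul', adj_adj, ← pow_mul, hω4, add_comm]
      have hy0 : (⟨_, hk2⟩ : ↥K) ∈ K₀ := by
        rw [hmem]
        show adj hF (k.1 + adj hF k.1) = k.1 + adj hF k.1
        rw [adj_add', adj_adj, add_comm]
      refine ⟨(⟨⟨_, hk1⟩, hx0⟩, ⟨⟨_, hk2⟩, hy0⟩), ?_⟩
      apply Subtype.ext
      show ω ^ 2 • k.1 + ω • adj hF k.1 + ω • (k.1 + adj hF k.1) = k.1
      ext i j
      simp only [Matrix.add_apply, Matrix.smul_apply, smul_eq_mul]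
      linear_combination k.1 i j * hω + (ω * adj hF k.1 i j - k.1 i j) * h2
  have hcard0 : Fintype.card ↥K₀ = 8 := by
    have h1 : Fintype.card (↥K₀ × ↥K₀) = Fintype.card ↥K := Fintype.card_of_bijective hg
    rw [Fintype.card_prod, hcardK] at h1
    have hle : Fintype.card ↥K₀ ≤ 64 := by
      rw [← hcardK]
      exact Fintype.card_le_of_injective _ Subtype.val_injective
    generalize Fintype.card ↥K₀ = c at h1 hle
    interval_cases c <;> omega
  -- Fermat in `K₀`
  have hpow := FiniteField.pow_card (⟨⟨a, ha.1⟩, (hmem ⟨a, ha.1⟩).mpr ha.2⟩ : ↥K₀)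
  rw [hcard0] at hpow
  have := congrArg (fun z : ↥K₀ => (z.1.1 : Matrix (Fin 6) (Fin 6) F)) hpow
  simpa using this

end Cfsg.Agent.Lib.Helper27.SU6K
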