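import Mathlib
import Cfsg.Agent.Lib.Helper17.PG7920Defs
import Cfsg.Agent.Lib.Helper23.SylowPerm

/-!
# S2490 pack, keystone 249003 (K-PG-SUCC)

If a finite group `G` has exactly `p + 1` Sylow `p`-subgroups, a Sylow `p`-subgroup `P` of order
`p` lies in a simple normal subgroup `N`, and a prime `r ≠ p` divides `|C_G(P)|`, then some
element of order `r` centralizes `N`.
-/

namespace Cfsg.Agent.Lib.Helper27.PG7920

open MulAction Subgroup

/-- A number `≤ p + 1` that is `1` modulo `p` is `1` or `p + 1`. -/
theorem eq_one_or_eq_succ_of_modEq_one {p f : ℕ} (hp : 2 ≤ p) (h1 : f ≡ 1 [MOD p])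
    (hle : f ≤ p + 1) : f = 1 ∨ f = p + 1 := by
  have hmod : f % p = 1 := by
    have : f % p = 1 % p := h1
    rw [this]
    exact Nat.mod_eq_of_lt (by omega)
  have hdm := Nat.div_add_mod f p
  rw [hmod] at hdm
  generalize f / p = q at hdm
  rcases Nat.lt_or_ge q 2 with hq | hq
  · have hq' : q = 0 ∨ q = 1 := by omega
    rcases hq' with h0 | h0
    · left
      rw [h0] at hdm
      omega
    · right
      rw [h0] at hdm
      omega
  · exfalso
    have : p * 2 ≤ p * q := Nat.mul_le_mul_left _ hq
    omega

/-- 249003 K-PG-SUCC. -/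
theorem exists_centralizing_of_card_sylow_eq_succ {G : Type*} [Group G] [Finite G]
    (p : ℕ) [Fact p.Prime] (N : Subgroup G) [N.Normal] (hN : IsSimpleGroup N)
    (P : Sylow p G) (hP : Nat.card (P : Subgroup G) = p) (hPN : (P : Subgroup G) ≤ N)
    (hn : Nat.card (Sylow p G) = p + 1) (r : ℕ) (hr : r.Prime) (hrp : r ≠ p)
    (hrC : r ∣ Nat.card (Subgroup.centralizer ((P : Subgroup G) : Set G))) :
    ∃ y : G, orderOf y = r ∧ ∀ x ∈ N, x * y = y * x := by
  classical
  have hp : p.Prime := Fact.out
  have hrF : Fact r.Prime := ⟨hr⟩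
  -- Cauchy in the centralizer
  obtain ⟨y0, hy0⟩ := exists_prime_orderOf_dvd_card' r hrC
  have hyord : orderOf (y0 : G) = r := by rw [Subgroup.orderOf_coe]; exact hy0
  have hyC : (y0 : G) ∈ centralizer ((P : Subgroup G) : Set G) := y0.2
  generalize (y0 : G) = y at hyord hyC
  -- fixed point counts
  have h1 := Cfsg.Agent.Lib.Helper23.SylowPerm.card_fixedBy_modEq_one p P y hyC
  have h2 := Cfsg.Agent.Lib.Helper23.SylowPerm.card_fixedBy_modEq_card p r y 1
    (by rw [hyord, pow_one])
  have hfle : Nat.card (fixedBy (Sylow p G) y) ≤ p + 1 := by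
    rw [← hn]
    exact Nat.card_le_card_of_injective Subtype.val Subtype.val_injective
  have hall : ∀ Q : Sylow p G, y • Q = Q := by
    rcases eq_one_or_eq_succ_of_modEq_one hp.two_le h1 hfle with hf | hf
    · exfalso
      rw [hf, hn] at h2
      have h3 : p ≡ 0 [MOD r] := by
        have : p + 1 ≡ 0 + 1 [MOD r] := by simpa using h2
        exact Nat.ModEq.add_right_cancel' 1 this
      have h4 : r ∣ p := (Nat.modEq_zero_iff_dvd).mp h3
      exact hrp ((Nat.prime_dvd_prime_iff_eq hr hp).mp h4)
    · intro Q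
      have hbij : Function.Bijective (Subtype.val : fixedBy (Sylow p G) y → Sylow p G) :=
        Function.Injective.bijective_of_nat_card_le Subtype.val_injective (by rw [hf, hn])
      obtain ⟨⟨Q', hQ'⟩, rfl⟩ := hbij.2 Q
      exact hQ'
  -- the kernel of the action
  have hKn : (MulAction.toPermHom G (Sylow p G)).ker.Normal := MonoidHom.normal_ker _
  have hyK : y ∈ (MulAction.toPermHom G (Sylow p G)).ker := by
    rw [MonoidHom.mem_ker]
    ext Q
    simp [hall Q]
  have hMn : ((MulAction.toPermHom G (Sylow p G)).ker.subgroupOf N).Normal :=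
    Subgroup.normal_subgroupOf
  have hdis : Disjoint (MulAction.toPermHom G (Sylow p G)).ker N := by
    rcases hMn.eq_bot_or_eq_top with h | h
    · exact Subgroup.subgroupOf_eq_bot.mp h
    · exfalso
      have hNK : N ≤ (MulAction.toPermHom G (Sylow p G)).ker := Subgroup.subgroupOf_eq_top.mp h
      have huniq : ∀ Q : Sylow p G, Q = P := by
        intro Q
        have hle : (P : Subgroup G) ≤ Q := by
          intro x hx
          have hxK := hNK (hPN hx)
          rw [MonoidHom.mem_ker] at hxK
          have hxQ : x • Q = Q := by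
            have := congrArg (fun e : Equiv.Perm (Sylow p G) => e Q) hxK
            simpa using this
          exact Cfsg.Agent.Lib.Helper23.SylowPerm.mem_of_mem_normalizer_of_mem_sylow p P Q x hx hxQ
        exact Sylow.ext (P.is_maximal' Q.isPGroup' hle)
      have hone : Nat.card (Sylow p G) = 1 := by
        rw [Nat.card_eq_one_iff_unique]
        exact ⟨⟨fun a b => (huniq a).trans (huniq b).symm⟩, ⟨P⟩⟩
      have := hp.two_le
      omega
  refine ⟨y, hyord, fun x hx => ?_⟩
  exact (Subgroup.commute_of_normal_of_disjoint _ _ hKn inferInstance hdis y x hyK hx).eq.symm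

end Cfsg.Agent.Lib.Helper27.PG7920
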