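import Mathlib
import Cfsg.Agent.Lib.Helper72.A4ODefs

/-! K-A4O (S4068) leaf L7: `odd_card_quotient_sylow`, `solvable_of_normal_sylow2`. -/

set_option autoImplicit false

namespace Cfsg.Agent.Lib.Helper27.A4O

open Cfsg.Agent.Lib.Helper72.A4O

universe u

theorem odd_card_quotient_sylow {G : Type u} [Group G] [Finite G] (P : Sylow 2 G)
    [(P : Subgroup G).Normal] : Odd (Nat.card (G ⧸ (P : Subgroup G))) := by
  haveI : Fact (Nat.Prime 2) := ⟨Nat.prime_two⟩
  rw [← Subgroup.index_eq_card]
  have h := P.not_dvd_index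
  rcases Nat.even_or_odd ((P : Subgroup G).index) with he | ho
  · exact absurd he.two_dvd h
  · exact ho

theorem solvable_of_normal_sylow2 {G : Type u} [Group G] [Finite G] (P : Sylow 2 G)
    [(P : Subgroup G).Normal] (hq : Group.IsSolvable (G ⧸ (P : Subgroup G))) : Group.IsSolvable G := by
  haveI : Fact (Nat.Prime 2) := ⟨Nat.prime_two⟩
  haveI hnil : Group.IsNilpotent (P : Subgroup G) := P.isPGroup'.isNilpotent
  haveI hPs : Group.IsSolvable (P : Subgroup G) := inferInstance
  haveI := hq
  exact Group.isSolvable_of_ker_le_range (P : Subgroup G).subtype (QuotientGroup.mk' (P : Subgroup G))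
    (by simp)

end Cfsg.Agent.Lib.Helper27.A4O
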