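import Mathlib
import Cfsg.Prelude.Def_CaseTheorems
import Cfsg.Agent.Lib.Helper29.PCore
import Cfsg.Agent.Lib.Helper01.SolvableNP
import Cfsg.Agent.Lib.Helper97.UniqueOrderP

/-! Solvable ambivalent groups with one class of involutions: the Sylow `2`-subgroups have a
unique involution (for S4061). -/

set_option autoImplicit false
set_option linter.style.haveILetI false
set_option linter.unusedSectionVars false

namespace Cfsg.Agent.Lib.Helper27

open Cfsg

section general

variable {H : Type*} [Group H]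

/-- powers of an element inverting `b` alternately centralize and invert `b` -/
theorem conj_pow_of_inverts {g b : H} (h : g * b * g⁻¹ = b⁻¹) (j : ℕ) :
    g ^ j * b * (g ^ j)⁻¹ = if Even j then b else b⁻¹ := by
  induction j with
  | zero => simp
  | succ j ih =>
    have h1 : g ^ (j + 1) * b * (g ^ (j + 1))⁻¹ = g * (g ^ j * b * (g ^ j)⁻¹) * g⁻¹ := by
      rw [pow_succ']; group
    rw [h1, ih]
    by_cases hj : Even j
    · have hj' : ¬ Even (j + 1) := by rw [Nat.even_add_one]; exact not_not.mpr hj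
      rw [if_pos hj, if_neg hj', h]
    · have hj' : Even (j + 1) := by rw [Nat.even_add_one]; exact hj
      rw [if_neg hj, if_pos hj']
      have h2 : g * b⁻¹ * g⁻¹ = (g * b * g⁻¹)⁻¹ := by group
      rw [h2, h, inv_inv]

/-- an element of odd order inverted by an element of odd order is trivial -/
theorem eq_one_of_odd_inverts {g b : H} (h : g * b * g⁻¹ = b⁻¹) (hg : Odd (orderOf g))
    (hb : Odd (orderOf b)) : b = 1 := by
  have h1 := conj_pow_of_inverts h (orderOf g)
  rw [pow_orderOf_eq_one, if_neg (Nat.not_even_iff_odd.mpr hg)] at h1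
  have h2 : b = b⁻¹ := by simpa using h1
  have h3 : b ^ 2 = 1 := by
    rw [pow_two]
    nth_rewrite 1 [h2]
    exact inv_mul_cancel b
  have h4 := orderOf_dvd_of_pow_eq_one h3
  have h5 : orderOf b = 1 := by
    rcases (Nat.dvd_prime Nat.prime_two).mp h4 with h | h
    · exact h
    · rw [h] at hb; exact absurd hb (by decide)
  exact orderOf_eq_one_iff.mp h5

/-- an element of odd order which is a `2`-element is trivial -/
theorem eq_one_of_odd_of_two_pow {b : H} (hb : Odd (orderOf b)) {j : ℕ} (h : b ^ (2 ^ j) = 1) :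
    b = 1 := by
  have h1 := orderOf_dvd_of_pow_eq_one h
  have h2 : (orderOf b).Coprime (2 ^ j) :=
    Nat.Coprime.pow_right _ (Nat.coprime_two_right.mpr hb)
  exact orderOf_eq_one_iff.mp (Nat.Coprime.eq_one_of_dvd h2 h1)

/-- **Jordan**: a finite group is not the union of the conjugates of a proper subgroup. -/
theorem exists_forall_conj_not_mem [Finite H] (C : Subgroup H) (hC : C ≠ ⊤) :
    ∃ g : H, ∀ x : H, x⁻¹ * g * x ∉ C := by
  classical
  by_contra hcon
  have hfix : ∀ g : H, ∃ x : H, x⁻¹ * g * x ∈ C := by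
    intro g
    by_contra h'
    exact hcon ⟨g, fun x hx => h' ⟨x, hx⟩⟩
  haveI : Fintype H := Fintype.ofFinite H
  haveI : Fintype (H ⧸ C) := Fintype.ofFinite _
  haveI : Fintype (Quotient (MulAction.orbitRel H (H ⧸ C))) := Fintype.ofFinite _
  have hB := MulAction.sum_card_fixedBy_eq_card_orbits_mul_card_group H (H ⧸ C)
  have horb : Fintype.card (Quotient (MulAction.orbitRel H (H ⧸ C))) = 1 := by
    rw [Fintype.card_eq_one_iff]
    refine ⟨Quotient.mk'' ((1 : H) : H ⧸ C), ?_⟩
    intro q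
    induction q using Quotient.inductionOn' with
    | h a =>
      apply Quotient.sound'
      exact MulAction.exists_smul_eq H _ _
  rw [horb, one_mul] at hB
  have hle : ∀ g ∈ (Finset.univ : Finset H), 1 ≤ Fintype.card (MulAction.fixedBy (H ⧸ C) g) := by
    intro g _
    obtain ⟨x, hx⟩ := hfix g
    apply Fintype.card_pos_iff.mpr
    refine ⟨⟨((x : H) : H ⧸ C), ?_⟩⟩
    rw [MulAction.mem_fixedBy]
    show (((g * x : H)) : H ⧸ C) = ((x : H) : H ⧸ C)
    rw [QuotientGroup.eq]
    have : (g * x)⁻¹ * x = (x⁻¹ * g * x)⁻¹ := by group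
    rw [this]
    exact C.inv_mem hx
  have hlt : ∃ g ∈ (Finset.univ : Finset H), 1 < Fintype.card (MulAction.fixedBy (H ⧸ C) g) := by
    refine ⟨1, Finset.mem_univ _, ?_⟩
    obtain ⟨y, hy⟩ : ∃ y : H, y ∉ C := by
      by_contra h'
      apply hC
      rw [eq_top_iff]
      intro y _
      by_contra hy
      exact h' ⟨y, hy⟩
    rw [Fintype.one_lt_card_iff]
    refine ⟨⟨((1 : H) : H ⧸ C), by rw [MulAction.mem_fixedBy, one_smul]⟩,
      ⟨((y : H) : H ⧸ C), by rw [MulAction.mem_fixedBy, one_smul]⟩, ?_⟩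
    intro heq
    have h1 := congrArg Subtype.val heq
    simp only at h1
    rw [QuotientGroup.eq] at h1
    apply hy
    simpa using h1
  have hsum := Finset.sum_lt_sum hle hlt
  rw [hB] at hsum
  simp at hsum

end general

section main

/-- In a finite solvable ambivalent group with `O(H) = 1` and one class of involutions there is at
most one involution. -/
theorem unique_involution_of_ambivalent {H : Type*} [Group H] [Finite H]
    (hs : Group.IsSolvable H) (hO : Cfsg.oddCore H = ⊥) (hamb : ∀ x : H, IsConj x x⁻¹)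
    (hone : ∀ s t : H, orderOf s = 2 → orderOf t = 2 → IsConj s t) :
    ∀ s t : H, orderOf s = 2 → orderOf t = 2 → s = t := by
  intro s t hs2 ht2
  by_contra hne
  haveI : Fact (Nat.Prime 2) := ⟨Nat.prime_two⟩
  haveI : Nontrivial H := ⟨⟨s, t, hne⟩⟩
  obtain ⟨p, hp, P, hPn, hPp, hP1⟩ :=
    Cfsg.Agent.Lib.Helper01.exists_normal_pSubgroup_of_solvable hs
  haveI := hPn
  haveI : Fact p.Prime := ⟨hp⟩
  have hp2 : p = 2 := by
    by_contra hp2
    have hcop : (Nat.card P).Coprime 2 := by
      obtain ⟨k, hk⟩ := hPp.exists_card_eq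
      rw [hk]
      exact Nat.Coprime.pow_left _ ((Nat.coprime_primes hp Nat.prime_two).mpr hp2)
    have hle := Cfsg.Agent.Lib.Helper29.normal_le_pPrimeCore 2 P hcop
    rw [show Cfsg.pPrimeCore 2 H = Cfsg.oddCore H from rfl, hO] at hle
    exact hP1 (le_bot_iff.mp hle)
  subst hp2
  obtain ⟨v, hvP, hv2⟩ : ∃ v ∈ P, orderOf v = 2 := by
    have hcard : 2 ∣ Nat.card P := by
      obtain ⟨k, hk⟩ := hPp.exists_card_eq
      have hk0 : k ≠ 0 := by
        intro h0
        rw [h0, pow_zero] at hk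
        exact hP1 (Subgroup.card_eq_one.mp hk)
      rw [hk]; exact dvd_pow_self 2 hk0
    obtain ⟨w, hw⟩ := exists_prime_orderOf_dvd_card' 2 hcard
    exact ⟨w, w.2, by rw [← hw, Subgroup.orderOf_coe]⟩
  have hall : ∀ i : H, orderOf i = 2 → i ∈ P := by
    intro i hi
    obtain ⟨c, hc⟩ := isConj_iff.mp (hone v i hv2 hi)
    rw [← hc]; exact hPn.conj_mem v hvP c
  have hCtop : Subgroup.centralizer ({s} : Set H) ≠ ⊤ := by
    intro htop
    obtain ⟨c, hc⟩ := isConj_iff.mp (hone s t hs2 ht2)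
    have hcm : c ∈ Subgroup.centralizer ({s} : Set H) := htop ▸ Subgroup.mem_top c
    have h1 := Subgroup.mem_centralizer_iff.mp hcm s rfl
    apply hne
    rw [← hc, ← h1]; group
  obtain ⟨b, hb⟩ := exists_forall_conj_not_mem _ hCtop
  have hbinv : ∀ i : H, orderOf i = 2 → i * b ≠ b * i := by
    intro i hi hcomm
    obtain ⟨x, hx⟩ := isConj_iff.mp (hone s i hs2 hi)
    apply hb x
    rw [Subgroup.mem_centralizer_iff]
    intro y hy
    rw [Set.mem_singleton_iff] at hy
    have hsx : y = x⁻¹ * i * x := by rw [hy, ← hx]; group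
    rw [hsx]
    calc x⁻¹ * i * x * (x⁻¹ * b * x) = x⁻¹ * (i * b) * x := by group
      _ = x⁻¹ * (b * i) * x := by rw [hcomm]
      _ = x⁻¹ * b * x * (x⁻¹ * i * x) := by group
  have hb1 : b ≠ 1 := by
    intro h1
    exact hbinv s hs2 (by rw [h1, mul_one, one_mul])
  have hbodd : Odd (orderOf b) := by
    by_contra hev
    rw [Nat.not_odd_iff_even, even_iff_two_dvd] at hev
    have hi : orderOf (b ^ (orderOf b / 2)) = 2 :=
      orderOf_pow_orderOf_div (orderOf_pos b).ne' hev
    exact hbinv _ hi (by rw [← pow_succ, ← pow_succ'])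
  obtain ⟨g, hg⟩ := isConj_iff.mp (hamb b)
  rcases Nat.even_or_odd (orderOf g) with hge | hgo
  · rw [even_iff_two_dvd] at hge
    set k := orderOf g / 2 with hk
    have hi : orderOf (g ^ k) = 2 := orderOf_pow_orderOf_div (orderOf_pos g).ne' hge
    have hconj := conj_pow_of_inverts hg k
    by_cases hke : Even k
    · rw [if_pos hke] at hconj
      apply hbinv _ hi
      calc g ^ k * b = g ^ k * b * (g ^ k)⁻¹ * g ^ k := by group
        _ = b * g ^ k := by rw [hconj]
    · rw [if_neg hke] at hconj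
      have hiP : g ^ k ∈ P := hall _ hi
      have hb2 : b ^ 2 ∈ P := by
        have h1 : b ^ 2 = b * g ^ k * b⁻¹ * (g ^ k)⁻¹ := by
          have h2 : b * g ^ k * b⁻¹ * (g ^ k)⁻¹ = b * (g ^ k * b * (g ^ k)⁻¹)⁻¹ := by group
          rw [h2, hconj, inv_inv, pow_two]
        rw [h1]
        exact P.mul_mem (hPn.conj_mem _ hiP b) (P.inv_mem hiP)
      obtain ⟨j, hj⟩ := hPp ⟨b ^ 2, hb2⟩
      have hj' : b ^ (2 ^ (j + 1)) = 1 := by
        have := congrArg Subtype.val hj
        rw [pow_succ', pow_mul]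
        simpa using this
      exact hb1 (eq_one_of_odd_of_two_pow hbodd hj')
  · exact hb1 (eq_one_of_odd_inverts hg hgo hbodd)

variable {G : Type*} [Group G] [Finite G]

/-- an involution modulo `O(G)` lifts to an involution -/
theorem exists_involution_lift (u : G ⧸ Cfsg.oddCore G) (hu : orderOf u = 2) :
    ∃ u' : G, orderOf u' = 2 ∧ (QuotientGroup.mk' (Cfsg.oddCore G)) u' = u := by
  haveI : Fact (Nat.Prime 2) := ⟨Nat.prime_two⟩
  obtain ⟨u₀, rfl⟩ := QuotientGroup.mk'_surjective (Cfsg.oddCore G) u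
  set O := Cfsg.oddCore G with hOdef
  set π := QuotientGroup.mk' O with hπ
  have hodd : Odd (Nat.card O) :=
    Nat.coprime_two_right.mp (Cfsg.Agent.Lib.Helper29.coprime_card_of_le_pPrimeCore 2 O le_rfl)
  have hu2 : π u₀ ^ 2 = 1 := by
    have := pow_orderOf_eq_one (π u₀)
    rwa [hu] at this
  have hmem : u₀ ^ 2 ∈ O := by
    rw [← QuotientGroup.ker_mk' O, MonoidHom.mem_ker, map_pow]; exact hu2
  have hpow : (u₀ ^ 2) ^ Nat.card O = 1 := by
    have := pow_card_eq_one' (G := O) (x := ⟨u₀ ^ 2, hmem⟩)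
    have h2 := congrArg Subtype.val this
    rw [Subgroup.coe_pow, Subgroup.coe_one] at h2
    exact h2
  have hπk : π (u₀ ^ Nat.card O) = π u₀ := by
    rw [map_pow, ← pow_mod_orderOf, hu, Nat.odd_iff.mp hodd, pow_one]
  refine ⟨u₀ ^ Nat.card O, ?_, hπk⟩
  apply orderOf_eq_prime
  · rw [← pow_mul, mul_comm, pow_mul]; exact hpow
  · intro h1
    rw [h1, map_one] at hπk
    rw [← hπk, orderOf_one] at hu
    omega

/-- an involution does not lie in `O(G)` -/
theorem involution_not_mem_oddCore {s : G} (hs : orderOf s = 2) : s ∉ Cfsg.oddCore G := by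
  haveI : Fact (Nat.Prime 2) := ⟨Nat.prime_two⟩
  intro hmem
  have hodd : Odd (Nat.card (Cfsg.oddCore G)) :=
    Nat.coprime_two_right.mp
      (Cfsg.Agent.Lib.Helper29.coprime_card_of_le_pPrimeCore 2 (Cfsg.oddCore G) le_rfl)
  have h1 : orderOf (⟨s, hmem⟩ : Cfsg.oddCore G) ∣ Nat.card (Cfsg.oddCore G) := orderOf_dvd_natCard _
  rw [← Subgroup.orderOf_coe] at h1
  simp only at h1
  rw [hs] at h1
  exact (Nat.not_even_iff_odd.mpr hodd) (even_iff_two_dvd.mpr h1)

/-- In a finite solvable ambivalent group with one class of involutions, a Sylow `2`-subgroup has at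
most one involution. -/
theorem sylow_unique_involution [hsol : Group.IsSolvable G] (hamb : ∀ x : G, IsConj x x⁻¹)
    (hone : ∀ s t : G, orderOf s = 2 → orderOf t = 2 → IsConj s t) (S : Sylow 2 G)
    (s t : G) (hs : s ∈ S) (ht : t ∈ S) (hs2 : orderOf s = 2) (ht2 : orderOf t = 2) : s = t := by
  haveI : Fact (Nat.Prime 2) := ⟨Nat.prime_two⟩
  set O := Cfsg.oddCore G with hOdef
  set π := QuotientGroup.mk' O with hπ
  have hodd : Odd (Nat.card O) :=
    Nat.coprime_two_right.mp (Cfsg.Agent.Lib.Helper29.coprime_card_of_le_pPrimeCore 2 O le_rfl)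
  have hOQ : Cfsg.oddCore (G ⧸ O) = ⊥ := Cfsg.Agent.Lib.Helper29.pPrimeCore_quotient_eq_bot 2
  have hambQ : ∀ x : G ⧸ O, IsConj x x⁻¹ := by
    intro x
    obtain ⟨x₀, rfl⟩ := QuotientGroup.mk'_surjective O x
    have := MonoidHom.map_isConj π (hamb x₀)
    rwa [map_inv] at this
  have honeQ : ∀ a b : G ⧸ O, orderOf a = 2 → orderOf b = 2 → IsConj a b := by
    intro a b ha hb
    obtain ⟨a', ha', rfl⟩ := exists_involution_lift a ha
    obtain ⟨b', hb', rfl⟩ := exists_involution_lift b hb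
    exact MonoidHom.map_isConj _ (hone a' b' ha' hb')
  have hord : ∀ x : G, orderOf x = 2 → orderOf (π x) = 2 := by
    intro x hx
    apply orderOf_eq_prime
    · have hx2 : x ^ 2 = 1 := by
        have := pow_orderOf_eq_one x
        rwa [hx] at this
      rw [← map_pow, hx2, map_one]
    · intro h1
      have : x ∈ O := by rw [← QuotientGroup.ker_mk' O, MonoidHom.mem_ker]; exact h1
      exact involution_not_mem_oddCore hx this
  have heq := unique_involution_of_ambivalent (H := G ⧸ O) inferInstance hOQ hambQ honeQ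
    (π s) (π t) (hord s hs2) (hord t ht2)
  have hmemO : s⁻¹ * t ∈ O := QuotientGroup.eq.mp heq
  have hmemS : s⁻¹ * t ∈ (S : Subgroup G) := (S : Subgroup G).mul_mem ((S : Subgroup G).inv_mem hs) ht
  obtain ⟨j, hj⟩ := S.2 ⟨s⁻¹ * t, hmemS⟩
  have hj' : (s⁻¹ * t) ^ (2 ^ j) = 1 := by
    have := congrArg Subtype.val hj
    simpa using this
  have hoddord : Odd (orderOf (s⁻¹ * t)) := by
    have h1 : orderOf (⟨s⁻¹ * t, hmemO⟩ : O) ∣ Nat.card O := orderOf_dvd_natCard _
    rw [← Subgroup.orderOf_coe] at h1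
    exact Odd.of_dvd_nat hodd h1
  have := eq_one_of_odd_of_two_pow hoddord hj'
  exact inv_mul_eq_one.mp this

end main

end Cfsg.Agent.Lib.Helper27
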