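import Mathlib
import Cfsg.Prelude.Def_CaseTheorems
import Cfsg.Agent.Lib.Helper27.Ambivalent

/-! Solvable ambivalent groups with one class of involutions: structure of the Sylow
`2`-subgroups (S4061). -/

set_option autoImplicit false
set_option linter.style.haveILetI false
set_option linter.unusedSectionVars false

namespace Cfsg.Agent.Lib.Helper27

open Cfsg

variable {G : Type*} [Group G] [Finite G]

/-- the transfer into a cyclic Sylow `2`-subgroup of an ambivalent group kills squares -/
theorem sq_eq_one_of_cyclic_sylow (hamb : ∀ x : G, IsConj x x⁻¹) (heven : 2 ∣ Nat.card G)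
    (S : Sylow 2 G) (hcyc : IsCyclic S) : ∀ s ∈ S, s ^ 2 = 1 := by
  haveI : Fact (Nat.Prime 2) := ⟨Nat.prime_two⟩
  have hmin : (Nat.card G).minFac = 2 := (Nat.minFac_eq_two_iff _).mpr heven
  have hNC := hcyc.normalizer_le_centralizer hmin
  intro s hs
  have hcomm : ∀ a b : S, a * b = b * a := fun a b =>
    Subtype.ext (hNC (Subgroup.le_normalizer b.2) a a.2)
  obtain ⟨c, hc⟩ := isConj_iff.mp (hamb s)
  have h1 : MonoidHom.transferSylow S hNC s⁻¹ = MonoidHom.transferSylow S hNC s := by
    rw [← hc, map_mul, map_mul, map_inv, hcomm (MonoidHom.transferSylow S hNC c), mul_inv_cancel_right]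
  have h2 : (MonoidHom.transferSylow S hNC s) ^ 2 = 1 := by
    rw [pow_two]
    nth_rewrite 1 [← h1]
    rw [map_inv, inv_mul_cancel]
  have h3 := MonoidHom.transferSylow_eq_pow S hNC s hs
  have h4 : (s ^ (S : Subgroup G).index) ^ 2 = 1 := by
    have := congrArg Subtype.val h2
    rw [h3] at this
    simpa using this
  obtain ⟨j, hj⟩ := S.2 ⟨s, hs⟩
  have hj' : s ^ (2 ^ j) = 1 := by
    have := congrArg Subtype.val hj
    simpa using this
  have hd1 : orderOf s ∣ 2 ^ j := orderOf_dvd_of_pow_eq_one hj'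
  have hd2 : orderOf s ∣ 2 * (S : Subgroup G).index := by
    apply orderOf_dvd_of_pow_eq_one
    rw [mul_comm, pow_mul]; exact h4
  have hodd : Odd (S : Subgroup G).index := by
    rw [← Nat.not_even_iff_odd, even_iff_two_dvd]
    exact S.not_dvd_index
  have hcop : (orderOf s).Coprime (S : Subgroup G).index :=
    Nat.Coprime.coprime_dvd_left hd1 (Nat.Coprime.pow_left _ (Nat.coprime_two_left.mpr hodd))
  have hd3 : orderOf s ∣ 2 := hcop.dvd_of_dvd_mul_right hd2
  exact orderOf_dvd_iff_pow_eq_one.mp hd3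

/-- a cyclic Sylow `2`-subgroup of an ambivalent group of even order has order `2` -/
theorem card_sylow_eq_two_of_cyclic (hamb : ∀ x : G, IsConj x x⁻¹) (heven : 2 ∣ Nat.card G)
    (S : Sylow 2 G) (hcyc : IsCyclic S) : Nat.card S = 2 := by
  haveI : Fact (Nat.Prime 2) := ⟨Nat.prime_two⟩
  have hsq := sq_eq_one_of_cyclic_sylow hamb heven S hcyc
  obtain ⟨σ, hσ⟩ := hcyc.exists_generator
  have h1 : orderOf σ = Nat.card S := orderOf_eq_card_of_forall_mem_zpowers hσ
  have h2 : σ ^ 2 = 1 := Subtype.ext (by simpa using hsq σ σ.2)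
  have h3 : Nat.card S ∣ 2 := by rw [← h1]; exact orderOf_dvd_of_pow_eq_one h2
  have h4 : 2 ∣ Nat.card S := by
    have := S.dvd_card_of_dvd_card heven
    exact this
  exact Nat.dvd_antisymm h3 h4

/-- first half of S4061 -/
theorem sylow_two_or_quaternion [hsol : Group.IsSolvable G] (hamb : ∀ x : G, IsConj x x⁻¹)
    (heven : 2 ∣ Nat.card G)
    (hone : ∀ s t : G, orderOf s = 2 → orderOf t = 2 → IsConj s t) (S : Sylow 2 G) :
    Nat.card S = 2 ∨ ∃ n : ℕ, Nonempty ((S : Subgroup G) ≃* QuaternionGroup (2 ^ (n + 1))) := by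
  haveI : Fact (Nat.Prime 2) := ⟨Nat.prime_two⟩
  by_cases hcyc : IsCyclic S
  · exact Or.inl (card_sylow_eq_two_of_cyclic hamb heven S hcyc)
  · have hU : Cfsg.Agent.Lib.Helper97.UniqueOrderP 2 ↥(S : Subgroup G) := by
      intro x y hx hy
      have hxy : (x : G) = (y : G) :=
        sylow_unique_involution hamb hone S x y x.2 y.2
          (by rw [Subgroup.orderOf_coe]; exact hx) (by rw [Subgroup.orderOf_coe]; exact hy)
      have : y = x := Subtype.ext hxy.symm
      rw [this]
      exact Subgroup.mem_zpowers x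
    obtain ⟨n, ⟨e⟩⟩ := Cfsg.Agent.Lib.Helper97.quaternion_of_uniqueOrderP_two S.2 hU hcyc
    rcases n with _ | n
    · exfalso
      apply hcyc
      haveI : IsCyclic (QuaternionGroup (2 ^ 0)) := by
        rw [pow_zero]; exact QuaternionGroup.quaternionGroup_one_isCyclic
      exact isCyclic_of_surjective e.symm.toMonoidHom e.symm.surjective
    · exact Or.inr ⟨n, ⟨e⟩⟩

/-- an involution acting without fixed points on a finite normal subgroup inverts it -/
theorem inverts_of_fixedPointFree (N : Subgroup G) [hN : N.Normal] (e : G) (he : e * e = 1)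
    (hfix : ∀ n ∈ N, e * n * e⁻¹ = n → n = 1) : ∀ n ∈ N, e * n * e⁻¹ = n⁻¹ := by
  classical
  have he' : e⁻¹ = e := inv_eq_of_mul_eq_one_right he
  -- the map `k ↦ k⁻¹ * (e k e⁻¹)` is injective on `N`
  let f : N → N := fun k => ⟨(k : G)⁻¹ * (e * k * e⁻¹), N.mul_mem (N.inv_mem k.2) (hN.conj_mem _ k.2 e)⟩
  have hinj : Function.Injective f := by
    intro k l hkl
    have h1 : (k : G)⁻¹ * (e * k * e⁻¹) = (l : G)⁻¹ * (e * l * e⁻¹) := congrArg Subtype.val hkl
    have h2 : e * ((l : G) * (k : G)⁻¹) * e⁻¹ = (l : G) * (k : G)⁻¹ := by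
      have h3 : e * ((l : G) * (k : G)⁻¹) * e⁻¹ = (e * l * e⁻¹) * (e * k * e⁻¹)⁻¹ := by group
      have h4 : e * (k : G) * e⁻¹ = (k : G) * ((l : G)⁻¹ * (e * l * e⁻¹)) := by
        rw [← h1]; group
      rw [h3, h4]; group
    have h5 := hfix _ (N.mul_mem l.2 (N.inv_mem k.2)) h2
    have h6 : (l : G) = k := by
      have := mul_inv_eq_one.mp h5
      exact this
    exact Subtype.ext h6.symm
  have hsurj : Function.Surjective f := Finite.surjective_of_injective hinj
  intro n hn
  obtain ⟨k, hk⟩ := hsurj ⟨n, hn⟩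
  have hk' : (k : G)⁻¹ * (e * k * e⁻¹) = n := congrArg Subtype.val hk
  rw [← hk']
  have : e * ((k : G)⁻¹ * (e * k * e⁻¹)) * e⁻¹ = (e * k * e⁻¹)⁻¹ * (e * e * k * (e * e)⁻¹) := by
    group
  rw [this, he]
  group

end Cfsg.Agent.Lib.Helper27

namespace Cfsg.Agent.Lib.Helper27

open Cfsg

variable {G : Type*} [Group G] [Finite G]

open scoped commutatorElement in
/-- an element of odd order of an ambivalent group is a commutator -/
theorem mem_commutator_of_odd (hamb : ∀ x : G, IsConj x x⁻¹) {x : G} (hx : Odd (orderOf x)) :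
    x ∈ commutator G := by
  obtain ⟨l, hl⟩ := hx
  set y := x ^ (l + 1) with hy
  have hy2 : y * y = x := by
    rw [hy, ← pow_add]
    have : l + 1 + (l + 1) = orderOf x + 1 := by omega
    rw [this, pow_succ, pow_orderOf_eq_one, one_mul]
  obtain ⟨c, hc⟩ := isConj_iff.mp (hamb y)
  have h1 : x = ⁅y, c⁆ := by
    rw [commutatorElement_def, ← hy2]
    have : y * c * y⁻¹ * c⁻¹ = y * (c * y * c⁻¹)⁻¹ := by group
    rw [this, hc, inv_inv]
  rw [h1, commutator_def]
  exact Subgroup.commutator_mem_commutator (Subgroup.mem_top y) (Subgroup.mem_top c)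

open scoped commutatorElement in
/-- second half of S4061 -/
theorem ambivalent_sylow_card_two (hamb : ∀ x : G, IsConj x x⁻¹) (heven : 2 ∣ Nat.card G)
    (S : Sylow 2 G) (hS2 : Nat.card S = 2) :
    (S : Subgroup G).IsComplement' (Cfsg.oddCore G) ∧ Cfsg.oddCore G = commutator G ∧
      ∀ t : G, t ∈ S → t ≠ 1 → ∀ x : G, x ∈ Cfsg.oddCore G → t * x * t⁻¹ = x⁻¹ := by
  haveI : Fact (Nat.Prime 2) := ⟨Nat.prime_two⟩
  have hcyc : IsCyclic S := isCyclic_of_prime_card hS2
  have hmin : (Nat.card G).minFac = 2 := (Nat.minFac_eq_two_iff _).mpr heven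
  have hNC := hcyc.normalizer_le_centralizer hmin
  have hcomm : ∀ a b : S, a * b = b * a := fun a b =>
    Subtype.ext (hNC (Subgroup.le_normalizer b.2) a a.2)
  have hcompl := hcyc.isComplement' hmin
  set K := (MonoidHom.transferSylow S hNC).ker with hK
  have hKodd : Odd (Nat.card K) := by
    rw [← Nat.not_even_iff_odd, even_iff_two_dvd]
    exact MonoidHom.not_dvd_card_ker_transferSylow S hNC
  have hoddO : Odd (Nat.card (Cfsg.oddCore G)) :=
    Nat.coprime_two_right.mp
      (Cfsg.Agent.Lib.Helper29.coprime_card_of_le_pPrimeCore 2 (Cfsg.oddCore G) le_rfl)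
  have hKO : K = Cfsg.oddCore G := by
    apply le_antisymm
    · exact Cfsg.Agent.Lib.Helper29.normal_le_pPrimeCore 2 K (Nat.coprime_two_right.mpr hKodd)
    · intro x hx
      rw [hK, MonoidHom.mem_ker]
      have h1 : orderOf (MonoidHom.transferSylow S hNC x) ∣ orderOf x := orderOf_map_dvd _ x
      have h2 : orderOf x ∣ Nat.card (Cfsg.oddCore G) := by
        have := orderOf_dvd_natCard (⟨x, hx⟩ : Cfsg.oddCore G)
        rwa [← Subgroup.orderOf_coe] at this
      have h3 : orderOf (MonoidHom.transferSylow S hNC x) ∣ 2 := by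
        have := orderOf_dvd_natCard (MonoidHom.transferSylow S hNC x)
        rwa [hS2] at this
      have h4 : Odd (orderOf (MonoidHom.transferSylow S hNC x)) :=
        Odd.of_dvd_nat hoddO (h1.trans h2)
      rcases (Nat.dvd_prime Nat.prime_two).mp h3 with h | h
      · exact orderOf_eq_one_iff.mp h
      · rw [h] at h4; exact absurd h4 (by decide)
  have hoddK : ∀ c ∈ K, Odd (orderOf c) := by
    intro c hc
    have := orderOf_dvd_natCard (⟨c, hc⟩ : K)
    rw [← Subgroup.orderOf_coe] at this
    exact Odd.of_dvd_nat hKodd this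
  refine ⟨?_, ?_, ?_⟩
  · rw [← hKO]; exact hcompl.symm
  · rw [← hKO]
    apply le_antisymm
    · intro x hx
      exact mem_commutator_of_odd hamb (hoddK x hx)
    · rw [commutator_def, Subgroup.commutator_le]
      intro g₁ _ g₂ _
      rw [hK, MonoidHom.mem_ker, map_commutatorElement, commutatorElement_def,
        hcomm (MonoidHom.transferSylow S hNC g₁), mul_inv_cancel_right, mul_inv_cancel]
  · intro t htS ht1 x hx
    rw [← hKO] at hx
    have ht2 : t * t = 1 := by
      have := pow_card_eq_one' (G := S) (x := ⟨t, htS⟩)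
      rw [hS2] at this
      have h2 := congrArg Subtype.val this
      rw [Subgroup.coe_pow, Subgroup.coe_one] at h2
      rw [← pow_two]; exact h2
    have htK : t ∉ K := by
      intro htK
      have h1 := hoddK t htK
      have h2 : orderOf t = 2 := orderOf_eq_prime (by rw [pow_two]; exact ht2) ht1
      rw [h2] at h1
      exact absurd h1 (by decide)
    have hidx : K.index = 2 := by rw [hcompl.symm.index_eq_card, hS2]
    haveI : K.Normal := by rw [hK]; infer_instance
    have hfix : ∀ c ∈ K, t * c * t⁻¹ = c → c = 1 := by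
      intro c hc hct
      obtain ⟨g, hg⟩ := isConj_iff.mp (hamb c)
      by_cases hgK : g ∈ K
      · exact eq_one_of_odd_inverts hg (hoddK g hgK) (hoddK c hc)
      · have hgt : g * t ∈ K := by
          rw [Subgroup.mul_mem_iff_of_index_two hidx]
          exact ⟨fun h => absurd h hgK, fun h => absurd h htK⟩
        have hinv : (g * t) * c * (g * t)⁻¹ = c⁻¹ := by
          have : (g * t) * c * (g * t)⁻¹ = g * (t * c * t⁻¹) * g⁻¹ := by group
          rw [this, hct, hg]
        exact eq_one_of_odd_inverts hinv (hoddK _ hgt) (hoddK c hc)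
    exact inverts_of_fixedPointFree K t ht2 hfix x hx

end Cfsg.Agent.Lib.Helper27
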