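import Cfsg.Agent.Lib.Helper16.ZJ
import Cfsg.Agent.Lib.Helper57.PStableAll
import Cfsg.Agent.Lib.Lead.CoatomSection
import Cfsg.Agent.Lib.Lead.ChiefEngel
import Cfsg.Agent.Lib.Helper20.KazComm
import Cfsg.Agent.Lib.Helper61.NilMax
import Cfsg.Agent.Lib.Helper97.ThompsonPN

/-!
# An axiomatic version of Glauberman's `ZJ`-theorem

For a family `𝒜` of abelian subgroups of a Sylow `p`-subgroup `P` of a finite group `G`, write `II 𝒜 R` for
the intersection of the members of `𝒜` contained in `R`.  Assuming an invariance property and a replacement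
property of the family, `II 𝒜 P` is normal in `G` when `G` is `p`-stable with `C_G(O_p(G)) ≤ O_p(G)`, `p` odd.
The proof follows `Cfsg.Agent.Lib.Helper16.ZJ.claimA`.
-/

set_option autoImplicit false

namespace Cfsg.Agent.Lib.Helper27.AxZJ

open scoped commutatorElement
open Cfsg.Agent.Lib.Helper16.ZJ (factor_of_pCore
  comm_mem_of_normalClosure normal_of_factor commutator_lt_self)

variable {G : Type*} [Group G]

/-- the intersection of the members of the family contained in `R` -/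
def II (𝒜 : Set (Subgroup G)) (R : Subgroup G) : Subgroup G := sInf {A | A ∈ 𝒜 ∧ A ≤ R}

theorem mem_II {𝒜 : Set (Subgroup G)} {R : Subgroup G} {x : G} :
    x ∈ II 𝒜 R ↔ ∀ A ∈ 𝒜, A ≤ R → x ∈ A := by
  unfold II
  rw [Subgroup.mem_sInf]
  constructor
  · intro h A hA hAR
    exact h A ⟨hA, hAR⟩
  · rintro h A ⟨hA, hAR⟩
    exact h A hA hAR

theorem II_le_of_mem {𝒜 : Set (Subgroup G)} {R A : Subgroup G} (hA : A ∈ 𝒜) (hAR : A ≤ R) :
    II 𝒜 R ≤ A := sInf_le ⟨hA, hAR⟩

theorem II_mono {𝒜 : Set (Subgroup G)} {R P : Subgroup G} (hRP : R ≤ P) : II 𝒜 P ≤ II 𝒜 R :=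
  sInf_le_sInf (fun _ hA => ⟨hA.1, hA.2.trans hRP⟩)

/-- the hypotheses on the family: abelian subgroups of `T`, invariance and replacement -/
structure Hyp (T : Subgroup G) (𝒜 : Set (Subgroup G)) : Prop where
  le : ∀ A ∈ 𝒜, A ≤ T
  comm : ∀ A ∈ 𝒜, IsMulCommutative ↥A
  ne : 𝒜.Nonempty
  inv : ∀ R : Subgroup G, R ≤ T → (∃ A ∈ 𝒜, A ≤ R) →
    ∀ n ∈ Subgroup.normalizer (R : Set G), ∀ x ∈ II 𝒜 R, n * x * n⁻¹ ∈ II 𝒜 R
  rep : ∀ B : Subgroup G, B ≤ T → ⁅⁅B, B⁆, B⁆ = ⊥ → (∃ A ∈ 𝒜, ⁅B, B⁆ ≤ A ∧ ¬ B ≤ A) →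
    ∃ A ∈ 𝒜, ⁅B, B⁆ ≤ A ∧ ¬ B ≤ A ∧ B ≤ Subgroup.normalizer (A : Set G)

theorem normalizer_le_normalizer_II {T : Subgroup G} {𝒜 : Set (Subgroup G)} (h : Hyp T 𝒜)
    {R : Subgroup G} (hR : R ≤ T) (hA : ∃ A ∈ 𝒜, A ≤ R) :
    Subgroup.normalizer (R : Set G) ≤ Subgroup.normalizer (II 𝒜 R : Set G) := by
  intro n hn
  rw [Subgroup.mem_normalizer_iff]
  intro x
  constructor
  · intro hx
    exact h.inv R hR hA n hn x hx
  · intro hx
    have := h.inv R hR hA n⁻¹ (Subgroup.inv_mem _ hn) _ hx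
    simpa [mul_assoc] using this

theorem II_comm {T : Subgroup G} {𝒜 : Set (Subgroup G)} (h : Hyp T 𝒜) {z w : G}
    (hz : z ∈ II 𝒜 T) (hw : w ∈ II 𝒜 T) : z * w = w * z := by
  obtain ⟨A₀, hA₀⟩ := h.ne
  have hzA := II_le_of_mem hA₀ (h.le A₀ hA₀) hz
  have hwA := II_le_of_mem hA₀ (h.le A₀ hA₀) hw
  have := (h.comm A₀ hA₀).is_comm.comm ⟨z, hzA⟩ ⟨w, hwA⟩
  exact congrArg Subtype.val this

theorem II_le {T : Subgroup G} {𝒜 : Set (Subgroup G)} (h : Hyp T 𝒜) : II 𝒜 T ≤ T := by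
  obtain ⟨A₀, hA₀⟩ := h.ne
  exact (II_le_of_mem hA₀ (h.le A₀ hA₀)).trans (h.le A₀ hA₀)

theorem II_commutator_eq_bot {T : Subgroup G} {𝒜 : Set (Subgroup G)} (h : Hyp T 𝒜) :
    ⁅II 𝒜 T, II 𝒜 T⁆ = ⊥ := by
  rw [Subgroup.commutator_eq_bot_iff_le_centralizer]
  intro z hz
  rw [Subgroup.mem_centralizer_iff]
  intro w hw
  exact II_comm h hw hz

theorem claimA [Finite G] {p : ℕ} [Fact p.Prime] {𝒜 : Set (Subgroup G)} (P : Sylow p G)
    (h : Hyp (P : Subgroup G) 𝒜)
    (hst : ∀ (V : Subgroup G) [V.Normal], IsPGroup p ↥V → Cfsg.IsPStableOn p V) :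
    ∀ (n : ℕ) (B : Subgroup G) [B.Normal], IsPGroup p ↥B → Nat.card ↥B ≤ n →
      (II 𝒜 (P : Subgroup G) ⊓ B).Normal := by
  intro n
  induction n with
  | zero =>
    intro B _ _ hcard
    have := Nat.card_pos (α := ↥B)
    omega
  | succ n ih =>
    intro B hBn hB hcard
    have hBP : B ≤ P := hB.le_sylow_of_normal P
    obtain ⟨A₀, hA₀⟩ := h.ne
    have hPW : (P : Subgroup G) ≤ Subgroup.normalizer (II 𝒜 (P : Subgroup G) : Set G) :=
      Subgroup.le_normalizer.trans
        (normalizer_le_normalizer_II h le_rfl ⟨A₀, hA₀, h.le A₀ hA₀⟩)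
    have hB₁B : Subgroup.normalClosure ((II 𝒜 (P : Subgroup G) ⊓ B : Subgroup G) : Set G) ≤ B :=
      Subgroup.normalClosure_le_normal (inf_le_right)
    have hZB₁ : II 𝒜 (P : Subgroup G) ⊓ B ≤
        Subgroup.normalClosure ((II 𝒜 (P : Subgroup G) ⊓ B : Subgroup G) : Set G) :=
      Subgroup.subset_normalClosure
    by_cases hlt : Subgroup.normalClosure ((II 𝒜 (P : Subgroup G) ⊓ B : Subgroup G) : Set G) = B
    swap
    · have hc1 : Nat.card ↥(Subgroup.normalClosure
          ((II 𝒜 (P : Subgroup G) ⊓ B : Subgroup G) : Set G)) ≤ n := by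
        by_contra hcon
        rw [not_le] at hcon
        exact hlt (Subgroup.eq_of_le_of_card_ge hB₁B (by omega))
      have := ih _ (hB.to_le hB₁B) hc1
      have heq : II 𝒜 (P : Subgroup G) ⊓ Subgroup.normalClosure
          ((II 𝒜 (P : Subgroup G) ⊓ B : Subgroup G) : Set G) = II 𝒜 (P : Subgroup G) ⊓ B :=
        le_antisymm (inf_le_inf_left _ hB₁B) (le_inf inf_le_left hZB₁)
      rw [heq] at this
      exact this
    · suffices hBW : B ≤ II 𝒜 (P : Subgroup G) by
        have : II 𝒜 (P : Subgroup G) ⊓ B = B := inf_eq_right.mpr hBW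
        rw [this]
        exact hBn
      by_cases hbot : B = ⊥
      · rw [hbot]
        exact bot_le
      have hB'lt : ⁅B, B⁆ < B := commutator_lt_self hB hbot
      have hB'B : ⁅B, B⁆ ≤ B := le_of_lt hB'lt
      have hc2 : Nat.card ↥⁅B, B⁆ ≤ n := by
        by_contra hcon
        rw [not_le] at hcon
        exact (ne_of_lt hB'lt) (Subgroup.eq_of_le_of_card_ge hB'B (by omega))
      have hN₀ : (II 𝒜 (P : Subgroup G) ⊓ ⁅B, B⁆).Normal := ih ⁅B, B⁆ (hB.to_le hB'B) hc2
      have h1 : ∀ z ∈ ((II 𝒜 (P : Subgroup G) ⊓ B : Subgroup G) : Set G), ∀ y ∈ B,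
          ⁅z, y⁆ ∈ II 𝒜 (P : Subgroup G) ⊓ ⁅B, B⁆ := by
        intro z hz y hy
        refine ⟨?_, Subgroup.commutator_mem_commutator hz.2 hy⟩
        have hyN := hPW (hBP hy)
        have : ⁅z, y⁆ = z * (y * z⁻¹ * y⁻¹) := by simp [commutatorElement_def, mul_assoc]
        rw [this]
        exact Subgroup.mul_mem _ hz.1
          ((Subgroup.mem_normalizer_iff.mp hyN _).mp (Subgroup.inv_mem _ hz.1))
      have h2 := comm_mem_of_normalClosure (N₀ := II 𝒜 (P : Subgroup G) ⊓ ⁅B, B⁆) (B := B) h1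
      have hB'W : ⁅B, B⁆ ≤ II 𝒜 (P : Subgroup G) := by
        rw [Subgroup.commutator_le]
        intro x hx y hy
        exact (h2 x (by rw [hlt]; exact hx) y hy).1
      -- `B` has class at most two
      have hcl : ⁅⁅B, B⁆, B⁆ = ⊥ := by
        have hB'n : (⁅B, B⁆ : Subgroup G).Normal := inferInstance
        have hCn : (Subgroup.centralizer ((⁅B, B⁆ : Subgroup G) : Set G)).Normal :=
          Subgroup.normal_centralizer
        have hle : II 𝒜 (P : Subgroup G) ⊓ B ≤
            Subgroup.centralizer ((⁅B, B⁆ : Subgroup G) : Set G) := by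
          intro z hz
          rw [Subgroup.mem_centralizer_iff]
          intro w hw
          exact II_comm h (hB'W hw) hz.1
        have hBc : B ≤ Subgroup.centralizer ((⁅B, B⁆ : Subgroup G) : Set G) := by
          conv_lhs => rw [← hlt]
          exact Subgroup.normalClosure_le_normal hle
        rw [Subgroup.commutator_comm, Subgroup.commutator_eq_bot_iff_le_centralizer]
        exact hBc
      by_contra hnot
      have hU : ∃ U ∈ 𝒜, ⁅B, B⁆ ≤ U ∧ ¬ B ≤ U := by
        by_contra hcon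
        apply hnot
        intro b hb
        rw [mem_II]
        intro A hA hAP
        by_contra hbA
        exact hcon ⟨A, hA, hB'W.trans (II_le_of_mem hA hAP), fun hBA => hbA (hBA hb)⟩
      obtain ⟨A, hAF, hA1, hA2, hA3⟩ := h.rep B hBP hcl hU
      have hAP : A ≤ (P : Subgroup G) := h.le A hAF
      have hquad : ∀ a ∈ A, ⁅⁅B, Subgroup.zpowers a⁆, Subgroup.zpowers a⁆ = ⊥ := by
        intro a ha
        have hza : Subgroup.zpowers a ≤ A := (Subgroup.zpowers_le).mpr ha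
        have h3 : ⁅B, Subgroup.zpowers a⁆ ≤ A := by
          rw [Subgroup.commutator_le]
          intro b hb x hx
          have hbN := hA3 hb
          have : ⁅b, x⁆ = (b * x * b⁻¹) * x⁻¹ := by simp [commutatorElement_def]
          rw [this]
          exact A.mul_mem ((Subgroup.mem_normalizer_iff.mp hbN _).mp (hza hx))
            (A.inv_mem (hza hx))
        rw [eq_bot_iff]
        have hAc := h.comm A hAF
        calc ⁅⁅B, Subgroup.zpowers a⁆, Subgroup.zpowers a⁆ ≤ ⁅A, A⁆ :=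
              Subgroup.commutator_mono h3 hza
          _ = ⊥ := Subgroup.commutator_eq_bot_iff_le_centralizer.mpr (Subgroup.le_centralizer A)
      have hCn : (Subgroup.centralizer (B : Set G)).Normal := Subgroup.normal_centralizer
      have hAL : A ≤ (Cfsg.pCore p (G ⧸ Subgroup.centralizer (B : Set G))).comap
          (QuotientGroup.mk' (Subgroup.centralizer (B : Set G))) :=
        fun a ha => hst B hB a (hquad a ha)
      have hfac := factor_of_pCore P (Subgroup.centralizer (B : Set G))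
      have hAR : A ≤ (P : Subgroup G) ⊓ (Cfsg.pCore p (G ⧸ Subgroup.centralizer (B : Set G))).comap
          (QuotientGroup.mk' (Subgroup.centralizer (B : Set G))) := le_inf hAP hAL
      have hRP : (P : Subgroup G) ⊓ (Cfsg.pCore p (G ⧸ Subgroup.centralizer (B : Set G))).comap
          (QuotientGroup.mk' (Subgroup.centralizer (B : Set G))) ≤ P := inf_le_left
      generalize (P : Subgroup G) ⊓ (Cfsg.pCore p (G ⧸ Subgroup.centralizer (B : Set G))).comap
          (QuotientGroup.mk' (Subgroup.centralizer (B : Set G))) = R at hfac hAR hRP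
      have hWWR : II 𝒜 (P : Subgroup G) ≤ II 𝒜 R := II_mono hRP
      have : (II 𝒜 R ⊓ B).Normal := by
        apply normal_of_factor
        intro g
        obtain ⟨n, hn, c, hc, rfl⟩ := hfac g
        refine ⟨n, ?_, c, ?_, rfl⟩
        · have hnW := normalizer_le_normalizer_II h hRP ⟨A, hAF, hAR⟩ hn
          rw [Subgroup.mem_normalizer_iff] at hnW ⊢
          intro h
          constructor
          · rintro ⟨h1, h2⟩
            exact ⟨(hnW h).mp h1, hBn.conj_mem h h2 n⟩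
          · rintro ⟨h1, h2⟩
            refine ⟨(hnW h).mpr h1, ?_⟩
            have := hBn.conj_mem _ h2 n⁻¹
            simpa [mul_assoc] using this
        · exact Subgroup.centralizer_le (fun _ hx => hx.2) hc
      have : B ≤ II 𝒜 R ⊓ B := by
        conv_lhs => rw [← hlt]
        apply Subgroup.normalClosure_le_normal
        exact fun z hz => ⟨hWWR hz.1, hz.2⟩
      exact hA2 ((this.trans inf_le_left).trans (II_le_of_mem hAF hAR))

theorem II_le_pCore [Finite G] {p : ℕ} [Fact p.Prime] {𝒜 : Set (Subgroup G)} (P : Sylow p G)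
    (h : Hyp (P : Subgroup G) 𝒜)
    (hc : Subgroup.centralizer (Cfsg.pCore p G : Set G) ≤ Cfsg.pCore p G)
    (hst : ∀ (V : Subgroup G) [V.Normal], IsPGroup p ↥V → Cfsg.IsPStableOn p V) :
    II 𝒜 (P : Subgroup G) ≤ Cfsg.pCore p G := by
  have hKn := Cfsg.Agent.Lib.Helper16.ZJ.pCore_normal (G := G) p
  have hKp := Cfsg.Agent.Lib.Helper16.ZJ.pCore_isPGroup (G := G) p
  have hKP := Cfsg.Agent.Lib.Helper16.ZJ.pCore_le_sylow P
  obtain ⟨A₀, hA₀⟩ := h.ne
  have hPW : (P : Subgroup G) ≤ Subgroup.normalizer (II 𝒜 (P : Subgroup G) : Set G) :=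
    Subgroup.le_normalizer.trans
      (normalizer_le_normalizer_II h le_rfl ⟨A₀, hA₀, h.le A₀ hA₀⟩)
  intro z hz
  have hquad : ⁅⁅Cfsg.pCore p G, Subgroup.zpowers z⁆, Subgroup.zpowers z⁆ = ⊥ := by
    have hzW : Subgroup.zpowers z ≤ II 𝒜 (P : Subgroup G) := (Subgroup.zpowers_le).mpr hz
    have h3 : ⁅Cfsg.pCore p G, Subgroup.zpowers z⁆ ≤ II 𝒜 (P : Subgroup G) := by
      rw [Subgroup.commutator_le]
      intro k hk x hx
      have hkN := hPW (hKP hk)
      have : ⁅k, x⁆ = (k * x * k⁻¹) * x⁻¹ := by simp [commutatorElement_def]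
      rw [this]
      exact Subgroup.mul_mem _ ((Subgroup.mem_normalizer_iff.mp hkN _).mp (hzW hx))
        (Subgroup.inv_mem _ (hzW hx))
    rw [eq_bot_iff, ← II_commutator_eq_bot h]
    exact Subgroup.commutator_mono h3 hzW
  have hmem := hst (Cfsg.pCore p G) hKp z hquad
  have hCn : (Subgroup.centralizer (Cfsg.pCore p G : Set G)).Normal := Subgroup.normal_centralizer
  have hLp : IsPGroup p ↥((Cfsg.pCore p (G ⧸ Subgroup.centralizer (Cfsg.pCore p G : Set G))).comap
      (QuotientGroup.mk' (Subgroup.centralizer (Cfsg.pCore p G : Set G)))) := by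
    apply IsPGroup.comap_of_ker_isPGroup (Cfsg.Agent.Lib.Helper16.ZJ.pCore_isPGroup p)
    rw [QuotientGroup.ker_mk']
    exact hKp.to_le hc
  have hLn : ((Cfsg.pCore p (G ⧸ Subgroup.centralizer (Cfsg.pCore p G : Set G))).comap
      (QuotientGroup.mk' (Subgroup.centralizer (Cfsg.pCore p G : Set G)))).Normal :=
    (Cfsg.Agent.Lib.Helper16.ZJ.pCore_normal p).comap _
  exact Cfsg.Agent.Lib.Helper16.ZJ.le_pCore hLn hLp hmem

/-- **axiomatic `ZJ`-theorem** -/
theorem II_normal [Finite G] {p : ℕ} [Fact p.Prime] {𝒜 : Set (Subgroup G)} (P : Sylow p G)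
    (h : Hyp (P : Subgroup G) 𝒜)
    (hc : Subgroup.centralizer (Cfsg.pCore p G : Set G) ≤ Cfsg.pCore p G)
    (hst : ∀ (V : Subgroup G) [V.Normal], IsPGroup p ↥V → Cfsg.IsPStableOn p V) :
    (II 𝒜 (P : Subgroup G)).Normal := by
  have h1 := II_le_pCore P h hc hst
  have hKn := Cfsg.Agent.Lib.Helper16.ZJ.pCore_normal (G := G) p
  have := claimA P h hst (Nat.card ↥(Cfsg.pCore p G)) (Cfsg.pCore p G) (Cfsg.Agent.Lib.Helper16.ZJ.pCore_isPGroup p) le_rfl
  rwa [inf_eq_left.mpr h1] at this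

end Cfsg.Agent.Lib.Helper27.AxZJ
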