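import Cfsg.Agent.Lib.Helper27.AxZJ

/-!
# The axiomatic `ZJ`-theorem when a Sylow `p`-subgroup is a maximal subgroup
-/

set_option autoImplicit false

namespace Cfsg.Agent.Lib.Helper27.AxZJ

variable {X : Type*} [Group X] [Finite X] {p : ℕ} [Fact p.Prime]

/-- if a Sylow `p`-subgroup (`p` odd) is a maximal subgroup then `X / O_p(X)` has a normal `p`-complement -/
theorem hasNormalPComplement_quotient_pCore_of_coatom (hp2 : p ≠ 2) (T : Sylow p X)
    (hT : IsCoatom (T : Subgroup X)) :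
    Cfsg.HasNormalPComplement p (X ⧸ Cfsg.pCore p X) := by
  haveI hHn : (Cfsg.pCore p X).Normal := Cfsg.Agent.Lib.Helper16.ZJ.pCore_normal p
  have hHT : Cfsg.pCore p X ≤ T := Cfsg.Agent.Lib.Helper16.ZJ.pCore_le_sylow T
  have hsurj : Function.Surjective (QuotientGroup.mk' (Cfsg.pCore p X)) :=
    QuotientGroup.mk'_surjective _
  let Tb : Sylow p (X ⧸ Cfsg.pCore p X) := T.mapSurjective hsurj
  have hTb : (Tb : Subgroup (X ⧸ Cfsg.pCore p X)) =
      (T : Subgroup X).map (QuotientGroup.mk' (Cfsg.pCore p X)) := Sylow.coe_mapSurjective _ _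
  have hco : IsCoatom (Tb : Subgroup (X ⧸ Cfsg.pCore p X)) := by
    rw [hTb]
    exact Cfsg.Agent.Lib.Lead.isCoatom_map_mk _ _ hHT hT
  have hnil : Group.IsNilpotent (Tb : Subgroup (X ⧸ Cfsg.pCore p X)) := Tb.2.isNilpotent
  obtain ⟨k, hk⟩ := IsPGroup.iff_card.mp Tb.2
  have hodd : Odd (Nat.card (Tb : Subgroup (X ⧸ Cfsg.pCore p X))) := by
    rw [hk]
    exact Odd.pow ((Fact.out : p.Prime).odd_of_ne_two hp2)
  have hcore : ∀ N : Subgroup (X ⧸ Cfsg.pCore p X), N.Normal →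
      N ≤ (Tb : Subgroup (X ⧸ Cfsg.pCore p X)) → N = ⊥ := by
    intro N hN hNT
    have h1 : N ≤ Cfsg.pCore p (X ⧸ Cfsg.pCore p X) :=
      Cfsg.Agent.Lib.Helper16.ZJ.le_pCore hN (Tb.2.to_le hNT)
    rw [Cfsg.Agent.Lib.Helper20.pCore_quotient_pCore_eq_bot] at h1
    exact eq_bot_iff.mpr h1
  obtain ⟨K, hKn, -, hKcard⟩ :=
    Cfsg.Agent.Lib.Helper61.exists_normal_complement_of_corefree
      (Tb : Subgroup (X ⧸ Cfsg.pCore p X)) hco hnil hodd hcore
  have e1 := Subgroup.card_mul_index (Tb : Subgroup (X ⧸ Cfsg.pCore p X))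
  have e2 := Subgroup.card_mul_index K
  have hpos : 0 < Nat.card (Tb : Subgroup (X ⧸ Cfsg.pCore p X)) := Nat.card_pos
  have hposK : 0 < Nat.card K := Nat.card_pos
  apply Cfsg.Agent.Lib.Helper97.pn_iff.mpr
  refine ⟨K, hKn, ?_, k, ?_⟩
  · have h1 : Nat.card K = (Tb : Subgroup (X ⧸ Cfsg.pCore p X)).index := by
      apply Nat.eq_of_mul_eq_mul_left hpos
      rw [e1, ← hKcard, mul_comm]
    rw [h1]
    exact ((Nat.Prime.coprime_iff_not_dvd Fact.out).mpr Tb.not_dvd_index).symm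
  · apply Nat.eq_of_mul_eq_mul_left hposK
    rw [e2, ← hKcard, hk]

/-- **axiomatic `ZJ`-theorem**, for a group with `C(O_p) ≤ O_p` in which a Sylow `p`-subgroup is maximal -/
theorem II_normal_of_coatom (hp2 : p ≠ 2) {𝒜 : Set (Subgroup X)} (T : Sylow p X)
    (hT : IsCoatom (T : Subgroup X)) (h : Hyp (T : Subgroup X) 𝒜)
    (hc : Subgroup.centralizer (Cfsg.pCore p X : Set X) ≤ Cfsg.pCore p X) :
    (II 𝒜 (T : Subgroup X)).Normal := by
  haveI hHn : (Cfsg.pCore p X).Normal := Cfsg.Agent.Lib.Helper16.ZJ.pCore_normal p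
  have hq := hasNormalPComplement_quotient_pCore_of_coatom hp2 T hT
  have hab : ∀ D : Sylow 2 X, IsMulCommutative D := fun D =>
    Cfsg.Agent.Lib.Lead.sylow_two_comm_of_coatom p hp2 hq T hT D
  exact II_normal T h hc (fun V _ hV =>
    Cfsg.Agent.Lib.Helper57.PStableAll.isPStableOn_of_sylow_two_comm hp2 hab V hV)

end Cfsg.Agent.Lib.Helper27.AxZJ
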