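import Cfsg.Agent.Lib.Helper27.AxZJ2
import Cfsg.Agent.Lib.Helper87.FusionRealized
import Cfsg.Agent.Lib.Helper89.FusionAut

/-!
# Transport of a family of abelian subgroups of `S` to a group containing a copy of `S`
-/

set_option autoImplicit false

namespace Cfsg.Agent.Lib.Helper27.AxZJ

open Cfsg Cfsg.FusionSystem
open Cfsg.Agent.Lib.Helper87 (push pull mem_push mem_pull push_le_range pull_le push_pull pull_push
  push_mono)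
open scoped commutatorElement

universe u v

variable {Ω : Type u} [Group Ω] {S : Subgroup Ω} {X : Type v} [Group X]

theorem mem_iI {𝒜 : Set (Subgroup Ω)} {Q : Subgroup Ω} {x : Ω} :
    x ∈ (⨅ A ∈ {A : Subgroup Ω | A ∈ 𝒜 ∧ A ≤ Q}, A) ↔ ∀ A ∈ 𝒜, A ≤ Q → x ∈ A := by
  simp only [Subgroup.mem_iInf, Set.mem_ofPred_eq, and_imp]

/-- the transported family -/
def fam (f : S →* X) (𝒜 : Set (Subgroup Ω)) : Set (Subgroup X) := {A' | ∃ A ∈ 𝒜, A' = push f A}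

theorem pull_mono' (f : S →* X) {P' Q' : Subgroup X} (h : P' ≤ Q') : pull f P' ≤ pull f Q' := by
  intro x hx
  obtain ⟨hxS, hx'⟩ := mem_pull.mp hx
  exact mem_pull.mpr ⟨hxS, h hx'⟩

theorem mem_II_fam {f : S →* X} (hf : Function.Injective f) {𝒜 : Set (Subgroup Ω)}
    (h𝒜 : ∀ A ∈ 𝒜, A ≤ S) {R' : Subgroup X} (hR' : R' ≤ f.range)
    (hex : ∃ A ∈ 𝒜, push f A ≤ R') {y : X} :
    y ∈ II (fam f 𝒜) R' ↔
      ∃ s : S, (s : Ω) ∈ (⨅ A ∈ {A : Subgroup Ω | A ∈ 𝒜 ∧ A ≤ pull f R'}, A) ∧ f s = y := by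
  constructor
  · intro hy
    obtain ⟨A₀, hA₀, hA₀R⟩ := hex
    have h1 := (mem_II.mp hy) (push f A₀) ⟨A₀, hA₀, rfl⟩ hA₀R
    obtain ⟨s, hs, rfl⟩ := mem_push.mp h1
    refine ⟨s, ?_, rfl⟩
    rw [mem_iI]
    intro A hA hAR
    have h2 : push f A ≤ R' := by
      have := push_mono f hAR
      rwa [push_pull f hR'] at this
    have h3 := (mem_II.mp hy) (push f A) ⟨A, hA, rfl⟩ h2
    obtain ⟨s', hs', hss'⟩ := mem_push.mp h3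
    have : s' = s := hf hss'
    rw [← this]
    exact hs'
  · rintro ⟨s, hs, rfl⟩
    rw [mem_II]
    rintro A' ⟨A, hA, rfl⟩ hAR
    rw [mem_iI] at hs
    have h1 : A ≤ pull f R' := by
      have := pull_mono' f hAR
      rwa [pull_push hf (h𝒜 A hA)] at this
    exact mem_push.mpr ⟨s, hs A hA h1, rfl⟩

theorem push_comm (f : S →* X) {A : Subgroup Ω} (hA : IsMulCommutative ↥A) :
    IsMulCommutative ↥(push f A) := by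
  refine ⟨⟨fun a b => ?_⟩⟩
  obtain ⟨s, hs, hsa⟩ := mem_push.mp a.2
  obtain ⟨t, ht, htb⟩ := mem_push.mp b.2
  apply Subtype.ext
  show (a : X) * (b : X) = (b : X) * (a : X)
  rw [← hsa, ← htb, ← map_mul, ← map_mul]
  congr 1
  apply Subtype.ext
  show (s : Ω) * (t : Ω) = (t : Ω) * (s : Ω)
  have := hA.is_comm.comm ⟨(s : Ω), hs⟩ ⟨(t : Ω), ht⟩
  exact congrArg (fun z : ↥A => (z : Ω)) this

/-- transport of the replacement property -/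
theorem rep_fam {f : S →* X} (hf : Function.Injective f) {𝒜 : Set (Subgroup Ω)}
    (h𝒜 : ∀ A ∈ 𝒜, A ≤ S)
    (hrep : ∀ B : Subgroup Ω, B ≤ S → ⁅⁅B, B⁆, B⁆ = ⊥ → (∃ A ∈ 𝒜, ⁅B, B⁆ ≤ A ∧ ¬ B ≤ A) →
      ∃ A ∈ 𝒜, ⁅B, B⁆ ≤ A ∧ ¬ B ≤ A ∧ B ≤ Subgroup.normalizer (A : Set Ω))
    (B' : Subgroup X) (hB' : B' ≤ f.range) (hcl : ⁅⁅B', B'⁆, B'⁆ = ⊥)
    (hex : ∃ A' ∈ fam f 𝒜, ⁅B', B'⁆ ≤ A' ∧ ¬ B' ≤ A') :
    ∃ A' ∈ fam f 𝒜, ⁅B', B'⁆ ≤ A' ∧ ¬ B' ≤ A' ∧ B' ≤ Subgroup.normalizer (A' : Set X) := by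
  have hsub : Function.Injective S.subtype := S.subtype_injective
  have hBS : (B'.comap f).map f = B' := Subgroup.map_comap_eq_self hB'
  have hc1 : ⁅B', B'⁆ = (⁅B'.comap f, B'.comap f⁆).map f := by
    rw [Subgroup.map_commutator, hBS]
  have hc2 : ⁅(B'.comap f).map S.subtype, (B'.comap f).map S.subtype⁆ =
      (⁅B'.comap f, B'.comap f⁆).map S.subtype := by
    rw [Subgroup.map_commutator]
  have hBle : (B'.comap f).map S.subtype ≤ S := Subgroup.map_subtype_le _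
  have hcl' : ⁅⁅(B'.comap f).map S.subtype, (B'.comap f).map S.subtype⁆,
      (B'.comap f).map S.subtype⁆ = ⊥ := by
    have h1 : (⁅⁅B'.comap f, B'.comap f⁆, B'.comap f⁆).map f = ⊥ := by
      rw [Subgroup.map_commutator, Subgroup.map_commutator, hBS]
      exact hcl
    have h2 := (Subgroup.map_eq_bot_iff_of_injective _ hf).mp h1
    rw [← Subgroup.map_commutator, ← Subgroup.map_commutator, h2, Subgroup.map_bot]
  have hAS : ∀ A ∈ 𝒜, (A.subgroupOf S).map S.subtype = A := fun A hA =>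
    Subgroup.map_subgroupOf_eq_of_le (h𝒜 A hA)
  -- comparison lemmas
  have hcmp1 : ∀ A ∈ 𝒜, (⁅B', B'⁆ ≤ push f A ↔
      ⁅(B'.comap f).map S.subtype, (B'.comap f).map S.subtype⁆ ≤ A) := by
    intro A hA
    rw [hc1, hc2]
    conv_rhs => rw [← hAS A hA]
    rw [Subgroup.map_le_map_iff_of_injective hsub]
    unfold push
    rw [Subgroup.map_le_map_iff_of_injective hf]
  have hcmp2 : ∀ A ∈ 𝒜, (B' ≤ push f A ↔ (B'.comap f).map S.subtype ≤ A) := by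
    intro A hA
    conv_lhs => rw [← hBS]
    conv_rhs => rw [← hAS A hA]
    rw [Subgroup.map_le_map_iff_of_injective hsub]
    unfold push
    rw [Subgroup.map_le_map_iff_of_injective hf]
  obtain ⟨A', ⟨A, hA, rfl⟩, h1, h2⟩ := hex
  obtain ⟨A₂, hA₂, h3, h4, h5⟩ := hrep _ hBle hcl'
    ⟨A, hA, (hcmp1 A hA).mp h1, fun h => h2 ((hcmp2 A hA).mpr h)⟩
  refine ⟨push f A₂, ⟨A₂, hA₂, rfl⟩, (hcmp1 A₂ hA₂).mpr h3, fun h => h4 ((hcmp2 A₂ hA₂).mp h), ?_⟩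
  intro b' hb'
  rw [← hBS] at hb'
  obtain ⟨b, hb, rfl⟩ := hb'
  have hbn : (b : Ω) ∈ Subgroup.normalizer (A₂ : Set Ω) := h5 ⟨b, hb, rfl⟩
  have hbn' : b ∈ Subgroup.normalizer ((A₂.subgroupOf S : Subgroup S) : Set S) :=
    Subgroup.le_normalizer_comap S.subtype hbn
  exact Subgroup.le_normalizer_map f ⟨b, hbn', rfl⟩

/-- transport of the invariance property -/
theorem inv_fam [Finite S] (F : FusionSystem S) {f : S →* X} (hf : Function.Injective f)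
    {𝒜 : Set (Subgroup Ω)} (h𝒜 : ∀ A ∈ 𝒜, A ≤ S)
    (hinv : ∀ Q : Subgroup Ω, Q ≤ S → (∃ A ∈ 𝒜, A ≤ Q) → ∀ α ∈ F.autGroup Q, ∀ x : ↥Q,
      (x : Ω) ∈ (⨅ A ∈ {A : Subgroup Ω | A ∈ 𝒜 ∧ A ≤ Q}, A) →
      (((α : MulAut ↥Q) x : ↥Q) : Ω) ∈ (⨅ A ∈ {A : Subgroup Ω | A ∈ 𝒜 ∧ A ≤ Q}, A))
    (hconj : ∀ (R : Subgroup Ω) (hR : R ≤ S) (n : X),
      (∀ x : R, n * f ⟨x, hR x.2⟩ * n⁻¹ ∈ push f R) →
      ∃ φ ∈ F.Hom R, ∀ x : R, ∃ hφ : φ x ∈ S, f ⟨φ x, hφ⟩ = n * f ⟨x, hR x.2⟩ * n⁻¹)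
    (R' : Subgroup X) (hR' : R' ≤ f.range) (hex : ∃ A' ∈ fam f 𝒜, A' ≤ R')
    (n : X) (hn : n ∈ Subgroup.normalizer (R' : Set X)) (y : X) (hy : y ∈ II (fam f 𝒜) R') :
    n * y * n⁻¹ ∈ II (fam f 𝒜) R' := by
  obtain ⟨A', ⟨A₀, hA₀, rfl⟩, hA₀R⟩ := hex
  have hR : pull f R' ≤ S := pull_le f R'
  have hpp : push f (pull f R') = R' := push_pull f hR'
  have hA₀R' : A₀ ≤ pull f R' := by
    have := pull_mono' f hA₀R
    rwa [pull_push hf (h𝒜 A₀ hA₀)] at this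
  have hmemR' : ∀ x : ↥(pull f R'), f ⟨x, hR x.2⟩ ∈ R' := fun x => (mem_pull.mp x.2).2
  obtain ⟨φ, hφ, hφn⟩ := hconj (pull f R') hR n (fun x => by
    rw [hpp]
    exact (Subgroup.mem_normalizer_iff.mp hn _).mp (hmemR' x))
  have hfin : Finite ↥(pull f R') := Finite.of_injective (Subgroup.inclusion hR)
    (Subgroup.inclusion_injective hR)
  have hle : φ.range ≤ pull f R' := by
    rintro _ ⟨x, rfl⟩
    obtain ⟨h1, h2⟩ := hφn x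
    refine mem_pull.mpr ⟨h1, ?_⟩
    rw [h2]
    exact (Subgroup.mem_normalizer_iff.mp hn _).mp (hmemR' x)
  have hr : φ.range = pull f R' := by
    apply Subgroup.eq_of_le_of_card_ge hle
    have hinj := F.injective_of_mem hφ
    exact le_of_eq (Nat.card_congr (Equiv.ofInjective φ hinj))
  obtain ⟨α, hα, hαφ⟩ := Cfsg.Agent.Lib.Helper89.exists_aut_of_range_eq F hφ hr
  obtain ⟨s, hs, rfl⟩ := (mem_II_fam hf h𝒜 hR' ⟨A₀, hA₀, hA₀R⟩).mp hy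
  have hsR : (s : Ω) ∈ pull f R' := by
    rw [mem_iI] at hs
    exact hA₀R' (hs A₀ hA₀ hA₀R')
  have h1 := hinv (pull f R') hR ⟨A₀, hA₀, hA₀R'⟩ α hα ⟨(s : Ω), hsR⟩ hs
  rw [hαφ] at h1
  obtain ⟨h2, h3⟩ := hφn ⟨(s : Ω), hsR⟩
  refine (mem_II_fam hf h𝒜 hR' ⟨A₀, hA₀, hA₀R⟩).mpr ⟨⟨φ ⟨(s : Ω), hsR⟩, h2⟩, h1, ?_⟩
  rw [h3]

/-- the transported family satisfies the hypotheses of the axiomatic `ZJ`-theorem -/
theorem hyp_fam [Finite S] (F : FusionSystem S) {f : S →* X} (hf : Function.Injective f)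
    {𝒜 : Set (Subgroup Ω)} (h𝒜 : ∀ A ∈ 𝒜, A ≤ S ∧ IsMulCommutative ↥A) (hne : 𝒜.Nonempty)
    (hinv : ∀ Q : Subgroup Ω, Q ≤ S → (∃ A ∈ 𝒜, A ≤ Q) → ∀ α ∈ F.autGroup Q, ∀ x : ↥Q,
      (x : Ω) ∈ (⨅ A ∈ {A : Subgroup Ω | A ∈ 𝒜 ∧ A ≤ Q}, A) →
      (((α : MulAut ↥Q) x : ↥Q) : Ω) ∈ (⨅ A ∈ {A : Subgroup Ω | A ∈ 𝒜 ∧ A ≤ Q}, A))
    (hrep : ∀ B : Subgroup Ω, B ≤ S → ⁅⁅B, B⁆, B⁆ = ⊥ → (∃ A ∈ 𝒜, ⁅B, B⁆ ≤ A ∧ ¬ B ≤ A) →
      ∃ A ∈ 𝒜, ⁅B, B⁆ ≤ A ∧ ¬ B ≤ A ∧ B ≤ Subgroup.normalizer (A : Set Ω))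
    (hconj : ∀ (R : Subgroup Ω) (hR : R ≤ S) (n : X),
      (∀ x : R, n * f ⟨x, hR x.2⟩ * n⁻¹ ∈ push f R) →
      ∃ φ ∈ F.Hom R, ∀ x : R, ∃ hφ : φ x ∈ S, f ⟨φ x, hφ⟩ = n * f ⟨x, hR x.2⟩ * n⁻¹) :
    Hyp f.range (fam f 𝒜) where
  le := by
    rintro A' ⟨A, -, rfl⟩
    exact push_le_range f A
  comm := by
    rintro A' ⟨A, hA, rfl⟩
    exact push_comm f (h𝒜 A hA).2
  ne := by
    obtain ⟨A, hA⟩ := hne
    exact ⟨push f A, A, hA, rfl⟩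
  inv := fun R' hR' hex n hn y hy =>
    inv_fam F hf (fun A hA => (h𝒜 A hA).1) hinv hconj R' hR' hex n hn y hy
  rep := fun B' hB' hcl hex => rep_fam hf (fun A hA => (h𝒜 A hA).1) hrep B' hB' hcl hex

end Cfsg.Agent.Lib.Helper27.AxZJ
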