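import Cfsg.Agent.Lib.Helper27.AxZJFus
import Cfsg.Agent.Lib.Helper90.GTBasic
import Cfsg.Agent.Lib.Helper90.GTModel
import Cfsg.Agent.Lib.Helper90.ModelFusion
import Cfsg.Agent.S5332

/-!
# The axiomatic Glauberman–Thompson criterion for fusion systems
-/

set_option autoImplicit false

namespace Cfsg.Agent.Lib.Helper27.AxZJ

open Cfsg Cfsg.FusionSystem
open Cfsg.Agent.Lib.Helper87 (push pull mem_push mem_pull push_le_range pull_le push_pull pull_push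
  push_mono pullConj pullConj_mem ι_pullConj pullConj_mem_hom)
open Cfsg.Agent.Lib.Helper90.GT (NI)
open scoped commutatorElement

universe u

section groups

variable {G : Type*} [Group G]

theorem pn_of_isPGroup' [Finite G] {p : ℕ} [Fact p.Prime] (h : IsPGroup p G) :
    Cfsg.HasNormalPComplement p G := by
  apply Cfsg.Agent.Lib.Helper97.pn_iff.mpr
  obtain ⟨k, hk⟩ := IsPGroup.iff_card.mp h
  refine ⟨⊥, inferInstance, by simp, k, ?_⟩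
  rw [Subgroup.index_bot]
  exact hk

theorem exists_min_overgroup [Finite G] (T : Subgroup G) (hT : T ≠ ⊤) :
    ∃ H : Subgroup G, T < H ∧ ∀ M : Subgroup G, T < M → M ≤ H → M = H := by
  have hne : ({H : Subgroup G | T < H}).Nonempty := ⟨⊤, lt_top_iff_ne_top.mpr hT⟩
  obtain ⟨H, hH, hmin⟩ := Set.exists_min_image _ (fun H : Subgroup G => Nat.card H)
    (Set.toFinite _) hne
  exact ⟨H, hH, fun M hM hMH => Subgroup.eq_of_le_of_card_ge hMH (hmin M hM)⟩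

theorem isCoatom_subgroupOf_of_min {T H : Subgroup G} (hTH : T < H)
    (hmin : ∀ M : Subgroup G, T < M → M ≤ H → M = H) : IsCoatom (T.subgroupOf H) := by
  constructor
  · intro h
    exact not_le_of_gt hTH (Subgroup.subgroupOf_eq_top.mp h)
  · intro M hM
    have h1 : (T.subgroupOf H).map H.subtype < M.map H.subtype :=
      (Subgroup.map_lt_map_iff_of_injective H.subtype_injective).mpr hM
    rw [Subgroup.map_subgroupOf_eq_of_le hTH.le] at h1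
    have h2 := hmin _ h1 (Subgroup.map_subtype_le M)
    apply Subgroup.map_injective H.subtype_injective
    rw [h2, ← MonoidHom.range_eq_map, Subgroup.range_subtype]

theorem centralizer_pCore_le_of_le [Finite G] {p : ℕ} [Fact p.Prime]
    (hc : Subgroup.centralizer ((Cfsg.pCore p G : Subgroup G) : Set G) ≤ Cfsg.pCore p G)
    (H : Subgroup G) (hH : Cfsg.pCore p G ≤ H) :
    Subgroup.centralizer ((Cfsg.pCore p ↥H : Subgroup ↥H) : Set ↥H) ≤ Cfsg.pCore p ↥H := by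
  have hn : (Cfsg.pCore p G).Normal := Cfsg.Agent.Lib.Helper16.ZJ.pCore_normal p
  have hpg : IsPGroup p ↥(Cfsg.pCore p G) := Cfsg.Agent.Lib.Helper16.ZJ.pCore_isPGroup p
  have h1 : (Cfsg.pCore p G).subgroupOf H ≤ Cfsg.pCore p ↥H :=
    Cfsg.Agent.Lib.Helper16.ZJ.le_pCore (hn.subgroupOf H) hpg.comap_subtype
  intro x hx
  apply h1
  rw [Subgroup.mem_subgroupOf]
  apply hc
  rw [Subgroup.mem_centralizer_iff]
  intro q hq
  have hq' : (⟨q, hH hq⟩ : ↥H) ∈ Cfsg.pCore p ↥H := h1 (Subgroup.mem_subgroupOf.mpr hq)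
  have := Subgroup.mem_centralizer_iff.mp hx ⟨q, hH hq⟩ hq'
  exact congrArg Subtype.val this

end groups

variable {Ω : Type u} [Group Ω] {S : Subgroup Ω}

theorem mem_II_range_iff {X : Type*} [Group X] {f : S →* X} (hf : Function.Injective f)
    {𝒜 : Set (Subgroup Ω)} (s : S) :
    f s ∈ II (fam f 𝒜) f.range ↔ (s : Ω) ∈ (⨅ A ∈ 𝒜, A) := by
  rw [mem_II]
  simp only [Subgroup.mem_iInf]
  constructor
  · intro h A hA
    obtain ⟨s', hs', hss'⟩ := mem_push.mp (h (push f A) ⟨A, hA, rfl⟩ (push_le_range f A))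
    have : s' = s := hf hss'
    rw [← this]
    exact hs'
  · rintro h A' ⟨A, hA, rfl⟩ -
    exact mem_push.mpr ⟨s, h A hA, rfl⟩

set_option maxHeartbeats 800000 in
/-- **axiomatic Glauberman–Thompson criterion**: the hard direction -/
theorem inner_of_NI [Finite S] (p : ℕ) [Fact p.Prime] (hS : IsPGroup p ↥S) (F : FusionSystem S)
    (hF : F.IsSaturated p) (hp : p ≠ 2) (𝒜 : Set (Subgroup Ω))
    (h𝒜 : ∀ A ∈ 𝒜, A ≤ S ∧ IsMulCommutative ↥A) (hne : 𝒜.Nonempty)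
    (hinv : ∀ Q : Subgroup Ω, Q ≤ S → (∃ A ∈ 𝒜, A ≤ Q) → ∀ α ∈ F.autGroup Q, ∀ x : ↥Q,
      (x : Ω) ∈ (⨅ A ∈ {A : Subgroup Ω | A ∈ 𝒜 ∧ A ≤ Q}, A) →
      (((α : MulAut ↥Q) x : ↥Q) : Ω) ∈ (⨅ A ∈ {A : Subgroup Ω | A ∈ 𝒜 ∧ A ≤ Q}, A))
    (hrep : ∀ B : Subgroup Ω, B ≤ S → ⁅⁅B, B⁆, B⁆ = ⊥ → (∃ A ∈ 𝒜, ⁅B, B⁆ ≤ A ∧ ¬ B ≤ A) →
      ∃ A ∈ 𝒜, ⁅B, B⁆ ≤ A ∧ ¬ B ≤ A ∧ B ≤ Subgroup.normalizer (A : Set Ω))
    (hNI : NI F (⨅ A ∈ 𝒜, A)) :
    ∀ P : Subgroup Ω, F.Hom P = (innerFusionSystem S).Hom P := by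
  by_contra hcon
  rw [not_forall] at hcon
  obtain ⟨E, hEF, hEc, hEne⟩ := Cfsg.Agent.S5332.result p hS F hF hp hcon
  obtain ⟨hEsat, Q, hQn, hQc⟩ := hEc
  obtain ⟨G, _, ι, hM⟩ :=
    Cfsg.Agent.Lib.Helper90.ModelFusion.NC.exists_isModel ⟨hEsat, hQn, hQc⟩ hS
  obtain ⟨hfinG, hι, ⟨T, hT⟩, hcG⟩ := hM
  have hTtop : (T : Subgroup G) ≠ ⊤ := by
    intro htop
    have hGp : IsPGroup p G := by
      intro g
      obtain ⟨k, hk⟩ := T.2 ⟨g, by rw [htop]; trivial⟩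
      exact ⟨k, by simpa using congrArg Subtype.val hk⟩
    have h1 := Cfsg.Agent.Lib.Helper90.GT.inner_of_realized_of_hasNormalPComplement E hι T hT
      (pn_of_isPGroup' hGp)
    obtain ⟨P, hP⟩ := hEne
    exact hP (by rw [h1])
  obtain ⟨H, hTH, hmin⟩ := exists_min_overgroup (T : Subgroup G) hTtop
  have hTHc : ((T.subtype hTH.le : Sylow p ↥H) : Subgroup ↥H) = (T : Subgroup G).subgroupOf H :=
    Sylow.coe_subtype _ _
  have hco : IsCoatom ((T.subtype hTH.le : Sylow p ↥H) : Subgroup ↥H) := by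
    rw [hTHc]
    exact isCoatom_subgroupOf_of_min hTH hmin
  have hcH := centralizer_pCore_le_of_le hcG H
    ((Cfsg.Agent.Lib.Helper16.ZJ.pCore_le_sylow T).trans hTH.le)
  have hιH : ∀ s : S, ι s ∈ H := fun s => hTH.le (by rw [hT]; exact ⟨s, rfl⟩)
  have hf : Function.Injective (ι.codRestrict H hιH) := fun a b hab =>
    hι.1 (congrArg Subtype.val hab)
  have hfr : (ι.codRestrict H hιH).range = ((T.subtype hTH.le : Sylow p ↥H) : Subgroup ↥H) := by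
    rw [hTHc]
    ext x
    constructor
    · rintro ⟨s, rfl⟩
      rw [Subgroup.mem_subgroupOf]
      show ι s ∈ (T : Subgroup G)
      rw [hT]
      exact ⟨s, rfl⟩
    · intro hx
      rw [Subgroup.mem_subgroupOf, hT] at hx
      obtain ⟨s, hs⟩ := hx
      exact ⟨s, Subtype.ext hs⟩
  have hconj : ∀ (R : Subgroup Ω) (hR : R ≤ S) (n : ↥H),
      (∀ x : R, n * (ι.codRestrict H hιH) ⟨x, hR x.2⟩ * n⁻¹ ∈ push (ι.codRestrict H hιH) R) →
      ∃ φ ∈ F.Hom R, ∀ x : R, ∃ hφ : φ x ∈ S,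
        (ι.codRestrict H hιH) ⟨φ x, hφ⟩ = n * (ι.codRestrict H hιH) ⟨x, hR x.2⟩ * n⁻¹ := by
    intro R hR n hn
    have h' : ∀ x : R, (n : G) * ι ⟨x, hR x.2⟩ * (n : G)⁻¹ ∈ ι.range := by
      intro x
      obtain ⟨s, -, hs⟩ := mem_push.mp (hn x)
      exact ⟨s, congrArg Subtype.val hs⟩
    refine ⟨pullConj ι hι.1 R hR (n : G) h', hEF R (pullConj_mem_hom E hι R hR (n : G) h'),
      fun x => ⟨pullConj_mem ι hι.1 R hR (n : G) h' x, ?_⟩⟩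
    apply Subtype.ext
    exact ι_pullConj ι hι.1 R hR (n : G) h' x
  have hyp : Hyp (ι.codRestrict H hιH).range (fam (ι.codRestrict H hιH) 𝒜) :=
    hyp_fam F hf h𝒜 hne hinv hrep hconj
  generalize ι.codRestrict H hιH = f at hf hfr hconj hyp
  have hmemZ := fun s : S => mem_II_range_iff (𝒜 := 𝒜) hf s
  rw [hfr] at hyp hmemZ
  have hnorm := II_normal_of_coatom hp (T.subtype hTH.le) hco hyp hcH
  have hpn : (Cfsg.pCore p ↥H).Normal := Cfsg.Agent.Lib.Helper16.ZJ.pCore_normal p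
  have hpT : Cfsg.pCore p ↥H ≤ ((T.subtype hTH.le : Sylow p ↥H) : Subgroup ↥H) :=
    Cfsg.Agent.Lib.Helper16.ZJ.pCore_le_sylow _
  have hZ'Q : II (fam f 𝒜) ((T.subtype hTH.le : Sylow p ↥H) : Subgroup ↥H) ≤ Cfsg.pCore p ↥H :=
    Cfsg.Agent.Lib.Helper16.ZJ.le_pCore hnorm ((T.subtype hTH.le).2.to_le (II_le hyp))
  obtain ⟨A₀, hA₀⟩ := hne
  have hZS : (⨅ A ∈ 𝒜, A) ≤ S := (iInf₂_le A₀ hA₀).trans (h𝒜 A₀ hA₀).1
  -- conjugation by elements of `H` preserves `Z`, read in `S`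
  have hZconj : ∀ (n : ↥H) (s t : S), f t = n * f s * n⁻¹ → (s : Ω) ∈ (⨅ A ∈ 𝒜, A) →
      (t : Ω) ∈ (⨅ A ∈ 𝒜, A) := by
    intro n s t hst hs
    rw [← hmemZ] at hs ⊢
    rw [hst]
    exact hnorm.conj_mem _ hs n
  have hall : ∀ n : ↥H, n ∈ ((T.subtype hTH.le : Sylow p ↥H) : Subgroup ↥H) := by
    intro n
    have hQ'r : Cfsg.pCore p ↥H ≤ f.range := by rw [hfr]; exact hpT
    have hR : pull f (Cfsg.pCore p ↥H) ≤ S := pull_le f _
    have hpp : push f (pull f (Cfsg.pCore p ↥H)) = Cfsg.pCore p ↥H := push_pull f hQ'r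
    have hmemQ : ∀ x : ↥(pull f (Cfsg.pCore p ↥H)), f ⟨x, hR x.2⟩ ∈ Cfsg.pCore p ↥H :=
      fun x => (mem_pull.mp x.2).2
    obtain ⟨φ, hφ, hφn⟩ := hconj (pull f (Cfsg.pCore p ↥H)) hR n (fun x => by
      rw [hpp]
      exact hpn.conj_mem _ (hmemQ x) n)
    have hZQ : (⨅ A ∈ 𝒜, A) ≤ pull f (Cfsg.pCore p ↥H) := by
      intro z hz
      refine mem_pull.mpr ⟨hZS hz, hZ'Q ?_⟩
      rw [hmemZ]
      exact hz
    have hQN : pull f (Cfsg.pCore p ↥H) ≤ normalizerIn S (⨅ A ∈ 𝒜, A) := by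
      intro x hx
      suffices hxn : x ∈ Subgroup.normalizer (((⨅ A ∈ 𝒜, A : Subgroup Ω)) : Set Ω) from ⟨hR hx, hxn⟩
      rw [Subgroup.mem_normalizer_iff]
      intro z
      constructor
      · intro hz
        have h1 : f (⟨x, hR hx⟩ * ⟨z, hZS hz⟩ * ⟨x, hR hx⟩⁻¹) =
            (1 : ↥H) * f (⟨x, hR hx⟩ * ⟨z, hZS hz⟩ * ⟨x, hR hx⟩⁻¹) * (1 : ↥H)⁻¹ := by simp
        have hxz : (⟨x, hR hx⟩ * ⟨z, hZS hz⟩ * ⟨x, hR hx⟩⁻¹ : S) =
            ⟨x * z * x⁻¹, S.mul_mem (S.mul_mem (hR hx) (hZS hz)) (S.inv_mem (hR hx))⟩ := rfl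
        have h2 : f (⟨x * z * x⁻¹, S.mul_mem (S.mul_mem (hR hx) (hZS hz)) (S.inv_mem (hR hx))⟩ : S) =
            f ⟨x, hR hx⟩ * f ⟨z, hZS hz⟩ * (f ⟨x, hR hx⟩)⁻¹ := by
          rw [← hxz, map_mul, map_mul, map_inv]
        exact hZconj _ ⟨z, hZS hz⟩ _ h2 hz
      · intro hz
        have hxS : x ∈ S := hR hx
        have hzS : x * z * x⁻¹ ∈ S := hZS hz
        have hz' : z ∈ S := by
          have : z = x⁻¹ * (x * z * x⁻¹) * x := by group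
          rw [this]
          exact S.mul_mem (S.mul_mem (S.inv_mem hxS) hzS) hxS
        have h2 : f (⟨z, hz'⟩ : S) =
            (f ⟨x, hxS⟩)⁻¹ * f ⟨x * z * x⁻¹, hzS⟩ * ((f ⟨x, hxS⟩)⁻¹)⁻¹ := by
          rw [← map_inv, ← map_mul, ← map_inv, ← map_mul]
          congr 1
          apply Subtype.ext
          show z = x⁻¹ * (x * z * x⁻¹) * (x⁻¹)⁻¹
          group
        exact hZconj _ ⟨x * z * x⁻¹, hzS⟩ _ h2 hz
    have hfinZ : Finite ↥(⨅ A ∈ 𝒜, A) := Finite.of_injective (Subgroup.inclusion hZS)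
      (Subgroup.inclusion_injective hZS)
    have hmap : ((⨅ A ∈ 𝒜, A).subgroupOf (pull f (Cfsg.pCore p ↥H))).map φ = (⨅ A ∈ 𝒜, A) := by
      have hle : ((⨅ A ∈ 𝒜, A).subgroupOf (pull f (Cfsg.pCore p ↥H))).map φ ≤ (⨅ A ∈ 𝒜, A) := by
        rintro _ ⟨x, hx, rfl⟩
        obtain ⟨h1, h2⟩ := hφn x
        exact hZconj n ⟨x, hR x.2⟩ ⟨φ x, h1⟩ h2 (Subgroup.mem_subgroupOf.mp hx)
      apply Subgroup.eq_of_le_of_card_ge hle
      rw [Subgroup.card_map_of_injective (F.injective_of_mem hφ)]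
      exact le_of_eq (Nat.card_congr (Subgroup.subgroupOfEquivOfLe hZQ).toEquiv).symm
    obtain ⟨g, hg, hgφ⟩ := hNI _ φ hφ hZQ hQN hmap
    -- `(f g)⁻¹ n` centralizes `O_p(H)`
    have hcen : (f ⟨g, hg⟩)⁻¹ * n ∈
        Subgroup.centralizer ((Cfsg.pCore p ↥H : Subgroup ↥H) : Set ↥H) := by
      rw [Subgroup.mem_centralizer_iff]
      intro q' hq'
      rw [← hpp] at hq'
      obtain ⟨s, hs, rfl⟩ := mem_push.mp hq'
      obtain ⟨h1, h2⟩ := hφn ⟨(s : Ω), hs⟩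
      have h3 : f ⟨φ ⟨(s : Ω), hs⟩, h1⟩ = f ⟨g, hg⟩ * f s * (f ⟨g, hg⟩)⁻¹ := by
        rw [← map_inv, ← map_mul, ← map_mul]
        congr 1
        apply Subtype.ext
        exact hgφ ⟨(s : Ω), hs⟩
      have h4 : n * f s * n⁻¹ = f ⟨g, hg⟩ * f s * (f ⟨g, hg⟩)⁻¹ := by
        rw [← h3, h2]
      calc f s * ((f ⟨g, hg⟩)⁻¹ * n)
          = (f ⟨g, hg⟩)⁻¹ * (f ⟨g, hg⟩ * f s * (f ⟨g, hg⟩)⁻¹) * n := by group
        _ = (f ⟨g, hg⟩)⁻¹ * (n * f s * n⁻¹) * n := by rw [h4]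
        _ = (f ⟨g, hg⟩)⁻¹ * n * f s := by group
    have h5 := hpT (hcH hcen)
    have h6 : f ⟨g, hg⟩ ∈ ((T.subtype hTH.le : Sylow p ↥H) : Subgroup ↥H) := by
      rw [← hfr]
      exact ⟨_, rfl⟩
    have : n = f ⟨g, hg⟩ * ((f ⟨g, hg⟩)⁻¹ * n) := by group
    rw [this]
    exact Subgroup.mul_mem _ h6 h5
  exact hco.1 (eq_top_iff.mpr fun n _ => hall n)

end Cfsg.Agent.Lib.Helper27.AxZJ
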