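import Mathlib
import Cfsg.Agent.Lib.Helper55.BG1213a

/-!
# K-1383 pack (S1383, architect helper78), leaf E3 (keystone 138306), parallel hand of helper27:
a cyclic `p'`-group `K` acting on a nonabelian group `P` of order `p ^ 3` with `C_P(k) = Z` of order `p`
for all `k ≠ 1` and normalizing no line `⟨v⟩ Z` acts freely on the `p + 1` lines: `|K| ∣ p + 1`.
-/

set_option autoImplicit false
set_option linter.unusedSectionVars false

namespace Cfsg.Agent.Lib.Helper27.BG1383

open Cfsg

section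

variable {G : Type*} [Group G] [Finite G]

/-- commutators of a group of order `p ^ 3` are central -/
theorem e3_comm_of_mem_commutator (p : ℕ) [Fact p.Prime] (P : Subgroup G)
    (hP : Nat.card P = p ^ 3) {z x : G} (hz : z ∈ ⁅P, P⁆) (hx : x ∈ P) : z * x = x * z := by
  have h := Cfsg.Agent.Lib.Helper55.commutator_le_center_of_card_cube (p := p) (H := ↥P) hP
  rw [← Subgroup.map_subtype_commutator] at hz
  obtain ⟨c, hc, rfl⟩ := hz
  have hcz := h hc
  have := Subgroup.mem_center_iff.1 hcz ⟨x, hx⟩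
  exact (congrArg Subtype.val this).symm

/-- the line `⟨v⟩ Z` through `v ∉ Z` has order `p ^ 2` -/
theorem e3_card_line (p : ℕ) [Fact p.Prime] (P Z : Subgroup G) (hP : Nat.card P = p ^ 3)
    (hPna : ¬ IsMulCommutative P) (hZP : Z ≤ P) (hZc : ∀ z ∈ Z, ∀ x ∈ P, z * x = x * z)
    (hZcard : Nat.card Z = p) (v : G) (hv : v ∈ P) (hvZ : v ∉ Z) :
    Nat.card (Subgroup.zpowers v ⊔ Z : Subgroup G) = p ^ 2 := by
  have hp : p.Prime := Fact.out
  set L : Subgroup G := Subgroup.zpowers v ⊔ Z with hL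
  have hLP : L ≤ P := sup_le ((Subgroup.zpowers_le).2 hv) hZP
  have hvL : v ∈ L := (le_sup_left : Subgroup.zpowers v ≤ L) (Subgroup.mem_zpowers v)
  have hZL : Z ≤ L := le_sup_right
  -- every element of `L` commutes with `v`
  have hLv : L ≤ Subgroup.centralizer ({v} : Set G) := by
    refine sup_le ?_ ?_
    · rw [Subgroup.zpowers_le]
      rw [Subgroup.mem_centralizer_iff]
      intro h hh
      rw [Set.mem_singleton_iff] at hh
      rw [hh]
    · intro z hz
      rw [Subgroup.mem_centralizer_iff]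
      intro h hh
      rw [Set.mem_singleton_iff] at hh
      rw [hh]
      exact (hZc z hz v hv).symm
  -- `L` is commutative
  have hLL : L ≤ Subgroup.centralizer (L : Set G) := by
    refine sup_le ?_ ?_
    · rw [Subgroup.zpowers_le, Subgroup.mem_centralizer_iff]
      intro x hx
      have := Subgroup.mem_centralizer_iff.1 (hLv hx) v (Set.mem_singleton v)
      exact this.symm
    · intro z hz
      rw [Subgroup.mem_centralizer_iff]
      intro x hx
      exact (hZc z hz x (hLP hx)).symm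
  have hLneP : L ≠ P := by
    intro h
    apply hPna
    refine ⟨⟨fun a b => Subtype.ext ?_⟩⟩
    have ha : (a : G) ∈ L := h ▸ a.2
    have hb : (b : G) ∈ L := h ▸ b.2
    have := Subgroup.mem_centralizer_iff.1 (hLL hb) a ha
    exact this
  have hdvd : Nat.card L ∣ p ^ 3 := hP ▸ Subgroup.card_dvd_of_le hLP
  obtain ⟨i, hi3, hi⟩ := (Nat.dvd_prime_pow hp).1 hdvd
  have hlt : p < Nat.card L := by
    by_contra hcon
    have hle : Nat.card L ≤ Nat.card Z := by rw [hZcard]; omega
    have := Subgroup.eq_of_le_of_card_ge hZL hle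
    exact hvZ (this ▸ hvL)
  have hne3 : i ≠ 3 := by
    rintro rfl
    exact hLneP (Subgroup.eq_of_le_of_card_ge hLP (by rw [hi, hP]))
  have hne0 : i ≠ 0 := by
    rintro rfl
    rw [hi, pow_zero] at hlt
    have := hp.one_lt
    omega
  have hne1 : i ≠ 1 := by
    rintro rfl
    rw [hi, pow_one] at hlt
    omega
  have : i = 2 := by omega
  rw [hi, this]

/-- the type of lines: subgroups `L` with `Z ≤ L ≤ P` of order `p ^ 2` -/
def LineT (p : ℕ) (P Z : Subgroup G) : Type _ :=
  {L : Subgroup G // Z ≤ L ∧ L ≤ P ∧ Nat.card L = p ^ 2}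

instance (p : ℕ) (P Z : Subgroup G) : Finite (LineT p P Z) := by
  unfold LineT
  infer_instance

/-- a line is generated by `Z` and any of its elements outside `Z` -/
theorem e3_line_eq (p : ℕ) [Fact p.Prime] (P Z : Subgroup G) (hP : Nat.card P = p ^ 3)
    (hPna : ¬ IsMulCommutative P) (hZP : Z ≤ P) (hZc : ∀ z ∈ Z, ∀ x ∈ P, z * x = x * z)
    (hZcard : Nat.card Z = p) (L : LineT p P Z) (v : G) (hvL : v ∈ L.1) (hvZ : v ∉ Z) :
    Subgroup.zpowers v ⊔ Z = L.1 := by
  have hle : Subgroup.zpowers v ⊔ Z ≤ L.1 := sup_le ((Subgroup.zpowers_le).2 hvL) L.2.1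
  refine Subgroup.eq_of_le_of_card_ge hle ?_
  rw [L.2.2.2, e3_card_line p P Z hP hPna hZP hZc hZcard v (L.2.2.1 hvL) hvZ]

/-- conjugation by an element normalizing `P` and centralizing `Z` maps lines to lines -/
theorem e3_conj_line (p : ℕ) (P Z : Subgroup G) (k : G)
    (hkP : k ∈ Subgroup.normalizer (P : Set G)) (hkZ : ∀ z ∈ Z, k * z = z * k)
    (L : Subgroup G) (hL : Z ≤ L ∧ L ≤ P ∧ Nat.card L = p ^ 2) :
    Z ≤ L.map (MulAut.conj k).toMonoidHom ∧ L.map (MulAut.conj k).toMonoidHom ≤ P ∧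
      Nat.card (L.map (MulAut.conj k).toMonoidHom) = p ^ 2 := by
  refine ⟨?_, ?_, ?_⟩
  · intro z hz
    refine ⟨z, hL.1 hz, ?_⟩
    show k * z * k⁻¹ = z
    rw [hkZ z hz, mul_inv_cancel_right]
  · rintro x ⟨y, hy, rfl⟩
    show k * y * k⁻¹ ∈ P
    exact (Subgroup.mem_normalizer_iff.1 hkP y).1 (hL.2.1 hy)
  · rw [Subgroup.card_map_of_injective (MulAut.conj k).injective, hL.2.2]

/-- the action of `K` on the lines by conjugation -/
@[reducible] noncomputable def lineAction (p : ℕ) (P Z K : Subgroup G)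
    (hKP : K ≤ Subgroup.normalizer (P : Set G)) (hKZ : Z ≤ Subgroup.centralizer (K : Set G)) :
    MulAction K (LineT p P Z) where
  smul k L := ⟨L.1.map (MulAut.conj (k : G)).toMonoidHom,
    e3_conj_line p P Z (k : G) (hKP k.2)
      (fun z hz => Subgroup.mem_centralizer_iff.1 (hKZ hz) k k.2) L.1 L.2⟩
  one_smul L := by
    apply Subtype.ext
    show L.1.map (MulAut.conj ((1 : K) : G)).toMonoidHom = L.1
    ext x
    simp [Subgroup.mem_map]
  mul_smul k k' L := by
    apply Subtype.ext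
    show L.1.map (MulAut.conj ((k * k' : K) : G)).toMonoidHom =
      (L.1.map (MulAut.conj (k' : G)).toMonoidHom).map (MulAut.conj (k : G)).toMonoidHom
    ext x
    simp [Subgroup.mem_map, mul_assoc]

theorem lineAction_smul_val (p : ℕ) (P Z K : Subgroup G)
    (hKP : K ≤ Subgroup.normalizer (P : Set G)) (hKZ : Z ≤ Subgroup.centralizer (K : Set G))
    (k : K) (L : LineT p P Z) :
    ((lineAction p P Z K hKP hKZ).toSMul.smul k L).1 = L.1.map (MulAut.conj (k : G)).toMonoidHom :=
  rfl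

/-- there are `p + 1` lines -/
theorem e3_card_lines (p : ℕ) [Fact p.Prime] (P Z : Subgroup G) (hP : Nat.card P = p ^ 3)
    (hPna : ¬ IsMulCommutative P) (hZP : Z ≤ P) (hZc : ∀ z ∈ Z, ∀ x ∈ P, z * x = x * z)
    (hZcard : Nat.card Z = p) : Nat.card (LineT p P Z) = p + 1 := by
  classical
  have hp : p.Prime := Fact.out
  haveI : Fintype (LineT p P Z) := Fintype.ofFinite _
  let S : Type _ := ↥((P : Set G) \ (Z : Set G))
  let f : S → LineT p P Z := fun v =>
    ⟨Subgroup.zpowers v.1 ⊔ Z, le_sup_right, sup_le ((Subgroup.zpowers_le).2 v.2.1) hZP,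
      e3_card_line p P Z hP hPna hZP hZc hZcard v.1 v.2.1 v.2.2⟩
  have hS : Nat.card S = p ^ 3 - p := by
    show Nat.card ↥((P : Set G) \ (Z : Set G)) = _
    rw [Nat.card_coe_set_eq, Set.ncard_sdiff (by exact_mod_cast hZP) (Set.toFinite _),
      ← Nat.card_coe_set_eq, ← Nat.card_coe_set_eq]
    show Nat.card ↥P - Nat.card ↥Z = _
    rw [hP, hZcard]
  have hfib : ∀ L : LineT p P Z, Nat.card {x : S // f x = L} = p ^ 2 - p := by
    intro L
    have e : {x : S // f x = L} ≃ ↥((L.1 : Set G) \ (Z : Set G)) :=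
      { toFun := fun x => ⟨x.1.1, by
          have h : Subgroup.zpowers x.1.1 ⊔ Z = L.1 := congrArg Subtype.val x.2
          exact ⟨h ▸ (le_sup_left : Subgroup.zpowers x.1.1 ≤ Subgroup.zpowers x.1.1 ⊔ Z)
            (Subgroup.mem_zpowers _), x.1.2.2⟩⟩
        invFun := fun g => ⟨⟨g.1, L.2.2.1 g.2.1, g.2.2⟩,
          Subtype.ext (e3_line_eq p P Z hP hPna hZP hZc hZcard L g.1 g.2.1 g.2.2)⟩
        left_inv := fun x => rfl
        right_inv := fun g => rfl }
    rw [Nat.card_congr e, Nat.card_coe_set_eq,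
      Set.ncard_sdiff (by exact_mod_cast L.2.1) (Set.toFinite _),
      ← Nat.card_coe_set_eq, ← Nat.card_coe_set_eq]
    show Nat.card ↥L.1 - Nat.card ↥Z = _
    rw [L.2.2.2, hZcard]
  have hsum : Nat.card S = Nat.card (LineT p P Z) * (p ^ 2 - p) := by
    rw [← Nat.card_congr (Equiv.sigmaFiberEquiv f), Nat.card_sigma,
      Finset.sum_congr rfl (fun L _ => hfib L), Finset.sum_const, Finset.card_univ, smul_eq_mul,
      Nat.card_eq_fintype_card]
  rw [hS] at hsum
  obtain ⟨q, hq⟩ : ∃ q, p = q + 1 := ⟨p - 1, by have := hp.pos; omega⟩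
  have e1 : p ^ 2 - p = q * (q + 1) := by
    have : p ^ 2 = q * (q + 1) + p := by rw [hq]; ring
    omega
  have e2 : p ^ 3 - p = (p + 1) * (q * (q + 1)) := by
    have : p ^ 3 = (p + 1) * (q * (q + 1)) + p := by rw [hq]; ring
    omega
  rw [e1, e2] at hsum
  have hpos : 0 < q * (q + 1) := by
    have := hp.one_lt
    have hq1 : 1 ≤ q := by omega
    positivity
  exact (Nat.eq_of_mul_eq_mul_right hpos hsum).symm

end

/-- **K-1383-E3** (keystone 138306) -/
theorem card_dvd_succ_of_no_invariant_line {G : Type*} [Group G] [Finite G] (p : ℕ) [Fact p.Prime]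
    (hp : p ≠ 2) (P K : Subgroup G) (hP : Nat.card P = p ^ 3) (hPna : ¬ IsMulCommutative P)
    (hKP : K ≤ Subgroup.normalizer (P : Set G)) (hKc : IsCyclic K)
    (hcop : (Nat.card K).Coprime p) (hodd : Odd (Nat.card K))
    (hZ : Nat.card ↥(P ⊓ Subgroup.centralizer (K : Set G)) = p)
    (hZ' : P ⊓ Subgroup.centralizer (K : Set G) ≤ ⁅P, P⁆)
    (hfix : ∀ k ∈ K, k ≠ 1 →
      P ⊓ Subgroup.centralizer ({k} : Set G) = P ⊓ Subgroup.centralizer (K : Set G))
    (hline : ∀ a ∈ K, a ≠ 1 → ∀ v ∈ P, v ∉ Subgroup.centralizer (K : Set G) →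
      a * v * a⁻¹ ∉ Subgroup.zpowers v ⊔ (P ⊓ Subgroup.centralizer (K : Set G))) :
    Nat.card K ∣ p + 1 := by
  classical
  have hpp : p.Prime := Fact.out
  set Z : Subgroup G := P ⊓ Subgroup.centralizer (K : Set G) with hZdef
  have hZP : Z ≤ P := inf_le_left
  have hZK : Z ≤ Subgroup.centralizer (K : Set G) := inf_le_right
  have hZc : ∀ z ∈ Z, ∀ x ∈ P, z * x = x * z :=
    fun z hz x hx => e3_comm_of_mem_commutator p P hP (hZ' hz) hx
  letI act : MulAction K (LineT p P Z) := lineAction p P Z K hKP hZK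
  have hcardX : Nat.card (LineT p P Z) = p + 1 := e3_card_lines p P Z hP hPna hZP hZc hZ
  -- the action is free
  have hfree : ∀ k : K, k ≠ 1 → ∀ L : LineT p P Z, k • L ≠ L := by
    intro k hk L hkL
    obtain ⟨v, hvL, hvZ⟩ : ∃ v ∈ L.1, v ∉ Z := by
      by_contra hcon
      have hLZ : L.1 ≤ Z := by
        intro x hx
        by_contra hxZ
        exact hcon ⟨x, hx, hxZ⟩
      have h1 := Subgroup.card_le_of_le hLZ
      rw [L.2.2.2, hZ] at h1
      have h2 : p < p ^ 2 := by
        have := hpp.one_lt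
        nlinarith
      omega
    have hvP : v ∈ P := L.2.2.1 hvL
    have hline' := hline (k : G) k.2 (fun h => hk (Subtype.ext h)) v hvP
      (fun hvC => hvZ ⟨hvP, hvC⟩)
    apply hline'
    rw [e3_line_eq p P Z hP hPna hZP hZc hZ L v hvL hvZ]
    have hval : (k • L).1 = L.1 := congrArg Subtype.val hkL
    rw [← hval]
    exact ⟨v, hvL, rfl⟩
  -- Burnside
  haveI : Fintype K := Fintype.ofFinite _
  haveI : Fintype (LineT p P Z) := Fintype.ofFinite _
  have hB := MulAction.sum_card_fixedBy_eq_card_orbits_mul_card_group K (LineT p P Z)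
  have hsum : ∑ k : K, Fintype.card (MulAction.fixedBy (LineT p P Z) k) =
      Fintype.card (LineT p P Z) := by
    rw [Finset.sum_eq_single (1 : K)]
    · apply Fintype.card_congr
      refine ⟨fun x => x.1, fun L => ⟨L, ?_⟩, fun x => rfl, fun L => rfl⟩
      show (1 : K) • L = L
      exact one_smul K L
    · intro k _ hk
      rw [Fintype.card_eq_zero_iff]
      exact ⟨fun x => hfree k hk x.1 x.2⟩
    · intro h
      exact absurd (Finset.mem_univ _) h
  rw [hsum] at hB
  have hdvd : Nat.card K ∣ Nat.card (LineT p P Z) := by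
    rw [Nat.card_eq_fintype_card, Nat.card_eq_fintype_card, hB]
    exact Dvd.intro_left _ rfl
  rwa [hcardX] at hdvd

end Cfsg.Agent.Lib.Helper27.BG1383
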