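import Mathlib
import Cfsg.Prelude.Def_OddOrderLocal
import Cfsg.Agent.S1375
import Cfsg.Agent.S1378
import Cfsg.Agent.S1350
import Cfsg.Agent.Lib.Helper71.BG1381E1
import Cfsg.Agent.Lib.Helper01.BG134CJ
import Cfsg.Agent.Lib.Helper71.BG11a
import Cfsg.Agent.Lib.Helper31.FittingHall
import Cfsg.Agent.Lib.Helper55.Basic

/-!
# K-1436-S (keystone 143603, S1436 pack of helper71), parallel hand of helper27:
the basic facts on the support `N` of `x`.
-/

set_option autoImplicit false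

namespace Cfsg.Agent.Lib.Helper27.BG1436

open Cfsg Subgroup Cfsg.Agent.Lib.Helper55

variable {G : Type*} [Group G] [Finite G]

/-- **K-1436-S** (keystone 143603) -/
theorem facts (hG : IsMinSimpleOddOrder G) {M N : Subgroup G} (hM : IsCoatom M) (hN : IsCoatom N) {x : G}
    (hx : x ∈ sigmaCore M) (hx1 : x ≠ 1) (hxM : ¬ centralizer ({x} : Set G) ≤ M) (hxN : centralizer ({x} : Set G) ≤ N) :
    Group.IsNilpotent (sigmaCore N) ∧ IsComplIn (M ⊓ N) (sigmaCore N) N ∧
      sigmaCore N ⊓ centralizer ({x} : Set G) ≠ ⊥ ∧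
      (∀ g : G, N.map (MulAut.conj g).toMonoidHom ≠ M) ∧
      (∀ p : ℕ, p ∈ sigma N → p ∉ sigma M) := by
  obtain ⟨N₀, ⟨_, _⟩, huniq, hFit, _, hcC, hcN, _⟩ :=
    Cfsg.Agent.S1375.result hG M hM x hx hx1 hxM
  have hNN : N = N₀ := huniq N hN hxN
  subst hNN
  -- not conjugate
  have hnc : ∀ g : G, N.map (MulAut.conj g).toMonoidHom ≠ M := by
    intro g hg
    have hox : orderOf x ≠ 1 := fun h => hx1 (orderOf_eq_one_iff.1 h)
    obtain ⟨r, hr, hrx⟩ := Nat.exists_prime_and_dvd hox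
    have hrM : r ∈ sigma M :=
      Cfsg.Agent.Lib.Helper71.BG11.sigmaCore_pi hG hM hr
        (hrx.trans (Subgroup.orderOf_dvd_natCard _ hx))
    have hrN : r ∈ sigma N := by
      rw [← hg] at hrM
      exact (Cfsg.Agent.Lib.Helper01.BG134.mem_sigma_cj_iff g).1 hrM
    have hHall := (Cfsg.Agent.S1350.result hG N hN).1
    have hnd : ¬ r ∣ (sigmaCore N).relIndex N := hHall.2.2 r hr hrN
    apply hnd
    have hxMN : x ∈ M ⊓ N :=
      ⟨Cfsg.Agent.Lib.Helper71.BG11.sigmaCore_le M hx, hxN (Subgroup.mem_centralizer_iff.2 (by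
        intro h hh
        rw [Set.mem_singleton_iff] at hh
        rw [hh]))⟩
    have h1 : Nat.card ↥(M ⊓ N) * Nat.card ↥(sigmaCore N) = Nat.card ↥N :=
      Cfsg.Agent.Lib.Helper31.IsComplIn.card_mul hcN
    have h2 : (sigmaCore N).relIndex N * Nat.card ↥(sigmaCore N) = Nat.card ↥N := by
      have h := Subgroup.relIndex_mul_relIndex (⊥ : Subgroup G) (sigmaCore N) N bot_le
        (Cfsg.Agent.Lib.Helper71.BG11.sigmaCore_le N)
      rw [Subgroup.relIndex_bot_left, Subgroup.relIndex_bot_left] at h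
      rw [mul_comm]
      exact h
    have hpos : 0 < Nat.card ↥(sigmaCore N) := Nat.card_pos
    have h3 : (sigmaCore N).relIndex N = Nat.card ↥(M ⊓ N) :=
      Nat.eq_of_mul_eq_mul_right hpos (h2.trans h1.symm)
    rw [h3]
    exact hrx.trans (Subgroup.orderOf_dvd_natCard _ hxMN)
  refine ⟨?_, hcN, ?_, hnc, ?_⟩
  · rw [hFit]
    exact Cfsg.Agent.Lib.Helper71.BG1381.isNilpotent_fittingHallOf N
  · intro hbot
    apply hxM
    intro c hc
    obtain ⟨a, ha, b', hb', rfl⟩ := hcC.2.2.2 c hc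
    rw [hbot, Subgroup.mem_bot] at hb'
    rw [hb', mul_one]
    exact ha.1
  · intro p hpN hpM
    obtain ⟨g, hg⟩ := (Cfsg.Agent.S1378.result hG).2 M N hM hN ⟨p, hpM, hpN⟩
    apply hnc g⁻¹
    rw [hg]
    exact cj_inv_cj g M

end Cfsg.Agent.Lib.Helper27.BG1436
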