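import Mathlib
import Cfsg.Prelude.Def_OddOrderLocal

set_option autoImplicit false

/-! K-152-L2d (135608, parallel hand): `M_F ≤ F(M)`. -/

namespace Cfsg.Agent.Lib.Helper27.BG152

open Cfsg

/-- K-152-L2d (pure) -/
theorem fittingHallOf_le_fittingOf {G : Type*} [Group G] [Finite G] (M : Subgroup G) :
    fittingHallOf M ≤ fittingOf M := by
  unfold fittingHallOf fittingOf
  apply Subgroup.map_mono
  unfold fittingHall fittingSubgroup
  apply sSup_le_sSup
  intro N hN
  exact ⟨hN.1, hN.2.1⟩

end Cfsg.Agent.Lib.Helper27.BG152
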