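import Cfsg.Agent.Lib.Helper27.FrobReduce
import Cfsg.Agent.Lib.Helper59.Fusion

set_option autoImplicit false

/-! The centric closure `H ⊔ C_S(H)` of a fully normalized subgroup `H` of a Sylow subgroup `S`,
and automizers which are `p`-groups. -/

namespace Cfsg.Agent.Lib.Helper27

open Cfsg Cfsg.Agent.Lib.Helper41

variable {G : Type*} [Group G]

/-- the centric closure is centric -/
theorem centricClosure_centric {S H : Subgroup G} :
    S ⊓ Subgroup.centralizer ((H ⊔ (S ⊓ Subgroup.centralizer (H : Set G)) : Subgroup G) : Set G) ≤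
      H ⊔ (S ⊓ Subgroup.centralizer (H : Set G)) := by
  refine le_trans (inf_le_inf_left S ?_) le_sup_right
  exact Subgroup.centralizer_le (SetLike.coe_subset_coe.mpr le_sup_left)

/-- every element of `N_G(H)` acts on `H` like an element normalizing the centric closure -/
theorem exists_normalizer_centricClosure [Finite G] {p : ℕ} [Fact p.Prime] {S H : Subgroup G}
    (hS : IsPGroup p S)
    (hidx : ¬ p ∣ (S ⊓ Subgroup.normalizer (H : Set G)).relIndex (Subgroup.normalizer (H : Set G)))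
    {m : G} (hm : m ∈ Subgroup.normalizer (H : Set G)) :
    ∃ m' ∈ Subgroup.normalizer (H : Set G),
      m' ∈ Subgroup.normalizer
        ((H ⊔ (S ⊓ Subgroup.centralizer (H : Set G)) : Subgroup G) : Set G) ∧
      ∀ a ∈ H, m * a * m⁻¹ = m' * a * m'⁻¹ := by
  obtain ⟨z, hz, n, hnN, hnC, rfl⟩ := exists_centralizer_mul_normalizer hS hidx hm
  refine ⟨n, hnN, mem_normalizer_sup hnN hnC, ?_⟩
  intro a ha
  have hd : n * a * n⁻¹ ∈ H := (Subgroup.mem_normalizer_iff.mp hnN _).mp ha
  rw [Subgroup.mem_centralizer_iff] at hz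
  have := hz _ hd
  calc z * n * a * (z * n)⁻¹ = z * (n * a * n⁻¹) * z⁻¹ := by group
    _ = (n * a * n⁻¹) * z * z⁻¹ := by rw [this]
    _ = n * a * n⁻¹ := by group

/-- if `x` and `x'` act in the same way on `H`, so do their powers -/
theorem conj_pow_eq_of_conj_eq {H : Subgroup G} {x x' : G}
    (hx' : x' ∈ Subgroup.normalizer (H : Set G))
    (hact : ∀ a ∈ H, x * a * x⁻¹ = x' * a * x'⁻¹) (k : ℕ) :
    ∀ a ∈ H, x ^ k * a * (x ^ k)⁻¹ = x' ^ k * a * (x' ^ k)⁻¹ := by
  induction k with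
  | zero => intro a _; simp
  | succ k ih =>
    intro a ha
    have h1 : x' * a * x'⁻¹ ∈ H := (Subgroup.mem_normalizer_iff.mp hx' _).mp ha
    calc x ^ (k + 1) * a * (x ^ (k + 1))⁻¹ = x ^ k * (x * a * x⁻¹) * (x ^ k)⁻¹ := by
          rw [pow_succ]; group
      _ = x ^ k * (x' * a * x'⁻¹) * (x ^ k)⁻¹ := by rw [hact a ha]
      _ = x' ^ k * (x' * a * x'⁻¹) * (x' ^ k)⁻¹ := ih _ h1
      _ = x' ^ (k + 1) * a * (x' ^ (k + 1))⁻¹ := by rw [pow_succ]; group

theorem mem_centralizer_set_iff_conj {H : Subgroup G} {x : G} :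
    x ∈ Subgroup.centralizer (H : Set G) ↔ ∀ a ∈ H, x * a * x⁻¹ = a := by
  rw [Subgroup.mem_centralizer_iff]
  constructor
  · intro h a ha
    rw [← h a ha]; group
  · intro h a ha
    have := h a ha
    calc a * x = (x * a * x⁻¹) * x := by rw [this]
      _ = x * a := by group

/-- a `p'`-element normalizing but not centralizing `H` gives one for the centric closure -/
theorem exists_coprime_centricClosure [Finite G] {p : ℕ} [Fact p.Prime] {S H : Subgroup G}
    (hS : IsPGroup p S)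
    (hidx : ¬ p ∣ (S ⊓ Subgroup.normalizer (H : Set G)).relIndex (Subgroup.normalizer (H : Set G)))
    {g : G} (hg : g ∈ Subgroup.normalizer (H : Set G)) (hcop : Nat.Coprime (orderOf g) p)
    (hgC : g ∉ Subgroup.centralizer (H : Set G)) :
    ∃ g' ∈ Subgroup.normalizer
        ((H ⊔ (S ⊓ Subgroup.centralizer (H : Set G)) : Subgroup G) : Set G),
      Nat.Coprime (orderOf g') p ∧
      g' ∉ Subgroup.centralizer
        ((H ⊔ (S ⊓ Subgroup.centralizer (H : Set G)) : Subgroup G) : Set G) := by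
  have hp : p.Prime := Fact.out
  obtain ⟨n, hnN, hnN', hact⟩ := exists_normalizer_centricClosure hS hidx hg
  obtain ⟨k, m, hm, hkm⟩ := Nat.exists_eq_pow_mul_and_not_dvd (orderOf_pos n).ne' p hp.ne_one
  have hpk : p ^ k ≠ 0 := pow_ne_zero _ hp.ne_zero
  have hord : orderOf (n ^ (p ^ k)) = m := by
    rw [orderOf_pow_of_dvd hpk (by rw [hkm]; exact dvd_mul_right _ _), hkm,
      Nat.mul_div_cancel_left _ (Nat.pos_of_ne_zero hpk)]
  refine ⟨n ^ (p ^ k), Subgroup.pow_mem _ hnN' _, ?_, ?_⟩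
  · rw [hord]
    exact ((Nat.Prime.coprime_iff_not_dvd hp).mpr hm).symm
  · intro hc
    apply hgC
    have hc' : n ^ (p ^ k) ∈ Subgroup.centralizer (H : Set G) :=
      Subgroup.centralizer_le (SetLike.coe_subset_coe.mpr le_sup_left) hc
    rw [mem_centralizer_set_iff_conj] at hc' ⊢
    -- `g ^ (p ^ k)` centralizes `H`, and so does `g ^ orderOf g`
    have h1 : ∀ a ∈ H, g ^ (p ^ k) * a * (g ^ (p ^ k))⁻¹ = a := by
      intro a ha
      rw [conj_pow_eq_of_conj_eq hnN hact (p ^ k) a ha]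
      exact hc' a ha
    have h3 : g ^ (p ^ k) ∈ Subgroup.centralizer (H : Set G) := mem_centralizer_set_iff_conj.mpr h1
    have hz : g ∈ Subgroup.zpowers (g ^ (p ^ k)) := by
      rw [mem_zpowers_pow_iff]
      exact (Nat.Coprime.pow_right k hcop).symm
    exact mem_centralizer_set_iff_conj.mp ((Subgroup.zpowers_le.mpr h3) hz)

/-- if the `p'`-elements of `N_G(H)` centralize `H`, the automizer of `H` is a `p`-group -/
theorem isPGroup_range_of_coprime_centralize {p : ℕ} [Fact p.Prime] {H : Subgroup G}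
    (hc : ∀ g ∈ Subgroup.normalizer (H : Set G), Nat.Coprime (orderOf g) p → orderOf g ≠ 0 →
      g ∈ Subgroup.centralizer (H : Set G)) (hfin : ∀ g : G, orderOf g ≠ 0) :
    IsPGroup p H.normalizerMonoidHom.range := by
  have hp : p.Prime := Fact.out
  rintro ⟨φ, ⟨n, hn⟩, rfl⟩
  obtain ⟨k, m, hm, hkm⟩ := Nat.exists_eq_pow_mul_and_not_dvd (hfin n) p hp.ne_one
  have hpk : p ^ k ≠ 0 := pow_ne_zero _ hp.ne_zero
  have hord : orderOf (n ^ (p ^ k)) = m := by
    rw [orderOf_pow_of_dvd hpk (by rw [hkm]; exact dvd_mul_right _ _), hkm,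
      Nat.mul_div_cancel_left _ (Nat.pos_of_ne_zero hpk)]
  have hm0 : m ≠ 0 := by
    rintro rfl
    exact hfin n (by rw [hkm, mul_zero])
  have h1 : n ^ (p ^ k) ∈ Subgroup.centralizer (H : Set G) := by
    apply hc _ (Subgroup.pow_mem _ hn _)
    · rw [hord]; exact ((Nat.Prime.coprime_iff_not_dvd hp).mpr hm).symm
    · rw [hord]; exact hm0
  refine ⟨k, Subtype.ext ?_⟩
  rw [Subgroup.coe_pow, Subgroup.coe_one]
  show (H.normalizerMonoidHom ⟨n, hn⟩) ^ (p ^ k) = 1
  rw [← map_pow]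
  have : (⟨n, hn⟩ : Subgroup.normalizer (H : Set G)) ^ (p ^ k) ∈ H.normalizerMonoidHom.ker := by
    rw [Subgroup.normalizerMonoidHom_ker, Subgroup.mem_subgroupOf]
    exact h1
  exact MonoidHom.mem_ker.mp this

/-- if the `p'`-elements of `N_G(H)` centralize `H` and `H` is fully normalized in `S`, then
`N_G(H)` acts on `H` like `N_S(H)` -/
theorem exists_conj_of_coprime_centralize [Finite G] {p : ℕ} [Fact p.Prime] {S H : Subgroup G}
    (hidx : ¬ p ∣ (S ⊓ Subgroup.normalizer (H : Set G)).relIndex (Subgroup.normalizer (H : Set G)))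
    (hc : ∀ g ∈ Subgroup.normalizer (H : Set G), Nat.Coprime (orderOf g) p →
      g ∈ Subgroup.centralizer (H : Set G))
    {n : G} (hn : n ∈ Subgroup.normalizer (H : Set G)) :
    ∃ s ∈ S, ∀ a ∈ H, n * a * n⁻¹ = s * a * s⁻¹ := by
  obtain ⟨s, hs, hact⟩ := Cfsg.Agent.Lib.Helper59.exists_conj_of_pgroup_automizer S H hidx
    (isPGroup_range_of_coprime_centralize (fun g hg hcop _ => hc g hg hcop)
      (fun g => (orderOf_pos g).ne')) n hn
  exact ⟨s, hs.1, hact⟩

end Cfsg.Agent.Lib.Helper27
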