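import Mathlib

/-! Auxiliary index / order lemmas. -/

set_option autoImplicit false
set_option linter.style.haveILetI false

namespace Cfsg.Agent.Lib.Helper27

/-- an odd number not dividing 3 has a prime-power divisor `> 3` with odd prime -/
theorem exists_prime_pow_of_not_dvd_three {m : ℕ} (hm : Odd m) (h3 : ¬ m ∣ 3) :
    ∃ p k : ℕ, p.Prime ∧ p ≠ 2 ∧ p ^ k ∣ m ∧ 3 < p ^ k := by
  have hm0 : m ≠ 0 := by
    rintro rfl
    exact (Nat.not_odd_iff_even.mpr (by decide)) hm
  by_cases h9 : 9 ∣ m
  · exact ⟨3, 2, Nat.prime_three, by norm_num, by simpa using h9, by norm_num⟩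
  · by_cases hall : ∀ d : ℕ, d.Prime → d ∣ m → d = 3
    · exfalso
      have := Nat.eq_prime_pow_of_unique_prime_dvd hm0 (fun {d} hd hdm => hall d hd hdm)
      set j := m.primeFactorsList.length
      rcases Nat.lt_or_ge j 2 with hj | hj
      · interval_cases j
        · apply h3; rw [this]; norm_num
        · apply h3; rw [this]; norm_num
      · apply h9
        rw [this]
        exact pow_dvd_pow 3 hj
    · rw [not_forall] at hall
      obtain ⟨p, hp⟩ := hall
      rw [Classical.not_imp, Classical.not_imp] at hp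
      obtain ⟨hpp, hpm, hp3⟩ := hp
      have hp2 : p ≠ 2 := by
        rintro rfl
        exact (Nat.not_even_iff_odd.mpr hm) (even_iff_two_dvd.mpr hpm)
      refine ⟨p, 1, hpp, hp2, by simpa using hpm, ?_⟩
      rw [pow_one]
      have := hpp.two_le
      omega

/-- counting lemma: if a map to a three-element set separates elements with odd-order
quotient, the odd part of the group order divides 3 -/
theorem odd_dvd_three {Q : Type*} [Group Q] [Finite Q] (f : Q → Fin 3)
    (hf : ∀ α β : Q, Odd (orderOf (β⁻¹ * α)) → f α = f β → α = β) {m : ℕ} (hm : Odd m)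
    (hdvd : m ∣ Nat.card Q) : m ∣ 3 := by
  by_contra h3
  obtain ⟨p, k, hp, hp2, hpk, hbig⟩ := exists_prime_pow_of_not_dvd_three hm h3
  haveI : Fact p.Prime := ⟨hp⟩
  obtain ⟨K, hK⟩ := Sylow.exists_subgroup_card_pow_prime p (hpk.trans hdvd)
  have hodd : Odd (p ^ k) := (hp.odd_of_ne_two hp2).pow
  have hinj : Function.Injective (fun a : K => f a) := by
    intro a b hab
    apply Subtype.ext
    apply hf _ _ _ hab
    have h1 : orderOf ((b : Q)⁻¹ * (a : Q)) ∣ p ^ k := by
      rw [← hK]
      have : ((b : Q)⁻¹ * (a : Q)) = ((b⁻¹ * a : K) : Q) := rfl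
      rw [this, Subgroup.orderOf_coe]
      exact orderOf_dvd_natCard _
    exact Odd.of_dvd_nat hodd h1
  have := Nat.card_le_card_of_injective _ hinj
  rw [hK, Nat.card_eq_fintype_card, Fintype.card_fin] at this
  omega

/-- if the index of a normal subgroup `C` of `N` is not a power of two, some odd-order element
of `N` lies outside `C` -/
theorem exists_odd_not_mem {G : Type*} [Group G] [Finite G] (C N : Subgroup G) (hCN : C ≤ N)
    (hN : N ≤ Subgroup.normalizer (C : Set G)) (hnot : ¬ ∃ j : ℕ, C.relIndex N = 2 ^ j) :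
    ∃ g ∈ N, Odd (orderOf g) ∧ g ∉ C := by
  by_contra hcon
  apply hnot
  haveI : (C.subgroupOf N).Normal := (Subgroup.normal_subgroupOf_iff_le_normalizer hCN).mpr hN
  haveI : Fact (Nat.Prime 2) := ⟨Nat.prime_two⟩
  have hP : IsPGroup 2 (N ⧸ C.subgroupOf N) := by
    intro q
    obtain ⟨g, rfl⟩ := QuotientGroup.mk_surjective q
    have ho : 0 < orderOf (g : G) := orderOf_pos _
    obtain ⟨a, k, hkodd, hak⟩ := Nat.exists_eq_two_pow_mul_odd (ne_of_gt ho)
    refine ⟨a, ?_⟩
    rw [← QuotientGroup.mk_pow, QuotientGroup.eq_one_iff, Subgroup.mem_subgroupOf,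
      Subgroup.coe_pow]
    by_contra hnm
    apply hcon
    refine ⟨(g : G) ^ (2 ^ a), N.pow_mem g.2 _, ?_, hnm⟩
    have : orderOf ((g : G) ^ (2 ^ a)) = k := by
      rw [orderOf_pow' _ (by positivity), hak, Nat.gcd_eq_right (Dvd.intro _ rfl)]
      exact Nat.mul_div_cancel_left k (by positivity)
    rw [this]; exact hkodd
  obtain ⟨j, hj⟩ := hP.exists_card_eq
  exact ⟨j, by rw [Subgroup.relIndex, Subgroup.index_eq_card, hj]⟩

end Cfsg.Agent.Lib.Helper27
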