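import Mathlib

/-! Odd-order automorphisms of 2-groups: elementary lemmas. -/

set_option autoImplicit false

namespace Cfsg.Agent.Lib.Helper27

namespace OddAut

variable {X : Type*} [Group X]

theorem pow_apply_of_fix (φ : MulAut X) {x : X} (hx : φ x = x) (m : ℕ) : (φ ^ m) x = x := by
  induction m with
  | zero => simp
  | succ m ih => rw [pow_succ, MulAut.mul_apply, hx, ih]

/-- if `φ` has odd order and `φ²` fixes `x` then `φ` fixes `x`. -/
theorem fix_of_sq_fix (φ : MulAut X) {k : ℕ} (hk : φ ^ k = 1) (hodd : Odd k) {x : X}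
    (hx : φ (φ x) = x) : φ x = x := by
  obtain ⟨m, rfl⟩ := hodd
  have h2 : (φ ^ 2) x = x := by rw [pow_two, MulAut.mul_apply, hx]
  have h2' : (φ ^ 2) (φ x) = φ x := by rw [pow_two, MulAut.mul_apply, hx]
  have h3 := pow_apply_of_fix (φ ^ 2) h2' m
  rw [← pow_mul] at h3
  have h4 : (φ ^ (2 * m + 1)) x = x := by rw [hk]; rfl
  rw [pow_succ, MulAut.mul_apply, h3] at h4
  exact h4

/-- inverse of an automorphism of finite order preserves any set preserved by it -/
theorem symm_mem (φ : MulAut X) {k : ℕ} (hk : φ ^ k = 1) (hk0 : 0 < k) (A : Set X)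
    (hA : ∀ a ∈ A, φ a ∈ A) : ∀ a ∈ A, φ⁻¹ a ∈ A := by
  have hpow : ∀ m : ℕ, ∀ a ∈ A, (φ ^ m) a ∈ A := by
    intro m
    induction m with
    | zero => intro a ha; simpa using ha
    | succ m ih =>
      intro a ha
      rw [pow_succ, MulAut.mul_apply]
      exact ih _ (hA a ha)
  have hinv : φ⁻¹ = φ ^ (k - 1) := by
    rw [inv_eq_iff_mul_eq_one, ← pow_succ']
    rw [Nat.sub_add_cancel hk0, hk]
  intro a ha
  rw [hinv]
  exact hpow _ a ha

/-- Lemma Ω: an odd-order automorphism fixing all involutions of an invariant abelian 2-subgroup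
fixes the subgroup pointwise. -/
theorem fix_of_fix_involutions (φ : MulAut X) {k : ℕ} (hk : φ ^ k = 1) (hodd : Odd k)
    (A : Subgroup X) (hcomm : ∀ a ∈ A, ∀ b ∈ A, a * b = b * a)
    (hA : ∀ a ∈ A, φ a ∈ A) (h2 : ∀ a ∈ A, ∃ m : ℕ, a ^ (2 ^ m) = 1)
    (hinv : ∀ a ∈ A, a * a = 1 → φ a = a) : ∀ a ∈ A, φ a = a := by
  have key : ∀ m : ℕ, ∀ a ∈ A, a ^ (2 ^ m) = 1 → φ a = a := by
    intro m
    induction m with
    | zero =>
      intro a _ ha
      rw [pow_zero, pow_one] at ha
      rw [ha, map_one]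
    | succ m ih =>
      intro a ha ham
      have hsq : a * a ∈ A := A.mul_mem ha ha
      have h1 : φ (a * a) = a * a := by
        apply ih _ hsq
        rw [← pow_two, ← pow_mul, ← pow_succ']
        exact ham
      have hs : φ a * a⁻¹ ∈ A := A.mul_mem (hA a ha) (A.inv_mem ha)
      have hss : (φ a * a⁻¹) * (φ a * a⁻¹) = 1 := by
        have hc := hcomm (φ a) (hA a ha) a⁻¹ (A.inv_mem ha)
        calc (φ a * a⁻¹) * (φ a * a⁻¹) = φ a * (a⁻¹ * φ a) * a⁻¹ := by group
          _ = φ a * (φ a * a⁻¹) * a⁻¹ := by rw [hc]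
          _ = (φ a * φ a) * (a * a)⁻¹ := by group
          _ = 1 := by rw [← map_mul, h1, mul_inv_cancel]
      have hfs := hinv _ hs hss
      apply fix_of_sq_fix φ hk hodd
      have e1 : φ a = (φ a * a⁻¹) * a := by group
      calc φ (φ a) = φ ((φ a * a⁻¹) * a) := by rw [← e1]
        _ = (φ a * a⁻¹) * φ a := by rw [map_mul, hfs]
        _ = (φ a * a⁻¹) * ((φ a * a⁻¹) * a) := by rw [← e1]
        _ = ((φ a * a⁻¹) * (φ a * a⁻¹)) * a := by group
        _ = a := by rw [hss, one_mul]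
  intro a ha
  obtain ⟨m, hm⟩ := h2 a ha
  exact key m a ha hm

/-- coprime lemma: trivial on `A` and modulo `A` implies trivial. -/
theorem fix_of_fix_mod (φ : MulAut X) {k : ℕ} (hk : φ ^ k = 1) (hodd : Odd k)
    (A : Subgroup X) (h2 : ∀ a ∈ A, ∃ m : ℕ, a ^ (2 ^ m) = 1)
    (hfix : ∀ a ∈ A, φ a = a) (g : X) (hg : g⁻¹ * φ g ∈ A) : φ g = g := by
  set a := g⁻¹ * φ g with ha
  have hφg : φ g = g * a := by rw [ha]; group
  have hpow : ∀ m : ℕ, (φ ^ m) g = g * a ^ m := by
    intro m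
    induction m with
    | zero => simp
    | succ m ih =>
      rw [pow_succ, MulAut.mul_apply, hφg, map_mul, ih, pow_apply_of_fix φ (hfix a hg), pow_succ]
      rw [mul_assoc]
  have h1 : a ^ k = 1 := by
    have := hpow k
    rw [hk] at this
    have h3 : g = g * a ^ k := this
    exact (mul_eq_left.mp h3.symm)
  obtain ⟨m, hm⟩ := h2 a hg
  have hcop : Nat.Coprime k (2 ^ m) := by
    apply Nat.Coprime.pow_right
    exact (Nat.coprime_comm.mp (Nat.coprime_two_left.mpr hodd))
  have ha1 : a = 1 := by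
    have h4 : a ^ (Nat.gcd k (2 ^ m)) = 1 := by
      rw [← orderOf_dvd_iff_pow_eq_one]
      exact Nat.dvd_gcd (orderOf_dvd_of_pow_eq_one h1) (orderOf_dvd_of_pow_eq_one hm)
    rw [hcop, pow_one] at h4
    exact h4
  rw [hφg, ha1, mul_one]

/-- with at most three involutions, one of them fixed, all are fixed -/
theorem fix_involutions (φ : MulAut X) {k : ℕ} (hk : φ ^ k = 1) (hodd : Odd k)
    (A : Subgroup X) (hA : ∀ a ∈ A, φ a ∈ A) (z s : X) (hzz : z * z = 1)
    (hfz : φ z = z) (hsA : s ∈ A) (hss : s * s = 1)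
    (hI : ∀ a ∈ A, a * a = 1 → a = 1 ∨ a = z ∨ a = s ∨ a = z * s) :
    ∀ a ∈ A, a * a = 1 → φ a = a := by
  have hs : φ s = s := by
    have h1 : φ s * φ s = 1 := by rw [← map_mul, hss, map_one]
    rcases hI (φ s) (hA s hsA) h1 with h | h | h | h
    · have : φ s = φ 1 := by rw [h, map_one]
      have := φ.injective this
      rw [this, map_one]
    · have : φ s = φ z := by rw [h, hfz]
      have := φ.injective this
      rw [this, hfz]
    · exact h
    · apply fix_of_sq_fix φ hk hodd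
      rw [h, map_mul, hfz, h, ← mul_assoc, hzz, one_mul]
  intro a ha haa
  rcases hI a ha haa with h | h | h | h
  · rw [h, map_one]
  · rw [h, hfz]
  · rw [h, hs]
  · rw [h, map_mul, hfz, hs]

/-- unified lemma: an odd-order automorphism of a 2-group `X` normalizing an abelian subgroup `A`
of index at most two, with at most three involutions in `A` one of which is fixed, is trivial. -/
theorem eq_one_of_index_two (φ : MulAut X) {k : ℕ} (hk : φ ^ k = 1) (hodd : Odd k)
    (A : Subgroup X) (hcomm : ∀ a ∈ A, ∀ b ∈ A, a * b = b * a)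
    (hA : ∀ a ∈ A, φ a ∈ A) (h2 : ∀ g : X, ∃ m : ℕ, g ^ (2 ^ m) = 1)
    (z s : X) (hzz : z * z = 1) (hfz : φ z = z) (hsA : s ∈ A) (hss : s * s = 1)
    (hI : ∀ a ∈ A, a * a = 1 → a = 1 ∨ a = z ∨ a = s ∨ a = z * s)
    (hidx : ∀ g h : X, g ∉ A → h ∉ A → g⁻¹ * h ∈ A) : φ = 1 := by
  have hinv := fix_involutions φ hk hodd A hA z s hzz hfz hsA hss hI
  have hfix := fix_of_fix_involutions φ hk hodd A hcomm hA (fun a _ => h2 a) hinv
  have hk0 : 0 < k := hodd.pos
  have hsymm := symm_mem φ hk hk0 (A : Set X) hA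
  ext g
  rw [MulAut.one_apply]
  by_cases hg : g ∈ A
  · exact hfix g hg
  · have hφg : φ g ∉ A := by
      intro hc
      have := hsymm _ hc
      rw [MulAut.inv_apply_self] at this
      exact hg this
    exact fix_of_fix_mod φ hk hodd A (fun a _ => h2 a) hfix g (hidx g (φ g) hg hφg)

/-- a finite group whose automorphism group is not a 2-group has a nontrivial automorphism of
odd order -/
theorem exists_odd_of_not_isPGroup [Finite X] (h : ¬ IsPGroup 2 (MulAut X)) :
    ∃ (φ : MulAut X) (k : ℕ), φ ≠ 1 ∧ Odd k ∧ φ ^ k = 1 := by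
  unfold IsPGroup at h
  rw [not_forall] at h
  obtain ⟨g, hg⟩ := h
  rw [not_exists] at hg
  have ho : 0 < orderOf g := orderOf_pos g
  obtain ⟨a, k, hkodd, hak⟩ := Nat.exists_eq_two_pow_mul_odd (ne_of_gt ho)
  refine ⟨g ^ (2 ^ a), k, hg a, hkodd, ?_⟩
  rw [← pow_mul, ← hak, pow_orderOf_eq_one]

end OddAut

end Cfsg.Agent.Lib.Helper27
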