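import Mathlib

set_option autoImplicit false

namespace Cfsg.Agent.Lib.Helper27

/-- model of the wreath product `Z_N ≀ Z_2`: `p i j = x^i y^j`, `q i j = x^i y^j z`. -/
inductive WrM (N : ℕ) : Type
  | p : ZMod N → ZMod N → WrM N
  | q : ZMod N → ZMod N → WrM N
  deriving DecidableEq

namespace WrM

variable {N : ℕ}

def mul' : WrM N → WrM N → WrM N
  | p i j, p k l => p (i + k) (j + l)
  | p i j, q k l => q (i + k) (j + l)
  | q i j, p k l => q (i + l) (j + k)
  | q i j, q k l => p (i + l) (j + k)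

def inv' : WrM N → WrM N
  | p i j => p (-i) (-j)
  | q i j => q (-j) (-i)

instance : Group (WrM N) where
  mul := mul'
  mul_assoc := by
    rintro (⟨a, b⟩ | ⟨a, b⟩) (⟨c, d⟩ | ⟨c, d⟩) (⟨e, f⟩ | ⟨e, f⟩) <;>
      simp only [(· * ·), mul'] <;> ring_nf
  one := p 0 0
  one_mul := by
    rintro (⟨a, b⟩ | ⟨a, b⟩)
    · show p (0 + a) (0 + b) = p a b
      rw [zero_add, zero_add]
    · show q (0 + a) (0 + b) = q a b
      rw [zero_add, zero_add]
  mul_one := by
    rintro (⟨a, b⟩ | ⟨a, b⟩)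
    · show p (a + 0) (b + 0) = p a b
      rw [add_zero, add_zero]
    · show q (a + 0) (b + 0) = q a b
      rw [add_zero, add_zero]
  inv := inv'
  inv_mul_cancel := by
    rintro (⟨a, b⟩ | ⟨a, b⟩)
    · show p (-a + a) (-b + b) = p 0 0
      rw [neg_add_cancel, neg_add_cancel]
    · show p (-b + b) (-a + a) = p 0 0
      rw [neg_add_cancel, neg_add_cancel]

@[simp] theorem p_mul_p (i j k l : ZMod N) : p i j * p k l = p (i + k) (j + l) := rfl
@[simp] theorem p_mul_q (i j k l : ZMod N) : p i j * q k l = q (i + k) (j + l) := rfl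
@[simp] theorem q_mul_p (i j k l : ZMod N) : q i j * p k l = q (i + l) (j + k) := rfl
@[simp] theorem q_mul_q (i j k l : ZMod N) : q i j * q k l = p (i + l) (j + k) := rfl
@[simp] theorem inv_p (i j : ZMod N) : (p i j)⁻¹ = p (-i) (-j) := rfl
@[simp] theorem inv_q (i j : ZMod N) : (q i j)⁻¹ = q (-j) (-i) := rfl
theorem one_def : (1 : WrM N) = p 0 0 := rfl

/-- the sum of coordinates -/
def sigma : WrM N →* Multiplicative (ZMod N) where
  toFun
    | p i j => Multiplicative.ofAdd (i + j)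
    | q i j => Multiplicative.ofAdd (i + j)
  map_one' := by show Multiplicative.ofAdd ((0 : ZMod N) + 0) = 1; rw [add_zero]; rfl
  map_mul' := by
    rintro (⟨a, b⟩ | ⟨a, b⟩) (⟨c, d⟩ | ⟨c, d⟩) <;>
      simp only [p_mul_p, p_mul_q, q_mul_p, q_mul_q, ← ofAdd_add] <;> congr 1 <;> ring

@[simp] theorem sigma_p (i j : ZMod N) : sigma (p i j) = Multiplicative.ofAdd (i + j) := rfl
@[simp] theorem sigma_q (i j : ZMod N) : sigma (q i j) = Multiplicative.ofAdd (i + j) := rfl

/-- the projection to `Z_2` -/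
def eps : WrM N →* Multiplicative (ZMod 2) where
  toFun
    | p _ _ => Multiplicative.ofAdd 0
    | q _ _ => Multiplicative.ofAdd 1
  map_one' := rfl
  map_mul' := by
    rintro (⟨a, b⟩ | ⟨a, b⟩) (⟨c, d⟩ | ⟨c, d⟩) <;>
      simp only [p_mul_p, p_mul_q, q_mul_p, q_mul_q, ← ofAdd_add] <;> rfl

@[simp] theorem eps_p (i j : ZMod N) : eps (p i j) = Multiplicative.ofAdd 0 := rfl
@[simp] theorem eps_q (i j : ZMod N) : eps (q i j) = Multiplicative.ofAdd 1 := rfl

/-- the quotient map onto the dihedral group (kernel = the centre) -/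
def toDih : WrM N →* DihedralGroup N where
  toFun
    | p i j => DihedralGroup.r (i - j)
    | q i j => DihedralGroup.sr (j - i)
  map_one' := by show DihedralGroup.r ((0 : ZMod N) - 0) = 1; rw [sub_zero]; rfl
  map_mul' := by
    rintro (⟨a, b⟩ | ⟨a, b⟩) (⟨c, d⟩ | ⟨c, d⟩) <;>
      simp only [p_mul_p, p_mul_q, q_mul_p, q_mul_q, DihedralGroup.r_mul_r,
        DihedralGroup.r_mul_sr, DihedralGroup.sr_mul_r, DihedralGroup.sr_mul_sr] <;>
      congr 1 <;> ring

@[simp] theorem toDih_p (i j : ZMod N) : toDih (p i j) = DihedralGroup.r (i - j) := rfl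
@[simp] theorem toDih_q (i j : ZMod N) : toDih (q i j) = DihedralGroup.sr (j - i) := rfl

def equivSum : WrM N ≃ (ZMod N × ZMod N) ⊕ (ZMod N × ZMod N) where
  toFun
    | p i j => Sum.inl (i, j)
    | q i j => Sum.inr (i, j)
  invFun
    | Sum.inl (i, j) => p i j
    | Sum.inr (i, j) => q i j
  left_inv := by rintro (⟨a, b⟩ | ⟨a, b⟩) <;> rfl
  right_inv := by rintro (⟨a, b⟩ | ⟨a, b⟩) <;> rfl

instance [NeZero N] : Fintype (WrM N) := Fintype.ofEquiv _ equivSum.symm

theorem card [NeZero N] : Nat.card (WrM N) = 2 * N * N := by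
  rw [Nat.card_congr equivSum, Nat.card_sum, Nat.card_prod, Nat.card_zmod]
  ring

end WrM

end Cfsg.Agent.Lib.Helper27
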