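import Mathlib
import Cfsg.Prelude.Def_CaseTheorems
import Cfsg.Agent.Lib.Helper27.WrModel

set_option autoImplicit false

namespace Cfsg.Agent.Lib.Helper27

open Cfsg

section zp

variable {S : Type*} [Group S] {N : ℕ}

/-- `g ^ i` for `i : ZMod N`. -/
def zp (g : S) (i : ZMod N) : S := g ^ i.val

theorem pow_mod_of_pow_eq_one {g : S} (hg : g ^ N = 1) (m : ℕ) : g ^ (m % N) = g ^ m := by
  conv_rhs => rw [← Nat.mod_add_div m N]
  rw [pow_add, pow_mul, hg, one_pow, mul_one]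

theorem zp_zero [NeZero N] (g : S) : zp g (0 : ZMod N) = 1 := by
  rw [zp, ZMod.val_zero, pow_zero]

theorem zp_add [NeZero N] {g : S} (hg : g ^ N = 1) (i j : ZMod N) :
    zp g (i + j) = zp g i * zp g j := by
  rw [zp, zp, zp, ZMod.val_add, pow_mod_of_pow_eq_one hg, pow_add]

theorem zp_neg [NeZero N] {g : S} (hg : g ^ N = 1) (i : ZMod N) : zp g (-i) = (zp g i)⁻¹ := by
  rw [eq_inv_iff_mul_eq_one, ← zp_add hg, neg_add_cancel, zp_zero]

theorem zp_natCast [NeZero N] {g : S} (hg : g ^ N = 1) (m : ℕ) : zp g (m : ZMod N) = g ^ m := by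
  rw [zp, ZMod.val_natCast, pow_mod_of_pow_eq_one hg]

theorem zp_one_eq [NeZero N] {g : S} (hg : g ^ N = 1) : zp g (1 : ZMod N) = g := by
  have := zp_natCast hg 1
  rwa [Nat.cast_one, pow_one] at this

theorem zp_mem_zpowers (g : S) (i : ZMod N) : zp g i ∈ Subgroup.zpowers g :=
  Subgroup.npow_mem_zpowers g _

theorem zp_eq_one_iff [NeZero N] {g : S} (hg : orderOf g = N) (i : ZMod N) :
    zp g i = 1 ↔ i = 0 := by
  constructor
  · intro h
    rw [zp] at h
    have h1 : orderOf g ∣ i.val := orderOf_dvd_of_pow_eq_one h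
    rw [hg] at h1
    have h2 : i.val < N := ZMod.val_lt i
    have h3 : i.val = 0 := Nat.eq_zero_of_dvd_of_lt h1 h2
    exact (ZMod.val_eq_zero i).mp h3
  · rintro rfl
    exact zp_zero g

theorem zp_conj [NeZero N] (g a : S) (i : ZMod N) : a * zp g i * a⁻¹ = zp (a * g * a⁻¹) i := by
  rw [zp, zp, conj_pow]

theorem zp_comm {g k : S} (h : g * k = k * g) (i j : ZMod N) :
    zp g i * zp k j = zp k j * zp g i := by
  have : Commute g k := h
  exact (this.pow_pow i.val j.val)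

end zp

/-- internal presentation data of a wreathed 2-group -/
structure IsWr {S : Type*} [Group S] (n : ℕ) (x y z : S) : Prop where
  hn : 2 ≤ n
  card : Nat.card S = 2 ^ (2 * n + 1)
  ox : orderOf x = 2 ^ n
  comm : x * y = y * x
  disj : Subgroup.zpowers x ⊓ Subgroup.zpowers y = ⊥
  oz : orderOf z = 2
  rel : z * x * z⁻¹ = y

theorem exists_isWr {S : Type*} [Group S] (h : IsWreathed S) :
    ∃ (n : ℕ) (x y z : S), IsWr n x y z := by
  obtain ⟨n, hn, hc, x, y, z, h1, h2, h3, h4, h5⟩ := h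
  exact ⟨n, x, y, z, ⟨hn, hc, h1, h2, h3, h4, h5⟩⟩

namespace IsWr

variable {S : Type*} [Group S] {n : ℕ} {x y z : S}

instance neZero_two_pow (n : ℕ) : NeZero (2 ^ n) := ⟨by positivity⟩

theorem zz (h : IsWr n x y z) : z * z = 1 := by
  have := pow_orderOf_eq_one z
  rw [h.oz, pow_two] at this
  exact this

theorem z_inv (h : IsWr n x y z) : z⁻¹ = z := inv_eq_of_mul_eq_one_left h.zz

theorem xN (h : IsWr n x y z) : x ^ (2 ^ n) = 1 := by
  rw [← h.ox]; exact pow_orderOf_eq_one x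

theorem oy (h : IsWr n x y z) : orderOf y = 2 ^ n := by
  rw [← h.rel, ← h.ox]
  have : z * x * z⁻¹ = (MulAut.conj z).toMonoidHom x := rfl
  rw [this, orderOf_injective _ (MulAut.conj z).injective]

theorem yN (h : IsWr n x y z) : y ^ (2 ^ n) = 1 := by
  rw [← h.oy]; exact pow_orderOf_eq_one y

theorem rel' (h : IsWr n x y z) : z * y * z⁻¹ = x := by
  rw [← h.rel, h.z_inv]
  calc z * (z * x * z) * z = (z * z) * x * (z * z) := by group
    _ = x := by rw [h.zz, one_mul, mul_one]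

/-- `P i j = x^i y^j` -/
def P (_h : IsWr n x y z) (i j : ZMod (2 ^ n)) : S := zp x i * zp y j

/-- `Q i j = x^i y^j z` -/
def Q (_h : IsWr n x y z) (i j : ZMod (2 ^ n)) : S := zp x i * zp y j * z

theorem z_zpx (h : IsWr n x y z) (i : ZMod (2 ^ n)) : z * zp x i = zp y i * z := by
  have := zp_conj x z i
  rw [h.rel] at this
  rw [← this]; group

theorem z_zpy (h : IsWr n x y z) (i : ZMod (2 ^ n)) : z * zp y i = zp x i * z := by
  have := zp_conj y z i
  rw [h.rel'] at this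
  rw [← this]; group

theorem P_mul_P (h : IsWr n x y z) (i j k l : ZMod (2 ^ n)) :
    h.P i j * h.P k l = h.P (i + k) (j + l) := by
  simp only [P]
  rw [zp_add h.xN, zp_add h.yN]
  have := zp_comm h.comm k j
  calc zp x i * zp y j * (zp x k * zp y l) = zp x i * (zp y j * zp x k) * zp y l := by group
    _ = zp x i * (zp x k * zp y j) * zp y l := by rw [this]
    _ = _ := by group

theorem P_mul_Q (h : IsWr n x y z) (i j k l : ZMod (2 ^ n)) :
    h.P i j * h.Q k l = h.Q (i + k) (j + l) := by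
  have := h.P_mul_P i j k l
  simp only [P, Q] at this ⊢
  rw [← this]; group

theorem z_mul_P (h : IsWr n x y z) (k l : ZMod (2 ^ n)) : z * h.P k l = h.P l k * z := by
  simp only [P]
  calc z * (zp x k * zp y l) = (z * zp x k) * zp y l := by group
    _ = zp y k * (z * zp y l) := by rw [h.z_zpx]; group
    _ = zp y k * zp x l * z := by rw [h.z_zpy]; group
    _ = zp x l * zp y k * z := by rw [zp_comm h.comm l k]

theorem Q_mul_P (h : IsWr n x y z) (i j k l : ZMod (2 ^ n)) :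
    h.Q i j * h.P k l = h.Q (i + l) (j + k) := by
  have e1 : h.Q i j = h.P i j * z := rfl
  have e2 : h.Q (i + l) (j + k) = h.P (i + l) (j + k) * z := rfl
  rw [e1, e2, ← h.P_mul_P, mul_assoc, h.z_mul_P, mul_assoc]

theorem Q_mul_Q (h : IsWr n x y z) (i j k l : ZMod (2 ^ n)) :
    h.Q i j * h.Q k l = h.P (i + l) (j + k) := by
  have e1 : h.Q k l = h.P k l * z := rfl
  rw [e1, ← mul_assoc, h.Q_mul_P]
  have e2 : h.Q (i + l) (j + k) = h.P (i + l) (j + k) * z := rfl
  rw [e2, mul_assoc, h.zz, mul_one]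

theorem P_zero (h : IsWr n x y z) : h.P 0 0 = 1 := by
  simp only [P]; rw [zp_zero, zp_zero, one_mul]

theorem P_inv (h : IsWr n x y z) (i j : ZMod (2 ^ n)) : (h.P i j)⁻¹ = h.P (-i) (-j) := by
  rw [inv_eq_iff_mul_eq_one, h.P_mul_P, add_neg_cancel, add_neg_cancel, h.P_zero]

theorem Q_inv (h : IsWr n x y z) (i j : ZMod (2 ^ n)) : (h.Q i j)⁻¹ = h.Q (-j) (-i) := by
  rw [inv_eq_iff_mul_eq_one, h.Q_mul_Q, add_neg_cancel, add_neg_cancel, h.P_zero]

theorem P_eq_one_iff (h : IsWr n x y z) (i j : ZMod (2 ^ n)) : h.P i j = 1 ↔ i = 0 ∧ j = 0 := by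
  constructor
  · intro hP
    simp only [P] at hP
    have h1 : zp x i = (zp y j)⁻¹ := eq_inv_of_mul_eq_one_left hP
    have h2 : zp x i ∈ Subgroup.zpowers x ⊓ Subgroup.zpowers y := by
      refine ⟨zp_mem_zpowers x i, ?_⟩
      rw [h1]; exact Subgroup.inv_mem _ (zp_mem_zpowers y j)
    rw [h.disj, Subgroup.mem_bot] at h2
    have h3 : zp y j = 1 := by rw [h2, one_mul] at hP; exact hP
    exact ⟨(zp_eq_one_iff h.ox i).mp h2, (zp_eq_one_iff h.oy j).mp h3⟩
  · rintro ⟨rfl, rfl⟩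
    exact h.P_zero

theorem P_inj (h : IsWr n x y z) {i j k l : ZMod (2 ^ n)} (hP : h.P i j = h.P k l) :
    i = k ∧ j = l := by
  have h1 : h.P (i - k) (j - l) = 1 := by
    rw [sub_eq_add_neg, sub_eq_add_neg, ← h.P_mul_P, ← h.P_inv, hP, mul_inv_cancel]
  have h2 := (h.P_eq_one_iff _ _).mp h1
  exact ⟨sub_eq_zero.mp h2.1, sub_eq_zero.mp h2.2⟩

theorem x_ne_one (h : IsWr n x y z) : x ≠ 1 := by
  intro hx
  have := h.ox
  rw [hx, orderOf_one] at this
  have h2 : 2 ^ n ≥ 2 ^ 1 := Nat.pow_le_pow_right (by norm_num) (by have := h.hn; omega)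
  omega

theorem z_ne_P (h : IsWr n x y z) (i j : ZMod (2 ^ n)) : z ≠ h.P i j := by
  intro hz
  -- z commutes with x
  have hx1 : x = h.P 1 0 := by
    simp only [P]; rw [zp_zero, mul_one, zp_one_eq h.xN]
  have hcomm : h.P i j * h.P 1 0 = h.P 1 0 * h.P i j := by
    rw [h.P_mul_P, h.P_mul_P, add_comm i 1, add_comm j 0]
  rw [← hz, ← hx1] at hcomm
  have hxy : y = x := by
    rw [← h.rel, hcomm]; group
  have h2 : x ∈ Subgroup.zpowers x ⊓ Subgroup.zpowers y := by
    refine ⟨Subgroup.mem_zpowers x, ?_⟩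
    rw [hxy]; exact Subgroup.mem_zpowers x
  rw [h.disj, Subgroup.mem_bot] at h2
  exact h.x_ne_one h2

theorem P_ne_Q (h : IsWr n x y z) (i j k l : ZMod (2 ^ n)) : h.P i j ≠ h.Q k l := by
  intro hPQ
  have e1 : h.Q k l = h.P k l * z := rfl
  rw [e1] at hPQ
  have : z = h.P (-k + i) (-l + j) := by
    rw [← h.P_mul_P, ← h.P_inv, hPQ]; group
  exact h.z_ne_P _ _ this

theorem Q_inj (h : IsWr n x y z) {i j k l : ZMod (2 ^ n)} (hQ : h.Q i j = h.Q k l) :
    i = k ∧ j = l := by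
  have e1 : h.Q i j = h.P i j * z := rfl
  have e2 : h.Q k l = h.P k l * z := rfl
  rw [e1, e2] at hQ
  exact h.P_inj (mul_right_cancel hQ)

/-- the map from the model -/
def toS (h : IsWr n x y z) : WrM (2 ^ n) → S
  | WrM.p i j => h.P i j
  | WrM.q i j => h.Q i j

theorem toS_mul (h : IsWr n x y z) (a b : WrM (2 ^ n)) : h.toS (a * b) = h.toS a * h.toS b := by
  rcases a with ⟨i, j⟩ | ⟨i, j⟩ <;> rcases b with ⟨k, l⟩ | ⟨k, l⟩
  · exact (h.P_mul_P i j k l).symm
  · exact (h.P_mul_Q i j k l).symm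
  · exact (h.Q_mul_P i j k l).symm
  · exact (h.Q_mul_Q i j k l).symm

theorem toS_injective (h : IsWr n x y z) : Function.Injective h.toS := by
  rintro (⟨i, j⟩ | ⟨i, j⟩) (⟨k, l⟩ | ⟨k, l⟩) hab
  · obtain ⟨rfl, rfl⟩ := h.P_inj hab; rfl
  · exact absurd hab (h.P_ne_Q i j k l)
  · exact absurd hab.symm (h.P_ne_Q k l i j)
  · obtain ⟨rfl, rfl⟩ := h.Q_inj hab; rfl

theorem toS_bijective [Finite S] (h : IsWr n x y z) : Function.Bijective h.toS := by
  have hcard : Nat.card (WrM (2 ^ n)) = Nat.card S := by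
    rw [WrM.card, h.card]; ring
  exact (Nat.bijective_iff_injective_and_card h.toS).mpr ⟨h.toS_injective, hcard⟩

/-- the isomorphism from the model -/
def toHom (h : IsWr n x y z) : WrM (2 ^ n) →* S where
  toFun := h.toS
  map_one' := h.P_zero
  map_mul' := h.toS_mul

noncomputable def iso [Finite S] (h : IsWr n x y z) : WrM (2 ^ n) ≃* S :=
  MulEquiv.ofBijective h.toHom h.toS_bijective

theorem iso_p [Finite S] (h : IsWr n x y z) (i j : ZMod (2 ^ n)) : h.iso (WrM.p i j) = h.P i j := rfl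
theorem iso_q [Finite S] (h : IsWr n x y z) (i j : ZMod (2 ^ n)) : h.iso (WrM.q i j) = h.Q i j := rfl

theorem cases [Finite S] (h : IsWr n x y z) (s : S) :
    (∃ i j, s = h.P i j) ∨ (∃ i j, s = h.Q i j) := by
  obtain ⟨m, rfl⟩ := h.iso.surjective s
  rcases m with ⟨i, j⟩ | ⟨i, j⟩
  · exact Or.inl ⟨i, j, rfl⟩
  · exact Or.inr ⟨i, j, rfl⟩

end IsWr

end Cfsg.Agent.Lib.Helper27
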