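import Mathlib
import Cfsg.Prelude.Def_CaseTheorems
import Cfsg.Agent.Lib.Helper27.Wreathed

set_option autoImplicit false
set_option linter.style.haveILetI false

namespace Cfsg.Agent.Lib.Helper27

open Cfsg

section arith

variable {n : ℕ}

/-- `h = 2^(n-1)` in `ZMod (2^n)` -/
def hh (n : ℕ) : ZMod (2 ^ n) := ((2 ^ (n - 1) : ℕ) : ZMod (2 ^ n))

theorem two_mul_hh (hn : 1 ≤ n) : 2 * hh n = 0 := by
  have h1 : ((2 * 2 ^ (n - 1) : ℕ) : ZMod (2 ^ n)) = 0 := by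
    rw [← pow_succ', Nat.sub_add_cancel hn]
    exact ZMod.natCast_self _
  rw [Nat.cast_mul] at h1
  exact h1

theorem hh_add_hh (hn : 1 ≤ n) : hh n + hh n = 0 := by
  rw [← two_mul]; exact two_mul_hh hn

theorem neg_hh (hn : 1 ≤ n) : - hh n = hh n :=
  neg_eq_of_add_eq_zero_left (hh_add_hh hn)

theorem hh_ne_zero (hn : 1 ≤ n) : hh n ≠ 0 := by
  intro h0
  rw [hh, ZMod.natCast_eq_zero_iff] at h0
  have h1 := Nat.le_of_dvd (by positivity) h0
  have h2 : 2 ^ (n - 1) < 2 ^ n := Nat.pow_lt_pow_right (by norm_num) (by omega)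
  omega

theorem two_mul_eq_zero_iff (hn : 1 ≤ n) (k : ZMod (2 ^ n)) :
    2 * k = 0 ↔ k = 0 ∨ k = hh n := by
  constructor
  · intro hk
    have h1 : ((2 * k.val : ℕ) : ZMod (2 ^ n)) = 0 := by
      rw [Nat.cast_mul, ZMod.natCast_zmod_val]; exact hk
    rw [ZMod.natCast_eq_zero_iff] at h1
    have h2 : 2 ^ n = 2 * 2 ^ (n - 1) := by rw [← pow_succ', Nat.sub_add_cancel hn]
    have h1' : 2 * 2 ^ (n - 1) ∣ 2 * k.val := by rw [← h2]; exact h1
    have h3 : 2 ^ (n - 1) ∣ k.val := (Nat.mul_dvd_mul_iff_left (by norm_num)).mp h1'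
    obtain ⟨c, hc⟩ := h3
    have h4 : k.val < 2 ^ n := ZMod.val_lt k
    have h5 : c < 2 := by
      by_contra hcon
      rw [not_lt] at hcon
      have : 2 ^ (n - 1) * 2 ≤ 2 ^ (n - 1) * c := Nat.mul_le_mul_left _ hcon
      omega
    interval_cases c
    · left
      rw [mul_zero] at hc
      exact (ZMod.val_eq_zero k).mp hc
    · right
      rw [mul_one] at hc
      rw [hh, ← hc, ZMod.natCast_zmod_val]
  · rintro (rfl | rfl)
    · rw [mul_zero]
    · exact two_mul_hh hn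

theorem add_self_eq_zero_iff' (hn : 1 ≤ n) (k : ZMod (2 ^ n)) :
    k + k = 0 ↔ k = 0 ∨ k = hh n := by
  rw [← two_mul]; exact two_mul_eq_zero_iff hn k

end arith

namespace IsWr

variable {S : Type*} [Group S] {n : ℕ} {x y z : S}

theorem one_le_n (h : IsWr n x y z) : 1 ≤ n := le_trans (by norm_num) h.hn

theorem P_conj_P (h : IsWr n x y z) (a b i j : ZMod (2 ^ n)) :
    h.P a b * h.P i j * (h.P a b)⁻¹ = h.P i j := by
  rw [h.P_inv, h.P_mul_P, h.P_mul_P]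
  congr 1 <;> ring

theorem Q_conj_P (h : IsWr n x y z) (a b i j : ZMod (2 ^ n)) :
    h.Q a b * h.P i j * (h.Q a b)⁻¹ = h.P j i := by
  rw [h.Q_inv, h.Q_mul_P, h.Q_mul_Q]
  congr 1 <;> ring

theorem P_conj_Q (h : IsWr n x y z) (a b i j : ZMod (2 ^ n)) :
    h.P a b * h.Q i j * (h.P a b)⁻¹ = h.Q (i + (a - b)) (j - (a - b)) := by
  rw [h.P_inv, h.P_mul_Q, h.Q_mul_P]
  congr 1 <;> ring

theorem Q_conj_Q (h : IsWr n x y z) (a b i j : ZMod (2 ^ n)) :
    h.Q a b * h.Q i j * (h.Q a b)⁻¹ = h.Q (j + (a - b)) (i - (a - b)) := by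
  rw [h.Q_inv, h.Q_mul_Q, h.P_mul_Q]
  congr 1 <;> ring

theorem P_ne_one_iff (h : IsWr n x y z) (i j : ZMod (2 ^ n)) : h.P i j ≠ 1 ↔ ¬ (i = 0 ∧ j = 0) := by
  rw [Ne, h.P_eq_one_iff]

theorem Q_ne_one (h : IsWr n x y z) (i j : ZMod (2 ^ n)) : h.Q i j ≠ 1 := by
  rw [← h.P_zero]; exact (h.P_ne_Q 0 0 i j).symm

theorem orderOf_P_eq_two_iff (h : IsWr n x y z) (i j : ZMod (2 ^ n)) :
    orderOf (h.P i j) = 2 ↔ (i = 0 ∨ i = hh n) ∧ (j = 0 ∨ j = hh n) ∧ ¬ (i = 0 ∧ j = 0) := by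
  haveI : Fact (Nat.Prime 2) := ⟨Nat.prime_two⟩
  rw [orderOf_eq_prime_iff, pow_two, h.P_mul_P, h.P_eq_one_iff, h.P_ne_one_iff,
    add_self_eq_zero_iff' h.one_le_n, add_self_eq_zero_iff' h.one_le_n, and_assoc]

theorem orderOf_Q_eq_two_iff (h : IsWr n x y z) (i j : ZMod (2 ^ n)) :
    orderOf (h.Q i j) = 2 ↔ i + j = 0 := by
  haveI : Fact (Nat.Prime 2) := ⟨Nat.prime_two⟩
  rw [orderOf_eq_prime_iff, pow_two, h.Q_mul_Q, h.P_eq_one_iff]
  constructor
  · rintro ⟨⟨h1, -⟩, -⟩; exact h1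
  · intro h1
    exact ⟨⟨h1, by rw [add_comm]; exact h1⟩, h.Q_ne_one i j⟩

theorem P_comm_Q_iff (h : IsWr n x y z) (a b i j : ZMod (2 ^ n)) :
    h.P a b * h.Q i j = h.Q i j * h.P a b ↔ a = b := by
  rw [h.P_mul_Q, h.Q_mul_P]
  constructor
  · intro hq
    have := (h.Q_inj hq).1
    have h2 : a + i = b + i := by rw [this]; ring
    exact add_right_cancel h2
  · rintro rfl
    congr 1 <;> ring

theorem Q_comm_Q_iff (h : IsWr n x y z) (a b i j : ZMod (2 ^ n)) :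
    h.Q a b * h.Q i j = h.Q i j * h.Q a b ↔ a - b = i - j := by
  rw [h.Q_mul_Q, h.Q_mul_Q]
  constructor
  · intro hp
    have := (h.P_inj hp).1
    linear_combination this
  · intro hab
    congr 1
    · linear_combination hab
    · linear_combination -hab

section homs

variable [Finite S]

theorem iso_symm_P (h : IsWr n x y z) (i j : ZMod (2 ^ n)) : h.iso.symm (h.P i j) = WrM.p i j := by
  rw [MulEquiv.symm_apply_eq]; rfl

theorem iso_symm_Q (h : IsWr n x y z) (i j : ZMod (2 ^ n)) : h.iso.symm (h.Q i j) = WrM.q i j := by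
  rw [MulEquiv.symm_apply_eq]; rfl

/-- projection to `Z_2` with kernel the abelian maximal subgroup -/
noncomputable def epsS (h : IsWr n x y z) : S →* Multiplicative (ZMod 2) :=
  WrM.eps.comp h.iso.symm.toMonoidHom

/-- sum of coordinates -/
noncomputable def sigmaS (h : IsWr n x y z) : S →* Multiplicative (ZMod (2 ^ n)) :=
  WrM.sigma.comp h.iso.symm.toMonoidHom

/-- the map to the dihedral group -/
noncomputable def toDihS (h : IsWr n x y z) : S →* DihedralGroup (2 ^ n) :=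
  WrM.toDih.comp h.iso.symm.toMonoidHom

theorem epsS_P (h : IsWr n x y z) (i j : ZMod (2 ^ n)) : h.epsS (h.P i j) = Multiplicative.ofAdd 0 := by
  show WrM.eps (h.iso.symm (h.P i j)) = _
  rw [h.iso_symm_P]; rfl

theorem epsS_Q (h : IsWr n x y z) (i j : ZMod (2 ^ n)) : h.epsS (h.Q i j) = Multiplicative.ofAdd 1 := by
  show WrM.eps (h.iso.symm (h.Q i j)) = _
  rw [h.iso_symm_Q]; rfl

theorem sigmaS_P (h : IsWr n x y z) (i j : ZMod (2 ^ n)) :
    h.sigmaS (h.P i j) = Multiplicative.ofAdd (i + j) := by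
  show WrM.sigma (h.iso.symm (h.P i j)) = _
  rw [h.iso_symm_P]; rfl

theorem sigmaS_Q (h : IsWr n x y z) (i j : ZMod (2 ^ n)) :
    h.sigmaS (h.Q i j) = Multiplicative.ofAdd (i + j) := by
  show WrM.sigma (h.iso.symm (h.Q i j)) = _
  rw [h.iso_symm_Q]; rfl

theorem toDihS_P (h : IsWr n x y z) (i j : ZMod (2 ^ n)) :
    h.toDihS (h.P i j) = DihedralGroup.r (i - j) := by
  show WrM.toDih (h.iso.symm (h.P i j)) = _
  rw [h.iso_symm_P]; rfl

theorem toDihS_Q (h : IsWr n x y z) (i j : ZMod (2 ^ n)) :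
    h.toDihS (h.Q i j) = DihedralGroup.sr (j - i) := by
  show WrM.toDih (h.iso.symm (h.Q i j)) = _
  rw [h.iso_symm_Q]; rfl

end homs

end IsWr

end Cfsg.Agent.Lib.Helper27
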