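import Mathlib
import Cfsg.Prelude.Def_CaseTheorems
import Cfsg.Agent.Lib.Helper27.WreathedBasic

set_option autoImplicit false
set_option linter.style.haveILetI false

namespace Cfsg.Agent.Lib.Helper27

open Cfsg

namespace IsWr

variable {S : Type*} [Group S] [Finite S] {n : ℕ} {x y z : S}

/-- if also `|S| = 2^(2m+1)` then `m = n` -/
theorem n_eq (h : IsWr n x y z) {m : ℕ} (hm : Nat.card S = 2 ^ (2 * m + 1)) : m = n := by
  have := h.card
  rw [hm] at this
  have h2 := Nat.pow_right_injective (le_refl 2) this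
  omega

/-- the abelian subgroup of index 2 -/
noncomputable def U (h : IsWr n x y z) : Subgroup S := h.epsS.ker

theorem mem_U_iff (h : IsWr n x y z) (s : S) : s ∈ h.U ↔ ∃ i j, s = h.P i j := by
  rw [U, MonoidHom.mem_ker]
  constructor
  · intro hs
    rcases h.cases s with ⟨i, j, rfl⟩ | ⟨i, j, rfl⟩
    · exact ⟨i, j, rfl⟩
    · rw [h.epsS_Q] at hs
      exact absurd hs (by decide)
  · rintro ⟨i, j, rfl⟩
    rw [h.epsS_P]; rfl

theorem P_mem_U (h : IsWr n x y z) (i j : ZMod (2 ^ n)) : h.P i j ∈ h.U :=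
  (h.mem_U_iff _).mpr ⟨i, j, rfl⟩

theorem Q_not_mem_U (h : IsWr n x y z) (i j : ZMod (2 ^ n)) : h.Q i j ∉ h.U := by
  rw [h.mem_U_iff]
  rintro ⟨a, b, hab⟩
  exact h.P_ne_Q a b i j hab.symm

theorem epsS_surjective (h : IsWr n x y z) : Function.Surjective h.epsS := by
  intro a
  have : ∀ b : ZMod 2, b = 0 ∨ b = 1 := by decide
  rcases this (Multiplicative.toAdd a) with h0 | h1
  · exact ⟨h.P 0 0, by rw [h.epsS_P]; exact congrArg Multiplicative.ofAdd h0.symm⟩
  · exact ⟨h.Q 0 0, by rw [h.epsS_Q]; exact congrArg Multiplicative.ofAdd h1.symm⟩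

theorem index_U (h : IsWr n x y z) : h.U.index = 2 := by
  rw [U, Subgroup.index_ker, MonoidHom.range_eq_top.mpr h.epsS_surjective, Subgroup.card_top,
    Nat.card_eq_fintype_card, Fintype.card_multiplicative, ZMod.card]

theorem card_U (h : IsWr n x y z) : Nat.card h.U = 2 ^ (2 * n) := by
  have h1 := h.U.card_mul_index
  rw [h.index_U, h.card, pow_succ] at h1
  exact Nat.eq_of_mul_eq_mul_right (by norm_num) h1

theorem U_comm (h : IsWr n x y z) : IsMulCommutative h.U := by
  rw [isMulCommutative_iff]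
  rintro ⟨a, ha⟩ ⟨b, hb⟩
  obtain ⟨i, j, rfl⟩ := (h.mem_U_iff a).mp ha
  obtain ⟨k, l, rfl⟩ := (h.mem_U_iff b).mp hb
  apply Subtype.ext
  show h.P i j * h.P k l = h.P k l * h.P i j
  rw [h.P_mul_P, h.P_mul_P, add_comm i k, add_comm j l]

/-- the parametrisation of `U` -/
def pHom (h : IsWr n x y z) : Multiplicative (ZMod (2 ^ n) × ZMod (2 ^ n)) →* S where
  toFun a := h.P (Multiplicative.toAdd a).1 (Multiplicative.toAdd a).2
  map_one' := h.P_zero
  map_mul' a b := (h.P_mul_P _ _ _ _).symm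

theorem pHom_injective (h : IsWr n x y z) : Function.Injective h.pHom := by
  intro a b hab
  have := h.P_inj hab
  apply Multiplicative.toAdd.injective
  exact Prod.ext this.1 this.2

theorem pHom_range (h : IsWr n x y z) : h.pHom.range = h.U := by
  ext s
  rw [MonoidHom.mem_range, h.mem_U_iff]
  constructor
  · rintro ⟨a, rfl⟩
    exact ⟨_, _, rfl⟩
  · rintro ⟨i, j, rfl⟩
    exact ⟨Multiplicative.ofAdd (i, j), rfl⟩

theorem four_le (h : IsWr n x y z) : 4 ≤ 2 ^ n := by
  calc 4 = 2 ^ 2 := by norm_num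
    _ ≤ 2 ^ n := Nat.pow_le_pow_right (by norm_num) h.hn

/-- first coordinate, tagged by type -/
def tag : WrM (2 ^ n) → ZMod (2 ^ n) ⊕ ZMod (2 ^ n)
  | WrM.p i _ => Sum.inl i
  | WrM.q i _ => Sum.inr i

/-- a commutative subgroup containing a `Q` has at most `2 * 2^n` elements -/
theorem card_le_of_comm_of_Q_mem (h : IsWr n x y z) (V : Subgroup S) (hV : IsMulCommutative V)
    {i j : ZMod (2 ^ n)} (hQ : h.Q i j ∈ V) : Nat.card V ≤ 2 * 2 ^ n := by
  rw [isMulCommutative_iff] at hV
  have hc : ∀ v ∈ V, v * h.Q i j = h.Q i j * v := by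
    intro v hv
    have := hV ⟨v, hv⟩ ⟨h.Q i j, hQ⟩
    exact congrArg Subtype.val this
  let f : V → ZMod (2 ^ n) ⊕ ZMod (2 ^ n) := fun v => tag (h.iso.symm v.1)
  have hf : Function.Injective f := by
    rintro ⟨v, hv⟩ ⟨w, hw⟩ hvw
    apply Subtype.ext
    show v = w
    have hcv := hc v hv
    have hcw := hc w hw
    rcases h.cases v with ⟨a, b, rfl⟩ | ⟨a, b, rfl⟩ <;>
      rcases h.cases w with ⟨c, d, rfl⟩ | ⟨c, d, rfl⟩
    · rw [h.P_comm_Q_iff] at hcv hcw
      have e : tag (h.iso.symm (h.P a b)) = tag (h.iso.symm (h.P c d)) := hvw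
      rw [h.iso_symm_P, h.iso_symm_P] at e
      have e' : a = c := Sum.inl.inj e
      rw [← hcv, ← hcw, e']
    · have e : tag (h.iso.symm (h.P a b)) = tag (h.iso.symm (h.Q c d)) := hvw
      rw [h.iso_symm_P, h.iso_symm_Q] at e
      exact absurd e (by simp [tag])
    · have e : tag (h.iso.symm (h.Q a b)) = tag (h.iso.symm (h.P c d)) := hvw
      rw [h.iso_symm_P, h.iso_symm_Q] at e
      exact absurd e (by simp [tag])
    · rw [h.Q_comm_Q_iff] at hcv hcw
      have e : tag (h.iso.symm (h.Q a b)) = tag (h.iso.symm (h.Q c d)) := hvw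
      rw [h.iso_symm_Q, h.iso_symm_Q] at e
      have e' : a = c := Sum.inr.inj e
      have e'' : b = d := by
        have : a - b = c - d := hcv.trans hcw.symm
        rw [e'] at this
        linear_combination -this
      rw [e', e'']
  have h1 := Nat.card_le_card_of_injective f hf
  rw [Nat.card_sum, Nat.card_zmod] at h1
  omega

theorem eq_U_of_comm_of_card (h : IsWr n x y z) (V : Subgroup S) (hV : IsMulCommutative V)
    (hc : Nat.card V = 2 ^ (2 * n)) : V = h.U := by
  have hle : V ≤ h.U := by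
    intro v hv
    rcases h.cases v with ⟨a, b, rfl⟩ | ⟨a, b, rfl⟩
    · exact h.P_mem_U a b
    · exfalso
      have h1 := h.card_le_of_comm_of_Q_mem V hV hv
      rw [hc] at h1
      have h2 := h.four_le
      have h3 : 2 ^ (2 * n) = 2 ^ n * 2 ^ n := by rw [two_mul, pow_add]
      rw [h3] at h1
      nlinarith
  exact Subgroup.eq_of_le_of_card_ge hle (by rw [h.card_U, hc])

end IsWr

end Cfsg.Agent.Lib.Helper27
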