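import Mathlib
import Cfsg.Prelude.Def_CaseTheorems
import Cfsg.Agent.Lib.Helper27.WreathedStruct

set_option autoImplicit false
set_option linter.style.haveILetI false
set_option linter.unusedSectionVars false

namespace Cfsg.Agent.Lib.Helper27

open Cfsg
open scoped commutatorElement

namespace IsWr

variable {S : Type*} [Group S] [Finite S] {n : ℕ} {x y z : S}

theorem one_ne_zero' (h : IsWr n x y z) : (1 : ZMod (2 ^ n)) ≠ 0 := by
  haveI : Fact (1 < 2 ^ n) := ⟨lt_of_lt_of_le (by norm_num) h.four_le⟩
  exact one_ne_zero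

theorem mem_center_iff (h : IsWr n x y z) (s : S) :
    s ∈ Subgroup.center S ↔ ∃ a, s = h.P a a := by
  rw [Subgroup.mem_center_iff]
  constructor
  · intro hs
    rcases h.cases s with ⟨a, b, rfl⟩ | ⟨a, b, rfl⟩
    · have := hs (h.Q 0 0)
      have h2 := (h.P_comm_Q_iff a b 0 0).mp this.symm
      exact ⟨a, by rw [← h2]⟩
    · exfalso
      have := hs (h.P 1 0)
      have h2 := (h.P_comm_Q_iff 1 0 a b).mp this
      exact h.one_ne_zero' h2
  · rintro ⟨a, rfl⟩ g
    rcases h.cases g with ⟨i, j, rfl⟩ | ⟨i, j, rfl⟩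
    · rw [h.P_mul_P, h.P_mul_P, add_comm i a, add_comm j a]
    · exact ((h.P_comm_Q_iff a a i j).mpr rfl).symm

/-- parametrisation of the centre -/
def cHom (h : IsWr n x y z) : Multiplicative (ZMod (2 ^ n)) →* S where
  toFun a := h.P (Multiplicative.toAdd a) (Multiplicative.toAdd a)
  map_one' := h.P_zero
  map_mul' a b := (h.P_mul_P _ _ _ _).symm

theorem cHom_injective (h : IsWr n x y z) : Function.Injective h.cHom := by
  intro a b hab
  exact Multiplicative.toAdd.injective (h.P_inj hab).1

theorem cHom_range (h : IsWr n x y z) : h.cHom.range = Subgroup.center S := by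
  ext s
  rw [MonoidHom.mem_range, h.mem_center_iff]
  constructor
  · rintro ⟨a, rfl⟩; exact ⟨_, rfl⟩
  · rintro ⟨a, rfl⟩; exact ⟨Multiplicative.ofAdd a, rfl⟩

/-- parametrisation of the derived subgroup -/
def dHom (h : IsWr n x y z) : Multiplicative (ZMod (2 ^ n)) →* S where
  toFun a := h.P (Multiplicative.toAdd a) (-(Multiplicative.toAdd a))
  map_one' := by
    show h.P 0 (-0) = 1
    rw [neg_zero]; exact h.P_zero
  map_mul' a b := by
    show h.P (Multiplicative.toAdd a + Multiplicative.toAdd b)
      (-(Multiplicative.toAdd a + Multiplicative.toAdd b)) = _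
    rw [h.P_mul_P, neg_add]

theorem dHom_injective (h : IsWr n x y z) : Function.Injective h.dHom := by
  intro a b hab
  exact Multiplicative.toAdd.injective (h.P_inj hab).1

theorem mem_commutator_iff (h : IsWr n x y z) (s : S) :
    s ∈ commutator S ↔ ∃ d, s = h.P d (-d) := by
  constructor
  · intro hs
    have h1 := Abelianization.commutator_subset_ker (h.sigmaS.prod h.epsS) hs
    rw [MonoidHom.mem_ker, MonoidHom.prod_apply, Prod.mk_eq_one] at h1
    obtain ⟨h2, h3⟩ := h1
    rcases h.cases s with ⟨a, b, rfl⟩ | ⟨a, b, rfl⟩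
    · rw [h.sigmaS_P] at h2
      have h4 : a + b = 0 := h2
      refine ⟨a, ?_⟩
      have : b = -a := by linear_combination h4
      rw [this]
    · rw [h.epsS_Q] at h3
      exact absurd h3 (by decide)
  · rintro ⟨d, rfl⟩
    have h1 : ⁅h.P d 0, h.Q 0 0⁆ = h.P d (-d) := by
      rw [commutatorElement_def, h.P_conj_Q, h.Q_inv, h.Q_mul_Q]
      congr 1 <;> ring
    rw [← h1]
    exact Subgroup.commutator_mem_commutator (Subgroup.mem_top _) (Subgroup.mem_top _)

theorem dHom_range (h : IsWr n x y z) : h.dHom.range = commutator S := by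
  ext s
  rw [MonoidHom.mem_range, h.mem_commutator_iff]
  constructor
  · rintro ⟨a, rfl⟩; exact ⟨_, rfl⟩
  · rintro ⟨a, rfl⟩; exact ⟨Multiplicative.ofAdd a, rfl⟩

theorem toDihS_surjective (h : IsWr n x y z) : Function.Surjective h.toDihS := by
  rintro (i | i)
  · exact ⟨h.P i 0, by rw [h.toDihS_P, sub_zero]⟩
  · exact ⟨h.Q 0 i, by rw [h.toDihS_Q, sub_zero]⟩

theorem toDihS_ker (h : IsWr n x y z) : h.toDihS.ker = Subgroup.center S := by
  ext s
  rw [MonoidHom.mem_ker, h.mem_center_iff]
  constructor
  · intro hs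
    rcases h.cases s with ⟨a, b, rfl⟩ | ⟨a, b, rfl⟩
    · rw [h.toDihS_P, DihedralGroup.one_def] at hs
      have h1 : a - b = 0 := DihedralGroup.r.inj hs
      exact ⟨a, by rw [sub_eq_zero.mp h1]⟩
    · rw [h.toDihS_Q, DihedralGroup.one_def] at hs
      cases hs
  · rintro ⟨a, rfl⟩
    rw [h.toDihS_P, sub_self]; rfl

theorem isCyclic_of_range {A : Type*} [Group A] [IsCyclic A] (f : A →* S) (H : Subgroup S)
    (hH : f.range = H) : IsCyclic H := by
  have e : f.range ≃* H := MulEquiv.subgroupCongr hH
  have hs : Function.Surjective (e.toMonoidHom.comp f.rangeRestrict) :=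
    e.surjective.comp f.rangeRestrict_surjective
  exact isCyclic_of_surjective _ hs

theorem card_of_range {A : Type*} [Group A] (f : A →* S) (hf : Function.Injective f)
    (H : Subgroup S) (hH : f.range = H) : Nat.card H = Nat.card A := by
  rw [← hH]
  exact (Nat.card_congr (MonoidHom.ofInjective hf).toEquiv).symm

theorem center_isCyclic (h : IsWr n x y z) : IsCyclic (Subgroup.center S) :=
  isCyclic_of_range h.cHom _ h.cHom_range

theorem card_center (h : IsWr n x y z) : Nat.card (Subgroup.center S) = 2 ^ n := by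
  rw [card_of_range h.cHom h.cHom_injective _ h.cHom_range]
  simp

theorem commutator_isCyclic (h : IsWr n x y z) : IsCyclic (commutator S) :=
  isCyclic_of_range h.dHom _ h.dHom_range

theorem card_commutator (h : IsWr n x y z) : Nat.card (commutator S) = 2 ^ n := by
  rw [card_of_range h.dHom h.dHom_injective _ h.dHom_range]
  simp

noncomputable def quotCenterEquiv (h : IsWr n x y z) :
    S ⧸ Subgroup.center S ≃* DihedralGroup (2 ^ n) :=
  (QuotientGroup.quotientMulEquivOfEq h.toDihS_ker.symm).trans
    (QuotientGroup.quotientKerEquivOfSurjective h.toDihS h.toDihS_surjective)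

end IsWr

end Cfsg.Agent.Lib.Helper27
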