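import Mathlib
import Cfsg.Prelude.Def_CaseTheorems
import Cfsg.Agent.Lib.Helper27.WreathedCenter
import Cfsg.Agent.Lib.Helper27.OddAut

/-! Self-centralizing subgroups of a wreathed 2-group having an automorphism of odd order. -/

set_option autoImplicit false
set_option linter.style.haveILetI false
set_option linter.unusedSectionVars false

namespace Cfsg.Agent.Lib.Helper27

open Cfsg

section arith

variable {n : ℕ}

/-- the element of order four of `ZMod (2^n)` -/
def q4 (n : ℕ) : ZMod (2 ^ n) := ((2 ^ (n - 2) : ℕ) : ZMod (2 ^ n))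

theorem two_mul_q4 (hn : 2 ≤ n) : 2 * q4 n = hh n := by
  unfold q4 hh
  have : 2 * 2 ^ (n - 2) = 2 ^ (n - 1) := by
    rw [← pow_succ']; congr 1; omega
  rw [← this]; push_cast; ring

theorem two_mul_eq_hh_iff (hn : 2 ≤ n) (k : ZMod (2 ^ n)) :
    2 * k = hh n ↔ k = q4 n ∨ k = q4 n + hh n := by
  have h1 : 1 ≤ n := by omega
  have := two_mul_eq_zero_iff h1 (k - q4 n)
  rw [mul_sub, two_mul_q4 hn, sub_eq_zero, sub_eq_zero, sub_eq_iff_eq_add] at this
  rw [this, add_comm (hh n)]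

theorem half_mem_iff (hn : 1 ≤ n) (k : ZMod (2 ^ n)) : (k = 0 ∨ k = hh n) ↔ 2 * k = 0 :=
  (two_mul_eq_zero_iff hn k).symm

end arith

namespace IsWr

variable {S : Type*} [Group S] [Finite S] {n : ℕ} {x y z : S}

theorem P_diag_mem (h : IsWr n x y z) (X : Subgroup S)
    (hC : Subgroup.centralizer (X : Set S) ≤ X) (a : ZMod (2 ^ n)) : h.P a a ∈ X := by
  apply hC
  apply Subgroup.center_le_centralizer
  rw [h.mem_center_iff]
  exact ⟨a, rfl⟩

theorem eq_U_of_le_U (h : IsWr n x y z) (X : Subgroup S)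
    (hC : Subgroup.centralizer (X : Set S) ≤ X) (hle : X ≤ h.U) : X = h.U := by
  apply le_antisymm hle
  intro u hu
  apply hC
  rw [Subgroup.mem_centralizer_iff]
  intro g hg
  have hg' := hle hg
  rw [h.mem_U_iff] at hu hg'
  obtain ⟨i, j, rfl⟩ := hu
  obtain ⟨a, b, rfl⟩ := hg'
  rw [h.P_mul_P, h.P_mul_P, add_comm a i, add_comm b j]

theorem exists_Q_of_not_le (h : IsWr n x y z) (X : Subgroup S) (hnle : ¬ X ≤ h.U) :
    ∃ i j, h.Q i j ∈ X := by
  rw [SetLike.not_le_iff_exists] at hnle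
  obtain ⟨g, hg, hgU⟩ := hnle
  rcases h.cases g with ⟨a, b, rfl⟩ | ⟨a, b, rfl⟩
  · exact absurd (h.P_mem_U a b) hgU
  · exact ⟨a, b, hg⟩

theorem pow_two_pow_eq_one (h : IsWr n x y z) (g : S) : g ^ (2 ^ (2 * n + 1)) = 1 := by
  rw [← h.card]; exact pow_card_eq_one'

theorem hh_ne_zero' (h : IsWr n x y z) : hh n ≠ 0 := hh_ne_zero h.one_le_n

theorem q4_add_q4 (h : IsWr n x y z) : q4 n + q4 n = hh n := by
  rw [← two_mul]; exact two_mul_q4 h.hn

section aut

variable (h : IsWr n x y z) (X : Subgroup S) (hC : Subgroup.centralizer (X : Set S) ≤ X)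

/-- the central involution as an element of `X` -/
def zX : X := ⟨h.P (hh n) (hh n), h.P_diag_mem X hC _⟩

theorem zX_mul_zX : h.zX X hC * h.zX X hC = 1 := by
  apply Subtype.ext
  show h.P (hh n) (hh n) * h.P (hh n) (hh n) = 1
  rw [h.P_mul_P, hh_add_hh h.one_le_n, h.P_zero]

theorem zX_ne_one : h.zX X hC ≠ 1 := by
  intro hc
  have : h.P (hh n) (hh n) = 1 := congrArg Subtype.val hc
  rw [h.P_eq_one_iff] at this
  exact h.hh_ne_zero' this.1

theorem aut_central (ψ : MulAut X) (w : X) (hw : ∀ g : X, w * g = g * w) (g : X) :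
    ψ w * g = g * ψ w := by
  have e : g = ψ (ψ⁻¹ g) := by rw [MulAut.apply_inv_self]
  rw [e, ← map_mul, hw, map_mul]

theorem central_sq_diag {i j : ZMod (2 ^ n)} (hQ : h.Q i j ∈ X) (v : X)
    (hv : ∀ g : X, v * g = g * v) : ∃ e, ((v * v : X) : S) = h.P (2 * e) (2 * e) ∨
      ∃ c d, (v : S) = h.Q c d ∧ ((v * v : X) : S) = h.P (c + d) (c + d) := by
  rcases h.cases (v : S) with ⟨c, d, hcd⟩ | ⟨c, d, hcd⟩
  · have h1 := congrArg Subtype.val (hv ⟨h.Q i j, hQ⟩)
    rw [Subgroup.coe_mul, Subgroup.coe_mul, hcd] at h1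
    have h2 := (h.P_comm_Q_iff c d i j).mp h1
    refine ⟨c, Or.inl ?_⟩
    rw [Subgroup.coe_mul, hcd, h.P_mul_P, ← h2, two_mul]
  · refine ⟨0, Or.inr ⟨c, d, hcd, ?_⟩⟩
    rw [Subgroup.coe_mul, hcd, h.Q_mul_Q, add_comm d c]

/-- any automorphism of `X` fixes the central involution (when `X ≰ U`) -/
theorem aut_zX {i j : ZMod (2 ^ n)} (hQ : h.Q i j ∈ X) (ψ : MulAut X) :
    ψ (h.zX X hC) = h.zX X hC := by
  set w : X := ⟨h.P (q4 n) (q4 n), h.P_diag_mem X hC _⟩ with hw
  have hwc : ∀ g : X, w * g = g * w := by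
    intro g
    apply Subtype.ext
    rw [Subgroup.coe_mul, Subgroup.coe_mul]
    have : h.P (q4 n) (q4 n) ∈ Subgroup.center S := (h.mem_center_iff _).mpr ⟨_, rfl⟩
    exact (Subgroup.mem_center_iff.mp this (g : S)).symm
  have hzw : h.zX X hC = w * w := by
    apply Subtype.ext
    show h.P (hh n) (hh n) = h.P (q4 n) (q4 n) * h.P (q4 n) (q4 n)
    rw [h.P_mul_P, h.q4_add_q4]
  have hv := aut_central X ψ w hwc
  have hsq : ∃ e, ((ψ w * ψ w : X) : S) = h.P e e := by
    obtain ⟨e, he | ⟨c, d, -, he⟩⟩ := h.central_sq_diag X hQ (ψ w) hv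
    · exact ⟨_, he⟩
    · exact ⟨_, he⟩
  obtain ⟨e, he⟩ := hsq
  have hψz : ((ψ (h.zX X hC) : X) : S) = h.P e e := by rw [hzw, map_mul]; exact he
  have h1 : ψ (h.zX X hC) * ψ (h.zX X hC) = 1 := by
    rw [← map_mul, h.zX_mul_zX, map_one]
  have h2 : h.P e e * h.P e e = 1 := by
    rw [← hψz, ← Subgroup.coe_mul, h1]; rfl
  rw [h.P_mul_P, h.P_eq_one_iff, add_self_eq_zero_iff' h.one_le_n] at h2
  rcases h2.1 with h0 | h0
  · exfalso
    have : ψ (h.zX X hC) = 1 := by
      apply Subtype.ext; rw [hψz, h0, h.P_zero]; rfl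
    have : ψ (h.zX X hC) = ψ 1 := by rw [this, map_one]
    exact h.zX_ne_one X hC (ψ.injective this)
  · apply Subtype.ext
    rw [hψz, h0]; rfl

theorem pow_eq_one_X (h : IsWr n x y z) (X : Subgroup S) (g : X) : ∃ m : ℕ, g ^ (2 ^ m) = 1 := by
  refine ⟨2 * n + 1, ?_⟩
  apply Subtype.ext
  rw [Subgroup.coe_pow, h.pow_two_pow_eq_one]; rfl

/-- involutions of `U` -/
theorem P_sq_eq_one_iff (h : IsWr n x y z) (c d : ZMod (2 ^ n)) :
    h.P c d * h.P c d = 1 ↔ (c = 0 ∨ c = hh n) ∧ (d = 0 ∨ d = hh n) := by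
  rw [h.P_mul_P, h.P_eq_one_iff, add_self_eq_zero_iff' h.one_le_n, add_self_eq_zero_iff' h.one_le_n]

/-- an odd-order automorphism of `X ≰ U` preserving `X ∩ U` is trivial -/
theorem aut_eq_one_of_U_invariant (h : IsWr n x y z) (X : Subgroup S)
    (hC : Subgroup.centralizer (X : Set S) ≤ X)
    {i j : ZMod (2 ^ n)} (hQ : h.Q i j ∈ X) (φ : MulAut X) {k : ℕ}
    (hk : φ ^ k = 1) (hodd : Odd k)
    (hU : ∀ u : X, (u : S) ∈ h.U → ((φ u : X) : S) ∈ h.U) : φ = 1 := by
  have hn1 := h.one_le_n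
  have hcomm : ∀ a ∈ h.U.subgroupOf X, ∀ b ∈ h.U.subgroupOf X, a * b = b * a := by
    intro a ha b hb
    rw [Subgroup.mem_subgroupOf, h.mem_U_iff] at ha hb
    obtain ⟨c, d, hcd⟩ := ha
    obtain ⟨e, f, hef⟩ := hb
    apply Subtype.ext
    rw [Subgroup.coe_mul, Subgroup.coe_mul, hcd, hef, h.P_mul_P, h.P_mul_P, add_comm c e,
      add_comm d f]
  have hA : ∀ a ∈ h.U.subgroupOf X, φ a ∈ h.U.subgroupOf X := by
    intro a ha
    rw [Subgroup.mem_subgroupOf] at ha ⊢
    exact hU a ha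
  have hidx : ∀ g g' : X, g ∉ h.U.subgroupOf X → g' ∉ h.U.subgroupOf X →
      g⁻¹ * g' ∈ h.U.subgroupOf X := by
    intro g g' hg hg'
    rw [Subgroup.mem_subgroupOf] at hg hg' ⊢
    rcases h.cases (g : S) with ⟨a, b, hab⟩ | ⟨a, b, hab⟩
    · exact absurd (hab ▸ h.P_mem_U a b) hg
    rcases h.cases (g' : S) with ⟨c, d, hcd⟩ | ⟨c, d, hcd⟩
    · exact absurd (hcd ▸ h.P_mem_U c d) hg'
    rw [Subgroup.coe_mul, Subgroup.coe_inv, hab, hcd, h.Q_inv, h.Q_mul_Q]
    exact h.P_mem_U _ _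
  have hzz := h.zX_mul_zX X hC
  have hfz := h.aut_zX X hC hQ φ
  have hzdef : ((h.zX X hC : X) : S) = h.P (hh n) (hh n) := rfl
  by_cases hs : h.P (hh n) 0 ∈ X
  · refine OddAut.eq_one_of_index_two φ hk hodd (h.U.subgroupOf X) hcomm hA (h.pow_eq_one_X X)
      (h.zX X hC) ⟨h.P (hh n) 0, hs⟩ hzz hfz ?_ ?_ ?_ hidx
    · rw [Subgroup.mem_subgroupOf]; exact h.P_mem_U _ _
    · apply Subtype.ext
      show h.P (hh n) 0 * h.P (hh n) 0 = 1
      rw [h.P_mul_P, hh_add_hh hn1, add_zero, h.P_zero]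
    · intro a ha haa
      rw [Subgroup.mem_subgroupOf, h.mem_U_iff] at ha
      obtain ⟨c, d, hcd⟩ := ha
      have h1 : h.P c d * h.P c d = 1 := by
        rw [← hcd, ← Subgroup.coe_mul, haa]; rfl
      rw [h.P_sq_eq_one_iff] at h1
      obtain ⟨hc, hd⟩ := h1
      rcases hc with rfl | rfl <;> rcases hd with rfl | rfl
      · left; apply Subtype.ext; rw [hcd, h.P_zero]; rfl
      · right; right; right
        apply Subtype.ext
        rw [hcd, Subgroup.coe_mul, hzdef]
        show _ = h.P (hh n) (hh n) * h.P (hh n) 0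
        rw [h.P_mul_P, hh_add_hh hn1, add_zero]
      · right; right; left
        apply Subtype.ext; rw [hcd]
      · right; left
        apply Subtype.ext; rw [hcd]; rfl
  · refine OddAut.eq_one_of_index_two φ hk hodd (h.U.subgroupOf X) hcomm hA (h.pow_eq_one_X X)
      (h.zX X hC) 1 hzz hfz (Subgroup.one_mem _) (one_mul 1) ?_ hidx
    intro a ha haa
    rw [Subgroup.mem_subgroupOf, h.mem_U_iff] at ha
    obtain ⟨c, d, hcd⟩ := ha
    have h1 : h.P c d * h.P c d = 1 := by
      rw [← hcd, ← Subgroup.coe_mul, haa]; rfl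
    rw [h.P_sq_eq_one_iff] at h1
    obtain ⟨hc, hd⟩ := h1
    have haX : h.P c d ∈ X := hcd ▸ a.2
    rcases hc with rfl | rfl <;> rcases hd with rfl | rfl
    · left; apply Subtype.ext; rw [hcd, h.P_zero]; rfl
    · exfalso
      apply hs
      have h2 := X.mul_mem haX (h.P_diag_mem X hC (hh n))
      rw [h.P_mul_P, zero_add, hh_add_hh hn1] at h2
      exact h2
    · exact absurd haX hs
    · right; left
      apply Subtype.ext; rw [hcd]; rfl

/-- case (α): `X ∩ U` is the centre; then `X` is abelian with at most three involutions -/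
theorem aut_eq_one_of_diag (h : IsWr n x y z) (X : Subgroup S)
    (hC : Subgroup.centralizer (X : Set S) ≤ X)
    {i j : ZMod (2 ^ n)} (hQ : h.Q i j ∈ X) (hα : ∀ a b, h.P a b ∈ X → a = b)
    (φ : MulAut X) {k : ℕ} (hk : φ ^ k = 1) (hodd : Odd k) : φ = 1 := by
  have hn1 := h.one_le_n
  have hQQ : ∀ c d c' d', h.Q c d ∈ X → h.Q c' d' ∈ X → c - d = c' - d' := by
    intro c d c' d' h1 h2
    have h3 := X.mul_mem h1 (X.inv_mem h2)
    rw [h.Q_inv, h.Q_mul_Q] at h3
    have := hα _ _ h3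
    linear_combination this
  have hcomm : ∀ a ∈ (⊤ : Subgroup X), ∀ b ∈ (⊤ : Subgroup X), a * b = b * a := by
    intro a _ b _
    apply Subtype.ext
    rw [Subgroup.coe_mul, Subgroup.coe_mul]
    rcases h.cases (a : S) with ⟨c, d, hcd⟩ | ⟨c, d, hcd⟩
    · have hcX : h.P c d ∈ X := hcd ▸ a.2
      have := hα _ _ hcX
      subst this
      have hcen : h.P c c ∈ Subgroup.center S := (h.mem_center_iff _).mpr ⟨_, rfl⟩
      rw [hcd]
      exact (Subgroup.mem_center_iff.mp hcen (b : S)).symm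
    · rcases h.cases (b : S) with ⟨e, f, hef⟩ | ⟨e, f, hef⟩
      · have heX : h.P e f ∈ X := hef ▸ b.2
        have := hα _ _ heX
        subst this
        have hcen : h.P e e ∈ Subgroup.center S := (h.mem_center_iff _).mpr ⟨_, rfl⟩
        rw [hef]
        exact (Subgroup.mem_center_iff.mp hcen (a : S))
      · rw [hcd, hef, h.Q_comm_Q_iff]
        exact hQQ _ _ _ _ (hcd ▸ a.2) (hef ▸ b.2)
  have hzz := h.zX_mul_zX X hC
  have hfz := h.aut_zX X hC hQ φ
  have hzdef : ((h.zX X hC : X) : S) = h.P (hh n) (hh n) := rfl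
  have hPinv : ∀ a : X, ∀ c d, (a : S) = h.P c d → a * a = 1 → a = 1 ∨ a = h.zX X hC := by
    intro a c d hcd haa
    have hcX : h.P c d ∈ X := hcd ▸ a.2
    have := hα _ _ hcX
    subst this
    have h1 : h.P c c * h.P c c = 1 := by
      rw [← hcd, ← Subgroup.coe_mul, haa]; rfl
    rw [h.P_sq_eq_one_iff] at h1
    rcases h1.1 with rfl | rfl
    · left; apply Subtype.ext; rw [hcd, h.P_zero]; rfl
    · right; apply Subtype.ext; rw [hcd]; rfl
  by_cases hs : ∃ c d, h.Q c d ∈ X ∧ c + d = 0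
  · obtain ⟨c, d, hcdX, hcd0⟩ := hs
    refine OddAut.eq_one_of_index_two φ hk hodd ⊤ hcomm (fun _ _ => Subgroup.mem_top _)
      (h.pow_eq_one_X X) (h.zX X hC) ⟨h.Q c d, hcdX⟩ hzz hfz (Subgroup.mem_top _) ?_ ?_
      (fun g _ hg => absurd (Subgroup.mem_top g) hg)
    · apply Subtype.ext
      show h.Q c d * h.Q c d = 1
      rw [h.Q_mul_Q, hcd0, add_comm d c, hcd0, h.P_zero]
    · intro a _ haa
      rcases h.cases (a : S) with ⟨e, f, hef⟩ | ⟨e, f, hef⟩
      · rcases hPinv a e f hef haa with h1 | h1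
        · left; exact h1
        · right; left; exact h1
      · have hefX : h.Q e f ∈ X := hef ▸ a.2
        have h1 : h.Q e f * h.Q e f = 1 := by
          rw [← hef, ← Subgroup.coe_mul, haa]; rfl
        rw [h.Q_mul_Q, h.P_eq_one_iff] at h1
        have h2 := hQQ _ _ _ _ hefX hcdX
        have h3 : 2 * (e - c) = 0 := by linear_combination h2 + h1.1 - hcd0
        rw [two_mul_eq_zero_iff hn1] at h3
        rcases h3 with h3 | h3
        · right; right; left
          apply Subtype.ext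
          rw [hef]
          show h.Q e f = h.Q c d
          have e1 : e = c := by linear_combination h3
          have e2 : f = d := by linear_combination h1.1 - hcd0 - h3
          rw [e1, e2]
        · right; right; right
          apply Subtype.ext
          rw [hef, Subgroup.coe_mul, hzdef]
          show h.Q e f = h.P (hh n) (hh n) * h.Q c d
          rw [h.P_mul_Q]
          have e1 : e = hh n + c := by linear_combination h3
          have e2 : f = hh n + d := by
            linear_combination h1.1 - hcd0 - h3 - hh_add_hh hn1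
          rw [e1, e2]
  · rw [not_exists] at hs
    refine OddAut.eq_one_of_index_two φ hk hodd ⊤ hcomm (fun _ _ => Subgroup.mem_top _)
      (h.pow_eq_one_X X) (h.zX X hC) 1 hzz hfz (Subgroup.mem_top _) (one_mul 1) ?_
      (fun g _ hg => absurd (Subgroup.mem_top g) hg)
    intro a _ haa
    rcases h.cases (a : S) with ⟨e, f, hef⟩ | ⟨e, f, hef⟩
    · rcases hPinv a e f hef haa with h1 | h1
      · left; exact h1
      · right; left; exact h1
    · exfalso
      have hefX : h.Q e f ∈ X := hef ▸ a.2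
      have h1 : h.Q e f * h.Q e f = 1 := by
        rw [← hef, ← Subgroup.coe_mul, haa]; rfl
      rw [h.Q_mul_Q, h.P_eq_one_iff] at h1
      exact hs e ⟨f, hefX, by linear_combination h1.2⟩

/-- case (γ): `X ∩ U` is invariant under all automorphisms -/
theorem U_invariant_of_gamma (h : IsWr n x y z) (X : Subgroup S)
    {a b : ZMod (2 ^ n)} (hab : h.P a b ∈ X) (hne : 2 * (a - b) ≠ 0)
    (ψ : MulAut X) (u : X) (hu : (u : S) ∈ h.U) : ((ψ u : X) : S) ∈ h.U := by
  by_contra hcon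
  rcases h.cases ((ψ u : X) : S) with ⟨c, d, hcd⟩ | ⟨c, d, hcd⟩
  · exact hcon (hcd ▸ h.P_mem_U c d)
  rw [h.mem_U_iff] at hu
  obtain ⟨e, f, hef⟩ := hu
  set g : X := ⟨h.P a b, hab⟩ with hg
  set g' : X := ψ⁻¹ g with hg'
  have hψg' : ψ g' = g := by rw [hg', MulAut.apply_inv_self]
  rcases h.cases (g' : S) with ⟨a', b', hab'⟩ | ⟨a', b', hab'⟩
  · have h1 : u * g' = g' * u := by
      apply Subtype.ext
      rw [Subgroup.coe_mul, Subgroup.coe_mul, hef, hab', h.P_mul_P, h.P_mul_P, add_comm e a',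
        add_comm f b']
    have h2 : ψ u * g = g * ψ u := by rw [← hψg', ← map_mul, h1, map_mul]
    have h3 := congrArg Subtype.val h2
    rw [Subgroup.coe_mul, Subgroup.coe_mul, hcd] at h3
    have h4 : h.P a b * h.Q c d = h.Q c d * h.P a b := h3.symm
    rw [h.P_comm_Q_iff] at h4
    apply hne
    rw [h4, sub_self, mul_zero]
  · have h0 : ((g' * g' : X) : S) = h.P (a' + b') (b' + a') := by
      rw [Subgroup.coe_mul, hab', h.Q_mul_Q]
    have h1 : u * (g' * g') = (g' * g') * u := by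
      apply Subtype.ext
      simp only [Subgroup.coe_mul]
      rw [hab', hef, h.Q_mul_Q, h.P_mul_P, h.P_mul_P, add_comm e, add_comm f]
    have h2 : ψ u * (g * g) = (g * g) * ψ u := by
      rw [← hψg', ← map_mul, ← map_mul, h1, map_mul, map_mul]
    have h3 := congrArg Subtype.val h2
    simp only [Subgroup.coe_mul] at h3
    have hgc : (g : S) = h.P a b := rfl
    rw [hcd, hgc, h.P_mul_P] at h3
    have h4 : h.P (a + a) (b + b) * h.Q c d = h.Q c d * h.P (a + a) (b + b) := h3.symm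
    rw [h.P_comm_Q_iff] at h4
    apply hne
    linear_combination h4

/-- case (β), odd: `X ∩ U` is invariant under all automorphisms -/
theorem U_invariant_of_beta_odd (h : IsWr n x y z) (X : Subgroup S)
    (hC : Subgroup.centralizer (X : Set S) ≤ X)
    {i j : ZMod (2 ^ n)} (hQ : h.Q i j ∈ X) (hβ : ∀ a b, h.P a b ∈ X → 2 * (a - b) = 0)
    (hs : h.P (hh n) 0 ∈ X) (hodd : ¬ ∃ e, i + j = 2 * e)
    (ψ : MulAut X) (u : X) (hu : (u : S) ∈ h.U) : ((ψ u : X) : S) ∈ h.U := by
  by_contra hcon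
  rcases h.cases ((ψ u : X) : S) with ⟨c, d, hcd⟩ | ⟨c, d, hcd⟩
  · exact hcon (hcd ▸ h.P_mem_U c d)
  rw [h.mem_U_iff] at hu
  obtain ⟨a, b, hab⟩ := hu
  have habX : h.P a b ∈ X := hab ▸ u.2
  have h2ab := hβ a b habX
  set w : X := ⟨h.P a a, h.P_diag_mem X hC a⟩ with hw
  have hwc : ∀ g : X, w * g = g * w := by
    intro g
    apply Subtype.ext
    rw [Subgroup.coe_mul, Subgroup.coe_mul]
    have : h.P a a ∈ Subgroup.center S := (h.mem_center_iff _).mpr ⟨_, rfl⟩
    exact (Subgroup.mem_center_iff.mp this (g : S)).symm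
  have huu : u * u = w * w := by
    apply Subtype.ext
    rw [Subgroup.coe_mul, Subgroup.coe_mul, hab]
    show h.P a b * h.P a b = h.P a a * h.P a a
    rw [h.P_mul_P, h.P_mul_P]
    congr 1
    linear_combination -h2ab
  have hv := aut_central X ψ w hwc
  have hψ : ψ u * ψ u = ψ w * ψ w := by rw [← map_mul, huu, map_mul]
  have hL : ((ψ u * ψ u : X) : S) = h.P (c + d) (d + c) := by
    rw [Subgroup.coe_mul, hcd, h.Q_mul_Q]
  -- the Q element of X
  have hcdX : h.Q c d ∈ X := hcd ▸ (ψ u).2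
  have h3 := X.mul_mem (X.inv_mem hQ) hcdX
  rw [h.Q_inv, h.Q_mul_Q] at h3
  have h4 := hβ _ _ h3
  have hq := two_mul_q4 h.hn
  have hn1 := h.one_le_n
  obtain ⟨e, he | ⟨c', d', hc'd', -⟩⟩ := h.central_sq_diag X hQ (ψ w) hv
  · rw [← hψ, hL] at he
    have h5 := (h.P_inj he).1
    -- c + d = 2 e, and (d - j) - (c - i) ∈ {0, hh}
    rw [two_mul_eq_zero_iff hn1] at h4
    rcases h4 with h4 | h4
    · exact hodd ⟨e - (d - j), by linear_combination h5 + h4⟩
    · exact hodd ⟨e - (d - j) + q4 n, by linear_combination h5 + h4 - hq⟩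
  · -- ψ w central of type Q : impossible since P hh 0 ∈ X
    have h5 := congrArg Subtype.val (hv ⟨h.P (hh n) 0, hs⟩)
    rw [Subgroup.coe_mul, Subgroup.coe_mul, hc'd'] at h5
    have h6 : h.P (hh n) 0 * h.Q c' d' = h.Q c' d' * h.P (hh n) 0 := h5.symm
    rw [h.P_comm_Q_iff] at h6
    exact h.hh_ne_zero' h6

/-- the "good" subgroups `Q₈ ∘ Z(S)` in coordinates -/
structure IsGood (h : IsWr n x y z) (X : Subgroup S) (δ : ZMod (2 ^ n)) : Prop where
  P_mem : ∀ a b, h.P a b ∈ X ↔ 2 * (a - b) = 0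
  Q_mem : ∀ c d, h.Q c d ∈ X ↔ 2 * (c - d - δ) = 0

/-- Classification of the self-centralizing subgroups with an automorphism of odd order. -/
theorem classification (h : IsWr n x y z) (X : Subgroup S)
    (hC : Subgroup.centralizer (X : Set S) ≤ X) (hA : ¬ IsPGroup 2 (MulAut X)) :
    X = h.U ∨ ∃ δ e, δ = 2 * e ∧ h.IsGood X δ := by
  obtain ⟨φ, k, hφ, hodd, hk⟩ := OddAut.exists_odd_of_not_isPGroup hA
  by_cases hle : X ≤ h.U
  · left; exact h.eq_U_of_le_U X hC hle
  right
  obtain ⟨i, j, hQ⟩ := h.exists_Q_of_not_le X hle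
  have hn1 := h.one_le_n
  by_cases hγ : ∃ a b, h.P a b ∈ X ∧ 2 * (a - b) ≠ 0
  · obtain ⟨a, b, hab, hne⟩ := hγ
    exact absurd (h.aut_eq_one_of_U_invariant X hC hQ φ hk hodd
      (h.U_invariant_of_gamma X hab hne φ)) hφ
  have hβ : ∀ a b, h.P a b ∈ X → 2 * (a - b) = 0 := by
    intro a b hab
    by_contra hne
    exact hγ ⟨a, b, hab, hne⟩
  by_cases hα : ∀ a b, h.P a b ∈ X → a = b
  · exact absurd (h.aut_eq_one_of_diag X hC hQ hα φ hk hodd) hφ
  have hs : h.P (hh n) 0 ∈ X := by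
    rw [not_forall] at hα
    obtain ⟨a, hα⟩ := hα
    rw [not_forall] at hα
    obtain ⟨b, hα⟩ := hα
    rw [Classical.not_imp] at hα
    obtain ⟨hab, hne⟩ := hα
    have h1 := hβ a b hab
    rw [two_mul_eq_zero_iff hn1] at h1
    rcases h1 with h1 | h1
    · exact absurd (sub_eq_zero.mp h1) hne
    · have h2 := X.mul_mem hab (h.P_diag_mem X hC (-b))
      rw [h.P_mul_P] at h2
      have e1 : a + -b = hh n := by linear_combination h1
      rw [e1, add_neg_cancel] at h2
      exact h2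
  by_cases hev : ∃ e, i + j = 2 * e
  · obtain ⟨e, he⟩ := hev
    have hPmem : ∀ a b, h.P a b ∈ X ↔ 2 * (a - b) = 0 := by
      intro a b
      refine ⟨hβ a b, fun hab => ?_⟩
      rw [two_mul_eq_zero_iff hn1] at hab
      rcases hab with h1 | h1
      · rw [sub_eq_zero.mp h1]; exact h.P_diag_mem X hC b
      · have h2 := X.mul_mem hs (h.P_diag_mem X hC b)
        rw [h.P_mul_P, zero_add] at h2
        have e1 : hh n + b = a := by linear_combination -h1
        rw [e1] at h2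
        exact h2
    refine ⟨i - j, e - j, by linear_combination he, hPmem, ?_⟩
    intro c d
    constructor
    · intro hcd
      have h3 := X.mul_mem (X.inv_mem hQ) hcd
      rw [h.Q_inv, h.Q_mul_Q] at h3
      have := hβ _ _ h3
      linear_combination -this
    · intro hcd
      have h1 : h.P (d - j) (c - i) ∈ X := by
        rw [hPmem]; linear_combination -hcd
      have h2 := X.mul_mem hQ h1
      rw [h.Q_mul_P] at h2
      have e1 : i + (c - i) = c := by ring
      have e2 : j + (d - j) = d := by ring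
      rw [e1, e2] at h2
      exact h2
  · exact absurd (h.aut_eq_one_of_U_invariant X hC hQ φ hk hodd
      (h.U_invariant_of_beta_odd X hC hQ hβ hs hev φ)) hφ

end aut

end IsWr

end Cfsg.Agent.Lib.Helper27
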