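import Mathlib
import Cfsg.Prelude.Def_CaseTheorems
import Cfsg.Agent.Lib.Helper27.WreathedSub

/-! The subgroups `Q₈ ∘ Z(S)` of a wreathed 2-group in coordinates. -/

set_option autoImplicit false
set_option linter.style.haveILetI false
set_option linter.unusedSectionVars false

namespace Cfsg.Agent.Lib.Helper27

open Cfsg

set_option maxRecDepth 100000 in
theorem q8_pairs : ∀ u v : QuaternionGroup 2, u * v ≠ v * u →
    u * u = v * v ∧ u * u ≠ 1 ∧ u * u * (u * u) = 1 ∧ v * u * v⁻¹ = u⁻¹ ∧
    ∀ g : QuaternionGroup 2, g = 1 ∨ g = u ∨ g = u * u ∨ g = u * u * u ∨ g = v ∨ g = u * v ∨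
      g = u * u * v ∨ g = u * u * u * v := by
  decide

theorem q8_noncomm : ∃ u v : QuaternionGroup 2, u * v ≠ v * u := by decide

/-- the abstract facts about `Q₈` transported along an isomorphism -/
theorem q8_pairs_of_equiv {Q : Type*} [Group Q] (e : Q ≃* QuaternionGroup 2) (u v : Q)
    (huv : u * v ≠ v * u) :
    u * u = v * v ∧ u * u ≠ 1 ∧ u * u * (u * u) = 1 ∧ v * u * v⁻¹ = u⁻¹ ∧
    ∀ g : Q, g = 1 ∨ g = u ∨ g = u * u ∨ g = u * u * u ∨ g = v ∨ g = u * v ∨
      g = u * u * v ∨ g = u * u * u * v := by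
  have h0 : e u * e v ≠ e v * e u := by
    intro hc
    apply huv
    apply e.injective
    rw [map_mul, map_mul, hc]
  obtain ⟨h1, h2, h3, h4, h5⟩ := q8_pairs (e u) (e v) h0
  refine ⟨?_, ?_, ?_, ?_, ?_⟩
  · apply e.injective; rw [map_mul, map_mul, h1]
  · intro hc; apply h2; rw [← map_mul, hc, map_one]
  · apply e.injective; simp only [map_mul, map_one]; exact h3
  · apply e.injective; simp only [map_mul, map_inv]; exact h4
  · intro g
    rcases h5 (e g) with h | h | h | h | h | h | h | h
    · left; apply e.injective; rw [h, map_one]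
    · right; left; exact e.injective h
    · right; right; left; apply e.injective; rw [h, map_mul]
    · right; right; right; left; apply e.injective; rw [h]; simp only [map_mul]
    · right; right; right; right; left; exact e.injective h
    · right; right; right; right; right; left; apply e.injective; rw [h, map_mul]
    · right; right; right; right; right; right; left; apply e.injective; rw [h]; simp only [map_mul]
    · right; right; right; right; right; right; right; apply e.injective; rw [h]
      simp only [map_mul]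

theorem q8_noncomm_of_equiv {Q : Type*} [Group Q] (e : Q ≃* QuaternionGroup 2) :
    ∃ u v : Q, u * v ≠ v * u := by
  obtain ⟨u, v, huv⟩ := q8_noncomm
  refine ⟨e.symm u, e.symm v, ?_⟩
  intro hc
  apply huv
  have := congrArg e hc
  simpa using this

namespace IsWr

variable {S : Type*} [Group S] [Finite S] {n : ℕ} {x y z : S}

theorem center_normal : (Subgroup.center S).Normal := inferInstance

theorem four_mul_q4 (h : IsWr n x y z) : 4 * q4 n = 0 := by
  have h1 := two_mul_q4 h.hn
  have h2 := two_mul_hh h.one_le_n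
  linear_combination 2 * h1 + h2

/-- conjugacy of good subgroups -/
theorem IsGood.conj (h : IsWr n x y z) {X X' : Subgroup S} {δ δ' a : ZMod (2 ^ n)}
    (hX : h.IsGood X δ) (hX' : h.IsGood X' δ') (hδ : δ' - δ = 2 * a) :
    X.map (MulAut.conj (h.P a 0)).toMonoidHom = X' := by
  ext g
  rw [Subgroup.mem_map_equiv, MulAut.conj_symm_apply]
  have e1 : (h.P a 0)⁻¹ = h.P (-a) 0 := by rw [h.P_inv, neg_zero]
  have e2 : h.P a 0 = (h.P (-a) 0)⁻¹ := by rw [h.P_inv, neg_neg, neg_zero]
  rw [e1, e2]
  rcases h.cases g with ⟨c, d, rfl⟩ | ⟨c, d, rfl⟩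
  · rw [h.P_conj_P, hX.P_mem, hX'.P_mem]
  · rw [h.P_conj_Q, hX.Q_mem, hX'.Q_mem]
    constructor
    · intro h1; linear_combination h1 - 2 * hδ
    · intro h1; linear_combination h1 + 2 * hδ

/-- the normalizer of a good subgroup -/
theorem IsGood.P_mem_normalizer (h : IsWr n x y z) {X : Subgroup S} {δ : ZMod (2 ^ n)}
    (hX : h.IsGood X δ) (a b : ZMod (2 ^ n)) :
    h.P a b ∈ Subgroup.normalizer (X : Set S) ↔ 4 * (a - b) = 0 := by
  rw [Subgroup.mem_normalizer_iff]
  constructor
  · intro hN
    have h1 := (hN (h.Q δ 0)).mp ((hX.Q_mem δ 0).mpr (by ring))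
    rw [h.P_conj_Q, hX.Q_mem] at h1
    linear_combination h1
  · intro hab g
    rcases h.cases g with ⟨c, d, rfl⟩ | ⟨c, d, rfl⟩
    · rw [h.P_conj_P]
    · rw [h.P_conj_Q, hX.Q_mem, hX.Q_mem]
      constructor
      · intro h1; linear_combination h1 + hab
      · intro h1; linear_combination h1 - hab

theorem IsGood.Q_mem_normalizer (h : IsWr n x y z) {X : Subgroup S} {δ : ZMod (2 ^ n)}
    (hX : h.IsGood X δ) (a b : ZMod (2 ^ n)) :
    h.Q a b ∈ Subgroup.normalizer (X : Set S) ↔ 4 * (a - b - δ) = 0 := by
  rw [Subgroup.mem_normalizer_iff]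
  constructor
  · intro hN
    have h1 := (hN (h.Q δ 0)).mp ((hX.Q_mem δ 0).mpr (by ring))
    rw [h.Q_conj_Q, hX.Q_mem] at h1
    linear_combination h1
  · intro hab g
    rcases h.cases g with ⟨c, d, rfl⟩ | ⟨c, d, rfl⟩
    · rw [h.Q_conj_P, hX.P_mem, hX.P_mem]
      constructor
      · intro h1; linear_combination -h1
      · intro h1; linear_combination -h1
    · rw [h.Q_conj_Q, hX.Q_mem, hX.Q_mem]
      constructor
      · intro h1; linear_combination -h1 + hab
      · intro h1; linear_combination -h1 + hab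

theorem four_mul_eq_zero_iff (h : IsWr n x y z) (k : ZMod (2 ^ n)) :
    4 * k = 0 ↔ (2 * k = 0 ∨ 2 * (k - q4 n) = 0) := by
  have hn1 := h.one_le_n
  have hq := two_mul_q4 h.hn
  have h2 := two_mul_hh hn1
  constructor
  · intro hk
    have : 2 * (2 * k) = 0 := by linear_combination hk
    rw [two_mul_eq_zero_iff hn1] at this
    rcases this with h1 | h1
    · left; exact h1
    · right; linear_combination h1 - hq
  · rintro (h1 | h1)
    · linear_combination 2 * h1
    · linear_combination 2 * h1 + 2 * hq + h2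

theorem IsGood.relIndex_normalizer (h : IsWr n x y z) {X : Subgroup S} {δ : ZMod (2 ^ n)}
    (hX : h.IsGood X δ) : X.relIndex (Subgroup.normalizer (X : Set S)) = 2 := by
  have hn1 := h.one_le_n
  have hq := two_mul_q4 h.hn
  have h2 := two_mul_hh hn1
  have h4 := h.four_mul_q4
  rw [Subgroup.relIndex_eq_two_iff]
  refine ⟨h.P (q4 n) 0, ?_, ?_⟩
  · rw [hX.P_mem_normalizer]; linear_combination h4
  · intro b hb
    rcases h.cases b with ⟨c, d, rfl⟩ | ⟨c, d, rfl⟩
    · rw [hX.P_mem_normalizer, h.four_mul_eq_zero_iff] at hb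
      rw [h.P_mul_P, hX.P_mem, hX.P_mem]
      rcases hb with hb | hb
      · right
        refine ⟨hb, fun hc => ?_⟩
        have : hh n = 0 := by linear_combination hc - hb - hq
        exact h.hh_ne_zero' this
      · left
        refine ⟨by linear_combination hb + 2 * hq + h2, fun hc => ?_⟩
        have : hh n = 0 := by linear_combination hb - hc + hq + h2
        exact h.hh_ne_zero' this
    · rw [hX.Q_mem_normalizer, h.four_mul_eq_zero_iff] at hb
      rw [h.Q_mul_P, hX.Q_mem, hX.Q_mem]
      rcases hb with hb | hb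
      · right
        refine ⟨hb, fun hc => ?_⟩
        have : hh n = 0 := by linear_combination hb - hc - hq
        exact h.hh_ne_zero' this
      · left
        refine ⟨by linear_combination hb, fun hc => ?_⟩
        have : hh n = 0 := by linear_combination hc - hb - hq
        exact h.hh_ne_zero' this

/-- the centralizer of a good subgroup is the centre -/
theorem IsGood.centralizer_le (h : IsWr n x y z) {X : Subgroup S} {δ : ZMod (2 ^ n)}
    (hX : h.IsGood X δ) : Subgroup.centralizer (X : Set S) ≤ Subgroup.center S := by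
  intro g hg
  rw [Subgroup.mem_centralizer_iff] at hg
  have hP : h.P (hh n) 0 ∈ X := by
    rw [hX.P_mem]; linear_combination two_mul_hh h.one_le_n
  have hQ : h.Q δ 0 ∈ X := by rw [hX.Q_mem]; ring
  rcases h.cases g with ⟨c, d, rfl⟩ | ⟨c, d, rfl⟩
  · have := hg _ hQ
    rw [eq_comm, h.P_comm_Q_iff] at this
    rw [h.mem_center_iff]; exact ⟨c, by rw [this]⟩
  · have := hg _ hP
    rw [h.P_comm_Q_iff] at this
    exact absurd this h.hh_ne_zero'

end IsWr

end Cfsg.Agent.Lib.Helper27
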