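import Mathlib
import Cfsg.Prelude.Def_CaseTheorems
import Cfsg.Agent.Lib.Helper27.WreathedGood

/-! Quaternion subgroups of order 8 of a wreathed 2-group. -/

set_option autoImplicit false
set_option linter.style.haveILetI false
set_option linter.unusedSectionVars false

namespace Cfsg.Agent.Lib.Helper27

open Cfsg

namespace IsWr

variable {S : Type*} [Group S] [Finite S] {n : ℕ} {x y z : S}

/-- the embedding `ZMod 4 → ZMod (2^n)` -/
noncomputable def iota (h : IsWr n x y z) : ZMod (2 * 2) →+ ZMod (2 ^ n) :=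
  ZMod.lift (2 * 2) ⟨zmultiplesHom _ (q4 n), by
    have := h.four_mul_q4
    show ((2 * 2 : ℕ) : ℤ) • q4 n = 0
    rw [natCast_zsmul, nsmul_eq_mul]
    push_cast
    linear_combination this⟩

theorem iota_one (h : IsWr n x y z) : h.iota 1 = q4 n := by
  have : (1 : ZMod (2 * 2)) = ((1 : ℤ) : ZMod (2 * 2)) := by push_cast; rfl
  rw [this, iota, ZMod.lift_coe]
  show (1 : ℤ) • q4 n = q4 n
  rw [one_smul]

theorem iota_natCast (h : IsWr n x y z) (k : ℕ) :
    h.iota (k : ZMod (2 * 2)) = (k : ZMod (2 ^ n)) * q4 n := by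
  have : (k : ZMod (2 * 2)) = k • (1 : ZMod (2 * 2)) := by rw [nsmul_one]
  rw [this, map_nsmul, h.iota_one, nsmul_eq_mul]

theorem iota_two (h : IsWr n x y z) : h.iota ((2 : ℕ) : ZMod (2 * 2)) = hh n := by
  rw [h.iota_natCast]; push_cast; exact two_mul_q4 h.hn

theorem q4_ne_zero (h : IsWr n x y z) : q4 n ≠ 0 := by
  intro hc
  have := two_mul_q4 h.hn
  rw [hc, mul_zero] at this
  exact h.hh_ne_zero' this.symm

theorem four_mul_iota (h : IsWr n x y z) (i : ZMod (2 * 2)) : 4 * h.iota i = 0 := by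
  obtain ⟨k, rfl⟩ : ∃ k : ℕ, i = (k : ZMod (2 * 2)) := ⟨i.val, (ZMod.natCast_zmod_val i).symm⟩
  rw [h.iota_natCast]
  linear_combination (k : ZMod (2 ^ n)) * h.four_mul_q4

theorem iota_injective (h : IsWr n x y z) : Function.Injective h.iota := by
  rw [injective_iff_map_eq_zero]
  intro i hi
  obtain ⟨k, hk, rfl⟩ : ∃ k : ℕ, k < 4 ∧ i = (k : ZMod (2 * 2)) :=
    ⟨i.val, ZMod.val_lt i, (ZMod.natCast_zmod_val i).symm⟩
  rw [h.iota_natCast] at hi
  have hq := two_mul_q4 h.hn
  have h2 := two_mul_hh h.one_le_n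
  interval_cases k
  · rfl
  · exfalso; apply h.q4_ne_zero; push_cast at hi; linear_combination hi
  · exfalso; apply h.hh_ne_zero'; push_cast at hi; linear_combination hi - hq
  · exfalso; apply h.q4_ne_zero; push_cast at hi; linear_combination 2 * hq + h2 - hi

/-- the embedding of `Q₈` with parameters `c0 + d0 = hh` -/
noncomputable def q8Hom (h : IsWr n x y z) (c0 d0 : ZMod (2 ^ n)) (hcd : c0 + d0 = hh n) :
    QuaternionGroup 2 →* S where
  toFun
    | QuaternionGroup.a i => h.P (h.iota i) (-(h.iota i))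
    | QuaternionGroup.xa i => h.Q (c0 - h.iota i) (d0 + h.iota i)
  map_one' := by
    show h.P (h.iota 0) (-(h.iota 0)) = 1
    rw [map_zero, neg_zero]; exact h.P_zero
  map_mul' := by
    rintro (i | i) (j | j)
    · show h.P (h.iota (i + j)) (-(h.iota (i + j))) =
        h.P (h.iota i) (-(h.iota i)) * h.P (h.iota j) (-(h.iota j))
      rw [h.P_mul_P, map_add]; congr 1; ring
    · show h.Q (c0 - h.iota (j - i)) (d0 + h.iota (j - i)) =
        h.P (h.iota i) (-(h.iota i)) * h.Q (c0 - h.iota j) (d0 + h.iota j)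
      rw [h.P_mul_Q, map_sub]; congr 1 <;> ring
    · show h.Q (c0 - h.iota (i + j)) (d0 + h.iota (i + j)) =
        h.Q (c0 - h.iota i) (d0 + h.iota i) * h.P (h.iota j) (-(h.iota j))
      rw [h.Q_mul_P, map_add]; congr 1 <;> ring
    · show h.P (h.iota (((2 : ℕ) : ZMod (2 * 2)) + j - i))
          (-(h.iota (((2 : ℕ) : ZMod (2 * 2)) + j - i))) =
        h.Q (c0 - h.iota i) (d0 + h.iota i) * h.Q (c0 - h.iota j) (d0 + h.iota j)
      rw [h.Q_mul_Q, map_sub, map_add, h.iota_two]
      have := neg_hh h.one_le_n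
      congr 1
      · linear_combination -hcd
      · linear_combination this - hcd

theorem q8Hom_a (h : IsWr n x y z) (c0 d0 : ZMod (2 ^ n)) (hcd : c0 + d0 = hh n)
    (i : ZMod (2 * 2)) :
    h.q8Hom c0 d0 hcd (QuaternionGroup.a i) = h.P (h.iota i) (-(h.iota i)) := rfl

theorem q8Hom_xa (h : IsWr n x y z) (c0 d0 : ZMod (2 ^ n)) (hcd : c0 + d0 = hh n)
    (i : ZMod (2 * 2)) :
    h.q8Hom c0 d0 hcd (QuaternionGroup.xa i) = h.Q (c0 - h.iota i) (d0 + h.iota i) := rfl

theorem q8Hom_injective (h : IsWr n x y z) (c0 d0 : ZMod (2 ^ n)) (hcd : c0 + d0 = hh n) :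
    Function.Injective (h.q8Hom c0 d0 hcd) := by
  rintro (i | i) (j | j) hij
  · rw [q8Hom_a, q8Hom_a] at hij
    rw [h.iota_injective (h.P_inj hij).1]
  · rw [q8Hom_a, q8Hom_xa] at hij
    exact absurd hij (h.P_ne_Q _ _ _ _)
  · rw [q8Hom_a, q8Hom_xa] at hij
    exact absurd hij.symm (h.P_ne_Q _ _ _ _)
  · rw [q8Hom_xa, q8Hom_xa] at hij
    have := (h.Q_inj hij).2
    rw [h.iota_injective (add_left_cancel this)]

/-- a good subgroup is `Q ⊔ Z(S)` for a quaternion subgroup `Q` of order 8 -/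
theorem IsGood.exists_Q8 (h : IsWr n x y z) {X : Subgroup S} {δ e : ZMod (2 ^ n)}
    (hX : h.IsGood X δ) (hδ : δ = 2 * e) :
    ∃ Q : Subgroup S, Nonempty (Q ≃* QuaternionGroup 2) ∧ X = Q ⊔ Subgroup.center S := by
  have hn1 := h.one_le_n
  have hq := two_mul_q4 h.hn
  have h2 := two_mul_hh hn1
  have hcd : (e + q4 n) + (q4 n - e) = hh n := by linear_combination hq
  refine ⟨(h.q8Hom _ _ hcd).range,
    ⟨(MonoidHom.ofInjective (h.q8Hom_injective _ _ hcd)).symm⟩, ?_⟩
  have hcenX : Subgroup.center S ≤ X := by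
    intro g hg
    rw [h.mem_center_iff] at hg
    obtain ⟨a, rfl⟩ := hg
    rw [hX.P_mem]; ring
  apply le_antisymm
  · -- X ≤ Q ⊔ Z
    have hPdiag : ∀ a, h.P a a ∈ (h.q8Hom _ _ hcd).range ⊔ Subgroup.center S := fun a =>
      Subgroup.mem_sup_right ((h.mem_center_iff _).mpr ⟨a, rfl⟩)
    have hu : h.P (q4 n) (-(q4 n)) ∈ (h.q8Hom _ _ hcd).range ⊔ Subgroup.center S := by
      apply Subgroup.mem_sup_left
      exact ⟨QuaternionGroup.a 1, by rw [q8Hom_a, h.iota_one]⟩
    have hv : h.Q (e + q4 n) (q4 n - e) ∈ (h.q8Hom _ _ hcd).range ⊔ Subgroup.center S := by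
      apply Subgroup.mem_sup_left
      exact ⟨QuaternionGroup.xa 0, by rw [q8Hom_xa, map_zero, sub_zero, add_zero]⟩
    have hPall : ∀ a b, 2 * (a - b) = 0 →
        h.P a b ∈ (h.q8Hom _ _ hcd).range ⊔ Subgroup.center S := by
      intro a b hab
      rw [two_mul_eq_zero_iff hn1] at hab
      rcases hab with h1 | h1
      · rw [sub_eq_zero.mp h1]; exact hPdiag b
      · have := Subgroup.mul_mem _ hu (hPdiag (a - q4 n))
        rw [h.P_mul_P] at this
        have e1 : q4 n + (a - q4 n) = a := by ring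
        have e2 : -(q4 n) + (a - q4 n) = b := by linear_combination h1 - hq
        rw [e1, e2] at this
        exact this
    intro g hg
    rcases h.cases g with ⟨a, b, rfl⟩ | ⟨c, d, rfl⟩
    · rw [hX.P_mem] at hg
      exact hPall a b hg
    · rw [hX.Q_mem] at hg
      have h1 : h.P (d - (q4 n - e)) (c - (e + q4 n)) ∈
          (h.q8Hom _ _ hcd).range ⊔ Subgroup.center S := by
        apply hPall
        linear_combination -hg - 2 * hδ
      have := Subgroup.mul_mem _ hv h1
      rw [h.Q_mul_P] at this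
      have e1 : e + q4 n + (c - (e + q4 n)) = c := by ring
      have e2 : q4 n - e + (d - (q4 n - e)) = d := by ring
      rw [e1, e2] at this
      exact this
  · apply sup_le _ hcenX
    rintro g ⟨(i | i), rfl⟩
    · rw [q8Hom_a, hX.P_mem]
      linear_combination h.four_mul_iota i
    · rw [q8Hom_xa, hX.Q_mem]
      linear_combination -(h.four_mul_iota i) - 2 * hδ

/-- every quaternion subgroup of order 8 gives a good subgroup -/
theorem IsGood.of_Q8 (h : IsWr n x y z) (Q : Subgroup S) (e : Q ≃* QuaternionGroup 2) :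
    ∃ δ e', δ = 2 * e' ∧ h.IsGood (Q ⊔ Subgroup.center S) δ := by
  have hn1 := h.one_le_n
  have hq := two_mul_q4 h.hn
  have h2 := two_mul_hh hn1
  -- a non-commuting pair of the right types
  have hpair : ∃ u v : Q, u * v ≠ v * u ∧ (∃ a b, (u : S) = h.P a b) ∧
      (∃ c d, (v : S) = h.Q c d) := by
    obtain ⟨u0, v0, huv0⟩ := q8_noncomm_of_equiv e
    rcases h.cases (u0 : S) with ⟨a, b, hab⟩ | ⟨a, b, hab⟩ <;>
      rcases h.cases (v0 : S) with ⟨c, d, hcd⟩ | ⟨c, d, hcd⟩
    · exfalso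
      apply huv0
      apply Subtype.ext
      rw [Subgroup.coe_mul, Subgroup.coe_mul, hab, hcd, h.P_mul_P, h.P_mul_P, add_comm a c,
        add_comm b d]
    · exact ⟨u0, v0, huv0, ⟨a, b, hab⟩, ⟨c, d, hcd⟩⟩
    · exact ⟨v0, u0, fun hc => huv0 hc.symm, ⟨c, d, hcd⟩, ⟨a, b, hab⟩⟩
    · refine ⟨u0 * v0, v0, ?_, ⟨a + d, b + c, ?_⟩, ⟨c, d, hcd⟩⟩
      · intro hc
        apply huv0
        have : u0 * v0 * v0 = v0 * u0 * v0 := by rw [hc, mul_assoc]
        exact mul_right_cancel this
      · rw [Subgroup.coe_mul, hab, hcd, h.Q_mul_Q]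
  obtain ⟨u, v, huv, ⟨a, b, hab⟩, ⟨c, d, hcd⟩⟩ := hpair
  obtain ⟨f1, f2, f3, f4, f5⟩ := q8_pairs_of_equiv e u v huv
  -- coordinates
  have g1 := congrArg Subtype.val f1
  simp only [Subgroup.coe_mul] at g1
  rw [hab, hcd, h.P_mul_P, h.Q_mul_Q] at g1
  obtain ⟨g1a, g1b⟩ := h.P_inj g1
  have g4 := congrArg Subtype.val f4
  simp only [Subgroup.coe_mul, Subgroup.coe_inv] at g4
  rw [hab, hcd, h.Q_conj_P, h.P_inv] at g4
  obtain ⟨g4a, g4b⟩ := h.P_inj g4
  have g2 : a + a ≠ 0 := by
    intro hc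
    apply f2
    apply Subtype.ext
    rw [Subgroup.coe_mul, hab, h.P_mul_P, hc]
    have : b + b = 0 := by rw [g4a]; linear_combination -hc
    rw [this, h.P_zero]; rfl
  have g3 : 2 * (a + a) = 0 := by linear_combination g1a - g1b + 2 * g4a
  have haa : a + a = hh n := by
    rcases (two_mul_eq_zero_iff hn1 _).mp g3 with h0 | h0
    · exact absurd h0 g2
    · exact h0
  have hcdh : c + d = hh n := by rw [← g1a, haa]
  have huQ : h.P a (-a) ∈ Q := by
    have := u.2
    rw [hab, g4a] at this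
    exact this
  have hvQ : h.Q c d ∈ Q := by
    have := v.2
    rw [hcd] at this
    exact this
  have h4a : 4 * a = 0 := by linear_combination g3
  -- elements of Q
  have hQel : ∀ q ∈ Q, (∃ a' b', q = h.P a' b' ∧ 2 * (a' - b') = 0) ∨
      (∃ c' d', q = h.Q c' d' ∧ 2 * (c' - d' - (c - d)) = 0) := by
    intro q hqQ
    have hu' : (u : S) = h.P a (-a) := by rw [hab, g4a]
    rcases f5 ⟨q, hqQ⟩ with hh' | hh' | hh' | hh' | hh' | hh' | hh' | hh' <;>
      have hh'' := congrArg Subtype.val hh' <;>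
      simp only [Subgroup.coe_mul, Subgroup.coe_one] at hh''
    · left; exact ⟨0, 0, by rw [hh'', h.P_zero], by ring⟩
    · left; exact ⟨a, -a, by rw [hh'', hu'], by linear_combination h4a⟩
    · left
      refine ⟨a + a, -a + -a, by rw [hh'', hu', h.P_mul_P], by linear_combination 2 * h4a⟩
    · left
      refine ⟨a + a + a, -a + -a + -a, by rw [hh'', hu', h.P_mul_P, h.P_mul_P], ?_⟩
      linear_combination 3 * h4a
    · right; exact ⟨c, d, by rw [hh'', hcd], by ring⟩
    · right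
      refine ⟨a + c, -a + d, by rw [hh'', hu', hcd, h.P_mul_Q], by linear_combination h4a⟩
    · right
      refine ⟨a + a + c, -a + -a + d, by rw [hh'', hu', hcd, h.P_mul_P, h.P_mul_Q], ?_⟩
      linear_combination 2 * h4a
    · right
      refine ⟨a + a + a + c, -a + -a + -a + d,
        by rw [hh'', hu', hcd, h.P_mul_P, h.P_mul_P, h.P_mul_Q], ?_⟩
      linear_combination 3 * h4a
  have hQP : ∀ a' b', h.P a' b' ∈ Q → 2 * (a' - b') = 0 := by
    intro a' b' hm
    rcases hQel _ hm with ⟨a'', b'', he, hc⟩ | ⟨c', d', he, -⟩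
    · obtain ⟨rfl, rfl⟩ := h.P_inj he; exact hc
    · exact absurd he (h.P_ne_Q _ _ _ _)
  have hQQ : ∀ c' d', h.Q c' d' ∈ Q → 2 * (c' - d' - (c - d)) = 0 := by
    intro c' d' hm
    rcases hQel _ hm with ⟨a'', b'', he, -⟩ | ⟨c'', d'', he, hc⟩
    · exact absurd he.symm (h.P_ne_Q _ _ _ _)
    · obtain ⟨rfl, rfl⟩ := h.Q_inj he; exact hc
  haveI : (Subgroup.center S).Normal := inferInstance
  have hPdiag : ∀ f, h.P f f ∈ Q ⊔ Subgroup.center S := fun f =>
    Subgroup.mem_sup_right ((h.mem_center_iff _).mpr ⟨f, rfl⟩)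
  have hPall : ∀ a' b', 2 * (a' - b') = 0 → h.P a' b' ∈ Q ⊔ Subgroup.center S := by
    intro a' b' hab'
    rw [two_mul_eq_zero_iff hn1] at hab'
    rcases hab' with h1 | h1
    · rw [sub_eq_zero.mp h1]; exact hPdiag b'
    · have := Subgroup.mul_mem _ (Subgroup.mem_sup_left huQ) (hPdiag (a' - a))
      rw [h.P_mul_P] at this
      have e1 : a + (a' - a) = a' := by ring
      have e2 : -a + (a' - a) = b' := by linear_combination h1 - haa
      rw [e1, e2] at this
      exact this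
  refine ⟨c - d, q4 n - d, by linear_combination hcdh - hq, ?_, ?_⟩
  · intro a' b'
    refine ⟨fun hm => ?_, hPall a' b'⟩
    rw [Subgroup.mem_sup_of_normal_right] at hm
    obtain ⟨q, hqQ, ζ, hζ, hqζ⟩ := hm
    rw [h.mem_center_iff] at hζ
    obtain ⟨f, rfl⟩ := hζ
    have hq' : q = h.P (a' - f) (b' - f) := by
      have : q = h.P a' b' * (h.P f f)⁻¹ := by rw [← hqζ]; group
      rw [this, h.P_inv, h.P_mul_P]; congr 1 <;> ring
    rw [hq'] at hqQ
    have := hQP _ _ hqQ
    linear_combination this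
  · intro c' d'
    constructor
    · intro hm
      rw [Subgroup.mem_sup_of_normal_right] at hm
      obtain ⟨q, hqQ, ζ, hζ, hqζ⟩ := hm
      rw [h.mem_center_iff] at hζ
      obtain ⟨f, rfl⟩ := hζ
      have hq' : q = h.Q (c' - f) (d' - f) := by
        have : q = h.Q c' d' * (h.P f f)⁻¹ := by rw [← hqζ]; group
        rw [this, h.P_inv, h.Q_mul_P]; congr 1 <;> ring
      rw [hq'] at hqQ
      have := hQQ _ _ hqQ
      linear_combination this
    · intro hc
      have h1 : h.P (d' - d) (c' - c) ∈ Q ⊔ Subgroup.center S := by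
        apply hPall; linear_combination -hc
      have := Subgroup.mul_mem _ (Subgroup.mem_sup_left hvQ) h1
      rw [h.Q_mul_P] at this
      have e1 : c + (c' - c) = c' := by ring
      have e2 : d + (d' - d) = d' := by ring
      rw [e1, e2] at this
      exact this

end IsWr

end Cfsg.Agent.Lib.Helper27
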