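import Mathlib
import Cfsg.Prelude.Def_CaseTheorems
import Cfsg.Agent.Lib.Helper27.WreathedQ8

/-! A wreathed subgroup `T` of a group `G`: coordinates in `G`. -/

set_option autoImplicit false
set_option linter.style.haveILetI false
set_option linter.unusedSectionVars false

namespace Cfsg.Agent.Lib.Helper27

open Cfsg

namespace IsWr

variable {G : Type*} [Group G] {T : Subgroup G} [Finite T] {n : ℕ} {x y z : T}

/-- `P a b` as an element of `G` -/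
def PG (h : IsWr n x y z) (a b : ZMod (2 ^ n)) : G := ((h.P a b : T) : G)

/-- `Q a b` as an element of `G` -/
def QG (h : IsWr n x y z) (a b : ZMod (2 ^ n)) : G := ((h.Q a b : T) : G)

theorem PG_mem (h : IsWr n x y z) (a b : ZMod (2 ^ n)) : h.PG a b ∈ T := (h.P a b).2
theorem QG_mem (h : IsWr n x y z) (a b : ZMod (2 ^ n)) : h.QG a b ∈ T := (h.Q a b).2

theorem PG_mul_PG (h : IsWr n x y z) (i j k l : ZMod (2 ^ n)) :
    h.PG i j * h.PG k l = h.PG (i + k) (j + l) := by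
  rw [PG, PG, PG, ← Subgroup.coe_mul, h.P_mul_P]

theorem PG_mul_QG (h : IsWr n x y z) (i j k l : ZMod (2 ^ n)) :
    h.PG i j * h.QG k l = h.QG (i + k) (j + l) := by
  rw [PG, QG, QG, ← Subgroup.coe_mul, h.P_mul_Q]

theorem QG_mul_PG (h : IsWr n x y z) (i j k l : ZMod (2 ^ n)) :
    h.QG i j * h.PG k l = h.QG (i + l) (j + k) := by
  rw [PG, QG, QG, ← Subgroup.coe_mul, h.Q_mul_P]

theorem QG_mul_QG (h : IsWr n x y z) (i j k l : ZMod (2 ^ n)) :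
    h.QG i j * h.QG k l = h.PG (i + l) (j + k) := by
  rw [PG, QG, QG, ← Subgroup.coe_mul, h.Q_mul_Q]

theorem PG_zero (h : IsWr n x y z) : h.PG 0 0 = 1 := by
  rw [PG, h.P_zero]; rfl

theorem PG_inv (h : IsWr n x y z) (i j : ZMod (2 ^ n)) : (h.PG i j)⁻¹ = h.PG (-i) (-j) := by
  rw [PG, PG, ← Subgroup.coe_inv, h.P_inv]

theorem QG_inv (h : IsWr n x y z) (i j : ZMod (2 ^ n)) : (h.QG i j)⁻¹ = h.QG (-j) (-i) := by
  rw [QG, QG, ← Subgroup.coe_inv, h.Q_inv]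

theorem PG_inj (h : IsWr n x y z) {i j k l : ZMod (2 ^ n)} (hP : h.PG i j = h.PG k l) :
    i = k ∧ j = l := h.P_inj (Subtype.ext hP)

theorem QG_inj (h : IsWr n x y z) {i j k l : ZMod (2 ^ n)} (hQ : h.QG i j = h.QG k l) :
    i = k ∧ j = l := h.Q_inj (Subtype.ext hQ)

theorem PG_ne_QG (h : IsWr n x y z) (i j k l : ZMod (2 ^ n)) : h.PG i j ≠ h.QG k l :=
  fun hc => h.P_ne_Q i j k l (Subtype.ext hc)

theorem PG_eq_one_iff (h : IsWr n x y z) (i j : ZMod (2 ^ n)) :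
    h.PG i j = 1 ↔ i = 0 ∧ j = 0 := by
  rw [← h.P_eq_one_iff, PG]
  exact ⟨fun hc => Subtype.ext hc, fun hc => by rw [hc]; rfl⟩

theorem QG_ne_one (h : IsWr n x y z) (i j : ZMod (2 ^ n)) : h.QG i j ≠ 1 := by
  rw [← h.PG_zero]; exact (h.PG_ne_QG 0 0 i j).symm

theorem PG_pow (h : IsWr n x y z) (a b : ZMod (2 ^ n)) (k : ℕ) :
    (h.PG a b) ^ k = h.PG (k * a) (k * b) := by
  induction k with
  | zero => simp [h.PG_zero]
  | succ k ih =>
    rw [pow_succ, ih, h.PG_mul_PG]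
    congr 1 <;> push_cast <;> ring

theorem QG_pow_two_mul (h : IsWr n x y z) (c d : ZMod (2 ^ n)) (k : ℕ) :
    (h.QG c d) ^ (2 * k) = h.PG (k * (c + d)) (k * (c + d)) := by
  rw [pow_mul, pow_two, h.QG_mul_QG, h.PG_pow]
  congr 1
  rw [add_comm d c]

theorem casesG (h : IsWr n x y z) {g : G} (hg : g ∈ T) :
    (∃ a b, g = h.PG a b) ∨ (∃ a b, g = h.QG a b) := by
  rcases h.cases (⟨g, hg⟩ : T) with ⟨a, b, hab⟩ | ⟨a, b, hab⟩
  · left; exact ⟨a, b, congrArg Subtype.val hab⟩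
  · right; exact ⟨a, b, congrArg Subtype.val hab⟩

theorem PG_conj_PG (h : IsWr n x y z) (a b i j : ZMod (2 ^ n)) :
    h.PG a b * h.PG i j * (h.PG a b)⁻¹ = h.PG i j := by
  rw [h.PG_inv, h.PG_mul_PG, h.PG_mul_PG]
  congr 1 <;> ring

theorem QG_conj_PG (h : IsWr n x y z) (a b i j : ZMod (2 ^ n)) :
    h.QG a b * h.PG i j * (h.QG a b)⁻¹ = h.PG j i := by
  rw [h.QG_inv, h.QG_mul_PG, h.QG_mul_QG]
  congr 1 <;> ring

theorem PG_conj_QG (h : IsWr n x y z) (a b i j : ZMod (2 ^ n)) :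
    h.PG a b * h.QG i j * (h.PG a b)⁻¹ = h.QG (i + (a - b)) (j - (a - b)) := by
  rw [h.PG_inv, h.PG_mul_QG, h.QG_mul_PG]
  congr 1 <;> ring

theorem QG_conj_QG (h : IsWr n x y z) (a b i j : ZMod (2 ^ n)) :
    h.QG a b * h.QG i j * (h.QG a b)⁻¹ = h.QG (j + (a - b)) (i - (a - b)) := by
  rw [h.QG_inv, h.QG_mul_QG, h.PG_mul_QG]
  congr 1 <;> ring

theorem PG_comm_QG_iff (h : IsWr n x y z) (a b i j : ZMod (2 ^ n)) :
    h.PG a b * h.QG i j = h.QG i j * h.PG a b ↔ a = b := by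
  rw [← h.P_comm_Q_iff a b i j, PG, QG, ← Subgroup.coe_mul, ← Subgroup.coe_mul]
  exact ⟨fun hc => Subtype.ext hc, fun hc => by rw [hc]⟩

theorem QG_comm_QG_iff (h : IsWr n x y z) (a b i j : ZMod (2 ^ n)) :
    h.QG a b * h.QG i j = h.QG i j * h.QG a b ↔ a - b = i - j := by
  rw [← h.Q_comm_Q_iff a b i j, QG, QG, ← Subgroup.coe_mul, ← Subgroup.coe_mul]
  exact ⟨fun hc => Subtype.ext hc, fun hc => by rw [hc]⟩

theorem orderOf_PG_eq_two_iff (h : IsWr n x y z) (i j : ZMod (2 ^ n)) :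
    orderOf (h.PG i j) = 2 ↔ (i = 0 ∨ i = hh n) ∧ (j = 0 ∨ j = hh n) ∧ ¬ (i = 0 ∧ j = 0) := by
  rw [PG, Subgroup.orderOf_coe, h.orderOf_P_eq_two_iff]

theorem orderOf_QG_eq_two_iff (h : IsWr n x y z) (i j : ZMod (2 ^ n)) :
    orderOf (h.QG i j) = 2 ↔ i + j = 0 := by
  rw [QG, Subgroup.orderOf_coe, h.orderOf_Q_eq_two_iff]

/-- the abelian maximal subgroup, in `G` -/
noncomputable def UG (h : IsWr n x y z) : Subgroup G := h.U.map T.subtype

theorem mem_UG_iff (h : IsWr n x y z) (g : G) : g ∈ h.UG ↔ ∃ a b, g = h.PG a b := by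
  rw [UG, Subgroup.mem_map]
  constructor
  · rintro ⟨t, ht, rfl⟩
    rw [h.mem_U_iff] at ht
    obtain ⟨a, b, rfl⟩ := ht
    exact ⟨a, b, rfl⟩
  · rintro ⟨a, b, rfl⟩
    exact ⟨h.P a b, h.P_mem_U a b, rfl⟩

theorem UG_le (h : IsWr n x y z) : h.UG ≤ T := by
  intro g hg
  rw [h.mem_UG_iff] at hg
  obtain ⟨a, b, rfl⟩ := hg
  exact h.PG_mem a b

theorem PG_mem_UG (h : IsWr n x y z) (a b : ZMod (2 ^ n)) : h.PG a b ∈ h.UG :=
  (h.mem_UG_iff _).mpr ⟨a, b, rfl⟩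

theorem QG_not_mem_UG (h : IsWr n x y z) (a b : ZMod (2 ^ n)) : h.QG a b ∉ h.UG := by
  intro hc
  rw [h.mem_UG_iff] at hc
  obtain ⟨c, d, hcd⟩ := hc
  exact h.PG_ne_QG c d a b hcd.symm

/-- the given abelian subgroup of order `2^(2n)` is `UG` -/
theorem eq_UG (h : IsWr n x y z) (U : Subgroup G) (hUT : U ≤ T) (hUab : IsMulCommutative U)
    (hUcard : Nat.card U = 2 ^ (2 * n)) : U = h.UG := by
  have e := Subgroup.subgroupOfEquivOfLe hUT
  have h1 : IsMulCommutative (U.subgroupOf T) := by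
    constructor
    constructor
    intro a b
    apply e.injective
    rw [map_mul, map_mul]
    exact hUab.is_comm.comm _ _
  have h2 : Nat.card (U.subgroupOf T) = 2 ^ (2 * n) := by
    rw [Nat.card_congr e.toEquiv, hUcard]
  have h3 := h.eq_U_of_comm_of_card (U.subgroupOf T) h1 h2
  rw [UG, ← h3, Subgroup.map_subgroupOf_eq_of_le hUT]

/-- the centre of `T`, in `G` -/
noncomputable def ZG (_h : IsWr n x y z) : Subgroup G := (Subgroup.center T).map T.subtype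

theorem mem_ZG_iff (h : IsWr n x y z) (g : G) : g ∈ h.ZG ↔ ∃ a, g = h.PG a a := by
  rw [ZG, Subgroup.mem_map]
  constructor
  · rintro ⟨t, ht, rfl⟩
    rw [h.mem_center_iff] at ht
    obtain ⟨a, rfl⟩ := ht
    exact ⟨a, rfl⟩
  · rintro ⟨a, rfl⟩
    exact ⟨h.P a a, (h.mem_center_iff _).mpr ⟨a, rfl⟩, rfl⟩

/-- good subgroups in `G`-coordinates -/
structure IsGoodG (h : IsWr n x y z) (V : Subgroup G) (δ : ZMod (2 ^ n)) : Prop where
  le : V ≤ T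
  P_mem : ∀ a b, h.PG a b ∈ V ↔ 2 * (a - b) = 0
  Q_mem : ∀ c d, h.QG c d ∈ V ↔ 2 * (c - d - δ) = 0

theorem isGoodG_of_Q8 (h : IsWr n x y z) (Q : Subgroup G) (hQT : Q ≤ T)
    (e : Q ≃* QuaternionGroup 2) :
    ∃ δ e', δ = 2 * e' ∧ h.IsGoodG (Q ⊔ h.ZG) δ := by
  have e0 := Subgroup.subgroupOfEquivOfLe hQT
  obtain ⟨δ, e', hδ, hX⟩ := IsGood.of_Q8 h (Q.subgroupOf T) (e0.trans e)
  have hmap : (Q.subgroupOf T ⊔ Subgroup.center T).map T.subtype = Q ⊔ h.ZG := by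
    rw [Subgroup.map_sup, Subgroup.map_subgroupOf_eq_of_le hQT, ZG]
  refine ⟨δ, e', hδ, ?_, ?_, ?_⟩
  · rw [← hmap]
    rintro _ ⟨t, -, rfl⟩
    exact t.2
  · intro a b
    rw [← hX.P_mem, ← hmap, Subgroup.mem_map]
    constructor
    · rintro ⟨t, ht, ht2⟩
      have : t = h.P a b := Subtype.ext ht2
      rw [← this]; exact ht
    · intro ht; exact ⟨_, ht, rfl⟩
  · intro c d
    rw [← hX.Q_mem, ← hmap, Subgroup.mem_map]
    constructor
    · rintro ⟨t, ht, ht2⟩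
      have : t = h.Q c d := Subtype.ext ht2
      rw [← this]; exact ht
    · intro ht; exact ⟨_, ht, rfl⟩

end IsWr

end Cfsg.Agent.Lib.Helper27
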