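import Mathlib
import Cfsg.Prelude.Def_CaseTheorems
import Cfsg.Agent.Lib.Helper27.WreathedG
import Cfsg.Agent.Lib.Helper27.IndexAux

/-! Odd-order automorphisms of `U` and of the good subgroups. -/

set_option autoImplicit false
set_option linter.style.haveILetI false
set_option linter.unusedSectionVars false

namespace Cfsg.Agent.Lib.Helper27

open Cfsg

namespace IsWr

section Tlevel

variable {S : Type*} [Group S] [Finite S] {n : ℕ} {x y z : S}

/-- an odd-order automorphism of `U` fixing an involution is trivial -/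
theorem aut_U_eq_one (h : IsWr n x y z) (φ : MulAut h.U) {k : ℕ} (hk : φ ^ k = 1) (hodd : Odd k)
    (t : h.U) (ht2 : orderOf t = 2) (hφt : φ t = t) : φ = 1 := by
  have hn1 := h.one_le_n
  have hcomm : ∀ a ∈ (⊤ : Subgroup h.U), ∀ b ∈ (⊤ : Subgroup h.U), a * b = b * a := by
    intro a _ b _
    exact h.U_comm.is_comm.comm a b
  have h2 : ∀ a ∈ (⊤ : Subgroup h.U), ∃ m : ℕ, a ^ (2 ^ m) = 1 := by
    intro a _
    refine ⟨2 * n + 1, ?_⟩
    apply Subtype.ext
    rw [Subgroup.coe_pow, h.pow_two_pow_eq_one]; rfl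
  have htt : t * t = 1 := by rw [← pow_two, ← ht2, pow_orderOf_eq_one]
  obtain ⟨i, j, hij⟩ := (h.mem_U_iff _).mp t.2
  have hord : orderOf (h.P i j) = 2 := by rw [← hij, Subgroup.orderOf_coe, ht2]
  rw [h.orderOf_P_eq_two_iff] at hord
  obtain ⟨hi, hj, hne⟩ := hord
  -- the second involution
  have key : ∀ (k' l' : ZMod (2 ^ n)) (hs : h.P k' l' * h.P k' l' = 1)
      (hI : ∀ c d : ZMod (2 ^ n), (c = 0 ∨ c = hh n) → (d = 0 ∨ d = hh n) →
        (c = 0 ∧ d = 0) ∨ (c = i ∧ d = j) ∨ (c = k' ∧ d = l') ∨ (c = i + k' ∧ d = j + l')),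
      φ = 1 := by
    intro k' l' hs hI
    have hinv := OddAut.fix_involutions φ hk hodd ⊤ (fun _ _ => Subgroup.mem_top _) t
      ⟨h.P k' l', h.P_mem_U k' l'⟩ htt hφt (Subgroup.mem_top _) (Subtype.ext hs) (by
        intro a _ haa
        obtain ⟨c, d, hcd⟩ := (h.mem_U_iff _).mp a.2
        have h1 : h.P c d * h.P c d = 1 := by
          rw [← hcd, ← Subgroup.coe_mul, haa]; rfl
        rw [h.P_sq_eq_one_iff] at h1
        rcases hI c d h1.1 h1.2 with ⟨rfl, rfl⟩ | ⟨rfl, rfl⟩ | ⟨rfl, rfl⟩ | ⟨rfl, rfl⟩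
        · left; apply Subtype.ext; rw [hcd, h.P_zero]; rfl
        · right; left; apply Subtype.ext; rw [hcd, hij]
        · right; right; left; apply Subtype.ext; rw [hcd]
        · right; right; right; apply Subtype.ext
          rw [hcd, Subgroup.coe_mul, hij]
          show _ = h.P _ _ * h.P _ _
          rw [h.P_mul_P])
    have hfix := OddAut.fix_of_fix_involutions φ hk hodd ⊤ hcomm (fun _ _ => Subgroup.mem_top _)
      h2 hinv
    ext a
    rw [hfix a (Subgroup.mem_top _)]; rfl
  have hhh := hh_add_hh hn1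
  rcases hi with rfl | rfl <;> rcases hj with rfl | rfl
  · exact absurd ⟨rfl, rfl⟩ hne
  · -- t = P 0 hh ; take s = P hh hh
    apply key (hh n) (hh n)
    · rw [h.P_mul_P, hhh, h.P_zero]
    · rintro c d (rfl | rfl) (rfl | rfl)
      · left; exact ⟨rfl, rfl⟩
      · right; left; exact ⟨rfl, rfl⟩
      · right; right; right; exact ⟨by rw [zero_add], by rw [hhh]⟩
      · right; right; left; exact ⟨rfl, rfl⟩
  · -- t = P hh 0 ; take s = P hh hh
    apply key (hh n) (hh n)
    · rw [h.P_mul_P, hhh, h.P_zero]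
    · rintro c d (rfl | rfl) (rfl | rfl)
      · left; exact ⟨rfl, rfl⟩
      · right; right; right; exact ⟨by rw [hhh], by rw [zero_add]⟩
      · right; left; exact ⟨rfl, rfl⟩
      · right; right; left; exact ⟨rfl, rfl⟩
  · -- t = P hh hh ; take s = P hh 0
    apply key (hh n) 0
    · rw [h.P_mul_P, hhh, add_zero, h.P_zero]
    · rintro c d (rfl | rfl) (rfl | rfl)
      · left; exact ⟨rfl, rfl⟩
      · right; right; right; exact ⟨by rw [hhh], by rw [add_zero]⟩
      · right; right; left; exact ⟨rfl, rfl⟩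
      · right; left; exact ⟨rfl, rfl⟩

/-- an odd-order automorphism of a good subgroup mapping `P hh 0` into `U` is trivial -/
theorem IsGood.aut_eq_one (h : IsWr n x y z) {X : Subgroup S} {δ : ZMod (2 ^ n)}
    (hX : h.IsGood X δ) (φ : MulAut X) {k : ℕ} (hk : φ ^ k = 1) (hodd : Odd k)
    (hp : h.P (hh n) 0 ∈ X) (hφp : ((φ ⟨h.P (hh n) 0, hp⟩ : X) : S) ∈ h.U) : φ = 1 := by
  have hn1 := h.one_le_n
  have hcen : Subgroup.center S ≤ X := by
    intro g hg
    rw [h.mem_center_iff] at hg
    obtain ⟨a, rfl⟩ := hg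
    rw [hX.P_mem]; ring
  have hC : Subgroup.centralizer (X : Set S) ≤ X := (hX.centralizer_le h).trans hcen
  have hQ : h.Q δ 0 ∈ X := by rw [hX.Q_mem]; ring
  apply h.aut_eq_one_of_U_invariant X hC hQ φ hk hodd
  intro u hu
  rw [h.mem_U_iff] at hu
  obtain ⟨c, d, hcd⟩ := hu
  have hcdX : h.P c d ∈ X := hcd ▸ u.2
  -- central elements go to central elements, of P-type
  have hcentral : ∀ f, ((φ ⟨h.P f f, h.P_diag_mem X hC f⟩ : X) : S) ∈ h.U := by
    intro f
    set w : X := ⟨h.P f f, h.P_diag_mem X hC f⟩ with hw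
    have hwc : ∀ g : X, w * g = g * w := by
      intro g
      apply Subtype.ext
      rw [Subgroup.coe_mul, Subgroup.coe_mul]
      have : h.P f f ∈ Subgroup.center S := (h.mem_center_iff _).mpr ⟨_, rfl⟩
      exact (Subgroup.mem_center_iff.mp this (g : S)).symm
    have hv := aut_central X φ w hwc
    rcases h.cases ((φ w : X) : S) with ⟨c', d', hc'⟩ | ⟨c', d', hc'⟩
    · rw [hc']; exact h.P_mem_U _ _
    · exfalso
      have h5 := congrArg Subtype.val (hv ⟨h.P (hh n) 0, hp⟩)
      rw [Subgroup.coe_mul, Subgroup.coe_mul, hc'] at h5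
      have h6 : h.P (hh n) 0 * h.Q c' d' = h.Q c' d' * h.P (hh n) 0 := h5.symm
      rw [h.P_comm_Q_iff] at h6
      exact h.hh_ne_zero' h6
  have h2cd := (hX.P_mem c d).mp hcdX
  rw [two_mul_eq_zero_iff hn1] at h2cd
  rcases h2cd with h1 | h1
  · have e1 : c = d := sub_eq_zero.mp h1
    have : u = ⟨h.P d d, h.P_diag_mem X hC d⟩ := by
      apply Subtype.ext; rw [hcd, e1]
    rw [this]; exact hcentral d
  · have : u = ⟨h.P (hh n) 0, hp⟩ * ⟨h.P d d, h.P_diag_mem X hC d⟩ := by
      apply Subtype.ext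
      rw [Subgroup.coe_mul, hcd]
      show h.P c d = h.P (hh n) 0 * h.P d d
      rw [h.P_mul_P, zero_add]
      congr 1
      linear_combination h1
    rw [this, map_mul, Subgroup.coe_mul]
    exact h.U.mul_mem hφp (hcentral d)

/-- the odd part of `|Aut U|` divides 3 -/
theorem odd_dvd_card_mulAut_U (h : IsWr n x y z) {m : ℕ} (hm : Odd m)
    (hd : m ∣ Nat.card (MulAut h.U)) : m ∣ 3 := by
  classical
  have hn1 := h.one_le_n
  set zU : h.U := ⟨h.P (hh n) (hh n), h.P_mem_U _ _⟩ with hzU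
  set u1 : h.U := ⟨h.P (hh n) 0, h.P_mem_U _ _⟩ with hu1
  set u2 : h.U := ⟨h.P 0 (hh n), h.P_mem_U _ _⟩ with hu2
  have hzo : orderOf zU = 2 := by
    rw [← Subgroup.orderOf_coe, h.orderOf_P_eq_two_iff]
    exact ⟨Or.inr rfl, Or.inr rfl, fun hc => h.hh_ne_zero' hc.1⟩
  have hinv : ∀ u : h.U, orderOf u = 2 → u = zU ∨ u = u1 ∨ u = u2 := by
    intro u hu
    obtain ⟨c, d, hcd⟩ := (h.mem_U_iff _).mp u.2
    rw [← Subgroup.orderOf_coe, hcd, h.orderOf_P_eq_two_iff] at hu
    obtain ⟨hc, hd', hne⟩ := hu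
    rcases hc with rfl | rfl <;> rcases hd' with rfl | rfl
    · exact absurd ⟨rfl, rfl⟩ hne
    · right; right; exact Subtype.ext hcd
    · right; left; exact Subtype.ext hcd
    · left; exact Subtype.ext hcd
  refine odd_dvd_three
    (fun α : MulAut h.U => if α zU = zU then (0 : Fin 3) else if α zU = u1 then 1 else 2)
    ?_ hm hd
  intro α β hodd hαβ
  have hαz : orderOf (α zU) = 2 := by rw [MulEquiv.orderOf_eq]; exact hzo
  have hβz : orderOf (β zU) = 2 := by rw [MulEquiv.orderOf_eq]; exact hzo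
  have heq : α zU = β zU := by
    replace hαβ : (if α zU = zU then (0 : Fin 3) else if α zU = u1 then 1 else 2) =
      (if β zU = zU then (0 : Fin 3) else if β zU = u1 then 1 else 2) := hαβ
    have hu12 : u1 ≠ u2 := by
      intro hc
      have := (h.P_inj (congrArg Subtype.val hc)).1
      exact h.hh_ne_zero' this
    rcases hinv _ hαz with h1 | h1 | h1 <;> rcases hinv _ hβz with h2 | h2 | h2
    · rw [h1, h2]
    · exfalso
      rw [h1, h2] at hαβ
      by_cases hc : u1 = zU
      · have := (h.P_inj (congrArg Subtype.val hc)).2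
        exact h.hh_ne_zero' this.symm
      · simp [hc] at hαβ
    · exfalso
      rw [h1, h2] at hαβ
      by_cases hc : u2 = zU
      · have := (h.P_inj (congrArg Subtype.val hc)).1
        exact h.hh_ne_zero' this.symm
      · have hc' : u2 ≠ u1 := fun hc' => hu12 hc'.symm
        simp [hc, hc'] at hαβ
    · exfalso
      rw [h1, h2] at hαβ
      by_cases hc : u1 = zU
      · have := (h.P_inj (congrArg Subtype.val hc)).2
        exact h.hh_ne_zero' this.symm
      · simp [hc] at hαβ
    · rw [h1, h2]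
    · exfalso
      rw [h1, h2] at hαβ
      have hc1 : u1 ≠ zU := by
        intro hc
        have := (h.P_inj (congrArg Subtype.val hc)).2
        exact h.hh_ne_zero' this.symm
      have hc2 : u2 ≠ zU := by
        intro hc
        have := (h.P_inj (congrArg Subtype.val hc)).1
        exact h.hh_ne_zero' this.symm
      have hc' : u2 ≠ u1 := fun hc' => hu12 hc'.symm
      simp [hc1, hc2, hc'] at hαβ
    · exfalso
      rw [h1, h2] at hαβ
      have hc2 : u2 ≠ zU := by
        intro hc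
        have := (h.P_inj (congrArg Subtype.val hc)).1
        exact h.hh_ne_zero' this.symm
      have hc' : u2 ≠ u1 := fun hc' => hu12 hc'.symm
      simp [hc2, hc'] at hαβ
    · exfalso
      rw [h1, h2] at hαβ
      have hc1 : u1 ≠ zU := by
        intro hc
        have := (h.P_inj (congrArg Subtype.val hc)).2
        exact h.hh_ne_zero' this.symm
      have hc2 : u2 ≠ zU := by
        intro hc
        have := (h.P_inj (congrArg Subtype.val hc)).1
        exact h.hh_ne_zero' this.symm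
      have hc' : u2 ≠ u1 := fun hc' => hu12 hc'.symm
      simp [hc1, hc2, hc'] at hαβ
    · rw [h1, h2]
  have hγ : (β⁻¹ * α) zU = zU := by
    rw [MulAut.mul_apply, heq, MulAut.inv_apply_self]
  have h1 := h.aut_U_eq_one (β⁻¹ * α) (pow_orderOf_eq_one _) hodd zU hzo hγ
  rw [inv_mul_eq_one] at h1
  exact h1.symm

/-- the odd part of `|Aut X|` divides 3 for a good subgroup `X` -/
theorem IsGood.odd_dvd_card_mulAut (h : IsWr n x y z) {X : Subgroup S} {δ : ZMod (2 ^ n)}
    (hX : h.IsGood X δ) {m : ℕ} (hm : Odd m) (hd : m ∣ Nat.card (MulAut X)) : m ∣ 3 := by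
  classical
  have hn1 := h.one_le_n
  have h2h := two_mul_hh hn1
  have hp : h.P (hh n) 0 ∈ X := by rw [hX.P_mem]; linear_combination h2h
  have hcen : Subgroup.center S ≤ X := by
    intro g hg
    rw [h.mem_center_iff] at hg
    obtain ⟨a, rfl⟩ := hg
    rw [hX.P_mem]; ring
  have hC : Subgroup.centralizer (X : Set S) ≤ X := (hX.centralizer_le h).trans hcen
  have hQ : h.Q δ 0 ∈ X := by rw [hX.Q_mem]; ring
  set p : X := ⟨h.P (hh n) 0, hp⟩ with hpdef
  -- automorphisms map central elements into U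
  have hcentral : ∀ (ψ : MulAut X) (f : ZMod (2 ^ n)),
      ((ψ ⟨h.P f f, h.P_diag_mem X hC f⟩ : X) : S) ∈ h.U := by
    intro ψ f
    set w : X := ⟨h.P f f, h.P_diag_mem X hC f⟩ with hw
    have hwc : ∀ g : X, w * g = g * w := by
      intro g
      apply Subtype.ext
      rw [Subgroup.coe_mul, Subgroup.coe_mul]
      have : h.P f f ∈ Subgroup.center S := (h.mem_center_iff _).mpr ⟨_, rfl⟩
      exact (Subgroup.mem_center_iff.mp this (g : S)).symm
    have hv := aut_central X ψ w hwc
    rcases h.cases ((ψ w : X) : S) with ⟨c', d', hc'⟩ | ⟨c', d', hc'⟩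
    · rw [hc']; exact h.P_mem_U _ _
    · exfalso
      have h5 := congrArg Subtype.val (hv p)
      rw [Subgroup.coe_mul, Subgroup.coe_mul, hc'] at h5
      have h6 : h.P (hh n) 0 * h.Q c' d' = h.Q c' d' * h.P (hh n) 0 := h5.symm
      rw [h.P_comm_Q_iff] at h6
      exact h.hh_ne_zero' h6
  -- images of p are never central
  have hnc : ∀ (ψ : MulAut X) (c : ZMod (2 ^ n)), ((ψ p : X) : S) ≠ h.P c c := by
    intro ψ c hc
    have h1 : ψ p = ⟨h.P c c, h.P_diag_mem X hC c⟩ := Subtype.ext hc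
    have h2 : p = ψ⁻¹ ⟨h.P c c, h.P_diag_mem X hC c⟩ := by
      rw [← h1, MulAut.inv_apply_self]
    have h3 := hcentral ψ⁻¹ c
    rw [← h2] at h3
    -- p is in U anyway; use centrality instead
    set w : X := ⟨h.P c c, h.P_diag_mem X hC c⟩ with hw
    have hwc : ∀ g : X, w * g = g * w := by
      intro g
      apply Subtype.ext
      rw [Subgroup.coe_mul, Subgroup.coe_mul]
      have : h.P c c ∈ Subgroup.center S := (h.mem_center_iff _).mpr ⟨_, rfl⟩
      exact (Subgroup.mem_center_iff.mp this (g : S)).symm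
    have hv := aut_central X ψ⁻¹ w hwc ⟨h.Q δ 0, hQ⟩
    rw [← h2] at hv
    have h5 := congrArg Subtype.val hv
    rw [Subgroup.coe_mul, Subgroup.coe_mul] at h5
    have h6 : h.P (hh n) 0 * h.Q δ 0 = h.Q δ 0 * h.P (hh n) 0 := h5
    rw [h.P_comm_Q_iff] at h6
    exact h.hh_ne_zero' h6
  refine odd_dvd_three
    (fun α : MulAut X => if ((α p : X) : S) ∈ h.U then (0 : Fin 3)
      else if ((α p : X) : S) * (h.Q δ 0)⁻¹ ∈ Subgroup.center S then 1 else 2)
    ?_ hm hd
  intro α β hodd hαβ
  replace hαβ : (if ((α p : X) : S) ∈ h.U then (0 : Fin 3)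
      else if ((α p : X) : S) * (h.Q δ 0)⁻¹ ∈ Subgroup.center S then 1 else 2) =
    (if ((β p : X) : S) ∈ h.U then (0 : Fin 3)
      else if ((β p : X) : S) * (h.Q δ 0)⁻¹ ∈ Subgroup.center S then 1 else 2) := hαβ
  -- a = b * ζ with ζ central
  have hkey : ∃ f : ZMod (2 ^ n), ((α p : X) : S) = ((β p : X) : S) * h.P f f := by
    have hQc : ∀ c d, h.Q c d * (h.Q δ 0)⁻¹ ∈ Subgroup.center S ↔ c - d - δ = 0 := by
      intro c d
      rw [h.Q_inv, h.Q_mul_Q, h.mem_center_iff]
      constructor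
      · rintro ⟨a, ha⟩
        obtain ⟨h1, h2⟩ := h.P_inj ha
        linear_combination h1 - h2
      · intro hc
        refine ⟨d, ?_⟩
        congr 1
        · linear_combination hc
        · ring
    rcases h.cases ((α p : X) : S) with ⟨c, d, hcd⟩ | ⟨c, d, hcd⟩ <;>
      rcases h.cases ((β p : X) : S) with ⟨c', d', hcd'⟩ | ⟨c', d', hcd'⟩
    · -- both in U
      have m1 := (hX.P_mem c d).mp (hcd ▸ (α p).2)
      have m2 := (hX.P_mem c' d').mp (hcd' ▸ (β p).2)
      rw [two_mul_eq_zero_iff hn1] at m1 m2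
      have e1 : c - d = hh n := by
        rcases m1 with m1 | m1
        · exfalso
          apply hnc α d
          rw [hcd, sub_eq_zero.mp m1]
        · exact m1
      have e2 : c' - d' = hh n := by
        rcases m2 with m2 | m2
        · exfalso
          apply hnc β d'
          rw [hcd', sub_eq_zero.mp m2]
        · exact m2
      refine ⟨c - c', ?_⟩
      rw [hcd, hcd', h.P_mul_P]
      congr 1
      · ring
      · linear_combination e2 - e1
    · exfalso
      rw [hcd, hcd'] at hαβ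
      simp only [h.P_mem_U, h.Q_not_mem_U, if_true, if_false] at hαβ
      split_ifs at hαβ <;> exact absurd hαβ (by decide)
    · exfalso
      rw [hcd, hcd'] at hαβ
      simp only [h.P_mem_U, h.Q_not_mem_U, if_true, if_false] at hαβ
      split_ifs at hαβ <;> exact absurd hαβ (by decide)
    · rw [hcd, hcd'] at hαβ
      simp only [h.Q_not_mem_U, if_false, hQc] at hαβ
      have m1 := (hX.Q_mem c d).mp (hcd ▸ (α p).2)
      have m2 := (hX.Q_mem c' d').mp (hcd' ▸ (β p).2)
      rw [two_mul_eq_zero_iff hn1] at m1 m2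
      have e : c - d = c' - d' := by
        rcases m1 with m1 | m1 <;> rcases m2 with m2 | m2
        · linear_combination m1 - m2
        · exfalso
          have m2' : ¬ (c' - d' - δ = 0) := by
            rw [m2]; exact h.hh_ne_zero'
          simp [m1, m2'] at hαβ
        · exfalso
          have m1' : ¬ (c - d - δ = 0) := by
            rw [m1]; exact h.hh_ne_zero'
          simp [m2, m1'] at hαβ
        · linear_combination m1 - m2
      refine ⟨c - c', ?_⟩
      rw [hcd, hcd', h.Q_mul_P]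
      congr 1
      · ring
      · linear_combination -e
  obtain ⟨f, hf⟩ := hkey
  have hγ : (((β⁻¹ * α) p : X) : S) ∈ h.U := by
    have e1 : α p = β p * ⟨h.P f f, h.P_diag_mem X hC f⟩ := by
      apply Subtype.ext
      rw [Subgroup.coe_mul, hf]
    rw [MulAut.mul_apply, e1, map_mul, MulAut.inv_apply_self, Subgroup.coe_mul]
    exact h.U.mul_mem (h.P_mem_U _ _) (hcentral β⁻¹ f)
  have h1 := hX.aut_eq_one h (β⁻¹ * α) (pow_orderOf_eq_one _) hodd hp hγ
  rw [inv_mul_eq_one] at h1
  exact h1.symm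

end Tlevel

section Glevel

variable {G : Type*} [Group G]

theorem normalizerMonoidHom_coe (H : Subgroup G) (g : Subgroup.normalizer (H : Set G)) (u : H) :
    ((H.normalizerMonoidHom g u : H) : G) = (g : G) * u * (g : G)⁻¹ := rfl

theorem normalizerMonoidHom_pow_eq_one (H : Subgroup G) {g : G}
    (hg : g ∈ Subgroup.normalizer (H : Set G)) {k : ℕ} (hk : g ^ k = 1) :
    (H.normalizerMonoidHom ⟨g, hg⟩) ^ k = 1 := by
  rw [← map_pow]
  have : (⟨g, hg⟩ : Subgroup.normalizer (H : Set G)) ^ k = 1 := by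
    apply Subtype.ext
    rw [Subgroup.coe_pow]; exact hk
  rw [this, map_one]

theorem mem_centralizer_of_hom_eq_one (H : Subgroup G) {g : G}
    (hg : g ∈ Subgroup.normalizer (H : Set G)) (h1 : H.normalizerMonoidHom ⟨g, hg⟩ = 1) :
    g ∈ Subgroup.centralizer (H : Set G) := by
  have : (⟨g, hg⟩ : Subgroup.normalizer (H : Set G)) ∈ H.normalizerMonoidHom.ker :=
    MonoidHom.mem_ker.mpr h1
  rw [Subgroup.normalizerMonoidHom_ker, Subgroup.mem_subgroupOf] at this
  exact this

variable {T : Subgroup G} [Finite T] {n : ℕ} {x y z : T}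

theorem mem_U_iff_coe_mem_UG (h : IsWr n x y z) (t : T) : t ∈ h.U ↔ (t : G) ∈ h.UG := by
  rw [h.mem_U_iff, h.mem_UG_iff]
  constructor
  · rintro ⟨a, b, rfl⟩; exact ⟨a, b, rfl⟩
  · rintro ⟨a, b, hab⟩; exact ⟨a, b, Subtype.ext hab⟩

/-- an odd-order element normalizing `U` and centralizing an involution of `U` centralizes `U` -/
theorem odd_centralizes_UG (h : IsWr n x y z) {g : G}
    (hg : g ∈ Subgroup.normalizer (h.UG : Set G)) (hodd : Odd (orderOf g)) {t : G}
    (ht : t ∈ h.UG) (ht2 : orderOf t = 2) (hgt : g * t * g⁻¹ = t) :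
    g ∈ Subgroup.centralizer (h.UG : Set G) := by
  set φ := h.UG.normalizerMonoidHom ⟨g, hg⟩ with hφ
  have hk : φ ^ (orderOf g) = 1 := normalizerMonoidHom_pow_eq_one _ hg (pow_orderOf_eq_one g)
  set ε : h.UG ≃* h.U :=
    (Subgroup.equivMapOfInjective h.U T.subtype T.subtype_injective).symm with hε
  set φ' : MulAut h.U := MulAut.congr ε φ with hφ'
  have hk' : φ' ^ (orderOf g) = 1 := by rw [hφ', ← map_pow, hk, map_one]
  have ht2' : orderOf (ε ⟨t, ht⟩) = 2 := by
    rw [MulEquiv.orderOf_eq, ← Subgroup.orderOf_coe]; exact ht2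
  have hfix : φ' (ε ⟨t, ht⟩) = ε ⟨t, ht⟩ := by
    rw [hφ', MulAut.congr_apply]
    show ε (φ (ε.symm (ε ⟨t, ht⟩))) = _
    rw [MulEquiv.symm_apply_apply]
    congr 1
    apply Subtype.ext
    rw [normalizerMonoidHom_coe]
    exact hgt
  have h1 := h.aut_U_eq_one φ' hk' hodd _ ht2' hfix
  rw [hφ', map_eq_one_iff _ (MulAut.congr ε).injective] at h1
  exact mem_centralizer_of_hom_eq_one _ hg h1

theorem IsGoodG.isGood (h : IsWr n x y z) {V : Subgroup G} {δ : ZMod (2 ^ n)}
    (hV : h.IsGoodG V δ) : h.IsGood (V.subgroupOf T) δ :=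
  ⟨fun a b => hV.P_mem a b, fun c d => hV.Q_mem c d⟩

/-- an odd-order element normalizing a good subgroup `V` and mapping `P hh 0` into `U`
centralizes `V` -/
theorem IsGoodG.odd_centralizes (h : IsWr n x y z) {V : Subgroup G} {δ : ZMod (2 ^ n)}
    (hV : h.IsGoodG V δ) {g : G}
    (hg : g ∈ Subgroup.normalizer (V : Set G)) (hodd : Odd (orderOf g))
    (hgp : g * h.PG (hh n) 0 * g⁻¹ ∈ h.UG) :
    g ∈ Subgroup.centralizer (V : Set G) := by
  set φ := V.normalizerMonoidHom ⟨g, hg⟩ with hφ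
  have hk : φ ^ (orderOf g) = 1 := normalizerMonoidHom_pow_eq_one _ hg (pow_orderOf_eq_one g)
  set ε : V ≃* V.subgroupOf T := (Subgroup.subgroupOfEquivOfLe hV.le).symm with hε
  set φ' : MulAut (V.subgroupOf T) := MulAut.congr ε φ with hφ'
  have hk' : φ' ^ (orderOf g) = 1 := by rw [hφ', ← map_pow, hk, map_one]
  have hX := hV.isGood h
  have hp : h.P (hh n) 0 ∈ V.subgroupOf T := by
    rw [hX.P_mem]; linear_combination two_mul_hh h.one_le_n
  have h1 := hX.aut_eq_one h φ' hk' hodd hp (by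
    rw [h.mem_U_iff_coe_mem_UG]
    exact hgp)
  rw [hφ', map_eq_one_iff _ (MulAut.congr ε).injective] at h1
  exact mem_centralizer_of_hom_eq_one _ hg h1

end Glevel

end IsWr

end Cfsg.Agent.Lib.Helper27
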