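import Cfsg.Agent.Lib.Helper41.Frobenius
import Cfsg.Agent.Lib.Helper41.Engine
import Cfsg.Agent.Lib.Helper27.WreathedAut

set_option autoImplicit false

/-! Reduction of Frobenius' normal `p`-complement criterion to the centric subgroups of a Sylow
`p`-subgroup. -/

namespace Cfsg.Agent.Lib.Helper27

open Cfsg Cfsg.Agent.Lib.Helper41

variable {G : Type*} [Group G]

/-- a `p`-subgroup which is normalized but not centralized by some `p'`-element -/
def FrobBad (p : ℕ) (D : Subgroup G) : Prop :=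
  IsPGroup p D ∧ ∃ g ∈ Subgroup.normalizer (D : Set G), Nat.Coprime (orderOf g) p ∧
    g ∉ Subgroup.centralizer (D : Set G)

theorem conj_mem_centralizer_lc {D : Subgroup G} {a g : G}
    (hg : a * g * a⁻¹ ∈ Subgroup.centralizer ((lc a D : Subgroup G) : Set G)) :
    g ∈ Subgroup.centralizer (D : Set G) := by
  rw [Subgroup.mem_centralizer_iff] at hg ⊢
  intro d hd
  have h1 := hg (a * d * a⁻¹) (conj_mem_lc hd)
  have e1 : a * d * a⁻¹ * (a * g * a⁻¹) = a * (d * g) * a⁻¹ := by group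
  have e2 : a * g * a⁻¹ * (a * d * a⁻¹) = a * (g * d) * a⁻¹ := by group
  rw [e1, e2] at h1
  exact mul_left_cancel (mul_right_cancel h1)

theorem FrobBad.lc {p : ℕ} {D : Subgroup G} (h : FrobBad p D) (a : G) : FrobBad p (lc a D) := by
  obtain ⟨hD, g, hgN, hcop, hgC⟩ := h
  refine ⟨isPGroup_lc hD, a * g * a⁻¹, ?_, ?_, ?_⟩
  · rw [normalizer_lc]
    exact conj_mem_lc hgN
  · have : a * g * a⁻¹ = MulAut.conj a g := rfl
    rw [this, MulEquiv.orderOf_eq]
    exact hcop
  · intro hc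
    exact hgC (conj_mem_centralizer_lc hc)

theorem mem_normalizer_sup {A B : Subgroup G} {g : G}
    (hA : g ∈ Subgroup.normalizer (A : Set G)) (hB : g ∈ Subgroup.normalizer (B : Set G)) :
    g ∈ Subgroup.normalizer ((A ⊔ B : Subgroup G) : Set G) := by
  rw [mem_normalizer_iff_lc] at hA hB ⊢
  show (A ⊔ B).map _ = _
  rw [Subgroup.map_sup]
  show Cfsg.Agent.Lib.Helper41.lc g A ⊔ Cfsg.Agent.Lib.Helper41.lc g B = _
  rw [hA, hB]

/-- If Frobenius' condition fails, it fails for a subgroup `D` of the given Sylow `p`-subgroup `S` with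
`C_S(D) ≤ D`. -/
theorem exists_centric_of_not_frobCond [Finite G] {p : ℕ} [Fact p.Prime] (S : Sylow p G)
    (h : ¬ FrobCond p G) :
    ∃ D : Subgroup G, D ≤ (S : Subgroup G) ∧
      (S : Subgroup G) ⊓ Subgroup.centralizer (D : Set G) ≤ D ∧
      ∃ g ∈ Subgroup.normalizer (D : Set G), Nat.Coprime (orderOf g) p ∧
        g ∉ Subgroup.centralizer (D : Set G) := by
  have hp : p.Prime := Fact.out
  have hne : {D : Subgroup G | FrobBad p D}.Nonempty := by
    by_contra hc
    apply h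
    intro Q hQ g hg hcop
    by_contra hgC
    exact hc ⟨Q, hQ, g, hg, hcop, hgC⟩
  obtain ⟨D₀, hD₀, hmax⟩ := Set.exists_max_image _ (fun D : Subgroup G => Nat.card D)
    (Set.toFinite _) hne
  obtain ⟨a, ha⟩ := exists_lc_le_sylow S hD₀.1
  obtain ⟨c, hcS, hidx⟩ := exists_fullyNormalized_lc S ha
  set D := Cfsg.Agent.Lib.Helper41.lc c (Cfsg.Agent.Lib.Helper41.lc a D₀) with hDdef
  have hD : FrobBad p D := (FrobBad.lc hD₀ a).lc c
  have hcard : Nat.card D = Nat.card D₀ := by rw [hDdef, card_lc, card_lc]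
  obtain ⟨hDp, g, hgN, hcop, hgC⟩ := hD
  refine ⟨D, hcS, ?_, g, hgN, hcop, hgC⟩
  obtain ⟨z, hz, n, hnN, hnC, rfl⟩ := exists_centralizer_mul_normalizer S.2 hidx hgN
  obtain ⟨k, m, hm, hkm⟩ := Nat.exists_eq_pow_mul_and_not_dvd (orderOf_pos n).ne' p hp.ne_one
  have hpk : p ^ k ≠ 0 := pow_ne_zero _ hp.ne_zero
  have hord : orderOf (n ^ (p ^ k)) = m := by
    rw [orderOf_pow_of_dvd hpk (by rw [hkm]; exact dvd_mul_right _ _), hkm,
      Nat.mul_div_cancel_left _ (Nat.pos_of_ne_zero hpk)]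
  have hcop' : Nat.Coprime (orderOf (n ^ (p ^ k))) p := by
    rw [hord]
    exact ((Nat.Prime.coprime_iff_not_dvd hp).mpr hm).symm
  have hn'N : n ^ (p ^ k) ∈ Subgroup.normalizer (D : Set G) := Subgroup.pow_mem _ hnN _
  have hn'C : n ^ (p ^ k) ∈ Subgroup.normalizer
      (((S : Subgroup G) ⊓ Subgroup.centralizer (D : Set G) : Subgroup G) : Set G) :=
    Subgroup.pow_mem _ hnC _
  -- `n ^ (p ^ k)` does not centralize `D`
  have hn'nC : n ^ (p ^ k) ∉ Subgroup.centralizer (D : Set G) := by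
    intro hc
    apply hgC
    set α := D.normalizerMonoidHom ⟨n, hnN⟩ with hα
    have e1 : D.normalizerMonoidHom ⟨z * n, hgN⟩ = α := by
      apply MulEquiv.ext
      intro d
      apply Subtype.ext
      rw [hα, IsWr.normalizerMonoidHom_coe, IsWr.normalizerMonoidHom_coe]
      have hd : n * (d : G) * n⁻¹ ∈ D := (Subgroup.mem_normalizer_iff.mp hnN _).mp d.2
      rw [Subgroup.mem_centralizer_iff] at hz
      have := hz _ hd
      show z * n * (d : G) * (z * n)⁻¹ = n * (d : G) * n⁻¹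
      calc z * n * (d : G) * (z * n)⁻¹ = z * (n * (d : G) * n⁻¹) * z⁻¹ := by group
        _ = (n * (d : G) * n⁻¹) * z * z⁻¹ := by rw [this]
        _ = n * (d : G) * n⁻¹ := by group
    have e2 : α ^ (orderOf (z * n)) = 1 := by
      rw [← e1]
      exact IsWr.normalizerMonoidHom_pow_eq_one _ hgN (pow_orderOf_eq_one _)
    have e3 : α ^ (p ^ k) = 1 := by
      rw [hα, ← map_pow]
      have : (⟨n, hnN⟩ : Subgroup.normalizer (D : Set G)) ^ (p ^ k) ∈ D.normalizerMonoidHom.ker := by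
        rw [Subgroup.normalizerMonoidHom_ker, Subgroup.mem_subgroupOf]
        exact hc
      exact MonoidHom.mem_ker.mp this
    have h1 : orderOf α ∣ Nat.gcd (orderOf (z * n)) (p ^ k) :=
      Nat.dvd_gcd (orderOf_dvd_of_pow_eq_one e2) (orderOf_dvd_of_pow_eq_one e3)
    have h2 : Nat.gcd (orderOf (z * n)) (p ^ k) = 1 := Nat.Coprime.pow_right k hcop
    rw [h2, Nat.dvd_one, orderOf_eq_one_iff] at h1
    rw [← e1] at h1
    exact IsWr.mem_centralizer_of_hom_eq_one _ hgN h1
  set Dstar := D ⊔ ((S : Subgroup G) ⊓ Subgroup.centralizer (D : Set G)) with hDstar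
  have hDstarS : Dstar ≤ (S : Subgroup G) := sup_le hcS inf_le_left
  have hbad : FrobBad p Dstar := by
    refine ⟨S.2.to_le hDstarS, n ^ (p ^ k), mem_normalizer_sup hn'N hn'C, hcop', ?_⟩
    intro hc
    apply hn'nC
    exact Subgroup.centralizer_le (SetLike.coe_subset_coe.mpr (le_sup_left : D ≤ Dstar)) hc
  have h1 : Nat.card Dstar ≤ Nat.card D₀ := hmax Dstar hbad
  have h2 : Dstar = D := by
    symm
    apply Subgroup.eq_of_le_of_card_ge le_sup_left
    rw [hcard]
    exact h1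
  exact le_of_le_of_eq (le_sup_right : _ ≤ Dstar) h2

end Cfsg.Agent.Lib.Helper27
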