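import Mathlib
import Cfsg.Agent.Lib.Helper87.FusionSaturated

/-!
# Saturated 2-fusion systems in which every element is conjugate into `Z(S)`

Fusion-system version of the Camina–Herzog theorem (translation of the elementary group-theoretic proof in
`Cfsg.Agent.Lib.Helper06.OddClass`): if every element of `S` is `F`-conjugate to an element of `Z(S)` then `S` is abelian.
-/

set_option autoImplicit false

namespace Cfsg.Agent.Lib.Helper27.FusCentral

open Cfsg Cfsg.FusionSystem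
open Cfsg.Agent.Lib.Helper87

variable {Ω : Type*} [Group Ω] {S : Subgroup Ω}

/-! ### homomorphisms defined on a cyclic subgroup -/

theorem exists_zpow_eq (g : Ω) (y : Subgroup.zpowers g) :
    ∃ k : ℤ, y = (⟨g, Subgroup.mem_zpowers g⟩ : Subgroup.zpowers g) ^ k := by
  obtain ⟨k, hk⟩ := Subgroup.mem_zpowers_iff.1 y.2
  exact ⟨k, Subtype.ext (by simp [hk])⟩

theorem hom_zpowers_apply {M : Type*} [Group M] (g : Ω) (f : Subgroup.zpowers g →* M)
    (k : ℤ) : f ((⟨g, Subgroup.mem_zpowers g⟩ : Subgroup.zpowers g) ^ k) =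
      (f ⟨g, Subgroup.mem_zpowers g⟩) ^ k := map_zpow f _ k

theorem hom_zpowers_ext {M : Type*} [Group M] (g : Ω) (f f' : Subgroup.zpowers g →* M)
    (h : f ⟨g, Subgroup.mem_zpowers g⟩ = f' ⟨g, Subgroup.mem_zpowers g⟩) : f = f' := by
  ext y
  obtain ⟨k, rfl⟩ := exists_zpow_eq g y
  rw [map_zpow, map_zpow, h]

theorem range_hom_zpowers (g : Ω) (f : Subgroup.zpowers g →* Ω) :
    f.range = Subgroup.zpowers (f ⟨g, Subgroup.mem_zpowers g⟩) := by
  ext y
  constructor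
  · rintro ⟨x, rfl⟩
    obtain ⟨k, rfl⟩ := exists_zpow_eq g x
    rw [map_zpow]
    exact Subgroup.zpow_mem_zpowers _ k
  · intro hy
    obtain ⟨k, rfl⟩ := Subgroup.mem_zpowers_iff.1 hy
    exact ⟨⟨g, Subgroup.mem_zpowers g⟩ ^ k, map_zpow f _ k⟩

/-- the centre of `S` as used in the statement -/
def ZS (S : Subgroup Ω) : Subgroup Ω := S ⊓ Subgroup.centralizer (S : Set Ω)

theorem mem_ZS {z : Ω} : z ∈ ZS S ↔ z ∈ S ∧ ∀ g ∈ S, g * z = z * g := by
  unfold ZS
  rw [Subgroup.mem_inf, Subgroup.mem_centralizer_iff]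
  rfl

theorem zpowers_comm_of_mem_ZS {z : Ω} (hz : z ∈ ZS S) {y : Ω} (hy : y ∈ Subgroup.zpowers z)
    {g : Ω} (hg : g ∈ S) : g * y = y * g := by
  obtain ⟨k, rfl⟩ := Subgroup.mem_zpowers_iff.1 hy
  have h : Commute g z := (mem_ZS.1 hz).2 g hg
  exact (h.zpow_right k).eq

theorem zpowers_le_of_mem {z : Ω} (hz : z ∈ S) : Subgroup.zpowers z ≤ S :=
  (Subgroup.zpowers_le).2 hz


/-! ### cyclic central subgroups -/

theorem normalizerIn_zpowers_eq {z : Ω} (hz : z ∈ ZS S) : normalizerIn S (Subgroup.zpowers z) = S := by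
  apply le_antisymm (normalizerIn_le S _)
  intro g hg
  rw [mem_normalizerIn]
  refine ⟨hg, fun x => ?_⟩
  constructor
  · intro hx
    have h1 := zpowers_comm_of_mem_ZS hz hx hg
    rw [h1, mul_inv_cancel_right]
    exact hx
  · intro hx
    have h1 := zpowers_comm_of_mem_ZS hz hx hg
    have h2 : g⁻¹ * (g * x * g⁻¹) * g = x := by group
    have hgi : g⁻¹ ∈ S := S.inv_mem hg
    have h3 := zpowers_comm_of_mem_ZS hz hx hgi
    rw [← h2, h3]
    simpa using hx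

theorem isFullyNormalized_zpowers [Finite S] (F : FusionSystem S) {z : Ω} (hz : z ∈ ZS S) :
    F.IsFullyNormalized (Subgroup.zpowers z) := by
  refine ⟨zpowers_le_of_mem (mem_ZS.1 hz).1, fun Q _ => ?_⟩
  rw [normalizerIn_zpowers_eq hz]
  exact card_le_of_le (normalizerIn_le S Q)

theorem autInducedBy_zpowers_eq_bot {z : Ω} (hz : z ∈ ZS S) :
    autInducedBy S (Subgroup.zpowers z) = ⊥ := by
  rw [eq_bot_iff]
  intro α hα
  obtain ⟨g, hg, hgα⟩ := mem_autInducedBy_iff.1 hα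
  rw [Subgroup.mem_bot]
  ext y
  rw [hgα y, zpowers_comm_of_mem_ZS hz y.2 hg, mul_inv_cancel_right]
  rfl

/-- `Aut_F(⟨z⟩)` has odd order for `z ∈ Z(S)` -/
theorem not_two_dvd_card_autGroup [Finite S] (hS : IsPGroup 2 S) (F : FusionSystem S)
    (hF : F.IsSaturated 2) {z : Ω} (hz : z ∈ ZS S) :
    ¬ 2 ∣ Nat.card (F.autGroup (Subgroup.zpowers z)) := by
  have : Fact (Nat.Prime 2) := ⟨Nat.prime_two⟩
  have hQS : Subgroup.zpowers z ≤ S := zpowers_le_of_mem (mem_ZS.1 hz).1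
  obtain ⟨-, -, R, hR⟩ := fullyNormalized_props 2 hS F hF _ (isFullyNormalized_zpowers F hz)
  have : Finite (F.autGroup (Subgroup.zpowers z)) := finite_autGroup F hQS
  have h1 : Nat.card (R : Subgroup (F.autGroup (Subgroup.zpowers z))) = 1 := by
    rw [hR, autInducedBy_zpowers_eq_bot hz, Subgroup.bot_subgroupOf, Subgroup.card_bot]
  have h2 := Sylow.card_eq_multiplicity R
  rw [h1] at h2
  intro hdvd
  have hne : Nat.card (F.autGroup (Subgroup.zpowers z)) ≠ 0 := Nat.card_pos.ne'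
  have h3 : 1 ≤ (Nat.card (F.autGroup (Subgroup.zpowers z))).factorization 2 :=
    (Nat.Prime.factorization_pos_of_dvd Nat.prime_two hne hdvd)
  have h4 : 2 ^ 1 ≤ 2 ^ (Nat.card (F.autGroup (Subgroup.zpowers z))).factorization 2 :=
    Nat.pow_le_pow_right (by norm_num) h3
  omega


/-! ### extension of a map `⟨a⟩ → ⟨c⟩`, `c ∈ Z(S)`, to `C_S(a)` -/

theorem mem_centralizerIn_zpowers {a g : Ω} (hg : g ∈ S) (hc : g * a = a * g) :
    g ∈ centralizerIn S (Subgroup.zpowers a) := by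
  rw [mem_centralizerIn]
  refine ⟨hg, fun x hx => ?_⟩
  obtain ⟨k, rfl⟩ := Subgroup.mem_zpowers_iff.1 hx
  have h : Commute g a := hc
  exact ((h.zpow_right k).eq).symm

theorem self_mem_centralizerIn_zpowers {a : Ω} (ha : a ∈ S) :
    a ∈ centralizerIn S (Subgroup.zpowers a) := mem_centralizerIn_zpowers ha rfl

theorem exists_extension [Finite S] (hS : IsPGroup 2 S) (F : FusionSystem S)
    (hF : F.IsSaturated 2) {a c : Ω} (ha : a ∈ S) (hc : c ∈ ZS S)
    (φ : Subgroup.zpowers a →* Ω) (hφ : φ ∈ F.Hom (Subgroup.zpowers a))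
    (hφa : φ ⟨a, Subgroup.mem_zpowers a⟩ = c) :
    ∃ ψ ∈ F.Hom (centralizerIn S (Subgroup.zpowers a)),
      ψ ⟨a, self_mem_centralizerIn_zpowers ha⟩ = c := by
  have : Fact (Nat.Prime 2) := ⟨Nat.prime_two⟩
  have hfc := (fullyNormalized_props 2 hS F hF _ (isFullyNormalized_zpowers F hc)).1
  have hrec := isReceptive_of_isFullyCentralized 2 hS F hF _ hfc
  have hr : φ.range = Subgroup.zpowers c := by
    rw [range_hom_zpowers, hφa]
  obtain ⟨ψ0, hψ0, hψ0φ⟩ := hrec.2 _ φ hφ hr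
  have hle : centralizerIn S (Subgroup.zpowers a) ≤ extender S (Subgroup.zpowers a) φ :=
    centralizerIn_le_extender S _ φ
  refine ⟨ψ0.comp (Subgroup.inclusion hle), restrict_mem F hle hψ0, ?_⟩
  rw [← hφa]
  exact hψ0φ a (Subgroup.mem_zpowers a) (hle (self_mem_centralizerIn_zpowers ha))

/-! ### no element of `S` inverts an element conjugate into `Z(S)` unless it has order at most 2 -/

theorem inv_eq_self_of_conj_eq_inv [Finite S] (hS : IsPGroup 2 S) (F : FusionSystem S)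
    (hF : F.IsSaturated 2) {x t z : Ω} (hx : x ∈ S) (ht : t ∈ S) (hz : z ∈ ZS S)
    (hxz : F.IsConjElt x z) (hinv : t * x * t⁻¹ = x⁻¹) : x⁻¹ = x := by
  obtain ⟨φ, hφ, hφx⟩ := hxz
  have hP : Subgroup.zpowers x ≤ S := zpowers_le_of_mem hx
  have hQ : Subgroup.zpowers z ≤ S := zpowers_le_of_mem (mem_ZS.1 hz).1
  have hr : φ.range = Subgroup.zpowers z := by rw [range_hom_zpowers, hφx]
  obtain ⟨ψ, hψ, hψx, hψr⟩ := inv_mem' F hφ hr
  -- conjugation by `t` on `⟨x⟩`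
  have hct : conjHom (Subgroup.zpowers x) t ∈ F.Hom (Subgroup.zpowers x) := F.conj_mem hP ht
  have hctP : ∀ y : Subgroup.zpowers x, conjHom (Subgroup.zpowers x) t y ∈ Subgroup.zpowers x := by
    intro y
    obtain ⟨k, rfl⟩ := exists_zpow_eq x y
    rw [map_zpow]
    apply Subgroup.zpow_mem
    show t * x * t⁻¹ ∈ Subgroup.zpowers x
    rw [hinv]
    exact Subgroup.inv_mem _ (Subgroup.mem_zpowers x)
  have hχ1 := F.comp_mem hct hφ hctP
  have hψP : ∀ y : Subgroup.zpowers z, ψ y ∈ Subgroup.zpowers x := fun y => hψr ▸ ⟨y, rfl⟩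
  have hβ' := F.comp_mem hψ hχ1 hψP
  set β' := (φ.comp ((conjHom (Subgroup.zpowers x) t).codRestrict (Subgroup.zpowers x) hctP)).comp
    (ψ.codRestrict (Subgroup.zpowers x) hψP) with hβ'def
  -- value of `β'` at `z`
  have hψz : ψ ⟨z, Subgroup.mem_zpowers z⟩ = x :=
    hψx ⟨x, Subgroup.mem_zpowers x⟩ ⟨z, Subgroup.mem_zpowers z⟩ hφx
  have hβz : β' ⟨z, Subgroup.mem_zpowers z⟩ = z⁻¹ := by
    show φ ⟨t * (ψ ⟨z, Subgroup.mem_zpowers z⟩) * t⁻¹, _⟩ = z⁻¹
    have h1 : (⟨t * (ψ ⟨z, Subgroup.mem_zpowers z⟩) * t⁻¹,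
        hctP ⟨ψ ⟨z, Subgroup.mem_zpowers z⟩, hψP _⟩⟩ : Subgroup.zpowers x) =
        (⟨x, Subgroup.mem_zpowers x⟩ : Subgroup.zpowers x)⁻¹ := by
      apply Subtype.ext
      show t * (ψ ⟨z, Subgroup.mem_zpowers z⟩) * t⁻¹ = x⁻¹
      rw [hψz, hinv]
    rw [h1, map_inv, hφx]
  have hβr : β'.range = Subgroup.zpowers z := by
    rw [range_hom_zpowers, hβz, Subgroup.zpowers_inv]
  have hβmem := homEquiv_mem_autGroup F hβ' hβr
  set β : MulAut (Subgroup.zpowers z) := homEquiv F hβ' hβr with hβdef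
  have hβapp : ∀ y : Subgroup.zpowers z, ((β y : Subgroup.zpowers z) : Ω) = β' y := fun y => rfl
  have hβz' : β ⟨z, Subgroup.mem_zpowers z⟩ = (⟨z, Subgroup.mem_zpowers z⟩ : Subgroup.zpowers z)⁻¹ := by
    apply Subtype.ext
    rw [hβapp, hβz]
    rfl
  -- `β ^ 2 = 1`
  have hβ2 : β ^ 2 = 1 := by
    have h1 : (β ^ 2).toMonoidHom = (1 : MulAut (Subgroup.zpowers z)).toMonoidHom := by
      apply hom_zpowers_ext
      show (β ^ 2) ⟨z, Subgroup.mem_zpowers z⟩ = ⟨z, Subgroup.mem_zpowers z⟩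
      rw [pow_two, MulAut.mul_apply, hβz', map_inv, hβz', inv_inv]
    ext y
    have := congrArg (fun f => (f y : Ω)) h1
    simpa using this
  have hodd := not_two_dvd_card_autGroup hS F hF hz
  have hβ1 : β = 1 := by
    by_contra hne
    have ho : orderOf β = 2 := orderOf_eq_prime hβ2 hne
    have : Finite (F.autGroup (Subgroup.zpowers z)) := finite_autGroup F hQ
    have h2 : orderOf (⟨β, hβmem⟩ : F.autGroup (Subgroup.zpowers z)) ∣
        Nat.card (F.autGroup (Subgroup.zpowers z)) := orderOf_dvd_natCard _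
    rw [Subgroup.orderOf_mk, ho] at h2
    exact hodd h2
  have hzz : z⁻¹ = z := by
    have := hβz'
    rw [hβ1, MulAut.one_apply] at this
    have h3 := congrArg Subtype.val this
    simpa using h3.symm
  -- pull back along `φ`
  have h4 : φ (⟨x, Subgroup.mem_zpowers x⟩)⁻¹ = φ ⟨x, Subgroup.mem_zpowers x⟩ := by
    rw [map_inv, hφx, hzz]
  have h5 := F.injective_of_mem hφ h4
  have h6 := congrArg Subtype.val h5
  simpa using h6


/-! ### the main hypothesis and its consequences -/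

/-- every element of `S` is `F`-conjugate to an element of `Z(S)` -/
def Hyp (F : FusionSystem S) : Prop := ∀ x ∈ S, ∃ z ∈ ZS S, F.IsConjElt x z

variable [Finite S] (hS : IsPGroup 2 S) (F : FusionSystem S) (hF : F.IsSaturated 2) (h : Hyp F)
include hS hF h

/-- elements of order at most `2` of `S` commute -/
theorem comm_of_sq {s t : Ω} (hs : s ∈ S) (ht : t ∈ S) (hs2 : s * s = 1) (ht2 : t * t = 1) :
    s * t = t * s := by
  have hsi : s⁻¹ = s := inv_eq_of_mul_eq_one_left hs2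
  have hti : t⁻¹ = t := inv_eq_of_mul_eq_one_left ht2
  obtain ⟨z, hz, hxz⟩ := h (s * t) (S.mul_mem hs ht)
  have hinv : t * (s * t) * t⁻¹ = (s * t)⁻¹ := by
    rw [mul_inv_rev, hsi, hti]
    simp [mul_assoc, ht2]
  have := inv_eq_self_of_conj_eq_inv hS F hF (S.mul_mem hs ht) ht hz hxz hinv
  rw [mul_inv_rev, hsi, hti] at this
  exact this.symm

/-- `Ω₁(S)`: the elements of order at most `2`, a subgroup -/
def Om : Subgroup Ω where
  carrier := {x | x ∈ S ∧ x * x = 1}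
  one_mem' := ⟨S.one_mem, by simp⟩
  mul_mem' := by
    rintro a b ⟨ha, ha2⟩ ⟨hb, hb2⟩
    refine ⟨S.mul_mem ha hb, ?_⟩
    have hc := comm_of_sq hS F hF h ha hb ha2 hb2
    calc a * b * (a * b) = a * (b * a) * b := by simp [mul_assoc]
      _ = a * (a * b) * b := by rw [hc]
      _ = (a * a) * (b * b) := by simp [mul_assoc]
      _ = 1 := by rw [ha2, hb2, one_mul]
  inv_mem' := by
    rintro a ⟨ha, ha2⟩
    have hai : a⁻¹ = a := inv_eq_of_mul_eq_one_left ha2
    rw [Set.mem_setOf_eq, hai]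
    exact ⟨ha, ha2⟩

theorem mem_Om {x : Ω} : x ∈ Om hS F hF h ↔ x ∈ S ∧ x * x = 1 := Iff.rfl

theorem Om_comm {a b : Ω} (ha : a ∈ Om hS F hF h) (hb : b ∈ Om hS F hF h) : a * b = b * a :=
  comm_of_sq hS F hF h ha.1 hb.1 ha.2 hb.2

/-- the key step: `u² ∈ C_S(Ω₁(S))` implies `u ∈ C_S(Ω₁(S))` -/
theorem cent_Om_of_sq {u : Ω} (hu : u ∈ S)
    (hu2 : ∀ e ∈ Om hS F hF h, (u * u) * e = e * (u * u)) :
    ∀ e ∈ Om hS F hF h, u * e = e * u := by
  obtain ⟨z, hz, φ, hφ, hφu⟩ := h u hu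
  have hzS : z ∈ S := (mem_ZS.1 hz).1
  have hzc : ∀ g ∈ S, g * z = z * g := (mem_ZS.1 hz).2
  -- restrict `φ` to `⟨u²⟩`
  have hle : Subgroup.zpowers (u * u) ≤ Subgroup.zpowers u :=
    (Subgroup.zpowers_le).2 (Subgroup.mul_mem _ (Subgroup.mem_zpowers u) (Subgroup.mem_zpowers u))
  have hφ' := restrict_mem F hle hφ
  have hφ'a : (φ.comp (Subgroup.inclusion hle)) ⟨u * u, Subgroup.mem_zpowers (u * u)⟩ = z * z := by
    show φ ⟨u * u, _⟩ = z * z
    have : (⟨u * u, hle (Subgroup.mem_zpowers (u * u))⟩ : Subgroup.zpowers u) =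
        ⟨u, Subgroup.mem_zpowers u⟩ * ⟨u, Subgroup.mem_zpowers u⟩ := rfl
    rw [this, map_mul, hφu]
  have hzz : z * z ∈ ZS S := Subgroup.mul_mem _ hz hz
  have huu : u * u ∈ S := S.mul_mem hu hu
  obtain ⟨ψ, hψ, hψa⟩ := exists_extension hS F hF huu hzz _ hφ' hφ'a
  have huC : u ∈ centralizerIn S (Subgroup.zpowers (u * u)) :=
    mem_centralizerIn_zpowers hu (by simp [mul_assoc])
  have heC : ∀ e ∈ Om hS F hF h, e ∈ centralizerIn S (Subgroup.zpowers (u * u)) :=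
    fun e he => mem_centralizerIn_zpowers he.1 (hu2 e he).symm
  set x1 := ψ ⟨u, huC⟩ with hx1
  have hx1S : x1 ∈ S := hom_mem F hψ _
  have hx1sq : x1 * x1 = z * z := by
    rw [hx1, ← map_mul, ← hψa]
    rfl
  -- `y = x1 z⁻¹ ∈ Ω₁(S)`
  have hcz : x1 * z = z * x1 := hzc x1 hx1S
  have hczi : x1 * z⁻¹ = z⁻¹ * x1 := by
    have h1 : Commute x1 z := hcz
    exact (h1.inv_right).eq
  have hy : x1 * z⁻¹ ∈ Om hS F hF h := by
    refine ⟨S.mul_mem hx1S (S.inv_mem hzS), ?_⟩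
    calc x1 * z⁻¹ * (x1 * z⁻¹) = x1 * (z⁻¹ * x1) * z⁻¹ := by simp [mul_assoc]
      _ = x1 * (x1 * z⁻¹) * z⁻¹ := by rw [hczi]
      _ = (x1 * x1) * (z⁻¹ * z⁻¹) := by simp [mul_assoc]
      _ = 1 := by rw [hx1sq]; simp [mul_assoc]
  intro e he
  -- the image of `e` lies in `Ω₁(S)`
  set e' := ψ ⟨e, heC e he⟩ with he'
  have he'S : e' ∈ S := hom_mem F hψ _
  have he'Om : e' ∈ Om hS F hF h := by
    refine ⟨he'S, ?_⟩
    rw [he', ← map_mul]
    have : (⟨e, heC e he⟩ : centralizerIn S (Subgroup.zpowers (u * u))) * ⟨e, heC e he⟩ = 1 :=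
      Subtype.ext he.2
    rw [this, map_one]
  have hcomm : x1 * e' = e' * x1 := by
    have h1 : x1 = (x1 * z⁻¹) * z := by simp
    have h2 : (x1 * z⁻¹) * e' = e' * (x1 * z⁻¹) := Om_comm hS F hF h hy he'Om
    have h3 : z * e' = e' * z := (hzc e' he'S).symm
    calc x1 * e' = (x1 * z⁻¹) * z * e' := by rw [← h1]
      _ = (x1 * z⁻¹) * (e' * z) := by rw [mul_assoc, h3]
      _ = e' * (x1 * z⁻¹) * z := by rw [← mul_assoc, h2]
      _ = e' * x1 := by rw [mul_assoc, ← h1]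
  have h5 : ψ (⟨u, huC⟩ * ⟨e, heC e he⟩) = ψ (⟨e, heC e he⟩ * ⟨u, huC⟩) := by
    rw [map_mul, map_mul]
    exact hcomm
  have h6 := F.injective_of_mem hψ h5
  exact congrArg Subtype.val h6

/-- `Ω₁(S) ≤ Z(S)` -/
theorem Om_central {u : Ω} (hu : u ∈ S) : ∀ e ∈ Om hS F hF h, u * e = e * u := by
  -- induction on `k` with `u ^ 2 ^ k = 1`
  have key : ∀ k : ℕ, ∀ u ∈ S, u ^ 2 ^ k = 1 → ∀ e ∈ Om hS F hF h, u * e = e * u := by
    intro k
    induction k with
    | zero =>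
      intro u _ hu1 e _
      simp at hu1
      rw [hu1, one_mul, mul_one]
    | succ k ih =>
      intro u hu huk
      have h1 : (u * u) ^ 2 ^ k = 1 := by
        rw [← pow_two, ← pow_mul, ← pow_succ']; exact huk
      exact cent_Om_of_sq hS F hF h hu (ih (u * u) (S.mul_mem hu hu) h1)
  obtain ⟨k, hk⟩ := hS ⟨u, hu⟩
  have hk' : u ^ 2 ^ k = 1 := by
    have := congrArg Subtype.val hk
    simpa using this
  exact key k u hu hk'

/-- every element of `S` killed by `2 ^ k` is central in `S` -/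
theorem central_of_pow : ∀ k : ℕ, ∀ x ∈ S, x ^ 2 ^ k = 1 → ∀ u ∈ S, x * u = u * x := by
  intro k
  induction k with
  | zero =>
    intro x _ hx1 u _
    simp at hx1
    rw [hx1, one_mul, mul_one]
  | succ k ih =>
    intro x hx hxk u hu
    have hwk : (x * x) ^ 2 ^ k = 1 := by
      rw [← pow_two, ← pow_mul, ← pow_succ']; exact hxk
    have hxx : x * x ∈ S := S.mul_mem hx hx
    have hwc := ih (x * x) hxx hwk
    obtain ⟨z, hz, φ, hφ, hφx⟩ := h x hx
    have hzS : z ∈ S := (mem_ZS.1 hz).1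
    have hzc : ∀ g ∈ S, g * z = z * g := (mem_ZS.1 hz).2
    have hle : Subgroup.zpowers (x * x) ≤ Subgroup.zpowers x :=
      (Subgroup.zpowers_le).2 (Subgroup.mul_mem _ (Subgroup.mem_zpowers x) (Subgroup.mem_zpowers x))
    have hφ' := restrict_mem F hle hφ
    have hφ'a : (φ.comp (Subgroup.inclusion hle)) ⟨x * x, Subgroup.mem_zpowers (x * x)⟩ = z * z := by
      show φ ⟨x * x, _⟩ = z * z
      have : (⟨x * x, hle (Subgroup.mem_zpowers (x * x))⟩ : Subgroup.zpowers x) =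
          ⟨x, Subgroup.mem_zpowers x⟩ * ⟨x, Subgroup.mem_zpowers x⟩ := rfl
      rw [this, map_mul, hφx]
    have hzz : z * z ∈ ZS S := Subgroup.mul_mem _ hz hz
    obtain ⟨ψ, hψ, hψa⟩ := exists_extension hS F hF hxx hzz _ hφ' hφ'a
    have hC : ∀ g ∈ S, g ∈ centralizerIn S (Subgroup.zpowers (x * x)) :=
      fun g hg => mem_centralizerIn_zpowers hg (hwc g hg).symm
    set x2 := ψ ⟨x, hC x hx⟩ with hx2
    have hx2S : x2 ∈ S := hom_mem F hψ _
    have hx2sq : x2 * x2 = z * z := by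
      rw [hx2, ← map_mul, ← hψa]
      rfl
    have hcz : x2 * z = z * x2 := hzc x2 hx2S
    have hczi : x2 * z⁻¹ = z⁻¹ * x2 := by
      have h1 : Commute x2 z := hcz
      exact (h1.inv_right).eq
    have hy : x2 * z⁻¹ ∈ Om hS F hF h := by
      refine ⟨S.mul_mem hx2S (S.inv_mem hzS), ?_⟩
      calc x2 * z⁻¹ * (x2 * z⁻¹) = x2 * (z⁻¹ * x2) * z⁻¹ := by simp [mul_assoc]
        _ = x2 * (x2 * z⁻¹) * z⁻¹ := by rw [hczi]
        _ = (x2 * x2) * (z⁻¹ * z⁻¹) := by simp [mul_assoc]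
        _ = 1 := by rw [hx2sq]; simp [mul_assoc]
    -- `x2` is central in `S`
    have hx2c : ∀ v ∈ S, x2 * v = v * x2 := by
      intro v hv
      have h1 : x2 = (x2 * z⁻¹) * z := by simp
      have h2 : v * (x2 * z⁻¹) = (x2 * z⁻¹) * v := Om_central hS F hF h hv _ hy
      have h3 : v * z = z * v := hzc v hv
      calc x2 * v = (x2 * z⁻¹) * z * v := by rw [← h1]
        _ = (x2 * z⁻¹) * (v * z) := by rw [mul_assoc, h3]
        _ = v * (x2 * z⁻¹) * z := by rw [← mul_assoc, h2]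
        _ = v * x2 := by rw [mul_assoc, ← h1]
    set u' := ψ ⟨u, hC u hu⟩ with hu'
    have hu'S : u' ∈ S := hom_mem F hψ _
    have h5 : ψ (⟨x, hC x hx⟩ * ⟨u, hC u hu⟩) = ψ (⟨u, hC u hu⟩ * ⟨x, hC x hx⟩) := by
      rw [map_mul, map_mul]
      exact hx2c u' hu'S
    have h6 := F.injective_of_mem hψ h5
    exact congrArg Subtype.val h6

/-- **Camina–Herzog for fusion systems** -/
theorem comm_of_hyp {x u : Ω} (hx : x ∈ S) (hu : u ∈ S) : x * u = u * x := by
  obtain ⟨k, hk⟩ := hS ⟨x, hx⟩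
  have hk' : x ^ 2 ^ k = 1 := by
    have := congrArg Subtype.val hk
    simpa using this
  exact central_of_pow hS F hF h k x hx hk' u hu

end Cfsg.Agent.Lib.Helper27.FusCentral
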