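import Mathlib

/-!
# An operator of order `p` on an abelian group

If `σ ^ p = 1` and `(σ - 1) ^ (n (p - 1) + 1) = 0` in a ring, then `p ^ n * (σ - 1) = 0`.
-/

set_option autoImplicit false

namespace Cfsg.Agent.Lib.Helper27.FusCl

open Polynomial

/-- `(1 + X)^p - 1 = p X + p X² H + X^p` for some integer polynomial `H`. -/
theorem exists_binom_decomp (p : ℕ) (hp : p.Prime) :
    ∃ H : ℤ[X], (1 + X) ^ p - 1 = C (p : ℤ) * X + C (p : ℤ) * X ^ 2 * H + X ^ p := by
  have hp2 : 2 ≤ p := hp.two_le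
  set f : ℤ[X] := (1 + X) ^ p - 1 - X ^ p - C (p : ℤ) * X with hf
  have hcoeff : ∀ d, f.coeff d = (p.choose d : ℤ) - (if d = 0 then 1 else 0) - (if d = p then 1 else 0)
      - (if d = 1 then (p : ℤ) else 0) := by
    intro d
    rw [hf, coeff_sub, coeff_sub, coeff_sub, coeff_one_add_X_pow, coeff_X_pow, coeff_C_mul_X, coeff_one]
  have hX : X ^ 2 ∣ f := by
    rw [X_pow_dvd_iff]
    intro d hd
    rw [hcoeff]
    interval_cases d
    · have : ¬ (0 = p) := by omega
      simp [this]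
    · have : ¬ (1 = p) := by omega
      simp [this]
  obtain ⟨g, hg⟩ := hX
  have hC : C (p : ℤ) ∣ g := by
    rw [C_dvd_iff_dvd_coeff]
    intro i
    have h1 : g.coeff i = f.coeff (i + 2) := by
      rw [hg, coeff_X_pow_mul]
    rw [h1, hcoeff]
    have h0 : ¬ (i + 2 = 0) := by omega
    have h1' : ¬ (i + 2 = 1) := by omega
    simp only [h0, h1', if_false, sub_zero]
    rcases lt_trichotomy (i + 2) p with hlt | heq | hgt
    · have hne : ¬ (i + 2 = p) := by omega
      simp only [hne, if_false, sub_zero]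
      exact_mod_cast (Int.natCast_dvd_natCast.mpr (hp.dvd_choose_self (by omega) hlt))
    · simp [heq]
    · have hne : ¬ (i + 2 = p) := by omega
      simp [hne, Nat.choose_eq_zero_of_lt hgt]
  obtain ⟨H, hH⟩ := hC
  refine ⟨H, ?_⟩
  have : f = X ^ 2 * (C (p : ℤ) * H) := by rw [hg, hH]
  have h2 : (1 + X) ^ p - 1 = f + X ^ p + C (p : ℤ) * X := by rw [hf]; ring
  rw [h2, this]; ring

/-- the key membership in the ideal generated by `(1+X)^p - 1` and `X^c` -/
theorem pow_mul_X_pow_mem (p : ℕ) (hp : p.Prime) (c : ℕ) :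
    ∀ k j m : ℕ, 1 ≤ m → c - m ≤ k → c ≤ j * (p - 1) + m →
      C ((p : ℤ) ^ j) * X ^ m ∈ Ideal.span ({(1 + X) ^ p - 1, X ^ c} : Set ℤ[X]) := by
  obtain ⟨H, hH⟩ := exists_binom_decomp p hp
  have hp2 : 2 ≤ p := hp.two_le
  set I := Ideal.span ({(1 + X) ^ p - 1, X ^ c} : Set ℤ[X]) with hI
  have hf : (1 + X) ^ p - 1 ∈ I := Ideal.subset_span (by simp)
  have hXc : (X : ℤ[X]) ^ c ∈ I := Ideal.subset_span (by simp)
  have hbig : ∀ j m : ℕ, c ≤ m → C ((p : ℤ) ^ j) * X ^ m ∈ I := by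
    intro j m hm
    have : C ((p : ℤ) ^ j) * X ^ m = (C ((p : ℤ) ^ j) * X ^ (m - c)) * X ^ c := by
      rw [mul_assoc, ← pow_add]; congr 2; omega
    rw [this]
    exact I.mul_mem_left _ hXc
  intro k
  induction k with
  | zero =>
    intro j m _ hk _
    exact hbig j m (by omega)
  | succ k ih =>
    intro j m hm hk hc
    by_cases hmc : c ≤ m
    · exact hbig j m hmc
    · have hj : 1 ≤ j := by
        by_contra hj0
        have : j = 0 := by omega
        subst this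
        omega
      obtain ⟨j', rfl⟩ : ∃ j', j = j' + 1 := ⟨j - 1, by omega⟩
      obtain ⟨m', rfl⟩ : ∃ m', m = m' + 1 := ⟨m - 1, by omega⟩
      have h1 := ih j' (m' + 1 + (p - 1)) (by omega) (by omega) (by
        have : (j' + 1) * (p - 1) = j' * (p - 1) + (p - 1) := by ring
        omega)
      have h2 := ih (j' + 1) (m' + 2) (by omega) (by omega) (by omega)
      have hpm : m' + 1 + (p - 1) = m' + p := by omega
      rw [hpm] at h1
      have key : C ((p : ℤ) ^ (j' + 1)) * X ^ (m' + 1) =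
          C ((p : ℤ) ^ j') * X ^ m' * ((1 + X) ^ p - 1)
            - C ((p : ℤ) ^ j') * X ^ (m' + p) - (C ((p : ℤ) ^ (j' + 1)) * X ^ (m' + 2)) * H := by
        rw [hH, pow_succ, C_mul]
        ring
      rw [key]
      exact I.sub_mem (I.sub_mem (I.mul_mem_left _ hf) h1) (I.mul_mem_right _ h2)

/-- In a ring, `σ ^ p = 1` and `(σ - 1) ^ (n (p - 1) + 1) = 0` imply `p ^ n * (σ - 1) = 0`. -/
theorem pow_mul_sub_one_eq_zero {R : Type*} [Ring R] (p : ℕ) (hp : p.Prime) (n : ℕ) (σ : R)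
    (hσ : σ ^ p = 1) (hnil : (σ - 1) ^ (n * (p - 1) + 1) = 0) : (p : R) ^ n * (σ - 1) = 0 := by
  set τ := σ - 1 with hτ
  set c := n * (p - 1) + 1 with hc
  have hmem := pow_mul_X_pow_mem p hp c c n 1 le_rfl (by omega) (by omega)
  have hker : Ideal.span ({(1 + X) ^ p - 1, X ^ c} : Set ℤ[X]) ≤
      RingHom.ker ((aeval τ : ℤ[X] →ₐ[ℤ] R) : ℤ[X] →+* R) := by
    rw [Ideal.span_le]
    intro g hg
    rcases hg with rfl | hg
    · show (aeval τ : ℤ[X] →ₐ[ℤ] R) ((1 + X) ^ p - 1) = 0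
      rw [map_sub, map_pow, map_add, map_one, aeval_X, hτ]
      have : (1 : R) + (σ - 1) = σ := by abel
      rw [this, hσ, sub_self]
    · have : g = X ^ c := hg
      subst this
      show (aeval τ : ℤ[X] →ₐ[ℤ] R) (X ^ c) = 0
      rw [map_pow, aeval_X]
      exact hnil
  have h0 := hker hmem
  have h1 : (aeval τ : ℤ[X] →ₐ[ℤ] R) (C ((p : ℤ) ^ n) * X ^ 1) = 0 := h0
  rw [pow_one, map_mul, aeval_X, aeval_C] at h1
  simpa using h1

end Cfsg.Agent.Lib.Helper27.FusCl
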