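import Mathlib
import Cfsg.Agent.Lib.Helper27.FusClPoly
import Cfsg.Agent.Lib.Helper27.FusGenGroup

/-!
# Group-theoretic input for the class version of the generation theorem

* `map_pow_eq_of_nilpotent_action`: an automorphism `f` of an abelian group with `f^p = 1` and
  `[u, f; n(p-1)+1] = 1` for all `u` fixes every `p^n`-th power.
* `gt_loc_n`: in a finite group `G` with `C_G(O_p(G)) ≤ O_p(G)` and Sylow `p`-subgroup `T` of class at
  most `n(p-1)+1` there is a normal subgroup `N` centralizing `℧ⁿ(Z(T))` such that `T ≤ N` or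
  `T ∩ N ≰ O_p(G)`.
-/

set_option autoImplicit false

namespace Cfsg.Agent.Lib.Helper27.FusCl

open Cfsg Cfsg.Agent.Lib.Helper41 Cfsg.Agent.Lib.Helper81 Cfsg.Agent.Lib.Helper53
  Cfsg.Agent.Lib.Helper53.WC
open scoped commutatorElement Pointwise

universe u

/-- An endomorphism `f` of an abelian group with `f^p = 1` and `(f - 1)^(n(p-1)+1) = 0` fixes every
`p^n`-th power. -/
theorem map_pow_eq_of_nilpotent_action {U : Type*} [CommGroup U] (p : ℕ) (hp : p.Prime) (n : ℕ)
    (f : U →* U) (hf : ∀ u, f^[p] u = u)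
    (hnil : ∀ u, (fun v => f v * v⁻¹)^[n * (p - 1) + 1] u = 1) :
    ∀ u, f (u ^ p ^ n) = u ^ p ^ n := by
  set σ : AddMonoid.End (Additive U) := MonoidHom.toAdditive f with hσ
  have hσpow : ∀ k : ℕ, ∀ u : U, (σ ^ k) (Additive.ofMul u) = Additive.ofMul (f^[k] u) := by
    intro k
    induction k with
    | zero => intro u; rfl
    | succ k ih =>
      intro u
      rw [pow_succ, Function.iterate_succ_apply]
      show (σ ^ k) (σ (Additive.ofMul u)) = _
      exact ih (f u)
  have hτ1 : ∀ u : U, (σ - 1) (Additive.ofMul u) = Additive.ofMul (f u * u⁻¹) := by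
    intro u
    have e1 : (σ - 1) (Additive.ofMul u) = σ (Additive.ofMul u) - Additive.ofMul u := rfl
    have e2 : σ (Additive.ofMul u) = Additive.ofMul (f u) := rfl
    rw [e1, e2, ← ofMul_div, div_eq_mul_inv]
  have hτpow : ∀ k : ℕ, ∀ u : U,
      ((σ - 1) ^ k) (Additive.ofMul u) = Additive.ofMul ((fun v => f v * v⁻¹)^[k] u) := by
    intro k
    induction k with
    | zero => intro u; rfl
    | succ k ih =>
      intro u
      rw [pow_succ, Function.iterate_succ_apply]
      show ((σ - 1) ^ k) ((σ - 1) (Additive.ofMul u)) = _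
      rw [hτ1]
      exact ih (f u * u⁻¹)
  have h1 : σ ^ p = 1 := by
    ext x
    have := hσpow p (Additive.toMul x)
    rw [hf] at this
    exact this
  have h2 : (σ - 1) ^ (n * (p - 1) + 1) = 0 := by
    ext x
    have := hτpow (n * (p - 1) + 1) (Additive.toMul x)
    rw [hnil] at this
    exact this
  have h3 := pow_mul_sub_one_eq_zero p hp n σ h1 h2
  intro u
  have h4 : ((p : AddMonoid.End (Additive U)) ^ n * (σ - 1)) (Additive.ofMul u) = 0 := by
    rw [h3]; rfl
  rw [← Nat.cast_pow] at h4
  have h4' : (p ^ n) • ((σ - 1) (Additive.ofMul u)) = 0 := h4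
  rw [hτ1, ← ofMul_pow] at h4'
  have h5 : (f u * u⁻¹) ^ (p ^ n) = 1 := congrArg Additive.toMul h4'
  rw [mul_pow, inv_pow, mul_inv_eq_one] at h5
  rw [map_pow, h5]

section Local

variable {G : Type u} [Group G] [Finite G] {p : ℕ} [Fact p.Prime]

/-- `℧ⁿ(Z(T))`, the subgroup generated by the `p^n`-th powers of the elements of `Z(T)`. -/
abbrev VZn (p n : ℕ) (T : Subgroup G) : Subgroup G :=
  powerClosure p n (T ⊓ Subgroup.centralizer (T : Set G))

omit [Finite G] in
theorem VZn_le_center (p n : ℕ) (T : Subgroup G) :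
    VZn p n T ≤ T ⊓ Subgroup.centralizer (T : Set G) := by
  unfold VZn powerClosure
  rw [Subgroup.closure_le]
  rintro _ ⟨x, hx, rfl⟩
  exact Subgroup.pow_mem _ hx _

omit [Finite G] [Fact p.Prime] in
/-- iterated commutators with a fixed element go down the lower central series -/
theorem iterate_comm_mem_lowerCentralSeries (T : Subgroup G) {a : G} (ha : a ∈ T) :
    ∀ (k : ℕ) (u : G), u ∈ T → (fun v => a * v * a⁻¹ * v⁻¹)^[k] u ∈ T.lowerCentralSeries k := by
  intro k
  induction k with
  | zero => intro u hu; exact hu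
  | succ k ih =>
    intro u hu
    rw [Function.iterate_succ_apply', Subgroup.lowerCentralSeries_succ, Subgroup.commutator_comm]
    have := Subgroup.commutator_mem_commutator ha (ih u hu)
    rwa [commutatorElement_def] at this

set_option maxHeartbeats 800000 in
/-- **The local lemma, class version.** -/
theorem gt_loc_n (n : ℕ) (T : Sylow p G)
    (hcl : (T : Subgroup G).lowerCentralSeries (n * (p - 1) + 1) = ⊥)
    (hcon : Subgroup.centralizer ((pCore p G : Subgroup G) : Set G) ≤ pCore p G) :
    ∃ N : Subgroup G, N.Normal ∧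
      N ≤ Subgroup.centralizer ((VZn p n (T : Subgroup G) : Subgroup G) : Set G) ∧
      ((T : Subgroup G) ≤ N ∨ ¬ ((T : Subgroup G) ⊓ N ≤ pCore p G)) := by
  classical
  have hpp : p.Prime := Fact.out
  have hQn : (pCore p G).Normal := pCore_normal (G := G) p
  set Q := pCore p G with hQ
  have hQT : Q ≤ (T : Subgroup G) := Cfsg.Agent.Lib.Helper53.pCore_le_sylow T
  have hTp : IsPGroup p (T : Subgroup G) := T.2
  set U := Q ⊓ Subgroup.centralizer (Q : Set G) with hU
  have hUn : U.Normal := inferInstance
  have hUT : U ≤ (T : Subgroup G) := inf_le_left.trans hQT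
  have hUc : ∀ a ∈ U, ∀ b ∈ U, a * b = b * a := by
    intro a ha b hb
    exact (Subgroup.mem_centralizer_iff.mp hb.2 a ha.1)
  have hQU : Q ≤ Subgroup.centralizer (U : Set G) := by
    intro q hq
    rw [Subgroup.mem_centralizer_iff]
    intro u hu
    exact (Subgroup.mem_centralizer_iff.mp hu.2 q hq).symm
  have hZU : (T : Subgroup G) ⊓ Subgroup.centralizer ((T : Subgroup G) : Set G) ≤ U := by
    intro z hz
    have h1 : z ∈ Subgroup.centralizer (Q : Set G) :=
      Subgroup.centralizer_le (by exact_mod_cast hQT) hz.2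
    exact ⟨hcon h1, h1⟩
  by_cases hJ : (T : Subgroup G) ≤ Subgroup.centralizer (U : Set G)
  · refine ⟨Subgroup.centralizer (U : Set G), ?_, ?_, Or.inl hJ⟩
    · apply centralizer_normal_of_conj_invariant
      intro g t ht
      exact hUn.conj_mem t ht g
    · apply Subgroup.centralizer_le
      intro v hv
      exact hZU (VZn_le_center p n _ hv)
  · obtain ⟨a, haT, haU⟩ := SetLike.not_le_iff_exists.mp hJ
    have hex : ∃ k : ℕ, a ^ p ^ k ∈ Subgroup.centralizer (U : Set G) := by
      obtain ⟨k, hk⟩ := hTp ⟨a, haT⟩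
      refine ⟨k, ?_⟩
      have : a ^ p ^ k = 1 := by
        have := congrArg Subtype.val hk
        simpa using this
      rw [this]; exact Subgroup.one_mem _
    have hk₀ := Nat.find_spec hex
    have hkmin : ∀ m, m < Nat.find hex → ¬ _ := fun m hm => Nat.find_min hex hm
    generalize Nat.find hex = k₀ at hk₀ hkmin
    have hk₀pos : k₀ ≠ 0 := by
      intro h0
      rw [h0, pow_zero, pow_one] at hk₀
      exact haU hk₀
    obtain ⟨k, rfl⟩ : ∃ k, k₀ = k + 1 := Nat.exists_eq_succ_of_ne_zero hk₀pos
    set a' := a ^ p ^ k with ha'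
    have ha'T : a' ∈ (T : Subgroup G) := Subgroup.pow_mem _ haT _
    have ha'U : a' ∉ Subgroup.centralizer (U : Set G) := hkmin k (Nat.lt_succ_self k)
    have ha'p : a' ^ p ∈ Subgroup.centralizer (U : Set G) := by
      rw [ha', ← pow_mul, ← pow_succ]; exact hk₀
    -- the commutative group structure on `U` and the conjugation endomorphism
    letI : CommGroup U :=
      { (inferInstance : Group U) with
        mul_comm := fun x y => Subtype.ext (hUc x x.2 y y.2) }
    set f : U →* U := (MulAut.conjNormal a' : MulAut U).toMonoidHom with hf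
    have hfval : ∀ u : U, ((f u : U) : G) = a' * u * a'⁻¹ := fun u => by
      simp [hf]
    have hfiter : ∀ (k : ℕ) (u : U), ((f^[k] u : U) : G) = a' ^ k * u * (a' ^ k)⁻¹ := by
      intro k
      induction k with
      | zero => intro u; simp
      | succ k ih =>
        intro u
        rw [Function.iterate_succ_apply', hfval, ih, pow_succ']
        group
    have hfp : ∀ u : U, f^[p] u = u := by
      intro u
      apply Subtype.ext
      rw [hfiter]
      have := Subgroup.mem_centralizer_iff.mp ha'p u u.2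
      rw [← this]; group
    have hgiter : ∀ (k : ℕ) (u : U), (((fun v : U => f v * v⁻¹)^[k] u : U) : G) =
        (fun v : G => a' * v * a'⁻¹ * v⁻¹)^[k] (u : G) := by
      intro k
      induction k with
      | zero => intro u; rfl
      | succ k ih =>
        intro u
        rw [Function.iterate_succ_apply', Function.iterate_succ_apply', ← ih]
        show ((f _ : U) : G) * ((_ : U) : G)⁻¹ = _
        rw [hfval]
    have hnil : ∀ u : U, (fun v : U => f v * v⁻¹)^[n * (p - 1) + 1] u = 1 := by
      intro u
      apply Subtype.ext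
      rw [hgiter]
      have := iterate_comm_mem_lowerCentralSeries (T : Subgroup G) ha'T (n * (p - 1) + 1) u (hUT u.2)
      rw [hcl] at this
      exact (Subgroup.mem_bot.mp this)
    have hfix := map_pow_eq_of_nilpotent_action p hpp n f hfp hnil
    have hcent : ∀ u ∈ U, a' * u ^ p ^ n = u ^ p ^ n * a' := by
      intro u hu
      have h1 : ((f (⟨u, hu⟩ ^ p ^ n) : U) : G) = (((⟨u, hu⟩ : U) ^ p ^ n : U) : G) :=
        congrArg Subtype.val (hfix ⟨u, hu⟩)
      have h2 : a' * u ^ p ^ n * a'⁻¹ = u ^ p ^ n := by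
        rw [hfval] at h1
        exact h1
      calc a' * u ^ p ^ n = a' * u ^ p ^ n * a'⁻¹ * a' := by group
        _ = u ^ p ^ n * a' := by rw [h2]
    set Tp : Set G := (fun u => u ^ p ^ n) '' (U : Set G) with hTpdef
    have hNn : (Subgroup.centralizer Tp).Normal := by
      apply centralizer_normal_of_conj_invariant
      rintro g _ ⟨u, hu, rfl⟩
      refine ⟨g * u * g⁻¹, hUn.conj_mem u hu g, ?_⟩
      show (g * u * g⁻¹) ^ p ^ n = g * u ^ p ^ n * g⁻¹
      rw [conj_pow]
    have ha'N : a' ∈ Subgroup.centralizer Tp := by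
      rw [Subgroup.mem_centralizer_iff]
      rintro _ ⟨u, hu, rfl⟩
      exact (hcent u hu).symm
    refine ⟨Subgroup.centralizer Tp, hNn, ?_, Or.inr ?_⟩
    · have hle : VZn p n (T : Subgroup G) ≤
          Subgroup.centralizer ((Subgroup.centralizer Tp : Subgroup G) : Set G) := by
        unfold VZn powerClosure
        rw [Subgroup.closure_le]
        rintro _ ⟨z, hz, rfl⟩
        have hzT : z ^ p ^ n ∈ Tp := ⟨z, hZU hz, rfl⟩
        show z ^ p ^ n ∈ Subgroup.centralizer ((Subgroup.centralizer Tp : Subgroup G) : Set G)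
        rw [Subgroup.mem_centralizer_iff]
        intro m hm
        exact (Subgroup.mem_centralizer_iff.mp hm _ hzT).symm
      intro m hm
      rw [Subgroup.mem_centralizer_iff]
      intro v hv
      exact (Subgroup.mem_centralizer_iff.mp (hle hv) m hm).symm
    · intro hle
      exact ha'U (hQU (hle ⟨ha'T, ha'N⟩))

end Local

end Cfsg.Agent.Lib.Helper27.FusCl
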