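import Mathlib
import Cfsg.Agent.Lib.Helper53.ThompsonJA
import Cfsg.Agent.Lib.Helper53.FusWC8
import Cfsg.Agent.Lib.Helper90.GTFunctor

/-!
# Facts on the Thompson subgroup `J` (abelian version) used for the generation theorem
-/

set_option autoImplicit false

namespace Cfsg.Agent.Lib.Helper27.FusGen

open Cfsg Cfsg.Agent.Lib.Helper53 Cfsg.Agent.Lib.Helper90.GT

universe u

variable {Ω : Type u} [Group Ω]

/-- `J(S) ≤ U ≤ S` implies `J(U) = J(S)`. -/
theorem thompsonAOf_eq_of_le {S U : Subgroup Ω} [Finite S] (hJU : thompsonSubgroupAOf S ≤ U)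
    (hUS : U ≤ S) : thompsonSubgroupAOf U = thompsonSubgroupAOf S := by
  rw [thompsonAOf_eq_sSup, thompsonAOf_eq_sSup]
  obtain ⟨A₀', hA₀'⟩ := maxAb_nonempty ↥S
  have hA₀ : IsMaxAbIn S (A₀'.map S.subtype) := isMaxAbIn_map_subtype hA₀'
  set A₀ := A₀'.map S.subtype
  have hA₀U : A₀ ≤ U := hA₀.le_thompsonAOf.trans hJU
  congr 1
  ext A
  constructor
  · intro hA
    refine ⟨hA.1.trans hUS, hA.2.1, fun B hB hBc => ?_⟩
    exact (hA₀.2.2 B hB hBc).trans (hA.2.2 A₀ hA₀U hA₀.2.1)
  · intro hA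
    exact hA.of_le (hA.le_thompsonAOf.trans hJU) hUS

variable {p : ℕ} [Fact p.Prime]

/-- an injective homomorphism of `U` onto itself preserves `J(U)` -/
theorem map_thompsonAOf_self {U : Subgroup Ω} [Finite U] (hU : IsPGroup p U) (φ : U →* Ω)
    (hinj : Function.Injective φ) (hr : φ.range = U) :
    ((thompsonSubgroupAOf U).subgroupOf U).map φ = thompsonSubgroupAOf U := by
  have h := inducedFunctor_map_subgroupOf (isCharPFunctor_JA (p := p)) (le_refl U) hU φ hinj
  rw [inducedFunctor_JA, inducedFunctor_JA] at h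
  have e : (U.subgroupOf U).map φ = U := by
    rw [Subgroup.subgroupOf_self, ← MonoidHom.range_eq_map, hr]
  rw [e] at h
  exact h.symm

/-- the normalizer of `D` normalizes `J(D)` -/
theorem normalizer_le_normalizer_thompsonAOf (D : Subgroup Ω) [Finite D] (hD : IsPGroup p D) :
    Subgroup.normalizer (D : Set Ω) ≤ Subgroup.normalizer (thompsonSubgroupAOf D : Set Ω) := by
  have h := normalizer_le_normalizer_inducedFunctor (isCharPFunctor_JA (p := p)) D hD
  rwa [inducedFunctor_JA] at h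

/-- `Z(D) ≤ J(D)` -/
theorem center_le_thompsonAOf (D : Subgroup Ω) [Finite D] :
    D ⊓ Subgroup.centralizer (D : Set Ω) ≤ thompsonSubgroupAOf D := by
  intro z hz
  have h1 : (⟨z, hz.1⟩ : D) ∈ Subgroup.center D := by
    rw [Subgroup.mem_center_iff]
    intro g
    apply Subtype.ext
    exact Subgroup.mem_centralizer_iff.mp hz.2 g g.2
  have h2 := Cfsg.Agent.Lib.Helper53.FusWC.center_le_thompsonA ↥D h1
  exact ⟨⟨z, hz.1⟩, h2, rfl⟩

end Cfsg.Agent.Lib.Helper27.FusGen
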