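import Mathlib
import Cfsg.Agent.Lib.Helper27.FusGenTrick
import Cfsg.Agent.Lib.Helper87.FusionRealized
import Cfsg.Agent.Lib.Helper53.ThompsonJA
import Cfsg.Agent.Lib.Helper01.PCore
import Cfsg.Agent.Lib.Helper90.GTNormal

/-!
# Generation theorem: definitions and the interface with a realizing group
-/

set_option autoImplicit false

namespace Cfsg.Agent.Lib.Helper27.FusGen

open Cfsg Cfsg.FusionSystem Cfsg.Agent.Lib.Helper87
open Cfsg.Agent.Lib.Helper89 (AlpIH)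

universe u

variable {Ω : Type u} [Group Ω] {S : Subgroup Ω}

/-- Every map of `F` defined on a subgroup containing `V` and fixing `V` elementwise is a map of `E`. -/
def HC (F E : FusionSystem S) (V : Subgroup Ω) : Prop :=
  ∀ (A : Subgroup Ω) (φ : A →* Ω), φ ∈ F.Hom A → V ≤ A → (∀ x : A, (x : Ω) ∈ V → φ x = x) →
    φ ∈ E.Hom A

/-- Every map of `F` defined on a subgroup of `N_S(P)` containing `P` and carrying `P` onto `P` is a map
of `E`. -/
def NK (F E : FusionSystem S) (P : Subgroup Ω) : Prop :=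
  ∀ (A : Subgroup Ω) (φ : A →* Ω), φ ∈ F.Hom A → P ≤ A → A ≤ normalizerIn S P →
    (P.subgroupOf A).map φ = P → φ ∈ E.Hom A

section Model

variable {G : Type*} [Group G]

/-- The automorphisms in `Aut_F(U)` induced (through `ι`) by elements of `N`. -/
def nbar (F : FusionSystem S) (ι : S →* G) (N : Subgroup G) (U : Subgroup Ω) (hU : U ≤ S) :
    Subgroup (F.autGroup U) where
  carrier := {β | ∃ c ∈ N, ∀ u : U,
    ι ⟨(((β : MulAut U) u : U) : Ω), hU ((β : MulAut U) u).2⟩ = c * ι ⟨u, hU u.2⟩ * c⁻¹}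
  mul_mem' := by
    rintro β₁ β₂ ⟨c₁, hc₁, h₁⟩ ⟨c₂, hc₂, h₂⟩
    refine ⟨c₁ * c₂, N.mul_mem hc₁ hc₂, fun u => ?_⟩
    have e : ((β₁ * β₂ : F.autGroup U) : MulAut U) u = (β₁ : MulAut U) ((β₂ : MulAut U) u) := rfl
    rw [e, h₁, h₂]; group
  one_mem' := ⟨1, N.one_mem, fun u => by simp⟩
  inv_mem' := by
    rintro β ⟨c, hc, h⟩
    refine ⟨c⁻¹, N.inv_mem hc, fun u => ?_⟩
    have h1 := h (((β⁻¹ : F.autGroup U) : MulAut U) u)
    have e : (β : MulAut U) (((β⁻¹ : F.autGroup U) : MulAut U) u) = u := by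
      simp
    have h2 : ι ⟨u, hU u.2⟩ = c * ι ⟨((((β⁻¹ : F.autGroup U) : MulAut U) u : U) : Ω),
        hU (((β⁻¹ : F.autGroup U) : MulAut U) u).2⟩ * c⁻¹ := by
      rw [← h1]
      congr 1
      exact Subtype.ext (congrArg Subtype.val e).symm
    rw [h2]; group

theorem mem_nbar {F : FusionSystem S} {ι : S →* G} {N : Subgroup G} {U : Subgroup Ω} {hU : U ≤ S}
    {β : F.autGroup U} : β ∈ nbar F ι N U hU ↔ ∃ c ∈ N, ∀ u : U,
      ι ⟨(((β : MulAut U) u : U) : Ω), hU ((β : MulAut U) u).2⟩ = c * ι ⟨u, hU u.2⟩ * c⁻¹ := Iff.rfl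

theorem exists_conj_of_mem_autGroup {F : FusionSystem S} {ι : S →* G} (hι : F.IsRealizedBy ι)
    {U : Subgroup Ω} (hU : U ≤ S) {γ : MulAut U} (hγ : γ ∈ F.autGroup U) :
    ∃ x : G, ∀ u : U, ι ⟨((γ u : U) : Ω), hU (γ u).2⟩ = x * ι ⟨u, hU u.2⟩ * x⁻¹ := by
  obtain ⟨x, hx⟩ := exists_conj_of_mem_hom F hι (autGroup_hom_mem F hU hγ)
  exact ⟨x, fun u => hx u⟩

theorem nbar_normal {F : FusionSystem S} {ι : S →* G} (hι : F.IsRealizedBy ι) (N : Subgroup G)
    [hN : N.Normal] (U : Subgroup Ω) (hU : U ≤ S) : (nbar F ι N U hU).Normal := by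
  constructor
  rintro n ⟨c, hc, h⟩ γ
  obtain ⟨x, hx⟩ := exists_conj_of_mem_autGroup hι hU γ.2
  refine ⟨x * c * x⁻¹, hN.conj_mem c hc x, fun u => ?_⟩
  set w : U := ((γ⁻¹ : F.autGroup U) : MulAut U) u with hw
  have e1 : ((γ * n * γ⁻¹ : F.autGroup U) : MulAut U) u = (γ : MulAut U) ((n : MulAut U) w) := rfl
  have e2 : (γ : MulAut U) w = u := by simp [hw]
  have h3 : ι ⟨u, hU u.2⟩ = x * ι ⟨w, hU w.2⟩ * x⁻¹ := by
    rw [← hx w]
    congr 1
    exact Subtype.ext (congrArg Subtype.val e2).symm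
  have h4 : ι ⟨((((γ * n * γ⁻¹ : F.autGroup U) : MulAut U) u : U) : Ω),
      hU (((γ * n * γ⁻¹ : F.autGroup U) : MulAut U) u).2⟩
      = ι ⟨(((γ : MulAut U) ((n : MulAut U) w) : U) : Ω), hU ((γ : MulAut U) ((n : MulAut U) w)).2⟩ := by
    congr 1
  rw [h4, hx, h, h3]; group

end Model

end Cfsg.Agent.Lib.Helper27.FusGen
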