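import Mathlib
import Cfsg.Agent.Lib.Helper27.FusGenModel
import Cfsg.Agent.Lib.Helper90.FusionNormal
import Cfsg.Agent.Lib.Helper27.FusGenJ

/-!
# Generation theorem: the constrained case
-/

set_option autoImplicit false

namespace Cfsg.Agent.Lib.Helper27.FusGen

open Cfsg Cfsg.FusionSystem Cfsg.Agent.Lib.Helper87
open Cfsg.Agent.Lib.Helper89 (AlpIH)
open Cfsg.Agent.Lib.Helper53 (thompsonA_map_equiv)

universe u

variable {Ω : Type u} [Group Ω] {S : Subgroup Ω}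

section Transport

variable {G : Type*} [Group G]

/-- `ι` carries `℧¹(Z(S))` into `℧¹(Z(ι S))`. -/
theorem map_mem_VZ (p : ℕ) (ι : S →* G) {v : Ω} (hv : v ∈ VZ p S) :
    ∃ hvS : v ∈ S, ι ⟨v, hvS⟩ ∈ VZ p ι.range := by
  unfold VZ powerClosure at hv
  induction hv using Subgroup.closure_induction with
  | mem y hy =>
    obtain ⟨x, hx, rfl⟩ := hy
    have hxS : x ∈ S := hx.1
    refine ⟨Subgroup.pow_mem _ hxS _, ?_⟩
    have e : ι ⟨x ^ p ^ 1, Subgroup.pow_mem _ hxS _⟩ = (ι ⟨x, hxS⟩) ^ p ^ 1 := by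
      rw [← map_pow]; rfl
    rw [e]
    apply Subgroup.subset_closure
    refine ⟨ι ⟨x, hxS⟩, ⟨⟨_, rfl⟩, ?_⟩, rfl⟩
    show ι ⟨x, hxS⟩ ∈ Subgroup.centralizer ((ι.range : Subgroup G) : Set G)
    rw [Subgroup.mem_centralizer_iff]
    rintro _ ⟨s, rfl⟩
    rw [← map_mul, ← map_mul]
    congr 1
    apply Subtype.ext
    exact Subgroup.mem_centralizer_iff.mp hx.2 s s.2
  | one => exact ⟨S.one_mem, by
      have : (⟨1, S.one_mem⟩ : S) = 1 := rfl
      rw [this, map_one]; exact Subgroup.one_mem _⟩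
  | mul a b _ _ iha ihb =>
    obtain ⟨ha, ha'⟩ := iha
    obtain ⟨hb, hb'⟩ := ihb
    refine ⟨S.mul_mem ha hb, ?_⟩
    have : (⟨a * b, S.mul_mem ha hb⟩ : S) = ⟨a, ha⟩ * ⟨b, hb⟩ := rfl
    rw [this, map_mul]; exact Subgroup.mul_mem _ ha' hb'
  | inv a _ iha =>
    obtain ⟨ha, ha'⟩ := iha
    refine ⟨S.inv_mem ha, ?_⟩
    have : (⟨a⁻¹, S.inv_mem ha⟩ : S) = ⟨a, ha⟩⁻¹ := rfl
    rw [this, map_inv]; exact Subgroup.inv_mem _ ha'

/-- `ι` carries `J(S)` into `J(ι S)`. -/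
theorem map_mem_thompson (ι : S →* G) (hinj : Function.Injective ι) {x : Ω}
    (hx : x ∈ thompsonSubgroupAOf S) : ∃ hxS : x ∈ S, ι ⟨x, hxS⟩ ∈ thompsonSubgroupAOf ι.range := by
  obtain ⟨s, hs, rfl⟩ := hx
  refine ⟨s.2, ?_⟩
  let e : S ≃* ι.range := MonoidHom.ofInjective hinj
  have h1 : (thompsonSubgroupA S).map e.toMonoidHom = thompsonSubgroupA ι.range := thompsonA_map_equiv e
  have h2 : e s ∈ thompsonSubgroupA ι.range := by
    rw [← h1]; exact ⟨s, hs, rfl⟩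
  refine ⟨e s, h2, ?_⟩
  rfl

end Transport

section Normal

variable {G : Type*} [Group G] [Finite G] {p : ℕ} [Fact p.Prime]

/-- In a model, a subgroup normal in the system has image inside `O_p(G)`. -/
theorem push_le_pCore_of_isNormal {F : FusionSystem S} {ι : S →* G} (hι : F.IsRealizedBy ι)
    (T : Sylow p G) (hT : (T : Subgroup G) = ι.range)
    (hcon : Subgroup.centralizer ((pCore p G : Subgroup G) : Set G) ≤ pCore p G)
    {P : Subgroup Ω} (hP : F.IsNormal P) : push ι P ≤ pCore p G := by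
  have hPS : P ≤ S := hP.1
  have hQr : pCore p G ≤ ι.range := by
    rw [← hT]; exact Cfsg.Agent.Lib.Helper01.pCore_le_sylow T
  have hQn : (pCore p G).Normal := Cfsg.Agent.Lib.Helper01.pCore_normal p
  set Q := pull ι (pCore p G) with hQ
  have hQS : Q ≤ S := pull_le ι _
  have hpushQ : push ι Q = pCore p G := push_pull ι hQr
  have hSn := Cfsg.Agent.Lib.Helper90.GT.normal_le_normalizer F hP
  have hnorm : (push ι P).Normal := by
    constructor
    intro n hn g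
    obtain ⟨x, hxP, rfl⟩ := mem_push.mp hn
    -- conjugation by g on Q
    have hh : ∀ y : Q, g * ι ⟨y, hQS y.2⟩ * g⁻¹ ∈ ι.range := by
      intro y
      apply hQr
      apply hQn.conj_mem
      rw [← hpushQ]
      exact coe_mem_push hQS y
    have hφ := pullConj_mem_hom F hι Q hQS g hh
    obtain ⟨ψ, hψ, hext, hmap⟩ := hP.2 Q _ hφ
    obtain ⟨h, hh'⟩ := exists_conj_of_mem_hom F hι hψ
    -- h⁻¹ g centralizes O_p(G)
    have hc : h⁻¹ * g ∈ Subgroup.centralizer ((pCore p G : Subgroup G) : Set G) := by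
      rw [Subgroup.mem_centralizer_iff]
      intro q hq
      rw [← hpushQ] at hq
      obtain ⟨s, hsQ, rfl⟩ := mem_push.mp hq
      have h1 := hh' (Subgroup.inclusion le_sup_left ⟨s, hsQ⟩)
      have h2 := ι_pullConj ι hι.1 Q hQS g hh ⟨s, hsQ⟩
      have h3 : ι ⟨ψ (Subgroup.inclusion le_sup_left ⟨s, hsQ⟩), hom_mem F hψ _⟩ =
          ι ⟨pullConj ι hι.1 Q hQS g hh ⟨s, hsQ⟩, pullConj_mem ι hι.1 Q hQS g hh ⟨s, hsQ⟩⟩ := by
        congr 1
        exact Subtype.ext (hext ⟨s, hsQ⟩)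
      rw [h1, h2] at h3
      have h4 : h * ι s * h⁻¹ = g * ι s * g⁻¹ := h3
      calc ι s * (h⁻¹ * g) = h⁻¹ * (h * ι s * h⁻¹) * g := by group
        _ = h⁻¹ * (g * ι s * g⁻¹) * g := by rw [h4]
        _ = h⁻¹ * g * ι s := by group
    obtain ⟨s, hs⟩ := hQr (hcon hc)
    have hg : g = h * ι s := by rw [hs]; group
    -- s x s⁻¹ ∈ P
    have hsx : (s : Ω) * x * (s : Ω)⁻¹ ∈ P :=
      (Subgroup.mem_normalizer_iff.mp (hSn s.2) _).mp hxP
    have hmem : (⟨(s : Ω) * x * (s : Ω)⁻¹, (le_sup_right : P ≤ Q ⊔ P) hsx⟩ : ↥(Q ⊔ P)) ∈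
        P.subgroupOf (Q ⊔ P) := Subgroup.mem_subgroupOf.mpr hsx
    have h5 : ψ ⟨(s : Ω) * x * (s : Ω)⁻¹, (le_sup_right : P ≤ Q ⊔ P) hsx⟩ ∈ P := by
      have : ψ ⟨(s : Ω) * x * (s : Ω)⁻¹, (le_sup_right : P ≤ Q ⊔ P) hsx⟩ ∈
          Subgroup.map ψ (P.subgroupOf (Q ⊔ P)) := ⟨_, hmem, rfl⟩
      rwa [hmap] at this
    have h6 := hh' ⟨(s : Ω) * x * (s : Ω)⁻¹, (le_sup_right : P ≤ Q ⊔ P) hsx⟩
    rw [mem_push]
    refine ⟨⟨_, hom_mem F hψ _⟩, h5, ?_⟩
    rw [h6, hg]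
    have e : (⟨(s : Ω) * x * (s : Ω)⁻¹, hom_le F hψ ((le_sup_right : P ≤ Q ⊔ P) hsx)⟩ : S) = s * x * s⁻¹ :=
      Subtype.ext rfl
    rw [e, map_mul, map_mul, map_inv]; group
  apply Cfsg.Agent.Lib.Helper01.le_pCore hnorm
  have : IsPGroup p (ι.range) := by rw [← hT]; exact T.2
  exact this.to_le (push_le_range ι P)

end Normal

section Main

variable {G : Type*} [Group G] {p : ℕ} [Fact p.Prime]

set_option maxHeartbeats 1000000 in
/-- **The constrained case.** -/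
theorem constrained_case [Finite S] (hS : IsPGroup p S) (F : FusionSystem S) (hF : F.IsSaturated p)
    (ι : S →* G) (hM : F.IsModel p G ι) (E : FusionSystem S)
    (hC : HC F E (VZ p S)) (hN : NK F E (thompsonSubgroupAOf S))
    (IH : ∀ P : Subgroup Ω, P ≤ S → S ≤ Subgroup.normalizer (P : Set Ω) → ¬ F.IsNormal P → NK F E P) :
    F ≤ E := by
  classical
  obtain ⟨hfinG, hι, ⟨T, hT⟩, hcon⟩ := hM
  obtain ⟨N, hNn, hNV, hor⟩ := gt_loc T hcon
  set P := pull ι N with hPdef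
  have hPS : P ≤ S := pull_le ι N
  have hPn : ∀ g ∈ S, ∀ y ∈ P, g * y * g⁻¹ ∈ P := by
    intro g hg y hy
    obtain ⟨hyS, hyN⟩ := mem_pull.mp hy
    refine mem_pull.mpr ⟨S.mul_mem (S.mul_mem hg hyS) (S.inv_mem hg), ?_⟩
    have e : (⟨g * y * g⁻¹, S.mul_mem (S.mul_mem hg hyS) (S.inv_mem hg)⟩ : S)
        = ⟨g, hg⟩ * ⟨y, hyS⟩ * ⟨g, hg⟩⁻¹ := rfl
    rw [e, map_mul, map_mul, map_inv]
    exact hNn.conj_mem _ hyN _
  have hPnorm : S ≤ Subgroup.normalizer (P : Set Ω) := by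
    intro g hg
    have : Finite P := finite_of_le hPS
    exact mem_normalizer_of_conj_mem (fun y hy => hPn g hg y hy)
  apply alp_ind p hS F hF E
  intro U hUfn hUc hIH φ hφ hr
  have hUS : U ≤ S := hUfn.1
  have hVU : VZ p S ≤ U := by
    intro v hv
    have hvz := VZ_le_center p S hv
    apply hUc.2 U (isConj_refl F hUS)
    rw [mem_centralizerIn]
    exact ⟨hvz.1, fun x hx => (Subgroup.mem_centralizer_iff.mp hvz.2 x (hUS hx))⟩
  by_cases hPU : P ≤ U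
  · obtain ⟨x, hx⟩ := exists_conj_of_mem_hom F hι hφ
    have hφP : (P.subgroupOf U).map φ = P := by
      ext y
      constructor
      · rintro ⟨u, hu, rfl⟩
        have hu' : (u : Ω) ∈ P := Subgroup.mem_subgroupOf.mp hu
        obtain ⟨huS, huN⟩ := mem_pull.mp hu'
        refine mem_pull.mpr ⟨hom_mem F hφ u, ?_⟩
        rw [hx u]
        exact hNn.conj_mem _ huN _
      · intro hy
        have hyU : y ∈ φ.range := by rw [hr]; exact hPU hy
        obtain ⟨u, rfl⟩ := hyU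
        refine ⟨u, Subgroup.mem_subgroupOf.mpr ?_, rfl⟩
        obtain ⟨hyS, hyN⟩ := mem_pull.mp hy
        refine mem_pull.mpr ⟨hUS u.2, ?_⟩
        have h1 : ι ⟨φ u, hyS⟩ = x * ι ⟨u, hUS u.2⟩ * x⁻¹ := hx u
        have h2 : ι ⟨u, hUS u.2⟩ = x⁻¹ * ι ⟨φ u, hyS⟩ * x⁻¹⁻¹ := by rw [h1]; group
        rw [h2]
        exact hNn.conj_mem _ hyN _
    have hUNP : U ≤ normalizerIn S P := fun u hu => ⟨hUS hu, hPnorm (hUS hu)⟩
    rcases hor with hJ | hnot
    · have hJP : thompsonSubgroupAOf S ≤ P := by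
        intro z hz
        obtain ⟨hzS, hz'⟩ := map_mem_thompson ι hι.1 hz
        rw [← hT] at hz'
        exact mem_pull.mpr ⟨hzS, hJ hz'⟩
      have hJU := hJP.trans hPU
      have hfinU : Finite U := finite_of_le hUS
      have hJeq := thompsonAOf_eq_of_le hJU hUS
      have hmap := map_thompsonAOf_self (hS.to_le hUS) φ (F.injective_of_mem hφ) hr
      rw [hJeq] at hmap
      have hSJ : S ≤ Subgroup.normalizer (thompsonSubgroupAOf S : Set Ω) :=
        Subgroup.le_normalizer.trans (normalizer_le_normalizer_thompsonAOf S hS)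
      exact hN U φ hφ hJU (fun u hu => ⟨hUS hu, hSJ (hUS hu)⟩) hmap
    · have hPnn : ¬ F.IsNormal P := by
        intro hPnormal
        have h1 := push_le_pCore_of_isNormal hι T hT hcon hPnormal
        apply hnot
        rintro y ⟨hyT, hyN⟩
        have hyT' : y ∈ ι.range := by rw [← hT]; exact hyT
        obtain ⟨s, rfl⟩ := hyT'
        exact h1 (mem_push.mpr ⟨s, mem_pull.mpr ⟨s.2, hyN⟩, rfl⟩)
      exact IH P hPS hPnorm hPnn U φ hφ hPU hUNP hφP
  · obtain ⟨g, hgP, hgU, hgnU⟩ :=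
      Cfsg.Agent.Lib.Helper90.exists_normalizer_not_mem hS hPS hUS hPn hPU
    have hgS := hPS hgP
    haveI := nbar_normal hι N U hUS
    have hKE : ∀ ν ∈ nbar F ι N U hUS, (ν : MulAut U) ∈ E.autGroup U := by
      intro ν hν
      rw [mem_autGroup_iff E hUS]
      apply hC U _ (autGroup_hom_mem F hUS ν.2) hVU
      intro v hvV
      obtain ⟨c, hc, hcu⟩ := mem_nbar.mp hν
      obtain ⟨hvS, hv'⟩ := map_mem_VZ p ι hvV
      rw [← hT] at hv'
      have hcomm := Subgroup.mem_centralizer_iff.mp (hNV hc) _ hv'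
      have h1 := hcu v
      have h2 : c * ι ⟨v, hUS v.2⟩ * c⁻¹ = ι ⟨v, hUS v.2⟩ := by
        have : ι ⟨(v : Ω), hvS⟩ * c = c * ι ⟨(v : Ω), hvS⟩ := hcomm
        calc c * ι ⟨v, hUS v.2⟩ * c⁻¹ = (c * ι ⟨(v : Ω), hvS⟩) * c⁻¹ := rfl
          _ = (ι ⟨(v : Ω), hvS⟩ * c) * c⁻¹ := by rw [this]
          _ = ι ⟨v, hUS v.2⟩ := by group
      rw [h2] at h1
      have h3 := hι.1 h1
      exact congrArg (fun s : S => (s : Ω)) h3
    have hgK : (⟨Cfsg.Agent.Lib.Helper87.conjAut U g hgU, conjAut_mem_autGroup F hUS hgS hgU⟩ :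
        F.autGroup U) ∈ nbar F ι N U hUS := by
      rw [mem_nbar]
      obtain ⟨_, hgN⟩ := mem_pull.mp hgP
      refine ⟨ι ⟨g, hgS⟩, hgN, fun u => ?_⟩
      rw [← map_inv, ← map_mul, ← map_mul]
      congr 1
    have hle := aut_le_of_normal_subgroup hS F hF E hUfn (nbar F ι N U hUS) hKE hIH hgS hgU hgnU hgK
    have hα := homEquiv_mem_autGroup F hφ hr
    have h1 := hle hα
    rw [mem_autGroup_iff E hUS] at h1
    exact hom_congr E h1 (fun x => (homEquiv_apply F hφ hr x).symm)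

end Main

end Cfsg.Agent.Lib.Helper27.FusGen
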