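import Mathlib
import Cfsg.Agent.Lib.Helper27.FusClGroup
import Cfsg.Agent.Lib.Helper27.FusGenB1

/-!
# Class version of the generation theorem: the constrained case
-/

set_option autoImplicit false

namespace Cfsg.Agent.Lib.Helper27.FusCl

open Cfsg Cfsg.FusionSystem Cfsg.Agent.Lib.Helper87
open Cfsg.Agent.Lib.Helper89 (AlpIH)
open Cfsg.Agent.Lib.Helper27.FusGen

universe u

variable {Ω : Type u} [Group Ω] {S : Subgroup Ω}

section Transport

variable {G : Type*} [Group G]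

/-- `ι` carries `℧ⁿ(Z(S))` into `℧ⁿ(Z(ι S))`. -/
theorem map_mem_VZn (p n : ℕ) (ι : S →* G) {v : Ω} (hv : v ∈ VZn p n S) :
    ∃ hvS : v ∈ S, ι ⟨v, hvS⟩ ∈ VZn p n ι.range := by
  unfold VZn powerClosure at hv
  induction hv using Subgroup.closure_induction with
  | mem y hy =>
    obtain ⟨x, hx, rfl⟩ := hy
    have hxS : x ∈ S := hx.1
    refine ⟨Subgroup.pow_mem _ hxS _, ?_⟩
    have e : ι ⟨x ^ p ^ n, Subgroup.pow_mem _ hxS _⟩ = (ι ⟨x, hxS⟩) ^ p ^ n := by
      rw [← map_pow]; rfl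
    rw [e]
    apply Subgroup.subset_closure
    refine ⟨ι ⟨x, hxS⟩, ⟨⟨_, rfl⟩, ?_⟩, rfl⟩
    show ι ⟨x, hxS⟩ ∈ Subgroup.centralizer ((ι.range : Subgroup G) : Set G)
    rw [Subgroup.mem_centralizer_iff]
    rintro _ ⟨s, rfl⟩
    rw [← map_mul, ← map_mul]
    congr 1
    apply Subtype.ext
    exact Subgroup.mem_centralizer_iff.mp hx.2 s s.2
  | one => exact ⟨S.one_mem, by
      have : (⟨1, S.one_mem⟩ : S) = 1 := rfl
      rw [this, map_one]; exact Subgroup.one_mem _⟩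
  | mul a b _ _ iha ihb =>
    obtain ⟨ha, ha'⟩ := iha
    obtain ⟨hb, hb'⟩ := ihb
    refine ⟨S.mul_mem ha hb, ?_⟩
    have : (⟨a * b, S.mul_mem ha hb⟩ : S) = ⟨a, ha⟩ * ⟨b, hb⟩ := rfl
    rw [this, map_mul]; exact Subgroup.mul_mem _ ha' hb'
  | inv a _ iha =>
    obtain ⟨ha, ha'⟩ := iha
    refine ⟨S.inv_mem ha, ?_⟩
    have : (⟨a⁻¹, S.inv_mem ha⟩ : S) = ⟨a, ha⟩⁻¹ := rfl
    rw [this, map_inv]; exact Subgroup.inv_mem _ ha'

/-- the class bound passes to the image of `S` -/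
theorem lcs_range_eq_bot {c : ℕ} (hcl : S.lowerCentralSeries c = ⊥) (ι : S →* G) :
    (ι.range).lowerCentralSeries c = ⊥ := by
  have h1 : (⊤ : Subgroup S).lowerCentralSeries c = ⊥ := by
    have h := Subgroup.top_subtype_lowerCentralSeries S c
    rw [hcl] at h
    exact (Subgroup.map_eq_bot_iff_of_injective _ (Subgroup.subtype_injective S)).mp h
  have h2 := Subgroup.map_lowerCentralSeries (S := (⊤ : Subgroup S)) ι c
  rw [h1, Subgroup.map_bot, ← MonoidHom.range_eq_map] at h2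
  exact h2.symm

end Transport

section Main

variable {G : Type*} [Group G] {p : ℕ} [Fact p.Prime]

set_option maxHeartbeats 1000000 in
/-- **The constrained case, class version.** -/
theorem constrained_case_n [Finite S] (hS : IsPGroup p S) (F : FusionSystem S) (hF : F.IsSaturated p)
    (n : ℕ) (hcl : S.lowerCentralSeries (n * (p - 1) + 1) = ⊥)
    (ι : S →* G) (hM : F.IsModel p G ι) (E : FusionSystem S)
    (hC : HC F E (VZn p n S)) (hN : NK F E S)
    (IH : ∀ P : Subgroup Ω, P ≤ S → S ≤ Subgroup.normalizer (P : Set Ω) → ¬ F.IsNormal P → NK F E P) :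
    F ≤ E := by
  classical
  obtain ⟨hfinG, hι, ⟨T, hT⟩, hcon⟩ := hM
  have hclT : (T : Subgroup G).lowerCentralSeries (n * (p - 1) + 1) = ⊥ := by
    rw [hT]; exact lcs_range_eq_bot hcl ι
  obtain ⟨N, hNn, hNV, hor⟩ := gt_loc_n n T hclT hcon
  set P := pull ι N with hPdef
  have hPS : P ≤ S := pull_le ι N
  have hPn : ∀ g ∈ S, ∀ y ∈ P, g * y * g⁻¹ ∈ P := by
    intro g hg y hy
    obtain ⟨hyS, hyN⟩ := mem_pull.mp hy
    refine mem_pull.mpr ⟨S.mul_mem (S.mul_mem hg hyS) (S.inv_mem hg), ?_⟩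
    have e : (⟨g * y * g⁻¹, S.mul_mem (S.mul_mem hg hyS) (S.inv_mem hg)⟩ : S)
        = ⟨g, hg⟩ * ⟨y, hyS⟩ * ⟨g, hg⟩⁻¹ := rfl
    rw [e, map_mul, map_mul, map_inv]
    exact hNn.conj_mem _ hyN _
  have hPnorm : S ≤ Subgroup.normalizer (P : Set Ω) := by
    intro g hg
    have : Finite P := finite_of_le hPS
    exact mem_normalizer_of_conj_mem (fun y hy => hPn g hg y hy)
  apply alp_ind p hS F hF E
  intro U hUfn hUc hIH φ hφ hr
  have hUS : U ≤ S := hUfn.1
  have hVU : VZn p n S ≤ U := by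
    intro v hv
    have hvz := VZn_le_center p n S hv
    apply hUc.2 U (isConj_refl F hUS)
    rw [mem_centralizerIn]
    exact ⟨hvz.1, fun x hx => (Subgroup.mem_centralizer_iff.mp hvz.2 x (hUS hx))⟩
  by_cases hPU : P ≤ U
  · obtain ⟨x, hx⟩ := exists_conj_of_mem_hom F hι hφ
    have hφP : (P.subgroupOf U).map φ = P := by
      ext y
      constructor
      · rintro ⟨u, hu, rfl⟩
        have hu' : (u : Ω) ∈ P := Subgroup.mem_subgroupOf.mp hu
        obtain ⟨huS, huN⟩ := mem_pull.mp hu'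
        refine mem_pull.mpr ⟨hom_mem F hφ u, ?_⟩
        rw [hx u]
        exact hNn.conj_mem _ huN _
      · intro hy
        have hyU : y ∈ φ.range := by rw [hr]; exact hPU hy
        obtain ⟨u, rfl⟩ := hyU
        refine ⟨u, Subgroup.mem_subgroupOf.mpr ?_, rfl⟩
        obtain ⟨hyS, hyN⟩ := mem_pull.mp hy
        refine mem_pull.mpr ⟨hUS u.2, ?_⟩
        have h1 : ι ⟨φ u, hyS⟩ = x * ι ⟨u, hUS u.2⟩ * x⁻¹ := hx u
        have h2 : ι ⟨u, hUS u.2⟩ = x⁻¹ * ι ⟨φ u, hyS⟩ * x⁻¹⁻¹ := by rw [h1]; group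
        rw [h2]
        exact hNn.conj_mem _ hyN _
    have hUNP : U ≤ normalizerIn S P := fun u hu => ⟨hUS hu, hPnorm (hUS hu)⟩
    rcases hor with hJ | hnot
    · have hSP : S ≤ P := by
        intro z hz
        refine mem_pull.mpr ⟨hz, hJ ?_⟩
        rw [hT]
        exact ⟨⟨z, hz⟩, rfl⟩
      have hSU : S ≤ U := hSP.trans hPU
      have hmap : (S.subgroupOf U).map φ = S := by
        ext y
        constructor
        · rintro ⟨u, _, rfl⟩
          exact hom_mem F hφ u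
        · intro hy
          have hyU : y ∈ φ.range := by rw [hr]; exact hSU hy
          obtain ⟨u, rfl⟩ := hyU
          exact ⟨u, Subgroup.mem_subgroupOf.mpr (hUS u.2), rfl⟩
      exact hN U φ hφ hSU (fun u hu => le_normalizerIn le_rfl (hUS hu)) hmap
    · have hPnn : ¬ F.IsNormal P := by
        intro hPnormal
        have h1 := push_le_pCore_of_isNormal hι T hT hcon hPnormal
        apply hnot
        rintro y ⟨hyT, hyN⟩
        have hyT' : y ∈ ι.range := by rw [← hT]; exact hyT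
        obtain ⟨s, rfl⟩ := hyT'
        exact h1 (mem_push.mpr ⟨s, mem_pull.mpr ⟨s.2, hyN⟩, rfl⟩)
      exact IH P hPS hPnorm hPnn U φ hφ hPU hUNP hφP
  · obtain ⟨g, hgP, hgU, hgnU⟩ :=
      Cfsg.Agent.Lib.Helper90.exists_normalizer_not_mem hS hPS hUS hPn hPU
    have hgS := hPS hgP
    haveI := nbar_normal hι N U hUS
    have hKE : ∀ ν ∈ nbar F ι N U hUS, (ν : MulAut U) ∈ E.autGroup U := by
      intro ν hν
      rw [mem_autGroup_iff E hUS]
      apply hC U _ (autGroup_hom_mem F hUS ν.2) hVU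
      intro v hvV
      obtain ⟨c, hc, hcu⟩ := mem_nbar.mp hν
      obtain ⟨hvS, hv'⟩ := map_mem_VZn p n ι hvV
      rw [← hT] at hv'
      have hcomm := Subgroup.mem_centralizer_iff.mp (hNV hc) _ hv'
      have h1 := hcu v
      have h2 : c * ι ⟨v, hUS v.2⟩ * c⁻¹ = ι ⟨v, hUS v.2⟩ := by
        have : ι ⟨(v : Ω), hvS⟩ * c = c * ι ⟨(v : Ω), hvS⟩ := hcomm
        calc c * ι ⟨v, hUS v.2⟩ * c⁻¹ = (c * ι ⟨(v : Ω), hvS⟩) * c⁻¹ := rfl
          _ = (ι ⟨(v : Ω), hvS⟩ * c) * c⁻¹ := by rw [this]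
          _ = ι ⟨v, hUS v.2⟩ := by group
      rw [h2] at h1
      have h3 := hι.1 h1
      exact congrArg (fun s : S => (s : Ω)) h3
    have hgK : (⟨Cfsg.Agent.Lib.Helper87.conjAut U g hgU, conjAut_mem_autGroup F hUS hgS hgU⟩ :
        F.autGroup U) ∈ nbar F ι N U hUS := by
      rw [mem_nbar]
      obtain ⟨_, hgN⟩ := mem_pull.mp hgP
      refine ⟨ι ⟨g, hgS⟩, hgN, fun u => ?_⟩
      rw [← map_inv, ← map_mul, ← map_mul]
      congr 1
    have hle := aut_le_of_normal_subgroup hS F hF E hUfn (nbar F ι N U hUS) hKE hIH hgS hgU hgnU hgK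
    have hα := homEquiv_mem_autGroup F hφ hr
    have h1 := hle hα
    rw [mem_autGroup_iff E hUS] at h1
    exact hom_congr E h1 (fun x => (homEquiv_apply F hφ hr x).symm)

end Main

end Cfsg.Agent.Lib.Helper27.FusCl
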