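import Mathlib
import Cfsg.Agent.Lib.Helper27.FusGenB1
import Cfsg.Agent.Lib.Helper90.GTSparse
import Cfsg.Agent.Lib.Helper89.Subsystem
import Cfsg.Agent.S5098

/-!
# Generation theorem: the induction hypothesis and its use on normalizer systems
-/

set_option autoImplicit false

namespace Cfsg.Agent.Lib.Helper27.FusGen

open Cfsg Cfsg.FusionSystem Cfsg.Agent.Lib.Helper87
open Cfsg.Agent.Lib.Helper90.GT (morSet morSet_finite mem_normalizerHom_of_le)
open Cfsg.Agent.Lib.Helper89 (fullSubsystem mem_fullSubsystem_iff)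

universe u

variable {Ω : Type u} [Group Ω] {S : Subgroup Ω}

/-- the induction hypothesis: the generation theorem for all saturated systems with fewer than `n` maps -/
def IHyp (p : ℕ) (Ω : Type u) [Group Ω] (n : ℕ) : Prop :=
  ∀ (S' : Subgroup Ω) [Finite S'], IsPGroup p S' → ∀ F' : FusionSystem S', F'.IsSaturated p →
    (morSet F').ncard < n → ∀ E' : FusionSystem S', HC F' E' (VZ p S') →
      NK F' E' (thompsonSubgroupAOf S') → F' ≤ E'

theorem IHyp.mono {p : ℕ} {n m : ℕ} (h : IHyp p Ω n) (hmn : m ≤ n) : IHyp p Ω m := by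
  intro S' _ hS' F' hF' hlt E' hC hN
  exact h S' hS' F' hF' (lt_of_lt_of_le hlt hmn) E' hC hN

theorem morSet_normalizerSystem_subset (F : FusionSystem S) (P : Subgroup Ω) (hP : P ≤ S) :
    morSet (normalizerSystem F P hP) ⊆ morSet F := by
  rintro ⟨A, φ⟩ hx
  have h1 : φ ∈ (normalizerSystem F P hP).Hom A := hx
  rw [normalizerSystem_isNormalizerSystem F P hP A] at h1
  exact h1.1

theorem ncard_morSet_normalizerSystem_le [Finite S] (F : FusionSystem S) (P : Subgroup Ω) (hP : P ≤ S) :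
    (morSet (normalizerSystem F P hP)).ncard ≤ (morSet F).ncard :=
  Set.ncard_le_ncard (morSet_normalizerSystem_subset F P hP) (morSet_finite F)

theorem ncard_morSet_normalizerSystem_lt [Finite S] (F : FusionSystem S) (P : Subgroup Ω) (hP : P ≤ S)
    (hnn : ¬ F.IsNormal P) :
    (morSet (normalizerSystem F P hP)).ncard < (morSet F).ncard := by
  apply Set.ncard_lt_ncard _ (morSet_finite F)
  refine ⟨morSet_normalizerSystem_subset F P hP, fun hsub => ?_⟩
  apply hnn
  refine ⟨hP, fun A φ hφ => ?_⟩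
  have h1 : (⟨A, φ⟩ : Σ P : Subgroup Ω, (P →* Ω)) ∈ morSet (normalizerSystem F P hP) :=
    hsub (a := ⟨A, φ⟩) hφ
  have h2 : φ ∈ (normalizerSystem F P hP).Hom A := h1
  rw [normalizerSystem_isNormalizerSystem F P hP A] at h2
  obtain ⟨-, -, -, ψ, hψ, hext, hmap⟩ := h2
  exact ⟨ψ, hψ, hext, hmap⟩

/-- `℧¹(Z(S)) ≤ ℧¹(Z(T))` for `Z(S) ≤ T ≤ S`. -/
theorem VZ_le_VZ (p : ℕ) {T : Subgroup Ω} (hTS : T ≤ S)
    (hZT : S ⊓ Subgroup.centralizer (S : Set Ω) ≤ T) : VZ p S ≤ VZ p T := by
  unfold VZ powerClosure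
  apply Subgroup.closure_mono
  rintro _ ⟨x, hx, rfl⟩
  refine ⟨x, ⟨hZT hx, ?_⟩, rfl⟩
  exact Subgroup.centralizer_le (by exact_mod_cast hTS) hx.2

theorem center_le_normalizerIn (P : Subgroup Ω) (hP : P ≤ S) :
    S ⊓ Subgroup.centralizer (S : Set Ω) ≤ normalizerIn S P := by
  intro z hz
  rw [mem_normalizerIn]
  refine ⟨hz.1, fun h => ?_⟩
  have hc : ∀ y ∈ P, z * y * z⁻¹ = y := by
    intro y hy
    have := Subgroup.mem_centralizer_iff.mp hz.2 y (hP hy)
    rw [← this]; group
  constructor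
  · intro hh; rw [hc h hh]; exact hh
  · intro hh
    have h2 := hc _ hh
    have h3 : z * h * z⁻¹ = h := by
      have h4 : z * h * z⁻¹ = z⁻¹ * (z * (z * h * z⁻¹) * z⁻¹) * z := by group
      rw [h4, h2]; group
    rw [← h3]; exact hh

variable {p : ℕ} [Fact p.Prime]

set_option maxHeartbeats 800000 in
/-- **Using the induction hypothesis on a normalizer system.** -/
theorem NK_of_IHyp [Finite S] (hS : IsPGroup p S) (F : FusionSystem S) (hF : F.IsSaturated p)
    (E : FusionSystem S) (hC : HC F E (VZ p S)) (IH : IHyp p Ω (morSet F).ncard)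
    {P : Subgroup Ω} (hPfn : F.IsFullyNormalized P) (hPnn : ¬ F.IsNormal P)
    (hJ : ∀ (A : Subgroup Ω) (φ : A →* Ω), φ ∈ F.Hom A →
      thompsonSubgroupAOf (normalizerIn S P) ≤ A → A ≤ normalizerIn S P →
      ((thompsonSubgroupAOf (normalizerIn S P)).subgroupOf A).map φ =
        thompsonSubgroupAOf (normalizerIn S P) → φ ∈ E.Hom A) :
    NK F E P := by
  have hPS : P ≤ S := hPfn.1
  set T := normalizerIn S P with hT
  have hTS : T ≤ S := normalizerIn_le S P
  have hfinT : Finite T := finite_of_le hTS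
  have hTp : IsPGroup p T := hS.to_le hTS
  set N := normalizerSystem F P hPS with hNdef
  have hNsys := normalizerSystem_isNormalizerSystem F P hPS
  have hNsat : N.IsSaturated p := Cfsg.Agent.S5098.result p hS F hF P hPfn N hNsys
  have hlt := ncard_morSet_normalizerSystem_lt F P hPS hPnn
  have hNF : ∀ (A : Subgroup Ω) (φ : A →* Ω), φ ∈ N.Hom A → φ ∈ F.Hom A := by
    intro A φ hφ
    rw [hNsys A] at hφ
    exact hφ.1
  have hle : N ≤ fullSubsystem E T hTS := by
    apply IH T hTp N hNsat hlt (fullSubsystem E T hTS)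
    · intro A φ hφ hVA hfix
      rw [mem_fullSubsystem_iff]
      refine ⟨?_, hom_le N hφ, hom_mem N hφ⟩
      apply hC A φ (hNF A φ hφ) ((VZ_le_VZ p hTS (center_le_normalizerIn P hPS)).trans hVA)
      intro x hx
      exact hfix x (VZ_le_VZ p hTS (center_le_normalizerIn P hPS) hx)
    · intro A φ hφ hJA _ hmap
      rw [mem_fullSubsystem_iff]
      exact ⟨hJ A φ (hNF A φ hφ) hJA (hom_le N hφ) hmap, hom_le N hφ, hom_mem N hφ⟩
  intro A φ hφ hPA hAT hmap
  have h1 : φ ∈ N.Hom A := by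
    rw [hNsys A]
    exact mem_normalizerHom_of_le F hφ hPA hAT hmap
  exact ((mem_fullSubsystem_iff E T hTS φ).mp (hle A h1)).1

end Cfsg.Agent.Lib.Helper27.FusGen
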