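import Mathlib
import Cfsg.Agent.Lib.Helper27.FusClB1
import Cfsg.Agent.Lib.Helper27.FusGenStep

/-!
# Class version of the generation theorem: the induction hypothesis and normalizer systems
-/

set_option autoImplicit false

namespace Cfsg.Agent.Lib.Helper27.FusCl

open Cfsg Cfsg.FusionSystem Cfsg.Agent.Lib.Helper87
open Cfsg.Agent.Lib.Helper90.GT (morSet morSet_finite mem_normalizerHom_of_le)
open Cfsg.Agent.Lib.Helper89 (fullSubsystem mem_fullSubsystem_iff)
open Cfsg.Agent.Lib.Helper27.FusGen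

universe u

variable {Ω : Type u} [Group Ω] {S : Subgroup Ω}

/-- the induction hypothesis: the class version of the generation theorem for all saturated systems with
fewer than `k` maps -/
def IHypN (p n : ℕ) (Ω : Type u) [Group Ω] (k : ℕ) : Prop :=
  ∀ (S' : Subgroup Ω) [Finite S'], IsPGroup p S' → S'.lowerCentralSeries (n * (p - 1) + 1) = ⊥ →
    ∀ F' : FusionSystem S', F'.IsSaturated p →
    (morSet F').ncard < k → ∀ E' : FusionSystem S', HC F' E' (VZn p n S') →
      NK F' E' S' → F' ≤ E'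

theorem IHypN.mono {p n : ℕ} {k m : ℕ} (h : IHypN p n Ω k) (hmk : m ≤ k) : IHypN p n Ω m := by
  intro S' _ hS' hcl F' hF' hlt E' hC hN
  exact h S' hS' hcl F' hF' (lt_of_lt_of_le hlt hmk) E' hC hN

/-- `℧ⁿ(Z(S)) ≤ ℧ⁿ(Z(T))` for `Z(S) ≤ T ≤ S`. -/
theorem VZn_le_VZn (p n : ℕ) {T : Subgroup Ω} (hTS : T ≤ S)
    (hZT : S ⊓ Subgroup.centralizer (S : Set Ω) ≤ T) : VZn p n S ≤ VZn p n T := by
  unfold VZn powerClosure
  apply Subgroup.closure_mono
  rintro _ ⟨x, hx, rfl⟩
  refine ⟨x, ⟨hZT hx, ?_⟩, rfl⟩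
  exact Subgroup.centralizer_le (by exact_mod_cast hTS) hx.2

theorem lcs_mono {T : Subgroup Ω} (hTS : T ≤ S) (c : ℕ) :
    T.lowerCentralSeries c ≤ S.lowerCentralSeries c := by
  induction c with
  | zero => exact hTS
  | succ c ih =>
    rw [Subgroup.lowerCentralSeries_succ, Subgroup.lowerCentralSeries_succ]
    exact Subgroup.commutator_mono ih hTS

theorem lcs_eq_bot_of_le {T : Subgroup Ω} (hTS : T ≤ S) {c : ℕ}
    (h : S.lowerCentralSeries c = ⊥) : T.lowerCentralSeries c = ⊥ :=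
  le_bot_iff.mp (h ▸ lcs_mono hTS c)

variable {p : ℕ} [Fact p.Prime]

set_option maxHeartbeats 800000 in
/-- **Using the induction hypothesis on a normalizer system.** -/
theorem NK_of_IHypN [Finite S] (hS : IsPGroup p S) (F : FusionSystem S) (hF : F.IsSaturated p)
    (n : ℕ) (hcl : S.lowerCentralSeries (n * (p - 1) + 1) = ⊥)
    (E : FusionSystem S) (hC : HC F E (VZn p n S)) (IH : IHypN p n Ω (morSet F).ncard)
    {P : Subgroup Ω} (hPfn : F.IsFullyNormalized P) (hPnn : ¬ F.IsNormal P)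
    (hJ : ∀ (A : Subgroup Ω) (φ : A →* Ω), φ ∈ F.Hom A →
      normalizerIn S P ≤ A → A ≤ normalizerIn S P →
      ((normalizerIn S P).subgroupOf A).map φ = normalizerIn S P → φ ∈ E.Hom A) :
    NK F E P := by
  have hPS : P ≤ S := hPfn.1
  set T := normalizerIn S P with hT
  have hTS : T ≤ S := normalizerIn_le S P
  have hfinT : Finite T := finite_of_le hTS
  have hTp : IsPGroup p T := hS.to_le hTS
  set N := normalizerSystem F P hPS with hNdef
  have hNsys := normalizerSystem_isNormalizerSystem F P hPS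
  have hNsat : N.IsSaturated p := Cfsg.Agent.S5098.result p hS F hF P hPfn N hNsys
  have hlt := ncard_morSet_normalizerSystem_lt F P hPS hPnn
  have hNF : ∀ (A : Subgroup Ω) (φ : A →* Ω), φ ∈ N.Hom A → φ ∈ F.Hom A := by
    intro A φ hφ
    rw [hNsys A] at hφ
    exact hφ.1
  have hle : N ≤ fullSubsystem E T hTS := by
    apply IH T hTp (lcs_eq_bot_of_le hTS hcl) N hNsat hlt (fullSubsystem E T hTS)
    · intro A φ hφ hVA hfix
      rw [mem_fullSubsystem_iff]
      refine ⟨?_, hom_le N hφ, hom_mem N hφ⟩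
      apply hC A φ (hNF A φ hφ) ((VZn_le_VZn p n hTS (center_le_normalizerIn P hPS)).trans hVA)
      intro x hx
      exact hfix x (VZn_le_VZn p n hTS (center_le_normalizerIn P hPS) hx)
    · intro A φ hφ hJA _ hmap
      rw [mem_fullSubsystem_iff]
      exact ⟨hJ A φ (hNF A φ hφ) hJA (hom_le N hφ) hmap, hom_le N hφ, hom_mem N hφ⟩
  intro A φ hφ hPA hAT hmap
  have h1 : φ ∈ N.Hom A := by
    rw [hNsys A]
    exact mem_normalizerHom_of_le F hφ hPA hAT hmap
  exact ((mem_fullSubsystem_iff E T hTS φ).mp (hle A h1)).1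

end Cfsg.Agent.Lib.Helper27.FusCl
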