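import Mathlib
import Cfsg.Agent.Lib.Helper27.FusGenStep
import Cfsg.Agent.Lib.Helper90.GTCentric
import Cfsg.Agent.Lib.Helper90.ModelFusion
import Cfsg.Agent.Lib.Helper53.FusWC2
import Cfsg.Agent.Lib.Helper53.FusWC0

/-!
# Generation theorem: reduction to `N_F(Q C_S(Q))` when `℧¹(Z(S)) ≤ Q` and `Q` is normal in `F`
-/

set_option autoImplicit false

namespace Cfsg.Agent.Lib.Helper27.FusGen

open Cfsg Cfsg.FusionSystem Cfsg.Agent.Lib.Helper87
open Cfsg.Agent.Lib.Helper89 (AlpIH)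
open Cfsg.Agent.Lib.Helper90.GT (fixAut mem_fixAut fixAut_normal conj_mem_centralizerIn morSet
  mem_normalizerHom_of_le isFullyNormalized_of_normalizerIn_eq)
open Cfsg.Agent.Lib.Helper89 (fullSubsystem mem_fullSubsystem_iff)

universe u

variable {Ω : Type u} [Group Ω] {S : Subgroup Ω} {p : ℕ} [Fact p.Prime]

omit [Fact p.Prime] in
theorem sup_induction' {H K : Subgroup Ω} {C : (x : Ω) → x ∈ H ⊔ K → Prop}
    (mem₁ : ∀ x (hx : x ∈ H), C x ((le_sup_left : H ≤ H ⊔ K) hx))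
    (mem₂ : ∀ x (hx : x ∈ K), C x ((le_sup_right : K ≤ H ⊔ K) hx))
    (one : C 1 (Subgroup.one_mem _))
    (mul : ∀ x y (hx : x ∈ H ⊔ K) (hy : y ∈ H ⊔ K), C x hx → C y hy → C (x * y) (Subgroup.mul_mem _ hx hy))
    (inv : ∀ x (hx : x ∈ H ⊔ K), C x hx → C x⁻¹ (Subgroup.inv_mem _ hx))
    {x : Ω} (hx : x ∈ H ⊔ K) : C x hx := by
  have hcl : H ⊔ K = Subgroup.closure ((H : Set Ω) ∪ K) := Subgroup.sup_eq_closure H K
  have key : ∀ y (hy : y ∈ Subgroup.closure ((H : Set Ω) ∪ K)), ∃ hy' : y ∈ H ⊔ K, C y hy' := by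
    intro y hy
    induction hy using Subgroup.closure_induction with
    | mem y hy =>
      rcases hy with hy | hy
      · exact ⟨_, mem₁ y hy⟩
      · exact ⟨_, mem₂ y hy⟩
    | one => exact ⟨_, one⟩
    | mul a b _ _ iha ihb =>
      obtain ⟨ha, ha'⟩ := iha
      obtain ⟨hb, hb'⟩ := ihb
      exact ⟨_, mul a b ha hb ha' hb'⟩
    | inv a _ iha =>
      obtain ⟨ha, ha'⟩ := iha
      exact ⟨_, inv a ha ha'⟩
  obtain ⟨_, h⟩ := key x (hcl ▸ hx)
  exact h

set_option maxHeartbeats 1000000 in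
theorem normal_case [Finite S] (hS : IsPGroup p S) (F : FusionSystem S) (hF : F.IsSaturated p)
    (E : FusionSystem S) (hC : HC F E (VZ p S)) {Q : Subgroup Ω} (hQ : F.IsNormal Q)
    (hVQ : VZ p S ≤ Q) (hR : NK F E (Q ⊔ centralizerIn S Q)) : F ≤ E := by
  classical
  have hQS : Q ≤ S := hQ.1
  have hsc : F.StronglyClosed Q := Cfsg.Agent.Lib.Helper90.IsNormal.stronglyClosed F hQ
  have hQn : ∀ s ∈ S, ∀ q ∈ Q, s * q * s⁻¹ ∈ Q := Cfsg.Agent.Lib.Helper90.StronglyClosed.conj_mem F hsc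
  set C := centralizerIn S Q with hCdef
  have hCS : C ≤ S := centralizerIn_le S Q
  have hCn : ∀ g ∈ S, ∀ y ∈ C, g * y * g⁻¹ ∈ C := fun g hg y hy => conj_mem_centralizerIn hQn hg hy
  apply alp_ind p hS F hF E
  intro U hUfn hUc hIH φ hφ hr
  have hUS : U ≤ S := hUfn.1
  have hfinU : Finite U := finite_of_le hUS
  have hVU : VZ p S ≤ U := by
    intro v hv
    have hvz := VZ_le_center p S hv
    apply hUc.2 U (isConj_refl F hUS)
    rw [mem_centralizerIn]
    exact ⟨hvz.1, fun x hx => (Subgroup.mem_centralizer_iff.mp hvz.2 x (hUS hx))⟩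
  by_cases hQU : Q ≤ U
  · by_cases hCU : C ≤ U
    · -- φ normalizes Q C_S(Q)
      have hRU : Q ⊔ C ≤ U := sup_le hQU hCU
      have hφQ : ∀ u : U, (u : Ω) ∈ Q → φ u ∈ Q := by
        intro u hu
        have h1 := hsc.2 Q le_rfl (φ.comp (Subgroup.inclusion hQU)) (restrict_mem F hQU hφ) ⟨u, hu⟩
        exact h1
      have hφC : ∀ u : U, (u : Ω) ∈ C → φ u ∈ C := by
        intro u hu
        rw [hCdef, mem_centralizerIn] at hu ⊢
        refine ⟨hom_mem F hφ u, fun q hq => ?_⟩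
        -- q = φ q' with q' ∈ Q
        have hqU : q ∈ φ.range := by rw [hr]; exact hQU hq
        obtain ⟨q', rfl⟩ := hqU
        -- q' ∈ Q : use the inverse automorphism
        have hα := homEquiv_mem_autGroup F hφ hr
        have hinv := (F.autGroup U).inv_mem hα
        have hq'Q : (q' : Ω) ∈ Q := by
          have h2 := Cfsg.Agent.Lib.Helper90.StronglyClosed.aut_mem F hsc hUS hinv
            ((homEquiv F hφ hr) q') (by rw [homEquiv_apply]; exact hq)
          simpa using h2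
        have h3 : (q' : Ω) * u = u * q' := hu.2 q' hq'Q
        have h4 : q' * u = u * q' := Subtype.ext h3
        rw [← map_mul, ← map_mul, h4]
      have hmapsub : (((Q ⊔ C : Subgroup Ω)).subgroupOf U).map φ ≤ Q ⊔ C := by
        rintro _ ⟨u, hu, rfl⟩
        have hu' : (u : Ω) ∈ Q ⊔ C := Subgroup.mem_subgroupOf.mp hu
        -- closure induction on Q ⊔ C
        have key : ∀ y (hy : y ∈ Q ⊔ C), ∀ hyU : y ∈ U, φ ⟨y, hyU⟩ ∈ Q ⊔ C := by
          intro y hy
          induction hy using sup_induction' with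
          | mem₁ y hy => intro hyU; exact (le_sup_left : Q ≤ Q ⊔ C) (hφQ ⟨y, hyU⟩ hy)
          | mem₂ y hy => intro hyU; exact (le_sup_right : C ≤ Q ⊔ C) (hφC ⟨y, hyU⟩ hy)
          | one => intro hyU; have e : (⟨1, hyU⟩ : U) = 1 := rfl; rw [e, map_one]; exact Subgroup.one_mem _
          | mul y z hy hz ihy ihz =>
            intro hyU
            have hyU' : y ∈ U := hRU hy
            have hzU' : z ∈ U := hRU hz
            have e : (⟨y * z, hyU⟩ : U) = ⟨y, hyU'⟩ * ⟨z, hzU'⟩ := rfl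
            rw [e, map_mul]
            exact Subgroup.mul_mem _ (ihy hyU') (ihz hzU')
          | inv y hy ihy =>
            intro hyU
            have hyU' : y ∈ U := hRU hy
            have e : (⟨y⁻¹, hyU⟩ : U) = ⟨y, hyU'⟩⁻¹ := rfl
            rw [e, map_inv]
            exact Subgroup.inv_mem _ (ihy hyU')
        exact key u hu' u.2
      have hfinR : Finite (Q ⊔ C : Subgroup Ω) := finite_of_le (sup_le hQS hCS)
      have hmap : (((Q ⊔ C : Subgroup Ω)).subgroupOf U).map φ = Q ⊔ C := by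
        apply Subgroup.eq_of_le_of_card_ge hmapsub
        rw [Subgroup.card_map_of_injective (F.injective_of_mem hφ)]
        exact (Nat.card_congr (Subgroup.subgroupOfEquivOfLe hRU).toEquiv).ge
      have hRn : U ≤ normalizerIn S (Q ⊔ C) := by
        intro u hu
        refine ⟨hUS hu, ?_⟩
        apply mem_normalizer_of_conj_mem
        intro y hy
        induction hy using sup_induction' with
        | mem₁ y hy => exact (le_sup_left : Q ≤ Q ⊔ C) (hQn u (hUS hu) y hy)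
        | mem₂ y hy => exact (le_sup_right : C ≤ Q ⊔ C) (hCn u (hUS hu) y hy)
        | one => simp
        | mul y z _ _ ihy ihz =>
          have e : u * (y * z) * u⁻¹ = (u * y * u⁻¹) * (u * z * u⁻¹) := by group
          rw [e]; exact Subgroup.mul_mem _ ihy ihz
        | inv y _ ihy =>
          have e : u * y⁻¹ * u⁻¹ = (u * y * u⁻¹)⁻¹ := by group
          rw [e]; exact Subgroup.inv_mem _ ihy
      exact hR U φ hφ hRU hRn hmap
    · obtain ⟨g, hgC, hgU, hgnU⟩ :=
        Cfsg.Agent.Lib.Helper90.exists_normalizer_not_mem hS hCS hUS hCn hCU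
      have hgS := hCS hgC
      haveI : (fixAut F Q U).Normal := fixAut_normal hsc hUS
      have hKE : ∀ ν ∈ fixAut F Q U, (ν : MulAut U) ∈ E.autGroup U := by
        intro ν hν
        rw [mem_autGroup_iff E hUS]
        apply hC U _ (autGroup_hom_mem F hUS ν.2) hVU
        intro v hvV
        have := mem_fixAut.mp hν v (hVQ hvV)
        exact congrArg Subtype.val this
      have hgK : (⟨Cfsg.Agent.Lib.Helper87.conjAut U g hgU, conjAut_mem_autGroup F hUS hgS hgU⟩ :
          F.autGroup U) ∈ fixAut F Q U := by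
        rw [mem_fixAut]
        intro x hx
        apply Subtype.ext
        rw [conjAut_apply]
        rw [hCdef, mem_centralizerIn] at hgC
        have := hgC.2 x hx
        rw [← this]; group
      have hle := aut_le_of_normal_subgroup hS F hF E hUfn (fixAut F Q U) hKE hIH hgS hgU hgnU hgK
      have hα := homEquiv_mem_autGroup F hφ hr
      have h1 := hle hα
      rw [mem_autGroup_iff E hUS] at h1
      exact hom_congr E h1 (fun x => (homEquiv_apply F hφ hr x).symm)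
  · -- extend to U ⊔ Q
    obtain ⟨g, hgQ, hgU⟩ := SetLike.not_le_iff_exists.mp hQU
    obtain ⟨ψ, hψ, hext, -⟩ := hQ.2 U φ hφ
    exact hIH.mem_of_extends (le_sup_left : U ≤ U ⊔ Q) ((le_sup_right : Q ≤ U ⊔ Q) hgQ) hgU hψ hext

omit [Fact p.Prime] in
/-- `Q C_S(Q)` is normalized by `S` when `Q` is. -/
theorem sup_centralizerIn_le_normalizer {Q : Subgroup Ω} (hQS : Q ≤ S)
    (hQn : ∀ s ∈ S, ∀ q ∈ Q, s * q * s⁻¹ ∈ Q) [Finite S] :
    S ≤ Subgroup.normalizer ((Q ⊔ centralizerIn S Q : Subgroup Ω) : Set Ω) := by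
  intro u hu
  have hfin : Finite (Q ⊔ centralizerIn S Q : Subgroup Ω) :=
    finite_of_le (sup_le hQS (centralizerIn_le S Q))
  apply mem_normalizer_of_conj_mem
  intro y hy
  induction hy using sup_induction' with
  | mem₁ y hy => exact (le_sup_left : Q ≤ Q ⊔ centralizerIn S Q) (hQn u hu y hy)
  | mem₂ y hy =>
    exact (le_sup_right : centralizerIn S Q ≤ Q ⊔ centralizerIn S Q) (conj_mem_centralizerIn hQn hu hy)
  | one => simp
  | mul y z _ _ ihy ihz =>
    have e : u * (y * z) * u⁻¹ = (u * y * u⁻¹) * (u * z * u⁻¹) := by group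
    rw [e]; exact Subgroup.mul_mem _ ihy ihz
  | inv y _ ihy =>
    have e : u * y⁻¹ * u⁻¹ = (u * y * u⁻¹)⁻¹ := by group
    rw [e]; exact Subgroup.inv_mem _ ihy

omit [Fact p.Prime] in
theorem normalizerIn_eq_of_le_normalizer {P : Subgroup Ω} (h : S ≤ Subgroup.normalizer (P : Set Ω)) :
    normalizerIn S P = S :=
  le_antisymm (normalizerIn_le S P) (fun s hs => ⟨hs, h hs⟩)

set_option maxHeartbeats 1000000 in
/-- the maps of `F` normalizing `Q C_S(Q)` lie in `E` -/
theorem NK_sup_centralizerIn [Finite S] (hS : IsPGroup p S) (F : FusionSystem S) (hF : F.IsSaturated p)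
    (E : FusionSystem S) (hC : HC F E (VZ p S)) (hN : NK F E (thompsonSubgroupAOf S))
    (IH : IHyp p Ω (morSet F).ncard) {Q : Subgroup Ω} (hQ : F.IsNormal Q) :
    NK F E (Q ⊔ centralizerIn S Q) := by
  classical
  have hQS : Q ≤ S := hQ.1
  have hsc : F.StronglyClosed Q := Cfsg.Agent.Lib.Helper90.IsNormal.stronglyClosed F hQ
  have hQn : ∀ s ∈ S, ∀ q ∈ Q, s * q * s⁻¹ ∈ Q := Cfsg.Agent.Lib.Helper90.StronglyClosed.conj_mem F hsc
  set R₁ := Q ⊔ centralizerIn S Q with hR₁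
  have hR₁S : R₁ ≤ S := sup_le hQS (centralizerIn_le S Q)
  have hR₁n : S ≤ Subgroup.normalizer (R₁ : Set Ω) := sup_centralizerIn_le_normalizer hQS hQn
  have hS₁ : normalizerIn S R₁ = S := normalizerIn_eq_of_le_normalizer hR₁n
  have hQNS : normalizerIn S Q = S := by
    apply normalizerIn_eq_of_le_normalizer
    intro s hs
    have : Finite Q := finite_of_le hQS
    exact mem_normalizer_of_conj_mem (fun y hy => hQn s hs y hy)
  have hQfn : F.IsFullyNormalized Q := isFullyNormalized_of_normalizerIn_eq F hQS hQNS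
  have hQfc : F.IsFullyCentralized Q := (fullyNormalized_props p hS F hF Q hQfn).1
  have hR₁c : F.IsCentric R₁ := Cfsg.Agent.Lib.Helper53.FusWC.isCentric_sup_centralizerIn F hQfc
  have hR₁fn : F.IsFullyNormalized R₁ := isFullyNormalized_of_normalizerIn_eq F hR₁S hS₁
  set S₁ := normalizerIn S R₁ with hS₁def
  have hS₁S : S₁ ≤ S := normalizerIn_le S R₁
  have hfinS₁ : Finite S₁ := finite_of_le hS₁S
  have hS₁p : IsPGroup p S₁ := hS.to_le hS₁S
  set F₁ := normalizerSystem F R₁ hR₁S with hF₁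
  have hsys := normalizerSystem_isNormalizerSystem F R₁ hR₁S
  have hF₁sat : F₁.IsSaturated p := Cfsg.Agent.S5098.result p hS F hF R₁ hR₁fn F₁ hsys
  have hF₁n : F₁.IsNormal R₁ := Cfsg.Agent.Lib.Helper53.FusWC.nsys_isNormal F R₁ hR₁S F₁ hsys
  have hF₁c : F₁.IsCentric R₁ := Cfsg.Agent.Lib.Helper53.FusWC.nsys_isCentric F R₁ hR₁c F₁ hsys
  obtain ⟨G, _, ι, hM⟩ :=
    Cfsg.Agent.Lib.Helper90.ModelFusion.NC.exists_isModel ⟨hF₁sat, hF₁n, hF₁c⟩ hS₁p
  have hF₁F : ∀ (A : Subgroup Ω) (φ : A →* Ω), φ ∈ F₁.Hom A → φ ∈ F.Hom A := by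
    intro A φ hφ
    rw [hsys A] at hφ
    exact hφ.1
  set E₁ := fullSubsystem E S₁ hS₁S with hE₁
  have hSJ : S ≤ Subgroup.normalizer (thompsonSubgroupAOf S : Set Ω) :=
    Subgroup.le_normalizer.trans (normalizer_le_normalizer_thompsonAOf S hS)
  have hC₁ : HC F₁ E₁ (VZ p S₁) := by
    intro A φ hφ hVA hfix
    rw [hE₁, mem_fullSubsystem_iff]
    refine ⟨?_, hom_le F₁ hφ, hom_mem F₁ hφ⟩
    rw [hS₁] at hVA hfix
    exact hC A φ (hF₁F A φ hφ) hVA hfix
  have hN₁ : NK F₁ E₁ (thompsonSubgroupAOf S₁) := by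
    intro A φ hφ hJA _ hmap
    rw [hE₁, mem_fullSubsystem_iff]
    refine ⟨?_, hom_le F₁ hφ, hom_mem F₁ hφ⟩
    rw [hS₁] at hJA hmap
    have hAS : A ≤ S := (hom_le F₁ hφ).trans hS₁S
    exact hN A φ (hF₁F A φ hφ) hJA (fun a ha => ⟨hAS ha, hSJ (hAS ha)⟩) hmap
  have IH₁ : IHyp p Ω (morSet F₁).ncard := IH.mono (ncard_morSet_normalizerSystem_le F R₁ hR₁S)
  have hle : F₁ ≤ E₁ := by
    apply constrained_case hS₁p F₁ hF₁sat ι hM E₁ hC₁ hN₁
    intro P hPS₁ hPn hPnn
    have hNP : normalizerIn S₁ P = S₁ := normalizerIn_eq_of_le_normalizer hPn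
    have hPfn : F₁.IsFullyNormalized P := isFullyNormalized_of_normalizerIn_eq F₁ hPS₁ hNP
    apply NK_of_IHyp hS₁p F₁ hF₁sat E₁ hC₁ IH₁ hPfn hPnn
    intro A φ hφ hJA hA hmap
    rw [hNP] at hJA hA hmap
    have hSJ₁ : S₁ ≤ Subgroup.normalizer (thompsonSubgroupAOf S₁ : Set Ω) :=
      Subgroup.le_normalizer.trans (normalizer_le_normalizer_thompsonAOf S₁ hS₁p)
    exact hN₁ A φ hφ hJA (fun a ha => ⟨hA ha, hSJ₁ (hA ha)⟩) hmap
  intro A φ hφ hRA hAN hmap
  have h1 : φ ∈ F₁.Hom A := by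
    rw [hsys A]
    exact mem_normalizerHom_of_le F hφ hRA hAN hmap
  exact ((mem_fullSubsystem_iff E S₁ hS₁S φ).mp (hle A h1)).1

end Cfsg.Agent.Lib.Helper27.FusGen
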