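import Mathlib
import Cfsg.Agent.Lib.Helper27.FusGenB

/-!
# Generation theorem: the case where no normal subgroup of the system contains `℧¹(Z(S))`
-/

set_option autoImplicit false

namespace Cfsg.Agent.Lib.Helper27.FusGen

open Cfsg Cfsg.FusionSystem Cfsg.Agent.Lib.Helper87
open Cfsg.Agent.Lib.Helper90.GT (morSet morSet_finite mem_normalizerHom_of_le)

universe u

variable {Ω : Type u} [Group Ω] {S : Subgroup Ω}

/-- Transport of `NK` along a map of `F ∩ E` defined on `N_S(P)` and carrying `P` onto `P'`. -/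
theorem NK_transport (F E : FusionSystem S) {P P' : Subgroup Ω}
    (ψ : normalizerIn S P →* Ω) (hψF : ψ ∈ F.Hom (normalizerIn S P))
    (hψE : ψ ∈ E.Hom (normalizerIn S P))
    (hψN : ∀ x, ψ x ∈ normalizerIn S P')
    (hψP : (P.subgroupOf (normalizerIn S P)).map ψ = P')
    (h' : NK F E P') : NK F E P := by
  intro A φ hφ hPA hAN hmap
  have hφP : ∀ x : A, (x : Ω) ∈ P → φ x ∈ P := by
    intro x hx
    rw [← hmap]
    exact ⟨x, hx, rfl⟩
  have hkey : ∀ (a : A) (y : Ω), y ∈ P → φ a * y * (φ a)⁻¹ ∈ P := by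
    intro a y hy
    rw [← hmap] at hy
    obtain ⟨x, hx, rfl⟩ := hy
    rw [← map_inv, ← map_mul, ← map_mul]
    apply hφP
    have ha : (a : Ω) ∈ Subgroup.normalizer (P : Set Ω) := (hAN a.2).2
    exact (Subgroup.mem_normalizer_iff.mp ha _).mp hx
  have hφN : ∀ a : A, φ a ∈ normalizerIn S P := by
    intro a
    rw [mem_normalizerIn]
    refine ⟨hom_mem F hφ a, fun h => ⟨fun hh => hkey a h hh, fun hh => ?_⟩⟩
    have h1 := hkey a⁻¹ _ hh
    have h2 : φ a⁻¹ * (φ a * h * (φ a)⁻¹) * (φ a⁻¹)⁻¹ = h := by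
      rw [map_inv]; group
    rw [h2] at h1
    exact h1
  set ψA : A →* Ω := ψ.comp (Subgroup.inclusion hAN) with hψA
  have hψAF : ψA ∈ F.Hom A := restrict_mem F hAN hψF
  have hψAE : ψA ∈ E.Hom A := restrict_mem E hAN hψE
  set A' := ψA.range with hA'
  obtain ⟨χ, hχF, hχinv, hχr⟩ := inv_mem' F hψAF hA'.symm
  obtain ⟨χ', hχ'E, hχ'inv, -⟩ := inv_mem' E hψAE hA'.symm
  have hχχ' : ∀ y : A', χ y = χ' y := by
    intro y
    obtain ⟨x, hx⟩ := y.2
    rw [hχinv x y hx, hχ'inv x y hx]
  have hχA : ∀ y : A', χ y ∈ A := fun y => hχr.le ⟨y, rfl⟩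
  set φ₁ : A' →* Ω := φ.comp (χ.codRestrict A hχA) with hφ₁
  have hφ₁F : φ₁ ∈ F.Hom A' := F.comp_mem hχF hφ hχA
  have hφ₁N : ∀ y : A', φ₁ y ∈ normalizerIn S P := fun y => hφN _
  set φ' : A' →* Ω := ψ.comp (φ₁.codRestrict (normalizerIn S P) hφ₁N) with hφ'
  have hφ'F : φ' ∈ F.Hom A' := F.comp_mem hφ₁F hψF hφ₁N
  have hψA' : ∀ a : A, ψA a ∈ A' := fun a => ⟨a, rfl⟩
  have hφ'ψ : ∀ a : A, φ' ⟨ψA a, hψA' a⟩ = ψ ⟨φ a, hφN a⟩ := by
    intro a
    have h1 : χ ⟨ψA a, hψA' a⟩ = a := hχinv a ⟨ψA a, hψA' a⟩ rfl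
    show ψ ⟨φ ⟨χ ⟨ψA a, _⟩, _⟩, _⟩ = _
    congr 2
    exact congrArg φ (Subtype.ext h1)
  have hψAP : ∀ x : A, (x : Ω) ∈ P → ψA x ∈ P' := by
    intro x hx
    rw [← hψP]
    exact ⟨Subgroup.inclusion hAN x, hx, rfl⟩
  have hP'A' : P' ≤ A' := by
    rw [← hψP]
    rintro _ ⟨x, hx, rfl⟩
    exact ⟨⟨x, hPA hx⟩, rfl⟩
  have hA'N' : A' ≤ normalizerIn S P' := by
    rintro _ ⟨x, rfl⟩
    exact hψN _
  have hmap' : (P'.subgroupOf A').map φ' = P' := by
    ext z
    constructor
    · rintro ⟨y, hy, rfl⟩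
      obtain ⟨a, ha⟩ := y.2
      have hyP' : (y : Ω) ∈ P' := hy
      rw [← hψP] at hyP'
      obtain ⟨x, hx, hxy⟩ := hyP'
      have hax : (a : Ω) = x := by
        have h1 : ψ (Subgroup.inclusion hAN a) = ψ x := by
          rw [hxy]; exact ha
        have h2 := F.injective_of_mem hψF h1
        exact congrArg (fun t : normalizerIn S P => (t : Ω)) h2
      have haP : (a : Ω) ∈ P := by rw [hax]; exact hx
      have e : y = ⟨ψA a, hψA' a⟩ := Subtype.ext ha.symm
      rw [e, hφ'ψ, ← hψP]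
      exact ⟨⟨φ a, hφN a⟩, hφP a haP, rfl⟩
    · intro hz
      rw [← hψP] at hz
      obtain ⟨w, hw, rfl⟩ := hz
      have hw' : (w : Ω) ∈ (P.subgroupOf A).map φ := by rw [hmap]; exact hw
      obtain ⟨x, hx, hxw⟩ := hw'
      refine ⟨⟨ψA x, hψA' x⟩, hψAP x hx, ?_⟩
      rw [hφ'ψ]
      congr 1
      exact Subtype.ext hxw
  have hφ'E : φ' ∈ E.Hom A' := h' A' φ' hφ'F hP'A' hA'N' hmap'
  obtain ⟨ψi, hψiE, hψiinv, -⟩ := inv_mem' E hψE rfl
  have hφ'R : ∀ y : A', φ' y ∈ ψ.range := fun y => ⟨_, rfl⟩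
  have h1 : (φ'.comp (ψA.codRestrict A' hψA')) ∈ E.Hom A := E.comp_mem hψAE hφ'E hψA'
  have h1R : ∀ a : A, (φ'.comp (ψA.codRestrict A' hψA')) a ∈ ψ.range := fun a => hφ'R _
  have h2 := E.comp_mem h1 hψiE h1R
  refine hom_congr E h2 (fun a => ?_)
  symm
  apply hψiinv ⟨φ a, hφN a⟩
  exact (hφ'ψ a).symm

variable {p : ℕ} [Fact p.Prime]

omit [Fact p.Prime] in
/-- a centric subgroup contains `℧¹(Z(S))` -/
theorem VZ_le_of_isCentric (F : FusionSystem S) {U : Subgroup Ω} (hU : F.IsCentric U) :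
    VZ p S ≤ U := by
  have hUS : U ≤ S := hU.1
  refine (VZ_le_center p S).trans (le_trans ?_ (hU.2 U (isConj_refl F hUS)))
  intro z hz
  exact ⟨hz.1, Subgroup.centralizer_le (by exact_mod_cast hUS) hz.2⟩

omit [Fact p.Prime] in
theorem NK_self {F E : FusionSystem S} {U : Subgroup Ω} (h : NK F E U) (φ : U →* Ω)
    (hφ : φ ∈ F.Hom U) (hr : φ.range = U) : φ ∈ E.Hom U := by
  have hUS : U ≤ S := hom_le F hφ
  apply h U φ hφ le_rfl (le_normalizerIn hUS)
  rw [Subgroup.subgroupOf_self, ← MonoidHom.range_eq_map, hr]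

omit [Fact p.Prime] in
/-- a subgroup conjugate to a normal subgroup of the system equals it -/
theorem eq_of_isNormal_of_isConj [Finite S] (F : FusionSystem S) {P P' : Subgroup Ω}
    (hn : F.IsNormal P') (hconj : F.IsConj P P') : P = P' := by
  have hsc : F.StronglyClosed P' := Cfsg.Agent.Lib.Helper90.IsNormal.stronglyClosed F hn
  obtain ⟨ψ, hψ, hψr⟩ := isConj_symm F hconj
  have hP'S : P' ≤ S := hn.1
  have : Finite P' := finite_of_le hP'S
  apply Subgroup.eq_of_le_of_card_ge
  · rw [← hψr]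
    rintro _ ⟨x, rfl⟩
    exact hsc.2 P' le_rfl ψ hψ x
  · exact (Cfsg.Agent.Lib.Helper89.isConj_card_eq F hconj).le

set_option maxHeartbeats 1000000 in
/-- the main claim in the case where no normal subgroup of `F` contains `℧¹(Z(S))` -/
theorem claim_A [Finite S] (hS : IsPGroup p S) (F : FusionSystem S) (hF : F.IsSaturated p)
    (E : FusionSystem S) (hC : HC F E (VZ p S)) (hN : NK F E (thompsonSubgroupAOf S))
    (IH : IHyp p Ω (morSet F).ncard)
    (hA : ∀ Q, F.IsNormal Q → ¬ VZ p S ≤ Q) :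
    ∀ k : ℕ, ∀ P : Subgroup Ω, F.IsFullyNormalized P → ¬ F.IsNormal P →
      Nat.card S - Nat.card (normalizerIn S P) < k → NK F E P := by
  intro k
  induction k with
  | zero => intro P _ _ h; omega
  | succ k ih =>
    intro P hPfn hPnn hk
    have hPS : P ≤ S := hPfn.1
    apply NK_of_IHyp hS F hF E hC IH hPfn hPnn
    by_cases hTS : normalizerIn S P = S
    · intro A φ hφ hJA hAT hmap
      rw [hTS] at hJA hmap
      have hSJ : S ≤ Subgroup.normalizer (thompsonSubgroupAOf S : Set Ω) :=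
        Subgroup.le_normalizer.trans (normalizer_le_normalizer_thompsonAOf S hS)
      have hAS := hom_le F hφ
      exact hN A φ hφ hJA (fun a ha => ⟨hAS ha, hSJ (hAS ha)⟩) hmap
    · have hTleS : normalizerIn S P ≤ S := normalizerIn_le S P
      have hfinT : Finite (normalizerIn S P) := finite_of_le hTleS
      have hTp : IsPGroup p (normalizerIn S P) := hS.to_le hTleS
      have hP₁T : thompsonSubgroupAOf (normalizerIn S P) ≤ normalizerIn S P :=
        Cfsg.Agent.Lib.Helper53.thompsonAOf_le _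
      have hP₁S : thompsonSubgroupAOf (normalizerIn S P) ≤ S := hP₁T.trans hTleS
      obtain ⟨g, hgN, hgT⟩ := Cfsg.Agent.Lib.Helper89.exists_mem_normalizerIn_not_mem hS hTleS hTS
      have hNT : normalizerIn S (normalizerIn S P) ≤
          normalizerIn S (thompsonSubgroupAOf (normalizerIn S P)) :=
        fun x hx => ⟨hx.1, normalizer_le_normalizer_thompsonAOf (normalizerIn S P) hTp hx.2⟩
      have hTNT : normalizerIn S P ≤ normalizerIn S (normalizerIn S P) := le_normalizerIn hTleS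
      have hfinNT : Finite (normalizerIn S (normalizerIn S P)) :=
        finite_of_le (normalizerIn_le S _)
      have hfinNJ : Finite (normalizerIn S (thompsonSubgroupAOf (normalizerIn S P))) :=
        finite_of_le (normalizerIn_le S _)
      have hcardlt : Nat.card (normalizerIn S P) <
          Nat.card (normalizerIn S (thompsonSubgroupAOf (normalizerIn S P))) := by
        have hlt : Nat.card (normalizerIn S P) < Nat.card (normalizerIn S (normalizerIn S P)) := by
          by_contra hcon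
          have heq := Subgroup.eq_of_le_of_card_ge hTNT (not_lt.mp hcon)
          apply hgT
          rw [heq]
          exact hgN
        exact lt_of_lt_of_le hlt (card_le_of_le hNT)
      obtain ⟨P₁', hconj, hP₁'fn⟩ := exists_isFullyNormalized F hP₁S
      have hcard' : Nat.card (normalizerIn S (thompsonSubgroupAOf (normalizerIn S P))) ≤
          Nat.card (normalizerIn S P₁') := hP₁'fn.2 _ (isConj_symm F hconj)
      have hP₁'nn : ¬ F.IsNormal P₁' := by
        intro hn
        have heq := eq_of_isNormal_of_isConj F hn hconj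
        apply hA P₁' hn
        rw [← heq]
        refine (VZ_le_center p S).trans ?_
        refine le_trans ?_ (center_le_thompsonAOf (normalizerIn S P))
        intro z hz
        exact ⟨center_le_normalizerIn P hPS hz,
          Subgroup.centralizer_le (by exact_mod_cast hTleS) hz.2⟩
      have hd : ∀ U : Subgroup Ω, Nat.card (normalizerIn S P) < Nat.card (normalizerIn S U) →
          Nat.card S - Nat.card (normalizerIn S U) < k := by
        intro U hU
        have := card_le_of_le (normalizerIn_le S U)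
        omega
      have hNK' : NK F E P₁' := ih P₁' hP₁'fn hP₁'nn (hd P₁' (lt_of_lt_of_le hcardlt hcard'))
      obtain ⟨hfc, hfa⟩ := fullyNormalized_props p hS F hF P₁' hP₁'fn
      have hrec := isReceptive_of_isFullyCentralized p hS F hF P₁' hfc
      obtain ⟨ψ, hψF, hψN, hψP, -⟩ := exists_normalizer_hom p hS F P₁' _ hfa hrec hconj
      have hψE : ψ ∈ E.Hom (normalizerIn S (thompsonSubgroupAOf (normalizerIn S P))) := by
        apply alp_thr p hS F hF E (Nat.card (normalizerIn S P)) ?_ _ hcardlt hψF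
        intro U hUfn hUc hU φ hφ hr
        have hUnn : ¬ F.IsNormal U := fun hn => hA U hn (VZ_le_of_isCentric F hUc)
        have hUS : U ≤ S := hUfn.1
        have hfinNU : Finite (normalizerIn S U) := finite_of_le (normalizerIn_le S U)
        have : Nat.card U ≤ Nat.card (normalizerIn S U) := card_le_of_le (le_normalizerIn hUS)
        exact NK_self (ih U hUfn hUnn (hd U (by omega))) φ hφ hr
      have hNK₁ : NK F E (thompsonSubgroupAOf (normalizerIn S P)) :=
        NK_transport F E ψ hψF hψE hψN hψP hNK'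
      intro A φ hφ hJA hAT hmap
      exact hNK₁ A φ hφ hJA (hAT.trans (hTNT.trans hNT)) hmap

/-- the generation theorem when no normal subgroup of `F` contains `℧¹(Z(S))` -/
theorem case_A [Finite S] (hS : IsPGroup p S) (F : FusionSystem S) (hF : F.IsSaturated p)
    (E : FusionSystem S) (hC : HC F E (VZ p S)) (hN : NK F E (thompsonSubgroupAOf S))
    (IH : IHyp p Ω (morSet F).ncard)
    (hA : ∀ Q, F.IsNormal Q → ¬ VZ p S ≤ Q) : F ≤ E := by
  have claim := claim_A hS F hF E hC hN IH hA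
  apply alp_ind p hS F hF E
  intro U hUfn hUc _ φ hφ hr
  have hUnn : ¬ F.IsNormal U := fun hn => hA U hn (VZ_le_of_isCentric F hUc)
  exact NK_self (claim (Nat.card S + 1) U hUfn hUnn (by omega)) φ hφ hr

/-- **The generation theorem** (`F` is generated by `C_F(℧¹(Z(S)))` and `N_F(J(S))`), in `IHyp` form. -/
theorem gen_thm (p : ℕ) [Fact p.Prime] (Ω : Type u) [Group Ω] : ∀ n, IHyp p Ω n := by
  intro n
  induction n using Nat.strong_induction_on with
  | _ n ih =>
    intro S _ hS F hF hlt E hC hN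
    have IH : IHyp p Ω (morSet F).ncard := ih _ hlt
    by_cases h : ∃ Q, F.IsNormal Q ∧ VZ p S ≤ Q
    · obtain ⟨Q, hQ, hVQ⟩ := h
      exact normal_case hS F hF E hC hQ hVQ (NK_sup_centralizerIn hS F hF E hC hN IH hQ)
    · exact case_A hS F hF E hC hN IH (fun Q hQ hV => h ⟨Q, hQ, hV⟩)

/-- **The generation theorem.** -/
theorem gen_thm' [Finite S] (hS : IsPGroup p S) (F : FusionSystem S) (hF : F.IsSaturated p)
    (E : FusionSystem S) (hC : HC F E (VZ p S)) (hN : NK F E (thompsonSubgroupAOf S)) : F ≤ E :=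
  gen_thm p Ω ((morSet F).ncard + 1) S hS F hF (Nat.lt_succ_self _) E hC hN

omit [Fact p.Prime] in
/-- the hypothesis `HC` from a centralizer system contained in `E` -/
theorem HC_of_subsystem (F E : FusionSystem S) {V : Subgroup Ω}
    (hV : V ≤ S ⊓ Subgroup.centralizer (S : Set Ω))
    (C : FusionSystem (centralizerIn S V)) (hC : F.IsCentralizerSystem V C)
    (hCE : C.IsSubsystemOf E) : HC F E V := by
  intro A φ hφ hVA hfix
  have hcen : ∀ s ∈ S, s ∈ centralizerIn S V := by
    intro s hs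
    have h2 : s ∈ Subgroup.centralizer (V : Set Ω) := by
      rw [Subgroup.mem_centralizer_iff]
      intro v hv
      exact (Subgroup.mem_centralizer_iff.mp (hV hv).2 s hs).symm
    exact ⟨hs, h2⟩
  apply hCE A
  rw [hC A]
  have hAS : A ≤ S := hom_le F hφ
  have hsup : A ⊔ V = A := sup_eq_left.mpr hVA
  refine ⟨hφ, fun a ha => hcen a (hAS ha), fun x => hcen _ (hom_mem F hφ x), ?_⟩
  refine ⟨φ.comp (Subgroup.inclusion hsup.le), cast_mem F hsup hφ, fun x => ?_, fun x => ?_⟩
  · exact congrArg φ (Subtype.ext rfl)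
  · exact hfix _ x.2

omit [Fact p.Prime] in
/-- the hypothesis `NK` from a normalizer system contained in `E` -/
theorem NK_of_subsystem (F E : FusionSystem S) {P : Subgroup Ω}
    (N : FusionSystem (normalizerIn S P)) (hN : F.IsNormalizerSystem P N)
    (hNE : N.IsSubsystemOf E) : NK F E P := by
  intro A φ hφ hPA hAN hmap
  apply hNE A
  rw [hN A]
  exact mem_normalizerHom_of_le F hφ hPA hAN hmap

end Cfsg.Agent.Lib.Helper27.FusGen
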