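import Mathlib
import Cfsg.Agent.Lib.Helper27.FusClB
import Cfsg.Agent.Lib.Helper27.FusGenA

/-!
# Class version of the generation theorem: the remaining case and the main theorem

If `S` has class at most `n(p-1)+1`, every fusion system `E` over `S` containing the maps of the saturated
system `F` that fix `℧ⁿ(Z(S))` elementwise and the `F`-automorphisms of `S` contains `F`.
Consequently `℧ⁿ(Z(S))` is normal in `F`.
-/

set_option autoImplicit false

namespace Cfsg.Agent.Lib.Helper27.FusCl

open Cfsg Cfsg.FusionSystem Cfsg.Agent.Lib.Helper87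
open Cfsg.Agent.Lib.Helper90.GT (morSet morSet_finite mem_normalizerHom_of_le)
open Cfsg.Agent.Lib.Helper27.FusGen

universe u

variable {Ω : Type u} [Group Ω] {S : Subgroup Ω} {p : ℕ} [Fact p.Prime]

omit [Fact p.Prime] in
/-- a centric subgroup contains `℧ⁿ(Z(S))` -/
theorem VZn_le_of_isCentric (n : ℕ) (F : FusionSystem S) {U : Subgroup Ω} (hU : F.IsCentric U) :
    VZn p n S ≤ U := by
  have hUS : U ≤ S := hU.1
  refine (VZn_le_center p n S).trans (le_trans ?_ (hU.2 U (isConj_refl F hUS)))
  intro z hz
  exact ⟨hz.1, Subgroup.centralizer_le (by exact_mod_cast hUS) hz.2⟩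

set_option maxHeartbeats 1000000 in
/-- the main claim in the case where no normal subgroup of `F` contains `℧ⁿ(Z(S))` -/
theorem claim_A_n [Finite S] (hS : IsPGroup p S) (F : FusionSystem S) (hF : F.IsSaturated p)
    (n : ℕ) (hcl : S.lowerCentralSeries (n * (p - 1) + 1) = ⊥)
    (E : FusionSystem S) (hC : HC F E (VZn p n S)) (hN : NK F E S)
    (IH : IHypN p n Ω (morSet F).ncard)
    (hA : ∀ Q, F.IsNormal Q → ¬ VZn p n S ≤ Q) :
    ∀ k : ℕ, ∀ P : Subgroup Ω, F.IsFullyNormalized P → ¬ F.IsNormal P →
      Nat.card S - Nat.card (normalizerIn S P) < k → NK F E P := by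
  intro k
  induction k with
  | zero => intro P _ _ h; omega
  | succ k ih =>
    intro P hPfn hPnn hk
    have hPS : P ≤ S := hPfn.1
    apply NK_of_IHypN hS F hF n hcl E hC IH hPfn hPnn
    by_cases hTS : normalizerIn S P = S
    · intro A φ hφ hJA hAT hmap
      rw [hTS] at hJA hmap
      have hAS := hom_le F hφ
      exact hN A φ hφ hJA (fun a ha => le_normalizerIn le_rfl (hAS ha)) hmap
    · have hTleS : normalizerIn S P ≤ S := normalizerIn_le S P
      have hfinT : Finite (normalizerIn S P) := finite_of_le hTleS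
      obtain ⟨g, hgN, hgT⟩ := Cfsg.Agent.Lib.Helper89.exists_mem_normalizerIn_not_mem hS hTleS hTS
      have hTNT : normalizerIn S P ≤ normalizerIn S (normalizerIn S P) := le_normalizerIn hTleS
      have hfinNT : Finite (normalizerIn S (normalizerIn S P)) :=
        finite_of_le (normalizerIn_le S _)
      have hcardlt : Nat.card (normalizerIn S P) <
          Nat.card (normalizerIn S (normalizerIn S P)) := by
        by_contra hcon
        have heq := Subgroup.eq_of_le_of_card_ge hTNT (not_lt.mp hcon)
        apply hgT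
        rw [heq]
        exact hgN
      obtain ⟨P₁', hconj, hP₁'fn⟩ := exists_isFullyNormalized F hTleS
      have hcard' : Nat.card (normalizerIn S (normalizerIn S P)) ≤
          Nat.card (normalizerIn S P₁') := hP₁'fn.2 _ (isConj_symm F hconj)
      have hP₁'nn : ¬ F.IsNormal P₁' := by
        intro hn
        have heq := eq_of_isNormal_of_isConj F hn hconj
        apply hA P₁' hn
        rw [← heq]
        exact (VZn_le_center p n S).trans (center_le_normalizerIn P hPS)
      have hd : ∀ U : Subgroup Ω, Nat.card (normalizerIn S P) < Nat.card (normalizerIn S U) →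
          Nat.card S - Nat.card (normalizerIn S U) < k := by
        intro U hU
        have := card_le_of_le (normalizerIn_le S U)
        omega
      have hNK' : NK F E P₁' := ih P₁' hP₁'fn hP₁'nn (hd P₁' (lt_of_lt_of_le hcardlt hcard'))
      obtain ⟨hfc, hfa⟩ := fullyNormalized_props p hS F hF P₁' hP₁'fn
      have hrec := isReceptive_of_isFullyCentralized p hS F hF P₁' hfc
      obtain ⟨ψ, hψF, hψN, hψP, -⟩ := exists_normalizer_hom p hS F P₁' _ hfa hrec hconj
      have hψE : ψ ∈ E.Hom (normalizerIn S (normalizerIn S P)) := by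
        apply alp_thr p hS F hF E (Nat.card (normalizerIn S P)) ?_ _ hcardlt hψF
        intro U hUfn hUc hU φ hφ hr
        have hUnn : ¬ F.IsNormal U := fun hn => hA U hn (VZn_le_of_isCentric n F hUc)
        have hUS : U ≤ S := hUfn.1
        have hfinNU : Finite (normalizerIn S U) := finite_of_le (normalizerIn_le S U)
        have : Nat.card U ≤ Nat.card (normalizerIn S U) := card_le_of_le (le_normalizerIn hUS)
        exact NK_self (ih U hUfn hUnn (hd U (by omega))) φ hφ hr
      have hNK₁ : NK F E (normalizerIn S P) :=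
        NK_transport F E ψ hψF hψE hψN hψP hNK'
      intro A φ hφ hJA hAT hmap
      exact hNK₁ A φ hφ hJA (hAT.trans hTNT) hmap

/-- the class version when no normal subgroup of `F` contains `℧ⁿ(Z(S))` -/
theorem case_A_n [Finite S] (hS : IsPGroup p S) (F : FusionSystem S) (hF : F.IsSaturated p)
    (n : ℕ) (hcl : S.lowerCentralSeries (n * (p - 1) + 1) = ⊥)
    (E : FusionSystem S) (hC : HC F E (VZn p n S)) (hN : NK F E S)
    (IH : IHypN p n Ω (morSet F).ncard)
    (hA : ∀ Q, F.IsNormal Q → ¬ VZn p n S ≤ Q) : F ≤ E := by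
  have claim := claim_A_n hS F hF n hcl E hC hN IH hA
  apply alp_ind p hS F hF E
  intro U hUfn hUc _ φ hφ hr
  have hUnn : ¬ F.IsNormal U := fun hn => hA U hn (VZn_le_of_isCentric n F hUc)
  exact NK_self (claim (Nat.card S + 1) U hUfn hUnn (by omega)) φ hφ hr

/-- **The class version of the generation theorem**, in `IHypN` form. -/
theorem gen_thm_n (p : ℕ) [Fact p.Prime] (n : ℕ) (Ω : Type u) [Group Ω] : ∀ k, IHypN p n Ω k := by
  intro k
  induction k using Nat.strong_induction_on with
  | _ k ih =>
    intro S _ hS hcl F hF hlt E hC hN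
    have IH : IHypN p n Ω (morSet F).ncard := ih _ hlt
    by_cases h : ∃ Q, F.IsNormal Q ∧ VZn p n S ≤ Q
    · obtain ⟨Q, hQ, hVQ⟩ := h
      exact normal_case_gen hS F hF E (VZn_le_center p n S) hC hQ hVQ
        (NK_sup_centralizerIn_n hS F hF n hcl E hC hN IH hQ)
    · exact case_A_n hS F hF n hcl E hC hN IH (fun Q hQ hV => h ⟨Q, hQ, hV⟩)

/-- **The class version of the generation theorem.** -/
theorem gen_thm_n' [Finite S] (hS : IsPGroup p S) (F : FusionSystem S) (hF : F.IsSaturated p)
    (n : ℕ) (hcl : S.lowerCentralSeries (n * (p - 1) + 1) = ⊥)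
    (E : FusionSystem S) (hC : HC F E (VZn p n S)) (hN : NK F E S) : F ≤ E :=
  gen_thm_n p n Ω ((morSet F).ncard + 1) S hS hcl F hF (Nat.lt_succ_self _) E hC hN

end Cfsg.Agent.Lib.Helper27.FusCl
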