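import Mathlib
import Cfsg.Agent.Lib.Helper27.FusClA

/-!
# `℧ⁿ(Z(S))` is normal in every saturated fusion system over `S` when `S` has class at most `n(p-1)+1`
-/

set_option autoImplicit false

namespace Cfsg.Agent.Lib.Helper27.FusCl

open Cfsg Cfsg.FusionSystem Cfsg.Agent.Lib.Helper87
open Cfsg.Agent.Lib.Helper90.GT (mem_normalizerHom_of_le)
open Cfsg.Agent.Lib.Helper27.FusGen

universe u

variable {Ω : Type u} [Group Ω] {S : Subgroup Ω}

/-- transport of a fusion system along an equality of the underlying subgroups -/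
def castSystem {T S : Subgroup Ω} (h : T = S) (N : FusionSystem T) : FusionSystem S := h ▸ N

theorem castSystem_hom {T S : Subgroup Ω} (h : T = S) (N : FusionSystem T) (A : Subgroup Ω) :
    (castSystem h N).Hom A = N.Hom A := by
  subst h
  rfl

/-- `S` normalizes every subgroup of its centre -/
theorem normalizerIn_eq_of_le_center {V : Subgroup Ω}
    (hV : V ≤ S ⊓ Subgroup.centralizer (S : Set Ω)) : normalizerIn S V = S := by
  apply le_antisymm (normalizerIn_le S V)
  intro s hs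
  rw [mem_normalizerIn]
  refine ⟨hs, fun h => ?_⟩
  have hc : ∀ y ∈ V, s * y * s⁻¹ = y := by
    intro y hy
    have := Subgroup.mem_centralizer_iff.mp (hV hy).2 s hs
    rw [this]; group
  constructor
  · intro hh; rw [hc h hh]; exact hh
  · intro hh
    have h2 := hc _ hh
    have h3 : s * h * s⁻¹ = h := by
      have h4 : s * h * s⁻¹ = s⁻¹ * (s * (s * h * s⁻¹) * s⁻¹) * s := by group
      rw [h4, h2]; group
    rw [← h3]; exact hh

/-- an `F`-automorphism of `S` maps `℧ⁿ(Z(S))` onto itself -/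
theorem map_VZn_self [Finite S] (F : FusionSystem S) (p n : ℕ) {A : Subgroup Ω} {φ : A →* Ω}
    (hφ : φ ∈ F.Hom A) (hSA : S ≤ A) :
    ((VZn p n S).subgroupOf A).map φ = VZn p n S := by
  have hAS : A ≤ S := hom_le F hφ
  have hfinA : Finite A := finite_of_le hAS
  have hVS : VZn p n S ≤ S := (VZn_le_center p n S).trans inf_le_left
  have hVA : VZn p n S ≤ A := hVS.trans hSA
  have hfinV : Finite (VZn p n S) := finite_of_le hVS
  have hinj := F.injective_of_mem hφ
  -- φ is onto S
  have hsurj : ∀ s ∈ S, ∃ a : A, φ a = s := by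
    have hr : φ.range = S := by
      apply Subgroup.eq_of_le_of_card_ge
      · rintro _ ⟨a, rfl⟩
        exact hom_mem F hφ a
      · rw [Cfsg.Agent.Lib.Helper89.card_range_eq F hφ]
        exact card_le_of_le hSA
    intro s hs
    rw [← hr] at hs
    exact hs
  have hZ : ∀ z : A, (z : Ω) ∈ S ⊓ Subgroup.centralizer (S : Set Ω) →
      φ z ∈ S ⊓ Subgroup.centralizer (S : Set Ω) := by
    intro z hz
    have h2 : φ z ∈ Subgroup.centralizer (S : Set Ω) := by
      rw [Subgroup.mem_centralizer_iff]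
      intro s hs
      obtain ⟨a, rfl⟩ := hsurj s hs
      rw [← map_mul, ← map_mul]
      congr 1
      apply Subtype.ext
      exact Subgroup.mem_centralizer_iff.mp hz.2 a (hAS a.2)
    exact ⟨hom_mem F hφ z, h2⟩
  have key : ∀ v (hv : v ∈ VZn p n S), φ ⟨v, hVA hv⟩ ∈ VZn p n S := by
    intro v hv
    unfold VZn powerClosure at hv
    induction hv using Subgroup.closure_induction with
    | mem y hy =>
      obtain ⟨x, hx, rfl⟩ := hy
      have hxA : x ∈ A := hSA hx.1
      have e : (⟨x ^ p ^ n, hVA (Subgroup.subset_closure ⟨x, hx, rfl⟩)⟩ : A) = ⟨x, hxA⟩ ^ p ^ n := rfl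
      rw [e, map_pow]
      exact Subgroup.subset_closure ⟨φ ⟨x, hxA⟩, hZ ⟨x, hxA⟩ hx, rfl⟩
    | one =>
      have e : (⟨1, hVA (Subgroup.one_mem _)⟩ : A) = 1 := rfl
      rw [e, map_one]; exact Subgroup.one_mem _
    | mul a b ha hb iha ihb =>
      have e : (⟨a * b, hVA (Subgroup.mul_mem _ ha hb)⟩ : A) = ⟨a, hVA ha⟩ * ⟨b, hVA hb⟩ := rfl
      rw [e, map_mul]; exact Subgroup.mul_mem _ iha ihb
    | inv a ha iha =>
      have e : (⟨a⁻¹, hVA (Subgroup.inv_mem _ ha)⟩ : A) = ⟨a, hVA ha⟩⁻¹ := rfl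
      rw [e, map_inv]; exact Subgroup.inv_mem _ iha
  have hsub : ((VZn p n S).subgroupOf A).map φ ≤ VZn p n S := by
    rintro _ ⟨a, ha, rfl⟩
    exact key a ha
  apply Subgroup.eq_of_le_of_card_ge hsub
  rw [Subgroup.card_map_of_injective hinj]
  exact (Nat.card_congr (Subgroup.subgroupOfEquivOfLe hVA).toEquiv).ge

variable {p : ℕ} [Fact p.Prime]

/-- **`℧ⁿ(Z(S))` is normal in `F`** when `S` has class at most `n(p-1)+1`. -/
theorem isNormal_VZn [Finite S] (hS : IsPGroup p S) (F : FusionSystem S) (hF : F.IsSaturated p)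
    (n : ℕ) (hcl : S.lowerCentralSeries (n * (p - 1) + 1) = ⊥) : F.IsNormal (VZn p n S) := by
  have hVZ : VZn p n S ≤ S ⊓ Subgroup.centralizer (S : Set Ω) := VZn_le_center p n S
  have hVS : VZn p n S ≤ S := hVZ.trans inf_le_left
  have hNS : normalizerIn S (VZn p n S) = S := normalizerIn_eq_of_le_center hVZ
  set E : FusionSystem S := castSystem hNS (normalizerSystem F (VZn p n S) hVS) with hE
  have hEhom : ∀ A : Subgroup Ω, E.Hom A = F.normalizerHom (VZn p n S) A := by
    intro A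
    rw [hE, castSystem_hom]
    rfl
  have hC : HC F E (VZn p n S) := by
    intro A φ hφ hVA hfix
    rw [hEhom]
    have hAS : A ≤ S := hom_le F hφ
    apply mem_normalizerHom_of_le F hφ hVA (by rw [hNS]; exact hAS)
    ext y
    constructor
    · rintro ⟨a, ha, rfl⟩
      have ha' : (a : Ω) ∈ VZn p n S := Subgroup.mem_subgroupOf.mp ha
      rw [hfix a ha']
      exact ha'
    · intro hy
      exact ⟨⟨y, hVA hy⟩, Subgroup.mem_subgroupOf.mpr hy, hfix ⟨y, hVA hy⟩ hy⟩
  have hN : NK F E S := by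
    intro A φ hφ hSA _ _
    rw [hEhom]
    have hAS : A ≤ S := hom_le F hφ
    exact mem_normalizerHom_of_le F hφ (hVS.trans hSA) (by rw [hNS]; exact hAS)
      (map_VZn_self F p n hφ hSA)
  have hle := gen_thm_n' hS F hF n hcl E hC hN
  refine ⟨hVS, fun A φ hφ => ?_⟩
  have h1 : φ ∈ E.Hom A := hle A hφ
  rw [hEhom] at h1
  obtain ⟨-, -, -, ψ, hψ, hext, hmap⟩ := h1
  exact ⟨ψ, hψ, hext, hmap⟩

end Cfsg.Agent.Lib.Helper27.FusCl
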