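import Mathlib
import Cfsg.Agent.Lib.Helper27.FusClMain

/-!
# Exponent of a nilpotent group in terms of the exponent of its centre, and the exponent bound for
fusion systems without normal subgroups
-/

set_option autoImplicit false

namespace Cfsg.Agent.Lib.Helper27.FusCl

open Cfsg Cfsg.FusionSystem Cfsg.Agent.Lib.Helper87
open Cfsg.Agent.Lib.Helper53.WC (conj_pow_eq_of_comm)
open scoped commutatorElement

universe u

section Exponent

variable {H : Type*} [Group H]

/-- If `Z(H)` has exponent dividing `e`, then so has every factor of the upper central series. -/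
theorem pow_mem_upperCentralSeries (e : ℕ) (he : ∀ z ∈ Subgroup.center H, z ^ e = 1) :
    ∀ i : ℕ, ∀ x ∈ Subgroup.upperCentralSeries H (i + 1), x ^ e ∈ Subgroup.upperCentralSeries H i := by
  intro i
  induction i with
  | zero =>
    intro x hx
    rw [Subgroup.upperCentralSeries_one] at hx
    rw [Subgroup.upperCentralSeries_zero, Subgroup.mem_bot]
    exact he x hx
  | succ i ih =>
    intro x hx
    rw [Subgroup.mem_upperCentralSeries_succ_iff] at hx ⊢
    intro g
    set N := Subgroup.upperCentralSeries H i with hN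
    have hc : ⁅x, g⁆ ∈ Subgroup.upperCentralSeries H (i + 1) := hx g
    have hce : ⁅x, g⁆ ^ e ∈ N := ih _ hc
    have hcx : ⁅⁅x, g⁆, x⁆ ∈ N := Subgroup.mem_upperCentralSeries_succ_iff.mp hc x
    set X : H ⧸ N := QuotientGroup.mk' N x with hX
    set Y : H ⧸ N := QuotientGroup.mk' N g with hY
    set C : H ⧸ N := QuotientGroup.mk' N ⁅x, g⁆ with hC
    have hCdef : C = X * Y * X⁻¹ * Y⁻¹ := by
      rw [hC, hX, hY, commutatorElement_def, map_mul, map_mul, map_mul, map_inv, map_inv]
    have hCe : C ^ e = 1 := by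
      rw [hC, ← map_pow]
      exact (QuotientGroup.eq_one_iff _).mpr hce
    have hCX : X * C = C * X := by
      have h1 : QuotientGroup.mk' N ⁅⁅x, g⁆, x⁆ = 1 := (QuotientGroup.eq_one_iff _).mpr hcx
      rw [commutatorElement_def, map_mul, map_mul, map_mul, map_inv, map_inv] at h1
      have h2 : C * X * C⁻¹ * X⁻¹ = 1 := h1
      calc X * C = (C * X * C⁻¹ * X⁻¹)⁻¹ * (C * X) := by group
        _ = C * X := by rw [h2]; group
    have hconj : X * Y * X⁻¹ = C * Y := by rw [hCdef]; group
    have h3 := conj_pow_eq_of_comm hconj hCX e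
    rw [hCe, one_mul] at h3
    have h4 : QuotientGroup.mk' N ⁅x ^ e, g⁆ = 1 := by
      rw [commutatorElement_def, map_mul, map_mul, map_mul, map_inv, map_inv, map_pow]
      show X ^ e * Y * (X ^ e)⁻¹ * Y⁻¹ = 1
      rw [h3]; group
    exact (QuotientGroup.eq_one_iff _).mp h4

theorem pow_pow_eq_one_of_mem_upperCentralSeries (e : ℕ)
    (he : ∀ z ∈ Subgroup.center H, z ^ e = 1) :
    ∀ k : ℕ, ∀ x ∈ Subgroup.upperCentralSeries H k, x ^ (e ^ k) = 1 := by
  intro k
  induction k with
  | zero =>
    intro x hx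
    rw [Subgroup.upperCentralSeries_zero, Subgroup.mem_bot] at hx
    rw [hx, one_pow]
  | succ k ih =>
    intro x hx
    rw [pow_succ', pow_mul]
    exact ih _ (pow_mem_upperCentralSeries e he k x hx)

/-- A group of class at most `c` whose centre has exponent dividing `e` has exponent dividing `e^c`. -/
theorem exponent_dvd_of_center (e c : ℕ) (he : ∀ z ∈ Subgroup.center H, z ^ e = 1)
    (hc : (⊤ : Subgroup H).lowerCentralSeries c = ⊥) : Monoid.exponent H ∣ e ^ c := by
  rw [Subgroup.lowerCentralSeries_eq_bot_iff_upperCentralSeries_eq_top] at hc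
  apply Monoid.exponent_dvd_of_forall_pow_eq_one
  intro x
  apply pow_pow_eq_one_of_mem_upperCentralSeries e he c x
  rw [hc]; exact Subgroup.mem_top x

end Exponent

variable {Ω : Type u} [Group Ω] {S : Subgroup Ω} {p : ℕ} [Fact p.Prime]

omit [Fact p.Prime] in
theorem lcs_top_eq_bot {c : ℕ} (hcl : S.lowerCentralSeries c = ⊥) :
    (⊤ : Subgroup S).lowerCentralSeries c = ⊥ := by
  have h := Subgroup.top_subtype_lowerCentralSeries S c
  rw [hcl] at h
  exact (Subgroup.map_eq_bot_iff_of_injective _ (Subgroup.subtype_injective S)).mp h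

/-- **Exponent bound**: class at most `n(p-1)+1` and `O_p(F) = 1` force exponent dividing
`p^(n²(p-1)+n)`. -/
theorem exponent_dvd_of_core_eq_bot [Finite S] (hS : IsPGroup p S) (F : FusionSystem S)
    (hF : F.IsSaturated p) (n : ℕ) (hcl : S.lowerCentralSeries (n * (p - 1) + 1) = ⊥)
    (hcore : F.core = ⊥) : Monoid.exponent ↥S ∣ p ^ (n ^ 2 * (p - 1) + n) := by
  have hnorm := isNormal_VZn hS F hF n hcl
  have hV : VZn p n S = ⊥ := by
    apply le_bot_iff.mp
    rw [← hcore]
    exact le_sSup hnorm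
  have he : ∀ z ∈ Subgroup.center ↥S, z ^ (p ^ n) = 1 := by
    intro z hz
    have hzZ : (z : Ω) ∈ S ⊓ Subgroup.centralizer (S : Set Ω) := by
      have h2 : (z : Ω) ∈ Subgroup.centralizer (S : Set Ω) := by
        rw [Subgroup.mem_centralizer_iff]
        intro s hs
        have := Subgroup.mem_center_iff.mp hz ⟨s, hs⟩
        exact congrArg Subtype.val this
      exact ⟨z.2, h2⟩
    have h1 : (z : Ω) ^ p ^ n ∈ VZn p n S := Subgroup.subset_closure ⟨z, hzZ, rfl⟩
    rw [hV, Subgroup.mem_bot] at h1
    apply Subtype.ext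
    rw [Subgroup.coe_pow, h1]
    rfl
  have h2 := exponent_dvd_of_center (p ^ n) (n * (p - 1) + 1) he (lcs_top_eq_bot hcl)
  have e : (p ^ n) ^ (n * (p - 1) + 1) = p ^ (n ^ 2 * (p - 1) + n) := by
    rw [← pow_mul]
    congr 1
    ring
  rwa [e] at h2

end Cfsg.Agent.Lib.Helper27.FusCl
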