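import Cfsg.Agent.Lib.Helper37.G2InvDefs

/-!
# K-G2I pack (S2177, architect helper37), GLUE core (keystone 217711), helper27:
every involution `prod a6 .. a11` of `U` is `Good`, from the five case leaves (as hypotheses).
-/

set_option autoImplicit false
set_option linter.unusedSectionVars false
set_option linter.unusedVariables false

namespace Cfsg.Agent.Lib.Helper27.G2Inv

open Cfsg.Agent.Lib.Helper37.G2Inv

variable {F : Type*} [Field F] [CharP F 2] {G : Type*} [Group G] (D : UData F G)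

/-- the glue, with the leaves `inv67`, `good_z`, `good_8z`, `good_78z`, `good_68z` as hypotheses -/
theorem good_of_involution_of
    (inv67 : ∀ a6 a7 a8 a9 a10 a11 : F,
      D.prod a6 a7 a8 a9 a10 a11 * D.prod a6 a7 a8 a9 a10 a11 = 1 → a6 * a7 = 0)
    (good_z : ∀ α β γ : F, D.z α β γ ≠ 1 → D.Good (D.z α β γ))
    (good_8z : ∀ s α β γ : F, s ≠ 0 →
      D.x 8 s * D.z α β γ * (D.x 8 s * D.z α β γ) = 1 → D.Good (D.x 8 s * D.z α β γ))
    (good_78z : ∀ t t8 α β γ : F, t ≠ 0 →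
      D.x 7 t * (D.x 8 t8 * D.z α β γ) * (D.x 7 t * (D.x 8 t8 * D.z α β γ)) = 1 →
      D.Good (D.x 7 t * (D.x 8 t8 * D.z α β γ)))
    (good_68z : ∀ s t8 α β γ : F, s ≠ 0 →
      D.x 6 s * (D.x 8 t8 * D.z α β γ) * (D.x 6 s * (D.x 8 t8 * D.z α β γ)) = 1 →
      D.Good (D.x 6 s * (D.x 8 t8 * D.z α β γ)))
    (a6 a7 a8 a9 a10 a11 : F)
    (h : D.prod a6 a7 a8 a9 a10 a11 * D.prod a6 a7 a8 a9 a10 a11 = 1)
    (h1 : D.prod a6 a7 a8 a9 a10 a11 ≠ 1) : D.Good (D.prod a6 a7 a8 a9 a10 a11) := by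
  have h67 := inv67 a6 a7 a8 a9 a10 a11 h
  rw [D.prod_eq] at h h1 ⊢
  by_cases h6 : a6 = 0
  · subst h6
    rw [D.x_zero, one_mul] at h h1 ⊢
    by_cases h7 : a7 = 0
    · subst h7
      rw [D.x_zero, one_mul] at h h1 ⊢
      by_cases h8 : a8 = 0
      · subst h8
        rw [D.x_zero, one_mul] at h h1 ⊢
        exact good_z a9 a10 a11 h1
      · exact good_8z a8 a9 a10 a11 h8 h
    · exact good_78z a7 a8 a9 a10 a11 h7 h
  · have h7 : a7 = 0 := (mul_eq_zero.1 h67).resolve_left h6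
    subst h7
    rw [D.x_zero, one_mul] at h h1 ⊢
    exact good_68z a6 a8 a9 a10 a11 h6 h

end Cfsg.Agent.Lib.Helper27.G2Inv
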