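import Cfsg.Agent.Lib.Helper37.G2InvDefs
import Cfsg.Agent.Lib.Helper27.G2InvGlueCore
import Cfsg.Agent.Lib.Helper82.G2InvI2
import Cfsg.Agent.Lib.Helper54.G2InvB1
import Cfsg.Agent.Lib.Helper96.G2InvB2b
import Cfsg.Agent.Lib.Helper22.G2InvB2a
import Cfsg.Agent.Lib.Helper80.G2InvA

/-!
# K-G2I pack (S2177, architect helper37), GLUE (keystone 217711), helper27:
every involution `prod a6 .. a11` of `U ≤ G₂(q)`, `q` even, is conjugate to `x₁₁(1)` or `x₉(1)`.
-/

set_option autoImplicit false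
set_option linter.unusedSectionVars false
set_option linter.unusedVariables false

namespace Cfsg.Agent.Lib.Helper27.G2Inv

open Cfsg.Agent.Lib.Helper37.G2Inv

variable {F : Type*} [Field F] [CharP F 2] {G : Type*} [Group G] (D : UData F G)

/-- **GLUE** (keystone 217711) -/
theorem good_of_involution (a6 a7 a8 a9 a10 a11 : F)
    (h : D.prod a6 a7 a8 a9 a10 a11 * D.prod a6 a7 a8 a9 a10 a11 = 1)
    (h1 : D.prod a6 a7 a8 a9 a10 a11 ≠ 1) : D.Good (D.prod a6 a7 a8 a9 a10 a11) :=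
  good_of_involution_of D (Cfsg.Agent.Lib.Helper82.G2Inv.inv67 D)
    (Cfsg.Agent.Lib.Helper54.G2Inv.good_z D) (Cfsg.Agent.Lib.Helper96.G2Inv.good_8z D)
    (Cfsg.Agent.Lib.Helper22.G2Inv.good_78z D) (Cfsg.Agent.Lib.Helper80.G2Inv.good_68z D)
    a6 a7 a8 a9 a10 a11 h h1

end Cfsg.Agent.Lib.Helper27.G2Inv
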