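import Mathlib
import Cfsg.Prelude.Def_Solvable
import Cfsg.Prelude.Def_Transfer
import Cfsg.Prelude.Def_CaseTheorems
import Cfsg.Agent.Lib.Helper01.PCore
import Cfsg.Agent.Lib.Helper83.GSDefs

/-! K-GS (S4840) leaf TOP: `exists_action`. -/

set_option autoImplicit false

namespace Cfsg.Agent.Lib.Helper27.GS

open Cfsg.Agent.Lib.Helper83.GS (Good)

universe u

theorem exists_action {G : Type u} [Group G] [Finite G] (p : ℕ) [Fact p.Prime]
    (N : Subgroup G) [N.Normal] (hN1 : N ≠ ⊥)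
    (hconj : ∀ x ∈ N, ∀ y ∈ N, x ≠ 1 → y ≠ 1 → ∃ g : G, g * x * g⁻¹ = y)
    (hsyl : ∀ x ∈ N, x ≠ 1 → ∃ P : Sylow p G, Subgroup.centralizer ({x} : Set G) = P) :
    ∃ ρ : (G ⧸ Cfsg.pCore p G) →* MulAut N, Function.Injective ρ ∧
      (∀ v w : N, v ≠ 1 → w ≠ 1 → ∃ g : G ⧸ Cfsg.pCore p G, ρ g v = w) ∧
      (∀ (g : G ⧸ Cfsg.pCore p G) (v : N), v ≠ 1 → ρ g v = v → ∃ k : ℕ, g ^ (p ^ k) = 1) := by
  classical
  set φ : G →* MulAut N := MulAut.conjNormal with hφ
  have hφapp : ∀ (g : G) (n : N), ((φ g n : N) : G) = g * n * g⁻¹ := fun g n =>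
    MulAut.conjNormal_apply g n
  -- (1) pCore centralizes N
  have hle : Cfsg.pCore p G ≤ φ.ker := by
    intro g hg
    rw [MonoidHom.mem_ker]
    ext n
    rw [hφapp, MulAut.one_apply]
    by_cases hn1 : (n : G) = 1
    · rw [hn1]; group
    · obtain ⟨P, hP⟩ := hsyl n n.2 hn1
      have hgP : g ∈ (P : Subgroup G) := Cfsg.Agent.Lib.Helper01.pCore_le_sylow P hg
      rw [← hP, Subgroup.mem_centralizer_singleton_iff] at hgP
      rw [hgP]; group
  -- (2) ker ≤ pCore
  obtain ⟨x0, hx0N, hx01⟩ : ∃ x ∈ N, x ≠ 1 := by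
    by_contra hcon
    push_neg at hcon
    exact hN1 ((Subgroup.eq_bot_iff_forall N).2 hcon)
  have hker : φ.ker ≤ Cfsg.pCore p G := by
    apply Cfsg.Agent.Lib.Helper01.le_pCore (MonoidHom.normal_ker φ)
    obtain ⟨P, hP⟩ := hsyl x0 hx0N hx01
    refine P.isPGroup'.to_le ?_
    intro g hg
    rw [MonoidHom.mem_ker] at hg
    rw [← hP, Subgroup.mem_centralizer_singleton_iff]
    have h1 := hφapp g ⟨x0, hx0N⟩
    rw [hg, MulAut.one_apply] at h1
    -- h1 : x0 = g * x0 * g⁻¹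
    have h2 : x0 = g * x0 * g⁻¹ := h1
    calc g * x0 = (g * x0 * g⁻¹) * g := by group
      _ = x0 * g := by rw [← h2]
  refine ⟨QuotientGroup.lift (Cfsg.pCore p G) φ hle, ?_, ?_, ?_⟩
  · rw [injective_iff_map_eq_one]
    intro q hq
    induction q using QuotientGroup.induction_on with
    | H g =>
      rw [QuotientGroup.lift_mk] at hq
      rw [QuotientGroup.eq_one_iff]
      exact hker (MonoidHom.mem_ker.2 hq)
  · intro v w hv hw
    have hv' : (v : G) ≠ 1 := fun h => hv (Subtype.ext h)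
    have hw' : (w : G) ≠ 1 := fun h => hw (Subtype.ext h)
    obtain ⟨g, hg⟩ := hconj v v.2 w w.2 hv' hw'
    refine ⟨(g : G ⧸ Cfsg.pCore p G), ?_⟩
    rw [QuotientGroup.lift_mk]
    apply Subtype.ext
    rw [hφapp]; exact hg
  · intro q v hv hq
    induction q using QuotientGroup.induction_on with
    | H g =>
      rw [QuotientGroup.lift_mk] at hq
      have hv' : (v : G) ≠ 1 := fun h => hv (Subtype.ext h)
      obtain ⟨P, hP⟩ := hsyl v v.2 hv'
      have h1 : g * (v : G) * g⁻¹ = v := by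
        rw [← hφapp, hq]
      have hgP : g ∈ (P : Subgroup G) := by
        rw [← hP, Subgroup.mem_centralizer_singleton_iff]
        calc g * (v : G) = (g * v * g⁻¹) * g := by group
          _ = v * g := by rw [h1]
      obtain ⟨k, hk⟩ := P.isPGroup' ⟨g, hgP⟩
      refine ⟨k, ?_⟩
      have hk' : g ^ p ^ k = 1 := by simpa using congrArg Subtype.val hk
      rw [← QuotientGroup.mk_pow, hk', QuotientGroup.mk_one]

end Cfsg.Agent.Lib.Helper27.GS
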