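import Mathlib
import Cfsg.Prelude.Def_Solvable

/-! K-GAG (S4839) leaf G07c: `frattini_involution`. -/

set_option autoImplicit false

namespace Cfsg.Agent.Lib.Helper27.Gag

variable {G : Type*} [Group G] [Finite G]

theorem frattini_involution {p : ℕ} [Fact p.Prime] (hp2 : p ≠ 2) (N : Subgroup G) [N.Normal]
    (hNp : IsPGroup p N) (hcent : Subgroup.centralizer (N : Set G) ≤ N)
    (t : G) (ht : t * t = 1) (ht1 : t ≠ 1)
    (hall : ∀ s : G, s * s = 1 → s ≠ 1 → ∀ n ∈ N, s * n * s⁻¹ = n⁻¹) :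
    Subgroup.centralizer ({t} : Set G) ⊓ N = ⊥ ∧
      ∀ g : G, ∃ n ∈ N, ∃ l ∈ Subgroup.centralizer ({t} : Set G), g = n * l := by
  have hp : p.Prime := Fact.out
  have hoddN : ∀ z ∈ N, Odd (orderOf z) := by
    intro z hz
    obtain ⟨k, hk⟩ := hNp ⟨z, hz⟩
    have h1 : z ^ p ^ k = 1 := by simpa using congrArg Subtype.val hk
    have hd := orderOf_dvd_of_pow_eq_one h1
    obtain ⟨j, -, hj⟩ := (Nat.dvd_prime_pow hp).1 hd
    rw [hj]; exact (hp.odd_of_ne_two hp2).pow
  have htinv : t⁻¹ = t := inv_eq_of_mul_eq_one_right ht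
  refine ⟨?_, ?_⟩
  · rw [Subgroup.eq_bot_iff_forall]
    intro x hx
    obtain ⟨hxc, hxN⟩ := hx
    have h1 : x * t = t * x := Subgroup.mem_centralizer_singleton_iff.1 hxc
    have h2 := hall t ht ht1 x hxN
    have h3 : x = x⁻¹ := by
      calc x = t * x * t⁻¹ := by rw [← h1]; group
        _ = x⁻¹ := h2
    have h4 : x ^ 2 = 1 := by
      rw [pow_two]
      calc x * x = x * x⁻¹ := by rw [← h3]
        _ = 1 := mul_inv_cancel x
    have h5 : orderOf x ∣ 2 := orderOf_dvd_of_pow_eq_one h4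
    have h6 := hoddN x hxN
    have h7 : orderOf x = 1 := by
      rcases (Nat.dvd_prime Nat.prime_two).1 h5 with h | h
      · exact h
      · rw [h] at h6; exact absurd h6 (by decide)
    exact orderOf_eq_one_iff.1 h7
  · intro g
    set s : G := g * t * g⁻¹ with hs_def
    have hs : s * s = 1 := by
      have : s * s = g * (t * t) * g⁻¹ := by rw [hs_def]; group
      rw [this, ht]; group
    have hs1 : s ≠ 1 := by
      intro h
      apply ht1
      have : g * t * g⁻¹ = 1 := h
      exact conj_eq_one_iff.1 this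
    set z : G := t * s with hz_def
    have hzc : z ∈ Subgroup.centralizer (N : Set G) := by
      rw [Subgroup.mem_centralizer_iff]
      intro n hn
      have h1 := hall s hs hs1 n hn
      have h2 := hall t ht ht1 n⁻¹ (N.inv_mem hn)
      rw [inv_inv] at h2
      have h3 : z * n * z⁻¹ = n := by
        calc z * n * z⁻¹ = t * (s * n * s⁻¹) * t⁻¹ := by rw [hz_def]; group
          _ = t * n⁻¹ * t⁻¹ := by rw [h1]
          _ = n := h2
      calc n * z = (z * n * z⁻¹) * z := by rw [h3]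
        _ = z * n := by group
    have hz : z ∈ N := hcent hzc
    obtain ⟨j, hj⟩ := hoddN z hz
    have hzpow : z ^ (2 * j) * z = 1 := by
      rw [← pow_succ, ← hj]; exact pow_orderOf_eq_one z
    have hzinv : z ^ (2 * j) = z⁻¹ := eq_inv_of_mul_eq_one_left hzpow
    set n : G := z ^ j with hn_def
    have hnN : n ∈ N := N.pow_mem hz j
    have hnn : n * n = z⁻¹ := by
      rw [hn_def, ← pow_add, ← two_mul, hzinv]
    have h1 := hall t ht ht1 n hnN
    have hconj : n * t * n⁻¹ = s := by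
      have h2 : t * n⁻¹ * t⁻¹ = n := by
        have := hall t ht ht1 n⁻¹ (N.inv_mem hnN)
        rwa [inv_inv] at this
      have h3 : n * t = t * n⁻¹ := by
        calc n * t = (t * n⁻¹ * t⁻¹) * t := by rw [h2]
          _ = t * n⁻¹ := by group
      calc n * t * n⁻¹ = t * n⁻¹ * n⁻¹ := by rw [h3]
        _ = t * (n * n)⁻¹ := by group
        _ = t * z := by rw [hnn, inv_inv]
        _ = (t * t) * s := by rw [hz_def]; group
        _ = s := by rw [ht, one_mul]
    refine ⟨n, hnN, n⁻¹ * g, ?_, by group⟩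
    rw [Subgroup.mem_centralizer_singleton_iff]
    have h4 : (n⁻¹ * g) * t * (n⁻¹ * g)⁻¹ = t := by
      calc (n⁻¹ * g) * t * (n⁻¹ * g)⁻¹ = n⁻¹ * (g * t * g⁻¹) * n := by group
        _ = n⁻¹ * (n * t * n⁻¹) * n := by rw [hconj]
        _ = t := by group
    calc (n⁻¹ * g) * t = ((n⁻¹ * g) * t * (n⁻¹ * g)⁻¹) * (n⁻¹ * g) := by group
      _ = t * (n⁻¹ * g) := by rw [h4]

end Cfsg.Agent.Lib.Helper27.Gag
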