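import Mathlib

/-! General lemmas: classes of involutions, subgroups of index two. -/

set_option autoImplicit false
set_option linter.style.haveILetI false

namespace Cfsg.Agent.Lib.Helper27

variable {Γ : Type*} [Group Γ]

/-- counting conjugacy classes of involutions via representatives -/
theorem card_involution_classes {k : ℕ} (r : Fin k → Γ) (hr : ∀ i, orderOf (r i) = 2)
    (hinj : ∀ i j, IsConj (r i) (r j) → i = j)
    (hcov : ∀ t : Γ, orderOf t = 2 → ∃ i, IsConj t (r i)) :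
    Nat.card {C : ConjClasses Γ // ∃ t : Γ, orderOf t = 2 ∧ ConjClasses.mk t = C} = k := by
  have e : Fin k ≃ {C : ConjClasses Γ // ∃ t : Γ, orderOf t = 2 ∧ ConjClasses.mk t = C} := by
    refine Equiv.ofBijective (fun i => ⟨ConjClasses.mk (r i), r i, hr i, rfl⟩) ⟨?_, ?_⟩
    · intro i j hij
      have := congrArg Subtype.val hij
      exact hinj i j (ConjClasses.mk_eq_mk_iff_isConj.mp this)
    · rintro ⟨C, t, ht, rfl⟩
      obtain ⟨i, hi⟩ := hcov t ht
      exact ⟨i, Subtype.ext (ConjClasses.mk_eq_mk_iff_isConj.mpr hi.symm)⟩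
  rw [← Nat.card_congr e, Nat.card_eq_fintype_card, Fintype.card_fin]

theorem mem_of_odd_of_index_two {H : Subgroup Γ} (hH : H.index = 2) {g : Γ}
    (hg : Odd (orderOf g)) : g ∈ H := by
  obtain ⟨k, hk⟩ := hg
  have h1 : g ^ (2 * k + 1) = 1 := by rw [← hk]; exact pow_orderOf_eq_one g
  have h2 : g = (g ^ (k + 1)) ^ 2 * (g ^ (2 * k + 1))⁻¹ := by
    rw [← pow_mul, ← zpow_natCast, ← zpow_natCast, ← zpow_neg, ← zpow_add]
    have : (((k + 1) * 2 : ℕ) : ℤ) + -((2 * k + 1 : ℕ) : ℤ) = 1 := by push_cast; ring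
    rw [this, zpow_one]
  rw [h2, h1, inv_one, mul_one]
  exact Subgroup.sq_mem_of_index_two hH _

theorem comm_identity {A : Type*} [CommGroup A] (u a b : A) :
    u ^ 3 = (u * b⁻¹) * (u * a⁻¹) * (u * a * b) := by
  have : (u * b⁻¹) * (u * a⁻¹) * (u * a * b) = u * u * u * (a⁻¹ * a) * (b⁻¹ * b) := by
    ac_rfl
  rw [this]; simp [pow_succ]

/-- an abelian 2-subgroup on which an odd-order element `g ∈ H` acts without fixed points,
with `g³` acting trivially, lies in every subgroup `H` of index two -/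
theorem le_of_index_two_of_fixedPointFree {H : Subgroup Γ} (hH : H.index = 2) (W : Subgroup Γ)
    (hWcomm : ∀ a ∈ W, ∀ b ∈ W, a * b = b * a)
    (hW2 : ∀ a ∈ W, ∃ j : ℕ, a ^ (2 ^ j) = 1)
    {g : Γ} (hgH : g ∈ H) (hgW : ∀ w ∈ W, g * w * g⁻¹ ∈ W)
    (hg3 : ∀ w ∈ W, g ^ 3 * w * (g ^ 3)⁻¹ = w)
    (hfix : ∀ w ∈ W, g * w * g⁻¹ = w → w = 1) : W ≤ H := by
  haveI : H.Normal := Subgroup.normal_of_index_eq_two hH
  letI : CommGroup W :=
    { (inferInstance : Group W) with mul_comm := fun a b => Subtype.ext (hWcomm a a.2 b b.2) }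
  intro u hu
  obtain ⟨a, ha⟩ : ∃ a, a = g * u * g⁻¹ := ⟨_, rfl⟩
  obtain ⟨b, hb⟩ : ∃ b, b = g * a * g⁻¹ := ⟨_, rfl⟩
  have haW : a ∈ W := ha ▸ hgW u hu
  have hbW : b ∈ W := hb ▸ hgW a haW
  have hgb : g * b * g⁻¹ = u := by
    have e3 : g ^ 3 = g * g * g := by rw [pow_succ, pow_succ, pow_one]
    have e : g * b * g⁻¹ = (g * g * g) * u * (g * g * g)⁻¹ := by
      rw [hb, ha]; group
    rw [e, ← e3]; exact hg3 u hu
  have hw : u * a * b = 1 := by
    apply hfix _ (W.mul_mem (W.mul_mem hu haW) hbW)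
    have e1 : g * (u * a * b) * g⁻¹ = (g * u * g⁻¹) * (g * a * g⁻¹) * (g * b * g⁻¹) := by group
    rw [e1, hgb, ← ha, ← hb]
    have := congrArg Subtype.val
      (show (⟨a, haW⟩ : W) * ⟨b, hbW⟩ * ⟨u, hu⟩ = ⟨u, hu⟩ * ⟨a, haW⟩ * ⟨b, hbW⟩ by ac_rfl)
    simpa using this
  have hua : u * a⁻¹ ∈ H := by
    have e : u * a⁻¹ = (u * g * u⁻¹) * g⁻¹ := by rw [ha]; group
    rw [e]
    exact H.mul_mem (Subgroup.Normal.conj_mem inferInstance g hgH u) (H.inv_mem hgH)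
  have hab : a * b⁻¹ ∈ H := by
    have e : a * b⁻¹ = (a * g * a⁻¹) * g⁻¹ := by rw [hb]; group
    rw [e]
    exact H.mul_mem (Subgroup.Normal.conj_mem inferInstance g hgH a) (H.inv_mem hgH)
  have hub : u * b⁻¹ ∈ H := by
    have e : u * b⁻¹ = (u * a⁻¹) * (a * b⁻¹) := by group
    rw [e]; exact H.mul_mem hua hab
  have hu3 : u ^ 3 ∈ H := by
    have := congrArg Subtype.val (comm_identity (⟨u, hu⟩ : W) ⟨a, haW⟩ ⟨b, hbW⟩)
    have e : u ^ 3 = (u * b⁻¹) * (u * a⁻¹) * (u * a * b) := by simpa using this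
    rw [e, hw, mul_one]
    exact H.mul_mem hub hua
  obtain ⟨j, hj⟩ := hW2 u hu
  have hcop : Nat.Coprime 3 (2 ^ j) := by
    apply Nat.Coprime.pow_right; decide
  have h1 : u ^ (Nat.gcd 3 (2 ^ j) : ℤ) ∈ H := by
    rw [Nat.gcd_eq_gcd_ab, zpow_add, zpow_mul, zpow_mul, zpow_natCast, zpow_natCast, hj, one_zpow,
      mul_one]
    exact H.zpow_mem hu3 _
  rw [hcop] at h1
  simpa using h1

end Cfsg.Agent.Lib.Helper27
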