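import Mathlib
import Cfsg.Prelude.Def_TwoFusion
import Cfsg.Agent.Lib.Helper27.Isolated

set_option autoImplicit false

namespace Cfsg.Agent.Lib.Helper27

open Cfsg

variable {G : Type*} [Group G]

/-- elements commuting with `z` normalize the set `K` -/
theorem K_conj_of_commute {z k c : G} (hk : InK z k) (hc : c * z = z * c) :
    InK z (c * k * c⁻¹) := by
  refine ⟨by rw [orderOf_conj']; exact hk.1, ?_⟩
  have h := hk.2
  calc z * (c * k * c⁻¹) * z⁻¹ = (z * c) * k * (z * c)⁻¹ := by group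
    _ = (c * z) * k * (c * z)⁻¹ := by rw [hc]
    _ = c * (z * k * z⁻¹) * c⁻¹ := by group
    _ = c * k⁻¹ * c⁻¹ := by rw [h]
    _ = (c * k * c⁻¹)⁻¹ := by group

theorem K_commute_of_conj_fixed {z k c : G} (hk : InK z k) (hc : c * z = z * c)
    (h : c * (k * z * k⁻¹) * c⁻¹ = k * z * k⁻¹) : c * k = k * c := by
  have h1 : c * k * c⁻¹ = k := by
    apply K_unique (K_conj_of_commute hk hc) hk
    calc c * k * c⁻¹ * z * (c * k * c⁻¹)⁻¹ = c * k * c⁻¹ * (z * c) * k⁻¹ * c⁻¹ := by group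
      _ = c * k * c⁻¹ * (c * z) * k⁻¹ * c⁻¹ := by rw [hc]
      _ = c * (k * z * k⁻¹) * c⁻¹ := by group
      _ = k * z * k⁻¹ := h
  calc c * k = c * k * c⁻¹ * c := by group
    _ = k * c := by rw [h1]

/-- uniqueness of midpoints -/
theorem midpoint_unique [Finite G] {z : G} (hz : IsIsolatedInvolution z) (x₁ x₂ g : G)
    (h : (x₁ * z * x₁⁻¹) * (g * z * g⁻¹) * (x₁ * z * x₁⁻¹)⁻¹
       = (x₂ * z * x₂⁻¹) * (g * z * g⁻¹) * (x₂ * z * x₂⁻¹)⁻¹) :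
    x₁ * z * x₁⁻¹ = x₂ * z * x₂⁻¹ := by
  have ht := iso_conj hz g
  have e1 : x₁ * z * x₁⁻¹ = (x₁ * g⁻¹) * (g * z * g⁻¹) * (x₁ * g⁻¹)⁻¹ := by group
  have e2 : x₂ * z * x₂⁻¹ = (x₂ * g⁻¹) * (g * z * g⁻¹) * (x₂ * g⁻¹)⁻¹ := by group
  have hm1 : (x₁ * z * x₁⁻¹)⁻¹ = x₁ * z * x₁⁻¹ := iso_inv (iso_conj hz x₁)
  obtain ⟨t, htd⟩ : ∃ t, t = g * z * g⁻¹ := ⟨_, rfl⟩
  obtain ⟨m₁, hm₁⟩ : ∃ m, m = x₁ * z * x₁⁻¹ := ⟨_, rfl⟩
  obtain ⟨m₂, hm₂⟩ : ∃ m, m = x₂ * z * x₂⁻¹ := ⟨_, rfl⟩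
  rw [← htd] at ht e1 e2 h
  rw [← hm₁] at e1 h hm1 ⊢
  rw [← hm₂] at e2 h ⊢
  have hc : Commute (m₁ * m₂) t := by
    show m₁ * m₂ * t = t * (m₁ * m₂)
    calc m₁ * m₂ * t = m₁ * (m₂ * t * m₂⁻¹) * m₂ := by group
      _ = m₁ * (m₁ * t * m₁⁻¹) * m₂ := by rw [h]
      _ = m₁ * (m₁ * t * m₁) * m₂ := by rw [hm1]
      _ = (m₁ * m₁) * t * (m₁ * m₂) := by group
      _ = (m₁⁻¹ * m₁) * t * (m₁ * m₂) := by rw [hm1]
      _ = t * (m₁ * m₂) := by group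
  rw [e1, e2] at hc ⊢
  exact conj_eq_of_commute ht _ _ hc

/-- existence of midpoints -/
theorem midpoint_exists [Finite G] {z : G} (hz : IsIsolatedInvolution z) (g h : G) :
    ∃ x : G, (x * z * x⁻¹) * (g * z * g⁻¹) * (x * z * x⁻¹)⁻¹ = h * z * h⁻¹ := by
  have ht := iso_conj hz g
  obtain ⟨n, h1, h2⟩ := exists_K_pow ht (h * g⁻¹)
  have e1 : h * g⁻¹ * (g * z * g⁻¹) * (h * g⁻¹)⁻¹ = h * z * h⁻¹ := by group
  rw [e1] at h1 h2
  obtain ⟨t, htd⟩ : ∃ t, t = g * z * g⁻¹ := ⟨_, rfl⟩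
  obtain ⟨t', htd'⟩ : ∃ t, t = h * z * h⁻¹ := ⟨_, rfl⟩
  rw [← htd, ← htd'] at h1 h2
  rw [← htd] at ht
  obtain ⟨j, hj⟩ : ∃ j, j = (t' * t) ^ n := ⟨_, rfl⟩
  rw [← hj] at h1 h2
  obtain ⟨c, hc⟩ := h1.1
  have h3 : InK t (j ^ (c + 1)) := K_pow h1 _
  have h4 : j ^ (c + 1) * t * (j ^ (c + 1))⁻¹ = j * t := by
    rw [conj_of_inv h3.2, ← pow_add]
    have : c + 1 + (c + 1) = orderOf j + 1 := by omega
    rw [this, pow_succ, pow_orderOf_eq_one, one_mul]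
  refine ⟨j ^ (c + 1) * g, ?_⟩
  have e2 : j ^ (c + 1) * g * z * (j ^ (c + 1) * g)⁻¹ = j ^ (c + 1) * t * (j ^ (c + 1))⁻¹ := by
    rw [htd]; group
  rw [e2, h4, ← htd, ← htd', ← h2]
  group


theorem count_inj_aux {z s a b : G} (hs2 : s * s = 1) (hsz : s * z = z * s)
    (ha : z * a * z⁻¹ = a⁻¹) (hasz : a * (s * z) = (s * z) * a) (hbs : b * s = s * b) :
    (b * z * b⁻¹) * ((b * a) * z * (b * a)⁻¹) * (b * z * b⁻¹)⁻¹
      = s * ((b * a) * z * (b * a)⁻¹) * s⁻¹ := by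
  have hsi : s⁻¹ = s := inv_eq_of_mul_eq_one_left hs2
  have e2 : s * z * s⁻¹ = z := by rw [hsz]; group
  have e1 : s * a * s⁻¹ = a⁻¹ := by
    have h1 : s⁻¹ * a * s = z * a * z⁻¹ := by
      calc s⁻¹ * a * s = s⁻¹ * (a * (s * z)) * z⁻¹ := by group
        _ = s⁻¹ * ((s * z) * a) * z⁻¹ := by rw [hasz]
        _ = z * a * z⁻¹ := by group
    rw [ha] at h1
    rw [hsi] at h1 ⊢
    exact h1
  calc (b * z * b⁻¹) * ((b * a) * z * (b * a)⁻¹) * (b * z * b⁻¹)⁻¹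
      = b * ((z * a * z⁻¹) * z * (z * a * z⁻¹)⁻¹) * b⁻¹ := by group
    _ = b * (a⁻¹ * z * a⁻¹⁻¹) * b⁻¹ := by rw [ha]
    _ = b * ((s * a * s⁻¹) * (s * z * s⁻¹) * (s * a * s⁻¹)⁻¹) * b⁻¹ := by rw [e1, e2]
    _ = (b * s) * (a * z * a⁻¹) * (b * s)⁻¹ := by group
    _ = (s * b) * (a * z * a⁻¹) * (s * b)⁻¹ := by rw [hbs]
    _ = s * ((b * a) * z * (b * a)⁻¹) * s⁻¹ := by group

theorem count_surj_aux [Finite G] {z : G} (hz : IsIsolatedInvolution z) (s : G)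
    (hs2 : s * s = 1) (hsz : s * z = z * s) (g : G) :
    ∃ a b : G, InK z a ∧ a * (s * z) = (s * z) * a ∧ InK z b ∧ b * s = s * b ∧
      (b * a) * z * (b * a)⁻¹ = g * z * g⁻¹ := by
  have hsi : s⁻¹ = s := inv_eq_of_mul_eq_one_left hs2
  have hzz := iso_sq hz
  have hzi := iso_inv hz
  obtain ⟨x, hx⟩ := midpoint_exists hz g (s * g)
  have hmm : (x * z * x⁻¹) * (x * z * x⁻¹) = 1 := iso_sq (iso_conj hz x)
  have hmi : (x * z * x⁻¹)⁻¹ = x * z * x⁻¹ := iso_inv (iso_conj hz x)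
  -- (ii)
  have h2 : (s * x) * z * (s * x)⁻¹ = x * z * x⁻¹ := by
    apply midpoint_unique hz (s * x) x g
    rw [hx]
    have e0 : s * x * z * (s * x)⁻¹ = s * (x * z * x⁻¹) * s⁻¹ := by group
    rw [e0]
    obtain ⟨m, hm⟩ : ∃ m, m = x * z * x⁻¹ := ⟨_, rfl⟩
    obtain ⟨t, ht⟩ : ∃ t, t = g * z * g⁻¹ := ⟨_, rfl⟩
    rw [← hm] at hx hmm hmi ⊢
    rw [← ht] at hx ⊢
    have hx' : m * t * m⁻¹ = s * t * s⁻¹ := by rw [hx, ht]; group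
    have e5 : s⁻¹ * t * s = s * t * s⁻¹ := by rw [hsi]
    calc s * m * s⁻¹ * t * (s * m * s⁻¹)⁻¹ = s * m * (s⁻¹ * t * s) * m⁻¹ * s⁻¹ := by group
      _ = s * m * (s * t * s⁻¹) * m⁻¹ * s⁻¹ := by rw [e5]
      _ = s * m * (m * t * m⁻¹) * m⁻¹ * s⁻¹ := by rw [hx']
      _ = s * (m * m) * t * (m * m)⁻¹ * s⁻¹ := by group
      _ = s * t * s⁻¹ := by rw [hmm]; group
      _ = s * g * z * (s * g)⁻¹ := by rw [ht]; group
  -- (iii)
  obtain ⟨b, hb, hbx⟩ := exists_K hz x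
  -- (iv)
  have hbs : s * b = b * s := by
    apply K_commute_of_conj_fixed hb hsz
    rw [hbx]
    calc s * (x * z * x⁻¹) * s⁻¹ = s * x * z * (s * x)⁻¹ := by group
      _ = x * z * x⁻¹ := h2
  -- (v)
  obtain ⟨a, ha, hag⟩ := exists_K hz (b⁻¹ * g)
  -- (vi)
  have hszz : (s * z) * z = z * (s * z) := by
    calc (s * z) * z = (z * s) * z := by rw [hsz]
      _ = z * (s * z) := by group
  have hasz : (s * z) * a = a * (s * z) := by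
    apply K_commute_of_conj_fixed ha hszz
    rw [hag]
    obtain ⟨t, ht⟩ : ∃ t, t = g * z * g⁻¹ := ⟨_, rfl⟩
    have e0 : b⁻¹ * g * z * (b⁻¹ * g)⁻¹ = b⁻¹ * t * b := by rw [ht]; group
    rw [e0]
    have hx' : (b * z * b⁻¹) * t * (b * z * b⁻¹)⁻¹ = s * t * s⁻¹ := by
      rw [hbx, ht, hx]; group
    have h5 : z * (b⁻¹ * t * b) * z⁻¹ = s * (b⁻¹ * t * b) * s⁻¹ := by
      calc z * (b⁻¹ * t * b) * z⁻¹ = b⁻¹ * ((b * z * b⁻¹) * t * (b * z * b⁻¹)⁻¹) * b := by group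
        _ = b⁻¹ * (s * t * s⁻¹) * b := by rw [hx']
        _ = (s⁻¹ * b)⁻¹ * t * (s⁻¹ * b) := by group
        _ = (s * b)⁻¹ * t * (s * b) := by rw [hsi]
        _ = (b * s)⁻¹ * t * (b * s) := by rw [hbs]
        _ = s⁻¹ * (b⁻¹ * t * b) * s := by group
        _ = s * (b⁻¹ * t * b) * s⁻¹ := by rw [hsi]
    calc s * z * (b⁻¹ * t * b) * (s * z)⁻¹ = s * (z * (b⁻¹ * t * b) * z⁻¹) * s⁻¹ := by group
      _ = s * (s * (b⁻¹ * t * b) * s⁻¹) * s⁻¹ := by rw [h5]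
      _ = (s * s) * (b⁻¹ * t * b) * (s * s)⁻¹ := by group
      _ = b⁻¹ * t * b := by rw [hs2]; group
  refine ⟨a, b, ha, hasz.symm, hb, hbs.symm, ?_⟩
  calc (b * a) * z * (b * a)⁻¹ = b * (a * z * a⁻¹) * b⁻¹ := by group
    _ = b * (b⁻¹ * g * z * (b⁻¹ * g)⁻¹) * b⁻¹ := by rw [hag]
    _ = g * z * g⁻¹ := by group

theorem card_formula [Finite G] {z : G} (hz : IsIsolatedInvolution z) (s : G)
    (hs2 : s * s = 1) (hsz : s * z = z * s) :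
    Nat.card G = Nat.card (Subgroup.centralizer ({z} : Set G)) *
      Nat.card {k : G // Odd (orderOf k) ∧ z * k * z⁻¹ = k⁻¹ ∧ Commute k (s * z)} *
      Nat.card {k : G // Odd (orderOf k) ∧ z * k * z⁻¹ = k⁻¹ ∧ Commute k s} := by
  let φ : {k : G // Odd (orderOf k) ∧ z * k * z⁻¹ = k⁻¹ ∧ Commute k (s * z)} ×
      {k : G // Odd (orderOf k) ∧ z * k * z⁻¹ = k⁻¹ ∧ Commute k s} →
      G ⧸ Subgroup.centralizer ({z} : Set G) := fun p => QuotientGroup.mk (p.2.1 * p.1.1)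
  have hφ : Function.Bijective φ := by
    constructor
    · rintro ⟨⟨a, ha1, ha2, ha3⟩, ⟨b, hb1, hb2, hb3⟩⟩ ⟨⟨a', ha1', ha2', ha3'⟩, ⟨b', hb1', hb2', hb3'⟩⟩ h
      have h1 : (b' * a') * z * (b' * a')⁻¹ = (b * a) * z * (b * a)⁻¹ :=
        mem_centralizer_iff_conj.mp (QuotientGroup.eq.mp h)
      have h2 := count_inj_aux hs2 hsz ha2 ha3 hb3
      have h3 := count_inj_aux hs2 hsz ha2' ha3' hb3'
      rw [h1, ← h2] at h3
      have e1 : b * a * z * (b * a)⁻¹ = (b * a) * z * (b * a)⁻¹ := rfl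
      have h4 : b' * z * b'⁻¹ = b * z * b⁻¹ := midpoint_unique hz b' b (b * a) h3
      have hbb : b' = b := K_unique ⟨hb1', hb2'⟩ ⟨hb1, hb2⟩ h4
      subst hbb
      have h5 : a' * z * a'⁻¹ = a * z * a⁻¹ := by
        calc a' * z * a'⁻¹ = b'⁻¹ * ((b' * a') * z * (b' * a')⁻¹) * b' := by group
          _ = b'⁻¹ * ((b' * a) * z * (b' * a)⁻¹) * b' := by rw [h1]
          _ = a * z * a⁻¹ := by group
      have haa : a' = a := K_unique ⟨ha1', ha2'⟩ ⟨ha1, ha2⟩ h5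
      subst haa
      rfl
    · intro q
      obtain ⟨g, rfl⟩ := QuotientGroup.mk_surjective q
      obtain ⟨a, b, ha, hasz, hb, hbs, hab⟩ := count_surj_aux hz s hs2 hsz g
      refine ⟨⟨⟨a, ha.1, ha.2, hasz⟩, ⟨b, hb.1, hb.2, hbs⟩⟩, ?_⟩
      show (QuotientGroup.mk (b * a) : G ⧸ Subgroup.centralizer ({z} : Set G)) = QuotientGroup.mk g
      rw [eq_comm, QuotientGroup.eq]
      exact mem_centralizer_iff_conj.mpr hab
  have h1 := Nat.card_congr (Equiv.ofBijective φ hφ)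
  rw [Nat.card_prod] at h1
  rw [Subgroup.card_eq_card_quotient_mul_card_subgroup (Subgroup.centralizer ({z} : Set G)), ← h1]
  ring

end Cfsg.Agent.Lib.Helper27
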