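import Mathlib
import Cfsg.Prelude.Def_TwoFusion
import Cfsg.Prelude.Def_Transfer
import Cfsg.Agent.Lib.Helper27.Isolated

set_option autoImplicit false

namespace Cfsg.Agent.Lib.Helper27

open Cfsg

theorem pRes_normal (p : ℕ) (X : Type*) [Group X] : (Cfsg.pResidual p X).Normal := by
  unfold Cfsg.pResidual
  rw [← Subgroup.normalizer_eq_top_iff, eq_top_iff]
  refine le_trans ?_ (Subgroup.normalizer_le_normalizer_closure _)
  intro g _
  rw [Subgroup.mem_normalizer_iff_conj_image_eq]
  ext x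
  simp only [Set.mem_image, Set.mem_ofPred_eq]
  constructor
  · rintro ⟨y, hy, rfl⟩
    rwa [MulAut.conj_apply, orderOf_conj']
  · intro hx
    refine ⟨g⁻¹ * x * g, ?_, by simp [mul_assoc]⟩
    have := orderOf_conj' g⁻¹ x
    rw [inv_inv] at this
    rwa [this]

/-- The quotient by `O^p` is a `p`-group. -/
theorem isPGroup_quotient_pRes (p : ℕ) [Fact p.Prime] (X : Type*) [Group X] [Finite X] :
    haveI := pRes_normal p X
    IsPGroup p (X ⧸ Cfsg.pResidual p X) := by
  haveI := pRes_normal p X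
  intro y
  obtain ⟨x, rfl⟩ := QuotientGroup.mk_surjective y
  have hpos : orderOf x ≠ 0 := (orderOf_pos x).ne'
  obtain ⟨a, m, hm, hxm⟩ := Nat.exists_eq_pow_mul_and_not_dvd hpos p (Fact.out : p.Prime).ne_one
  refine ⟨a, ?_⟩
  rw [← QuotientGroup.mk_pow, QuotientGroup.eq_one_iff]
  apply Subgroup.subset_closure
  show Nat.Coprime (orderOf (x ^ p ^ a)) p
  rw [orderOf_pow, hxm, Nat.gcd_eq_right (Dvd.intro _ rfl)]
  rw [Nat.mul_div_cancel_left _ (pow_pos (Fact.out : p.Prime).pos a)]
  exact ((Nat.Prime.coprime_iff_not_dvd Fact.out).mpr hm).symm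

variable {G : Type*} [Group G]

/-- the index of the centralizer of an isolated involution is odd -/
theorem odd_index_centralizer [Finite G] {z : G} (hz : IsIsolatedInvolution z) :
    Odd (Subgroup.centralizer ({z} : Set G)).index := by
  haveI : Fact (Nat.Prime 2) := ⟨Nat.prime_two⟩
  have hP : IsPGroup 2 (Subgroup.zpowers z) := by
    apply IsPGroup.of_card (n := 1)
    rw [Nat.card_zpowers, hz.1, pow_one]
  have h1 := hP.card_modEq_card_fixedPoints (G ⧸ Subgroup.centralizer ({z} : Set G))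
  have h2 : MulAction.fixedPoints (Subgroup.zpowers z) (G ⧸ Subgroup.centralizer ({z} : Set G))
      = {((1 : G) : G ⧸ Subgroup.centralizer ({z} : Set G))} := by
    ext q
    obtain ⟨g, rfl⟩ := QuotientGroup.mk_surjective q
    rw [MulAction.mem_fixedPoints, Set.mem_singleton_iff]
    constructor
    · intro h
      have h3 := h ⟨z, Subgroup.mem_zpowers z⟩
      have h4 : ((z * g : G) : G ⧸ Subgroup.centralizer ({z} : Set G)) = (g : G ⧸ _) := h3
      rw [QuotientGroup.eq] at h4
      -- (z g)⁻¹ g ∈ C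
      rw [Subgroup.mem_centralizer_singleton_iff] at h4
      have h5 : Commute z (g⁻¹ * z * g⁻¹⁻¹) := by
        show z * (g⁻¹ * z * g⁻¹⁻¹) = (g⁻¹ * z * g⁻¹⁻¹) * z
        have e1 : (z * g)⁻¹ * g = g⁻¹ * z⁻¹ * g := by group
        rw [e1, iso_inv hz] at h4
        rw [inv_inv]
        exact h4.symm
      have h6 := hz.2 g⁻¹ h5
      rw [inv_inv] at h6
      rw [eq_comm, QuotientGroup.eq, inv_one, one_mul, Subgroup.mem_centralizer_singleton_iff]
      calc g * z = g * (g⁻¹ * z * g) := by rw [h6]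
        _ = z * g := by group
    · intro h
      rintro ⟨w, hw⟩
      rw [eq_comm, QuotientGroup.eq, inv_one, one_mul, Subgroup.mem_centralizer_singleton_iff] at h
      have hw' : w ∈ Subgroup.centralizer ({z} : Set G) := by
        obtain ⟨k, rfl⟩ := Subgroup.mem_zpowers_iff.mp hw
        exact Subgroup.zpow_mem _ (Subgroup.mem_centralizer_singleton_iff.mpr rfl) k
      show ((w * g : G) : G ⧸ Subgroup.centralizer ({z} : Set G)) = (g : G ⧸ _)
      rw [QuotientGroup.eq]
      have hg : g ∈ Subgroup.centralizer ({z} : Set G) :=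
        Subgroup.mem_centralizer_singleton_iff.mpr h
      have e1 : (w * g)⁻¹ * g = g⁻¹ * w⁻¹ * g := by group
      rw [e1]
      exact Subgroup.mul_mem _ (Subgroup.mul_mem _ (Subgroup.inv_mem _ hg) (Subgroup.inv_mem _ hw')) hg
  rw [h2] at h1
  have h7 : Nat.card ↥({((1 : G) : G ⧸ Subgroup.centralizer ({z} : Set G))} : Set (G ⧸ Subgroup.centralizer ({z} : Set G))) = 1 :=
    Nat.card_unique
  rw [h7] at h1
  rw [Subgroup.index, Nat.odd_iff]
  exact h1

open Subgroup in
theorem transfer_eq_pow_isolated [Finite G] {z : G} (hz : IsIsolatedInvolution z)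
    {A : Type*} [CommGroup A] (ϕ : centralizer ({z} : Set G) →* A)
    (x : centralizer ({z} : Set G)) :
    MonoidHom.transfer ϕ (x : G) = ϕ x ^ (centralizer ({z} : Set G)).index := by
  have : Fintype (Quotient (MulAction.orbitRel (zpowers (x : G)) (G ⧸ centralizer ({z} : Set G)))) :=
    Fintype.ofFinite _
  rw [index_eq_sum_minimalPeriod (centralizer ({z} : Set G)) (x : G), ← Finset.prod_pow_eq_pow_sum,
    MonoidHom.transfer_eq_prod_quotient_orbitRel_zpowers_quot]
  apply Finset.prod_congr rfl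
  intro q _
  obtain ⟨k, hk⟩ : ∃ k, k = Function.minimalPeriod (fun y => (x : G) • y) (Quotient.out q) := ⟨_, rfl⟩
  obtain ⟨g, hg⟩ : ∃ g : G, g = (Quotient.out q).out := ⟨_, rfl⟩
  have hmem : g⁻¹ * (x : G) ^ k * g ∈ centralizer ({z} : Set G) := by
    rw [hk, hg]
    exact QuotientGroup.out_conj_pow_minimalPeriod_mem _ _ _
  have key : ϕ ⟨g⁻¹ * (x : G) ^ k * g, hmem⟩ = ϕ x ^ k := by
    have hxz : Commute ((x : G) ^ k) z := by
      have := (x ^ k).2
      rw [mem_centralizer_singleton_iff, Subgroup.coe_pow] at this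
      exact this
    have hyz : Commute (g⁻¹ * (x : G) ^ k * g) z := by
      rw [mem_centralizer_singleton_iff] at hmem
      exact hmem
    obtain ⟨c, -, hcz, hc⟩ := fusion_control hz ⊤
      (by rw [Subgroup.normalizer_eq_top]; exact mem_top _) ((x : G) ^ k) (g⁻¹ * (x : G) ^ k * g)
      hxz hyz g⁻¹ (mem_top _) (by rw [inv_inv])
    have hcC : c ∈ centralizer ({z} : Set G) := mem_centralizer_singleton_iff.mpr hcz
    have e1 : (⟨g⁻¹ * (x : G) ^ k * g, hmem⟩ : centralizer ({z} : Set G)) = ⟨c, hcC⟩ * x ^ k * ⟨c, hcC⟩⁻¹ := by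
      apply Subtype.ext
      simp only [Subgroup.coe_mul, Subgroup.coe_pow, Subgroup.coe_inv]
      exact hc.symm
    rw [e1, map_mul, map_mul, map_inv, map_pow]
    rw [mul_comm (ϕ ⟨c, hcC⟩), mul_assoc, mul_inv_cancel, mul_one]
  convert key using 3
  · simp only [hk, hg]
  · exact hk.symm

end Cfsg.Agent.Lib.Helper27
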