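import Mathlib
import Cfsg.Agent.Lib.Helper27.Wreathed

set_option autoImplicit false
set_option linter.style.haveILetI false

namespace Cfsg.Agent.Lib.Helper27

theorem isKleinFour_of_mulEquiv {G H : Type*} [Group G] [Group H] (e : G ≃* H) [IsKleinFour G] :
    IsKleinFour H where
  card_four := by rw [← Nat.card_congr e.toEquiv]; exact IsKleinFour.card_four
  exponent_two := by rw [← Monoid.exponent_eq_of_mulEquiv e]; exact IsKleinFour.exponent_two

section

variable {G : Type*} [Group G] {a b : G}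

/-- the hom `(i, j) ↦ a^i b^j` for commuting involutions -/
def v4Hom (ha : a ^ 2 = 1) (hb : b ^ 2 = 1) (hab : a * b = b * a) :
    Multiplicative (ZMod 2 × ZMod 2) →* G where
  toFun c := zp a (Multiplicative.toAdd c).1 * zp b (Multiplicative.toAdd c).2
  map_one' := by
    show zp a (0 : ZMod 2) * zp b (0 : ZMod 2) = 1
    rw [zp_zero, zp_zero, one_mul]
  map_mul' c d := by
    show zp a ((Multiplicative.toAdd c).1 + (Multiplicative.toAdd d).1) *
      zp b ((Multiplicative.toAdd c).2 + (Multiplicative.toAdd d).2) = _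
    rw [zp_add ha, zp_add hb]
    have := zp_comm hab (Multiplicative.toAdd d).1 (Multiplicative.toAdd c).2
    calc zp a (Multiplicative.toAdd c).1 * zp a (Multiplicative.toAdd d).1 *
          (zp b (Multiplicative.toAdd c).2 * zp b (Multiplicative.toAdd d).2)
        = zp a (Multiplicative.toAdd c).1 * (zp a (Multiplicative.toAdd d).1 *
          zp b (Multiplicative.toAdd c).2) * zp b (Multiplicative.toAdd d).2 := by group
      _ = zp a (Multiplicative.toAdd c).1 * (zp b (Multiplicative.toAdd c).2 *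
          zp a (Multiplicative.toAdd d).1) * zp b (Multiplicative.toAdd d).2 := by rw [this]
      _ = _ := by group

theorem v4Hom_apply (ha : a ^ 2 = 1) (hb : b ^ 2 = 1) (hab : a * b = b * a) (i j : ZMod 2) :
    v4Hom ha hb hab (Multiplicative.ofAdd (i, j)) = zp a i * zp b j := rfl

theorem zp_two_zero (g : G) : zp g (0 : ZMod 2) = 1 := zp_zero g

theorem zp_two_one (g : G) : zp g (1 : ZMod 2) = g := by
  show g ^ (1 : ZMod 2).val = g
  rw [ZMod.val_one, pow_one]

theorem v4Hom_injective (ha : a ^ 2 = 1) (hb : b ^ 2 = 1) (hab : a * b = b * a)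
    (ha1 : a ≠ 1) (hb1 : b ≠ 1) (hne : a ≠ b) : Function.Injective (v4Hom ha hb hab) := by
  rw [injective_iff_map_eq_one]
  intro c hc
  obtain ⟨⟨i, j⟩, rfl⟩ := Multiplicative.ofAdd.surjective c
  rw [v4Hom_apply] at hc
  have hbi : b⁻¹ = b := by
    rw [inv_eq_iff_mul_eq_one, ← pow_two]; exact hb
  have h01 : ∀ k : ZMod 2, k = 0 ∨ k = 1 := by decide
  rcases h01 i with rfl | rfl <;> rcases h01 j with rfl | rfl
  · rfl
  · exfalso
    rw [zp_two_zero, zp_two_one, one_mul] at hc
    exact hb1 hc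
  · exfalso
    rw [zp_two_zero, zp_two_one, mul_one] at hc
    exact ha1 hc
  · exfalso
    rw [zp_two_one, zp_two_one] at hc
    have : a = b⁻¹ := eq_inv_of_mul_eq_one_left hc
    rw [hbi] at this
    exact hne this

/-- the four-group generated by two commuting involutions -/
def v4 (ha : a ^ 2 = 1) (hb : b ^ 2 = 1) (hab : a * b = b * a) : Subgroup G :=
  (v4Hom ha hb hab).range

theorem mem_v4_iff (ha : a ^ 2 = 1) (hb : b ^ 2 = 1) (hab : a * b = b * a) (g : G) :
    g ∈ v4 ha hb hab ↔ g = 1 ∨ g = a ∨ g = b ∨ g = a * b := by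
  rw [v4, MonoidHom.mem_range]
  constructor
  · rintro ⟨c, rfl⟩
    obtain ⟨⟨i, j⟩, rfl⟩ := Multiplicative.ofAdd.surjective c
    rw [v4Hom_apply]
    have h01 : ∀ k : ZMod 2, k = 0 ∨ k = 1 := by decide
    rcases h01 i with rfl | rfl <;> rcases h01 j with rfl | rfl
    · left
      rw [zp_two_zero, zp_two_zero, one_mul]
    · right; right; left
      rw [zp_two_zero, zp_two_one, one_mul]
    · right; left
      rw [zp_two_zero, zp_two_one, mul_one]
    · right; right; right
      rw [zp_two_one, zp_two_one]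
  · rintro (rfl | rfl | rfl | rfl)
    · exact ⟨1, map_one _⟩
    · exact ⟨Multiplicative.ofAdd (1, 0), by rw [v4Hom_apply, zp_two_zero, zp_two_one, mul_one]⟩
    · exact ⟨Multiplicative.ofAdd (0, 1), by rw [v4Hom_apply, zp_two_zero, zp_two_one, one_mul]⟩
    · exact ⟨Multiplicative.ofAdd (1, 1), by rw [v4Hom_apply, zp_two_one, zp_two_one]⟩

theorem v4_isKleinFour (ha : a ^ 2 = 1) (hb : b ^ 2 = 1) (hab : a * b = b * a)
    (ha1 : a ≠ 1) (hb1 : b ≠ 1) (hne : a ≠ b) : IsKleinFour (v4 ha hb hab) :=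
  isKleinFour_of_mulEquiv (MonoidHom.ofInjective (v4Hom_injective ha hb hab ha1 hb1 hne))

end

end Cfsg.Agent.Lib.Helper27
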