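import Mathlib
import Cfsg.Agent.Lib.Helper03.SL2Inv
import Cfsg.Agent.Lib.Helper26.OddGL2b

set_option autoImplicit false

/-!
Two `p`-elements `t`, `t'` of `Aut(V)`, `V` elementary abelian of order dividing `p ^ 2` (`p` odd), which do
not generate a `p`-group: then `|V| = p ^ 2` and a word in `t`, `t'` commutes with `t` and inverts `V`.
-/

namespace Cfsg.Agent.Lib.Helper27.MetaSCV

open Cfsg.Agent.Lib.Helper03.SL2Inv Cfsg.Agent.Lib.Helper90

variable {V : Type*} [Group V]

/-- a `p`-element stabilizing a subgroup of order `p` of a group of exponent `p` fixes it pointwise. -/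
theorem fix_line {p : ℕ} [Fact p.Prime] (hexp : ∀ v : V, v ^ p = 1) (t : MulAut V) (j : ℕ)
    (ht : t ^ (p ^ j) = 1) (W : Subgroup V) (hW : Nat.card W = p) (hinv : ∀ w ∈ W, t w ∈ W) :
    ∀ w ∈ W, t w = w := by
  have hp : p.Prime := Fact.out
  have : IsCyclic W := isCyclic_of_prime_card hW
  obtain ⟨g, hg⟩ := IsCyclic.exists_generator (α := W)
  have hfin : Finite W := Nat.finite_of_card_ne_zero (by rw [hW]; exact hp.ne_zero)
  have hgW : t (g : V) ∈ W := hinv _ g.2
  have hmem : (⟨t (g : V), hgW⟩ : W) ∈ Submonoid.powers g := by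
    rw [mem_powers_iff_mem_zpowers]; exact hg _
  obtain ⟨k, hk⟩ := hmem
  have hk' : t (g : V) = (g : V) ^ k := by
    have := congrArg Subtype.val hk
    simpa using this.symm
  have hpow : ∀ n : ℕ, (t ^ n) (g : V) = (g : V) ^ (k ^ n) := by
    intro n
    induction n with
    | zero => simp
    | succ n ih =>
      rw [pow_succ', MulAut.mul_apply, ih, map_pow, hk', ← pow_mul, pow_succ']
  have h1 := hpow (p ^ j)
  rw [ht, MulAut.one_apply] at h1
  have hmod : k ^ (p ^ j) ≡ k [MOD p] := by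
    rw [← ZMod.natCast_eq_natCast_iff]
    push_cast
    exact ZMod.pow_card_pow (k : ZMod p)
  have h2 : (g : V) ^ (k ^ (p ^ j)) = (g : V) ^ k :=
    pow_eq_pow_iff_modEq.2 (hmod.of_dvd (orderOf_dvd_of_pow_eq_one (hexp _)))
  have hgfix : t (g : V) = g := by rw [hk', ← h2, ← h1]
  intro w hw
  obtain ⟨m, hm⟩ := Subgroup.mem_zpowers_iff.1 (hg ⟨w, hw⟩)
  have : w = (g : V) ^ m := by
    have := congrArg Subtype.val hm
    simpa using this.symm
  rw [this, map_zpow, hgfix]


theorem mem_ker_dsp (hcomm : ∀ a b : V, a * b = b * a) (t : MulAut V) (v : V) :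
    v ∈ (dsp hcomm t).ker ↔ t v = v := by
  rw [MonoidHom.mem_ker, dsp_apply, inv_mul_eq_one, eq_comm]

/-- the number of fixed points of a `p`-element on a `p`-group is divisible by `p`. -/
theorem p_dvd_card_ker {p : ℕ} [Fact p.Prime] [Finite V] (hcomm : ∀ a b : V, a * b = b * a)
    (t : MulAut V) (j : ℕ) (ht : t ^ (p ^ j) = 1) (hV : p ∣ Nat.card V) :
    p ∣ Nat.card (dsp hcomm t).ker := by
  have hZ : IsPGroup p (Subgroup.zpowers t) := by
    rintro ⟨g, hg⟩
    obtain ⟨k, rfl⟩ := Subgroup.mem_zpowers_iff.1 hg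
    refine ⟨j, Subtype.ext ?_⟩
    show (t ^ k) ^ (p ^ j) = 1
    rw [← zpow_natCast, ← zpow_mul, mul_comm, zpow_mul, zpow_natCast, ht, one_zpow]
  have hmod := hZ.card_modEq_card_fixedPoints V
  have hset : (MulAction.fixedPoints (Subgroup.zpowers t) V) = ((dsp hcomm t).ker : Set V) := by
    ext v
    constructor
    · intro hv
      exact (mem_ker_dsp hcomm t v).2 (hv ⟨t, Subgroup.mem_zpowers t⟩)
    · intro hv
      rintro ⟨h, hh⟩
      obtain ⟨k, rfl⟩ := Subgroup.mem_zpowers_iff.1 hh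
      show (t ^ k) v = v
      have hv' : t v = v := (mem_ker_dsp hcomm t v).1 hv
      have : t ∈ MulAction.stabilizer (MulAut V) v := hv'
      exact (MulAction.stabilizer (MulAut V) v).zpow_mem this k
  have hcard : Nat.card (MulAction.fixedPoints (Subgroup.zpowers t) V) =
      Nat.card (dsp hcomm t).ker := by
    rw [hset]; rfl
  rw [hcard] at hmod
  exact (Nat.modEq_zero_iff_dvd).1 (hmod.symm.trans ((Nat.modEq_zero_iff_dvd).2 hV))

/-- a `p`-element acting on an elementary abelian group of order dividing `p` is trivial. -/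
theorem eq_one_of_card_dvd {p : ℕ} [Fact p.Prime] [Finite V] (hcomm : ∀ a b : V, a * b = b * a)
    (t : MulAut V) (j : ℕ) (ht : t ^ (p ^ j) = 1) (hV : Nat.card V ∣ p) : t = 1 := by
  have hp : p.Prime := Fact.out
  rcases (Nat.dvd_prime hp).1 hV with h1 | h1
  · have : Subsingleton V := (Nat.card_eq_one_iff_unique.1 h1).1
    ext v
    exact Subsingleton.elim _ _
  · have hd := p_dvd_card_ker hcomm t j ht (h1 ▸ dvd_rfl)
    have hle : Nat.card (dsp hcomm t).ker ∣ p := h1 ▸ Subgroup.card_subgroup_dvd_card _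
    have hc : Nat.card (dsp hcomm t).ker = Nat.card V := by
      rw [h1]; exact Nat.dvd_antisymm hle hd
    have htop : (dsp hcomm t).ker = ⊤ := (Subgroup.card_eq_iff_eq_top _).1 hc
    ext v
    have : v ∈ (dsp hcomm t).ker := by rw [htop]; trivial
    exact (mem_ker_dsp hcomm t v).1 this

/-- structure of a nontrivial `p`-element on `V` of order `p ^ 2`: the fixed points form a line, which
is also the set of displacements. -/
theorem line_of_pElement {p : ℕ} [Fact p.Prime] [Finite V] (hcomm : ∀ a b : V, a * b = b * a)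
    (hexp : ∀ v : V, v ^ p = 1) (hcard : Nat.card V = p ^ 2)
    (t : MulAut V) (j : ℕ) (ht : t ^ (p ^ j) = 1) (hne : t ≠ 1) :
    Nat.card (dsp hcomm t).ker = p ∧ (dsp hcomm t).range = (dsp hcomm t).ker := by
  have hp : p.Prime := Fact.out
  set L := (dsp hcomm t).ker with hL
  set M := (dsp hcomm t).range with hM
  have hd : p ∣ Nat.card L := p_dvd_card_ker hcomm t j ht (hcard ▸ dvd_pow_self p two_ne_zero)
  have hdvd2 : Nat.card L ∣ p ^ 2 := hcard ▸ Subgroup.card_subgroup_dvd_card _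
  have hLtop : L ≠ ⊤ := by
    intro h
    apply hne
    ext v
    have : v ∈ L := by rw [h]; trivial
    exact (mem_ker_dsp hcomm t v).1 this
  have hLp : Nat.card L = p := by
    obtain ⟨k, hk2, hk⟩ := (Nat.dvd_prime_pow hp).1 hdvd2
    have hk0 : k ≠ 0 := by
      intro h
      rw [h, pow_zero] at hk
      rw [hk] at hd
      exact hp.one_lt.ne' (Nat.dvd_one.1 hd)
    have hk1 : k ≠ 2 := by
      intro h
      rw [h, ← hcard] at hk
      exact hLtop ((Subgroup.card_eq_iff_eq_top _).1 hk)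
    have : k = 1 := by omega
    rw [hk, this, pow_one]
  have hMp : Nat.card M = p := by
    have h1 : L.index = Nat.card M := Subgroup.index_ker _
    have h2 := Subgroup.card_mul_index L
    rw [h1, hLp, hcard, pow_two] at h2
    exact Nat.eq_of_mul_eq_mul_left hp.pos h2
  refine ⟨hLp, ?_⟩
  have hMinv : ∀ w ∈ M, t w ∈ M := by
    rintro _ ⟨v, rfl⟩
    refine ⟨t v, ?_⟩
    rw [dsp_apply, dsp_apply, map_mul, map_inv]
  have hfix := fix_line hexp t j ht M hMp hMinv
  have hML : M ≤ L := fun w hw => (mem_ker_dsp hcomm t w).2 (hfix w hw)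
  exact Subgroup.eq_of_le_of_card_ge hML (by rw [hLp, hMp])


/-- two `p`-elements with the same fixed line generate a `p`-group. -/
theorem isPGroup_closure_of_same_line {p : ℕ} [Fact p.Prime] (hcomm : ∀ a b : V, a * b = b * a)
    (hexp : ∀ v : V, v ^ p = 1) (t t' : MulAut V) (L : Subgroup V)
    (h1 : ∀ l ∈ L, t l = l) (h2 : ∀ v, dsp hcomm t v ∈ L)
    (h1' : ∀ l ∈ L, t' l = l) (h2' : ∀ v, dsp hcomm t' v ∈ L) :
    IsPGroup p (Subgroup.closure ({t, t'} : Set (MulAut V))) := by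
  letI instC : CommGroup V := { (inferInstance : Group V) with mul_comm := hcomm }
  have hst : ∀ s : MulAut V, (∀ l ∈ L, s l = l) → (∀ v, dsp hcomm s v ∈ L) →
      s ∈ Cfsg.Agent.Lib.Helper26.OddGL2.stab (V := V) L := by
    intro s hs1 hs2
    refine ⟨hs1, fun v => ?_⟩
    have := hs2 v
    rw [dsp_apply, hcomm] at this
    exact this
  have hle : Subgroup.closure ({t, t'} : Set (MulAut V)) ≤
      Cfsg.Agent.Lib.Helper26.OddGL2.stab (V := V) L := by
    rw [Subgroup.closure_le]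
    rintro s (rfl | rfl)
    · exact hst _ h1 h2
    · exact hst _ h1' h2'
  rintro ⟨g, hg⟩
  refine ⟨1, Subtype.ext ?_⟩
  rw [pow_one]
  exact Cfsg.Agent.Lib.Helper26.OddGL2.pow_eq_one_of_mem_stab (V := V) hexp L g (hle hg)

/-- **Main lemma**: two `p`-elements of `Aut(V)` (`V` elementary abelian of order dividing `p ^ 2`, `p` odd)
not generating a `p`-group: `|V| = p ^ 2` and a word in them commutes with the first and inverts `V`. -/
theorem exists_inverting {p : ℕ} [Fact p.Prime] [Finite V] (hp2 : p ≠ 2)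
    (hcomm : ∀ a b : V, a * b = b * a) (hexp : ∀ v : V, v ^ p = 1) (hcard : Nat.card V ∣ p ^ 2)
    (t t' : MulAut V) (j j' : ℕ) (ht : t ^ (p ^ j) = 1) (ht' : t' ^ (p ^ j') = 1)
    (hD : ¬ IsPGroup p (Subgroup.closure ({t, t'} : Set (MulAut V)))) :
    Nat.card V = p ^ 2 ∧ ∃ α : ℕ,
      (((t ^ α * t' * t ^ α) ^ 2) ^ p) * t = t * (((t ^ α * t' * t ^ α) ^ 2) ^ p) ∧
      ∀ v, (((t ^ α * t' * t ^ α) ^ 2) ^ p) v = v⁻¹ := by
  have hp : p.Prime := Fact.out
  have hzp : ∀ s : MulAut V, ∀ i : ℕ, s ^ (p ^ i) = 1 → IsPGroup p (Subgroup.zpowers s) := by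
    intro s i hs
    rintro ⟨g, hg⟩
    obtain ⟨k, rfl⟩ := Subgroup.mem_zpowers_iff.1 hg
    refine ⟨i, Subtype.ext ?_⟩
    show (s ^ k) ^ (p ^ i) = 1
    rw [← zpow_natCast, ← zpow_mul, mul_comm, zpow_mul, zpow_natCast, hs, one_zpow]
  have hne : t ≠ 1 := by
    intro h
    apply hD
    refine (hzp t' j' ht').to_le ?_
    rw [Subgroup.closure_le]
    rintro s (rfl | rfl)
    · rw [h]; exact Subgroup.one_mem _
    · exact Subgroup.mem_zpowers _
  have hne' : t' ≠ 1 := by
    intro h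
    apply hD
    refine (hzp t j ht).to_le ?_
    rw [Subgroup.closure_le]
    rintro s (rfl | rfl)
    · exact Subgroup.mem_zpowers _
    · rw [h]; exact Subgroup.one_mem _
  have hV : Nat.card V = p ^ 2 := by
    obtain ⟨k, hk2, hk⟩ := (Nat.dvd_prime_pow hp).1 hcard
    by_contra hne2
    have hk1 : k ≤ 1 := by
      rcases Nat.lt_or_ge k 2 with h | h
      · omega
      · exfalso; apply hne2; rw [hk]; congr 1; omega
    apply hne
    apply eq_one_of_card_dvd hcomm t j ht
    rw [hk]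
    have := pow_dvd_pow p hk1
    rwa [pow_one] at this
  refine ⟨hV, ?_⟩
  obtain ⟨hLp, hML⟩ := line_of_pElement hcomm hexp hV t j ht hne
  obtain ⟨hLp', hML'⟩ := line_of_pElement hcomm hexp hV t' j' ht' hne'
  set L := (dsp hcomm t).ker with hL
  set L' := (dsp hcomm t').ker with hL'
  -- generators
  have hgen : ∀ (K : Subgroup V), Nat.card K = p → ∃ z₀ ∈ K, z₀ ≠ 1 ∧ ∀ w ∈ K, ∃ k : ℕ, w = z₀ ^ k := by
    intro K hK
    have : IsCyclic K := isCyclic_of_prime_card hK
    obtain ⟨g, hg⟩ := IsCyclic.exists_generator (α := K)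
    have hfin : Finite K := Nat.finite_of_card_ne_zero (by rw [hK]; exact hp.ne_zero)
    refine ⟨g, g.2, ?_, ?_⟩
    · intro h1
      have hg1 : g = 1 := Subtype.ext h1
      have htop : (⊤ : Subgroup K) = ⊥ := by
        rw [eq_bot_iff]
        intro x _
        have := hg x
        rw [hg1, Subgroup.zpowers_one_eq_bot] at this
        exact this
      have hc : Nat.card K = 1 := by
        rw [← Subgroup.card_top (G := K), htop, Subgroup.card_bot]
      rw [hK] at hc
      exact hp.one_lt.ne' hc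
    · intro w hw
      have hmem : (⟨w, hw⟩ : K) ∈ Submonoid.powers g := by
        rw [mem_powers_iff_mem_zpowers]; exact hg _
      obtain ⟨k, hk⟩ := hmem
      refine ⟨k, ?_⟩
      have := congrArg Subtype.val hk
      simpa using this.symm
  obtain ⟨z₀, hz₀L, hz₀1, hz₀gen⟩ := hgen L hLp
  obtain ⟨z₀', hz₀L', hz₀1', hz₀gen'⟩ := hgen L' hLp'
  have hdL : ∀ v, dsp hcomm t v ∈ L := fun v => hML ▸ ⟨v, rfl⟩
  have hdL' : ∀ v, dsp hcomm t' v ∈ L' := fun v => hML' ▸ ⟨v, rfl⟩
  have hLle : ∀ K : Subgroup V, z₀ ∈ K → L ≤ K := by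
    intro K hK w hw
    obtain ⟨k, rfl⟩ := hz₀gen w hw
    exact K.pow_mem hK k
  have hLle' : ∀ K : Subgroup V, z₀' ∈ K → L' ≤ K := by
    intro K hK w hw
    obtain ⟨k, rfl⟩ := hz₀gen' w hw
    exact K.pow_mem hK k
  have he : dsp hcomm t' z₀ ≠ 1 := by
    intro h
    apply hD
    have hLL' : L = L' :=
      Subgroup.eq_of_le_of_card_ge (hLle L' (MonoidHom.mem_ker.2 h)) (by rw [hLp, hLp'])
    exact isPGroup_closure_of_same_line hcomm hexp t t' L
      (fun l hl => (mem_ker_dsp hcomm t l).1 hl) hdL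
      (fun l hl => (mem_ker_dsp hcomm t' l).1 (show l ∈ L' from hLL' ▸ hl))
      (fun v => by rw [hLL']; exact hdL' v)
  have he' : dsp hcomm t z₀' ≠ 1 := by
    intro h
    apply hD
    have hLL' : L' = L :=
      Subgroup.eq_of_le_of_card_ge (hLle' L (MonoidHom.mem_ker.2 h)) (by rw [hLp, hLp'])
    exact isPGroup_closure_of_same_line hcomm hexp t t' L
      (fun l hl => (mem_ker_dsp hcomm t l).1 hl) hdL
      (fun l hl => (mem_ker_dsp hcomm t' l).1 (show l ∈ L' from hLL' ▸ hl))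
      (fun v => by rw [← hLL']; exact hdL' v)
  obtain ⟨α, hzt, -, hzinv, -⟩ := exists_inv hcomm hp t t'
    (fun v => MonoidHom.mem_ker.1 (hdL _)) (fun v => MonoidHom.mem_ker.1 (hdL' _))
    z₀ z₀' (hexp _) (hexp _)
    (fun v => by obtain ⟨k, hk⟩ := hz₀gen _ (hdL v); exact ⟨k, hk⟩)
    (fun v => by obtain ⟨k, hk⟩ := hz₀gen' _ (hdL' v); exact ⟨k, hk⟩) he he'
  refine ⟨α, ?_, ?_⟩
  · exact (Commute.pow_left (show Commute ((t ^ α * t' * t ^ α) ^ 2) t from hzt) p).eq
  · obtain ⟨z, hz⟩ : ∃ z, z = (t ^ α * t' * t ^ α) ^ 2 := ⟨_, rfl⟩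
    rw [← hz] at hzt hzinv ⊢
    -- z inverts L
    have hzL : ∀ a ∈ L, z a = a⁻¹ := by
      intro a ha
      have : a ∈ (dsp hcomm t).range := hML ▸ ha
      obtain ⟨w, rfl⟩ := this
      exact hzinv w
    intro v
    -- a := z v * v ∈ L
    have hzt' : ∀ w, t (z w) = z (t w) := by
      intro w
      have := congrArg (fun f : MulAut V => f w) hzt
      simpa [MulAut.mul_apply] using this.symm
    have ha : z v * v ∈ L := by
      rw [hL, MonoidHom.mem_ker, map_mul, dsp_apply hcomm t (z v), hzt', ← map_inv, ← map_mul,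
        ← dsp_apply hcomm t v, hzinv, inv_mul_cancel]
    obtain ⟨a, ha_def⟩ : ∃ a, a = z v * v := ⟨_, rfl⟩
    rw [← ha_def] at ha
    have hzv : z v = v⁻¹ * a := by rw [ha_def, hcomm (z v) v, inv_mul_cancel_left]
    have hza : z a = a⁻¹ := hzL a ha
    -- z ^ 2
    have hz2fix : ∀ r ∈ L, (z ^ 2) r = r := by
      intro r hr
      rw [pow_two, MulAut.mul_apply, hzL r hr, map_inv, hzL r hr, inv_inv]
    have hz2 : (z ^ 2) v = (v⁻¹ * a)⁻¹ * a⁻¹ := by
      rw [pow_two, MulAut.mul_apply]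
      calc z (z v) = z (v⁻¹ * a) := by rw [← hzv]
        _ = (z v)⁻¹ * z a := by rw [map_mul, map_inv]
        _ = (v⁻¹ * a)⁻¹ * a⁻¹ := by rw [hza, ← hzv]
    have hz2v : v⁻¹ * (z ^ 2) v = (a ^ 2)⁻¹ := by
      rw [hz2]
      let _i : AddCommGroup (Additive V) :=
        { (inferInstance : AddGroup (Additive V)) with add_comm := fun x y => hcomm x y }
      have key : ∀ v a : Additive V, -v + (-(-v + a) + -a) = -(2 • a) := by
        intro v a; abel
      exact key (Additive.ofMul v) (Additive.ofMul a)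
    obtain ⟨n, hn⟩ : ∃ n, p = 2 * n + 1 := by
      rcases hp.eq_two_or_odd' with h | h
      · exact absurd h hp2
      · obtain ⟨n, hn⟩ := h; exact ⟨n, hn⟩
    have hpow := stab_pow_apply (z ^ 2) L hz2fix v (by rw [hz2v]; exact L.inv_mem (L.pow_mem ha 2)) n
    have hA : ((z ^ 2) ^ n) v = v * ((a ^ 2)⁻¹) ^ n := by rw [hpow, hz2v]
    have hB : z (((a ^ 2)⁻¹) ^ n) = a ^ (2 * n) := by
      rw [map_pow, map_inv, map_pow, hza, inv_pow a 2, inv_inv, ← pow_mul]
    have e1 : z ^ p = z * (z ^ 2) ^ n := by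
      have h2n : (z ^ 2) ^ n = z ^ (2 * n) := (pow_mul z 2 n).symm
      rw [h2n, ← pow_succ', ← hn]
    rw [e1, MulAut.mul_apply, hA, map_mul, hB, hzv, mul_assoc, ← pow_succ', ← hn, hexp, mul_one]

end Cfsg.Agent.Lib.Helper27.MetaSCV
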