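import Mathlib
import Cfsg.Agent.Lib.Helper27.MetaSCV
import Cfsg.Agent.Lib.Helper02.PStab
import Cfsg.Agent.Lib.Helper26.Rank2Aut
import Cfsg.Agent.Lib.Helper03.PGroupFrattini

set_option autoImplicit false

/-!
A group `Γ` of automorphisms of a `p`-group `E` (`p` odd) stabilizing a subgroup `Q` with
`|Q : Φ(Q)| ≤ p ^ 2`, and a `p`-element `c ∈ Γ` acting trivially on `E / Q`: either `c` lies in a normal
`p`-subgroup of `Γ`, or some `t ∈ Γ` inverts `Q / Φ(Q)` and commutes with `c` modulo a normal `p`-subgroup.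
-/

namespace Cfsg.Agent.Lib.Helper27.MetaSCA

open Cfsg.Agent.Lib.Helper26.Rank2Aut Cfsg.Agent.Lib.Helper90
open scoped commutatorElement

variable {Ω : Type*} [Group Ω]

/-- automorphisms of `E` stabilizing the subgroup `Q` of the ambient group. -/
def stabSub (E Q : Subgroup Ω) : Subgroup (MulAut ↥E) where
  carrier := {β | ∀ v : ↥E, ((β v : ↥E) : Ω) ∈ Q ↔ (v : Ω) ∈ Q}
  one_mem' := fun _ => Iff.rfl
  mul_mem' := by
    intro a b ha hb v
    rw [MulAut.mul_apply, ha, hb]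
  inv_mem' := by
    intro a ha v
    have := ha (a⁻¹ v)
    rw [MulAut.apply_inv_self] at this
    exact this.symm

theorem mem_stabSub {E Q : Subgroup Ω} {β : MulAut ↥E} :
    β ∈ stabSub E Q ↔ ∀ v : ↥E, ((β v : ↥E) : Ω) ∈ Q ↔ (v : Ω) ∈ Q := Iff.rfl

/-- restriction to `Q` of the automorphisms stabilizing `Q`. -/
def resHom (E Q : Subgroup Ω) (hQE : Q ≤ E) : ↥(stabSub E Q) →* MulAut ↥Q where
  toFun β :=
    { toFun := fun v => ⟨((β : MulAut ↥E) ⟨v, hQE v.2⟩ : ↥E), (β.2 _).2 v.2⟩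
      invFun := fun v => ⟨((β : MulAut ↥E)⁻¹ ⟨v, hQE v.2⟩ : ↥E),
        ((stabSub E Q).inv_mem β.2 _).2 v.2⟩
      left_inv := fun v => by
        apply Subtype.ext
        show (((β : MulAut ↥E)⁻¹ ((β : MulAut ↥E) ⟨v, hQE v.2⟩) : ↥E) : Ω) = v
        rw [MulAut.inv_apply_self]
      right_inv := fun v => by
        apply Subtype.ext
        show (((β : MulAut ↥E) ((β : MulAut ↥E)⁻¹ ⟨v, hQE v.2⟩) : ↥E) : Ω) = v
        rw [MulAut.apply_inv_self]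
      map_mul' := fun u v => by
        apply Subtype.ext
        show (((β : MulAut ↥E) ⟨(u : Ω) * v, _⟩ : ↥E) : Ω) = _
        have : (⟨(u : Ω) * v, hQE (u * v).2⟩ : ↥E) = ⟨u, hQE u.2⟩ * ⟨v, hQE v.2⟩ := rfl
        rw [this, map_mul]
        rfl }
  map_one' := by
    ext v
    rfl
  map_mul' a b := by
    ext v
    rfl

theorem resHom_apply (E Q : Subgroup Ω) (hQE : Q ≤ E) (β : ↥(stabSub E Q)) (v : ↥Q) :
    ((resHom E Q hQE β v : ↥Q) : Ω) = ((β : MulAut ↥E) ⟨v, hQE v.2⟩ : ↥E) := rfl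

/-- automorphisms of `E` acting trivially on `E / Q`. -/
def trivQuot (E Q : Subgroup Ω) : Subgroup (MulAut ↥E) where
  carrier := {β | ∀ e : ↥E, ((e⁻¹ * β e : ↥E) : Ω) ∈ Q}
  one_mem' := fun e => by
    rw [MulAut.one_apply, inv_mul_cancel]
    exact Q.one_mem
  mul_mem' := by
    intro a b ha hb e
    have hfw : ∀ w : ↥E, (w : Ω) ∈ Q → ((a w : ↥E) : Ω) ∈ Q := by
      intro w hw
      have e1 : a w = w * (w⁻¹ * a w) := by group
      rw [e1, Subgroup.coe_mul]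
      exact Q.mul_mem hw (ha w)
    have e2 : e⁻¹ * (a * b) e = (e⁻¹ * a e) * a (e⁻¹ * b e) := by
      rw [MulAut.mul_apply, map_mul, map_inv]; group
    rw [e2, Subgroup.coe_mul]
    exact Q.mul_mem (ha e) (hfw _ (hb e))
  inv_mem' := by
    intro a ha e
    have hbw : ∀ w : ↥E, (w : Ω) ∈ Q → ((a⁻¹ w : ↥E) : Ω) ∈ Q := by
      intro w hw
      have h1 := ha (a⁻¹ w)
      rw [MulAut.apply_inv_self, Subgroup.coe_mul, Subgroup.coe_inv] at h1
      have h2 : (((a⁻¹ w : ↥E) : Ω))⁻¹ ∈ Q := by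
        have := Q.mul_mem h1 (Q.inv_mem hw)
        rwa [mul_assoc, mul_inv_cancel, mul_one] at this
      exact (Subgroup.inv_mem_iff Q).1 h2
    have e2 : e⁻¹ * a⁻¹ e = a⁻¹ ((e⁻¹ * a e)⁻¹) := by
      rw [map_inv, map_mul, map_inv, MulAut.inv_apply_self]; group
    rw [e2]
    apply hbw
    rw [Subgroup.coe_inv]
    exact Q.inv_mem (ha e)

theorem mem_trivQuot {E Q : Subgroup Ω} {β : MulAut ↥E} :
    β ∈ trivQuot E Q ↔ ∀ e : ↥E, ((e⁻¹ * β e : ↥E) : Ω) ∈ Q := Iff.rfl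

theorem conj_mem_trivQuot {E Q : Subgroup Ω} {γ β : MulAut ↥E} (hγ : γ ∈ stabSub E Q)
    (hβ : β ∈ trivQuot E Q) : γ * β * γ⁻¹ ∈ trivQuot E Q := by
  intro e
  have e1 : e⁻¹ * (γ * β * γ⁻¹) e = γ ((γ⁻¹ e)⁻¹ * β (γ⁻¹ e)) := by
    rw [MulAut.mul_apply, MulAut.mul_apply, map_mul, map_inv, MulAut.apply_inv_self]
  rw [e1]
  exact (hγ _).2 (hβ _)


/-- the action on the Frattini quotient of `Q`. -/
noncomputable def actV (E Q : Subgroup Ω) (hQE : Q ≤ E) :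
    ↥(stabSub E Q) →* MulAut (↥Q ⧸ frattini ↥Q) :=
  (frattQ ↥Q).comp (resHom E Q hQE)

theorem actV_mk (E Q : Subgroup Ω) (hQE : Q ≤ E) (β : ↥(stabSub E Q)) (v : ↥Q) :
    actV E Q hQE β (QuotientGroup.mk v) = QuotientGroup.mk (resHom E Q hQE β v) := rfl

theorem trivQuot_le_stabSub (E Q : Subgroup Ω) : trivQuot E Q ≤ stabSub E Q := by
  intro β hβ v
  have h1 := hβ v
  rw [Subgroup.coe_mul, Subgroup.coe_inv] at h1
  constructor
  · intro h
    have := Q.mul_mem h (Q.inv_mem h1)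
    rw [mul_inv_rev, inv_inv, mul_inv_cancel_left] at this
    exact this
  · intro h
    have := Q.mul_mem h h1
    rwa [mul_inv_cancel_left] at this

/-- an automorphism trivial on `Q` and on `E / Q` has order dividing `|E|`. -/
theorem pow_card_eq_one_of_trivial {E Q : Subgroup Ω} [Finite ↥E]
    (γ : MulAut ↥E) (h1 : γ ∈ trivQuot E Q) (h2 : ∀ v : ↥E, (v : Ω) ∈ Q → γ v = v) :
    γ ^ Nat.card ↥E = 1 := by
  ext e
  have := stab_pow_apply γ (Q.subgroupOf E) (fun r hr => h2 r (Subgroup.mem_subgroupOf.1 hr)) e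
    (Subgroup.mem_subgroupOf.2 (h1 e)) (Nat.card ↥E)
  rw [this, pow_card_eq_one', mul_one]
  rfl


section main

variable {p : ℕ} [Fact p.Prime] {E Q : Subgroup Ω} [Finite ↥E]

/-- the kernel of the actions on `E / Q` and on `Q / Φ(Q)`, inside a group `Γ` of automorphisms. -/
noncomputable def kerSub (hQE : Q ≤ E) (Γ : Subgroup (MulAut ↥E)) (hΓ : Γ ≤ stabSub E Q) :
    Subgroup ↥Γ :=
  (trivQuot E Q).subgroupOf Γ ⊓ ((actV E Q hQE).comp (Subgroup.inclusion hΓ)).ker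

theorem kerSub_normal (hQE : Q ≤ E) (Γ : Subgroup (MulAut ↥E)) (hΓ : Γ ≤ stabSub E Q) :
    (kerSub hQE Γ hΓ).Normal := by
  constructor
  intro n hn g
  obtain ⟨hn1, hn2⟩ := Subgroup.mem_inf.1 hn
  refine Subgroup.mem_inf.2 ⟨?_, ?_⟩
  · rw [Subgroup.mem_subgroupOf]
    have := conj_mem_trivQuot (hΓ g.2) (Subgroup.mem_subgroupOf.1 hn1)
    simpa using this
  · exact (MonoidHom.normal_ker _).conj_mem n hn2 g

theorem kerSub_isPGroup (hE : IsPGroup p ↥E) (hQE : Q ≤ E) (Γ : Subgroup (MulAut ↥E))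
    (hΓ : Γ ≤ stabSub E Q) : IsPGroup p (kerSub hQE Γ hΓ) := by
  have hfinQ : Finite ↥Q := Finite.of_injective _ (Subgroup.inclusion_injective hQE)
  have hQp : IsPGroup p ↥Q := hE.to_le hQE
  have hker := isPGroup_ker_frattQ hQp
  obtain ⟨m, hm⟩ := hE.exists_card_eq
  rintro ⟨β, hβ⟩
  obtain ⟨hβ1, hβ2⟩ := Subgroup.mem_inf.1 hβ
  -- the restriction of `β` to `Q` lies in the kernel of `frattQ`
  have hσ : resHom E Q hQE (Subgroup.inclusion hΓ β) ∈ (frattQ ↥Q).ker := by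
    rw [MonoidHom.mem_ker] at hβ2 ⊢
    exact hβ2
  obtain ⟨n, hn⟩ := hker ⟨_, hσ⟩
  have hn' : (resHom E Q hQE (Subgroup.inclusion hΓ β)) ^ (p ^ n) = 1 := congrArg Subtype.val hn
  have hn'' : resHom E Q hQE (Subgroup.inclusion hΓ (β ^ (p ^ n))) = 1 := by
    rw [map_pow, map_pow]; exact hn'
  -- γ = β ^ (p ^ n) is trivial on `Q` and on `E / Q`
  have hγ1 : ((β : MulAut ↥E)) ^ (p ^ n) ∈ trivQuot E Q :=
    (trivQuot E Q).pow_mem (Subgroup.mem_subgroupOf.1 hβ1) _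
  have hγ2 : ∀ v : ↥E, (v : Ω) ∈ Q → ((β : MulAut ↥E) ^ (p ^ n)) v = v := by
    intro v hv
    have := congrArg (fun f : MulAut ↥Q => ((f ⟨v, hv⟩ : ↥Q) : Ω)) hn''
    apply Subtype.ext
    exact this
  have h3 := pow_card_eq_one_of_trivial _ hγ1 hγ2
  refine ⟨n + m, Subtype.ext (Subtype.ext ?_)⟩
  show ((β : MulAut ↥E)) ^ (p ^ (n + m)) = 1
  rw [pow_add, pow_mul, ← hm]
  exact h3


/-- **Lemma A**. -/
theorem exists_inverting_aut (hp2 : p ≠ 2) (hE : IsPGroup p ↥E) (hQE : Q ≤ E)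
    (hfr : (frattini ↥Q).index ≤ p ^ 2) (Γ : Subgroup (MulAut ↥E)) (hΓ : Γ ≤ stabSub E Q)
    (c : MulAut ↥E) (hc : c ∈ Γ) (j : ℕ) (hcp : c ^ (p ^ j) = 1) (hcQ : c ∈ trivQuot E Q) :
    (∃ N : Subgroup ↥Γ, N.Normal ∧ IsPGroup p N ∧ (⟨c, hc⟩ : ↥Γ) ∈ N) ∨
    (∃ t : ↥Γ,
      (∀ v : ↥E, (v : Ω) ∈ Q →
        (v : Ω) * (((t : MulAut ↥E) v : ↥E) : Ω) ∈ (frattini ↥Q).map Q.subtype) ∧
      (∃ N : Subgroup ↥Γ, N.Normal ∧ IsPGroup p N ∧
        t * ⟨c, hc⟩ * t⁻¹ * (⟨c, hc⟩ : ↥Γ)⁻¹ ∈ N) ∧ ¬ IsCyclic ↥Q) := by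
  classical
  have hp : p.Prime := Fact.out
  by_cases hN : ∃ N : Subgroup ↥Γ, N.Normal ∧ IsPGroup p N ∧ (⟨c, hc⟩ : ↥Γ) ∈ N
  · exact Or.inl hN
  right
  have hfinQ : Finite ↥Q := Finite.of_injective _ (Subgroup.inclusion_injective hQE)
  have hQp : IsPGroup p ↥Q := hE.to_le hQE
  obtain ⟨a, ha_def⟩ : ∃ a : ↥Γ, a = ⟨c, hc⟩ := ⟨_, rfl⟩
  rw [← ha_def] at hN ⊢
  have ha : ∀ N : Subgroup ↥Γ, N.Normal → IsPGroup p N → a ∉ N :=
    fun N h1 h2 h3 => hN ⟨N, h1, h2, h3⟩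
  obtain ⟨g, hg⟩ := Cfsg.Agent.Lib.Helper02.PStab.exists_conj_not_pGroup a ha
  obtain ⟨a', ha'_def⟩ : ∃ a' : ↥Γ, a' = g * a * g⁻¹ := ⟨_, rfl⟩
  rw [← ha'_def] at hg
  -- the action on V
  set ρ : ↥Γ →* MulAut (↥Q ⧸ frattini ↥Q) := (actV E Q hQE).comp (Subgroup.inclusion hΓ) with hρ
  set B : Subgroup ↥Γ := (trivQuot E Q).subgroupOf Γ with hB
  have hKdef : kerSub hQE Γ hΓ = B ⊓ ρ.ker := rfl
  have hKn := kerSub_normal hQE Γ hΓ
  have hKp := kerSub_isPGroup (p := p) hE hQE Γ hΓ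
  have haB : a ∈ B := by
    rw [hB, Subgroup.mem_subgroupOf, ha_def]; exact hcQ
  have ha'B : a' ∈ B := by
    rw [hB, Subgroup.mem_subgroupOf, ha'_def]
    have := conj_mem_trivQuot (hΓ g.2) (Subgroup.mem_subgroupOf.1 haB)
    simpa using this
  -- V is elementary abelian of order dividing p ^ 2
  have hcommV : ∀ x y : ↥Q ⧸ frattini ↥Q, x * y = y * x := by
    intro x y
    induction x using QuotientGroup.induction_on with
    | H x =>
      induction y using QuotientGroup.induction_on with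
      | H y =>
        rw [← QuotientGroup.mk_mul, ← QuotientGroup.mk_mul, QuotientGroup.eq]
        apply Cfsg.Agent.Lib.Helper03.commutator_le_frattini_of_isPGroup hQp
        have e1 : (x * y)⁻¹ * (y * x) = ⁅y⁻¹, x⁻¹⁆ := by
          rw [commutatorElement_def]; group
        rw [e1]
        exact Subgroup.commutator_mem_commutator (Subgroup.mem_top _) (Subgroup.mem_top _)
  have hexpV : ∀ x : ↥Q ⧸ frattini ↥Q, x ^ p = 1 := by
    intro x
    induction x using QuotientGroup.induction_on with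
    | H x =>
      rw [← QuotientGroup.mk_pow, QuotientGroup.eq_one_iff]
      exact Cfsg.Agent.Lib.Helper03.pow_mem_frattini_of_isPGroup hQp x
  have hcardV : Nat.card (↥Q ⧸ frattini ↥Q) ∣ p ^ 2 := by
    have h1 : Nat.card (↥Q ⧸ frattini ↥Q) = (frattini ↥Q).index := rfl
    rw [h1]
    obtain ⟨k, hk⟩ := hQp.index (frattini ↥Q)
    rw [hk] at hfr ⊢
    exact pow_dvd_pow p ((Nat.pow_le_pow_iff_right hp.one_lt).1 hfr)
  -- p-elements
  have hap : a ^ (p ^ j) = 1 := by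
    rw [ha_def]; exact Subtype.ext hcp
  have ha'p : a' ^ (p ^ j) = 1 := by
    rw [ha'_def, conj_pow, hap, mul_one, mul_inv_cancel]
  -- the images do not generate a p-group
  have hT : ¬ IsPGroup p (Subgroup.closure ({ρ a, ρ a'} : Set (MulAut (↥Q ⧸ frattini ↥Q)))) := by
    intro hp'
    apply hg
    have hDB : Subgroup.closure ({a, a'} : Set ↥Γ) ≤ B := by
      rw [Subgroup.closure_le]
      rintro s (rfl | rfl)
      · exact haB
      · exact ha'B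
    rintro ⟨d, hd⟩
    have hρd : ρ d ∈ Subgroup.closure ({ρ a, ρ a'} : Set (MulAut (↥Q ⧸ frattini ↥Q))) := by
      have h1 := Subgroup.mem_map_of_mem ρ hd
      rw [MonoidHom.map_closure, Set.image_pair] at h1
      exact h1
    obtain ⟨n, hn⟩ := hp' ⟨ρ d, hρd⟩
    have hn' : (ρ d) ^ (p ^ n) = 1 := congrArg Subtype.val hn
    have hdK : d ^ (p ^ n) ∈ kerSub hQE Γ hΓ := by
      rw [hKdef]
      refine Subgroup.mem_inf.2 ⟨B.pow_mem (hDB hd) _, ?_⟩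
      rw [MonoidHom.mem_ker, map_pow]; exact hn'
    obtain ⟨m, hm⟩ := hKp ⟨_, hdK⟩
    have hm' : (d ^ (p ^ n)) ^ (p ^ m) = 1 := congrArg Subtype.val hm
    refine ⟨n + m, Subtype.ext ?_⟩
    show d ^ (p ^ (n + m)) = 1
    rw [pow_add, pow_mul]; exact hm'
  obtain ⟨hVcard, α, hzt, hzinv⟩ := Cfsg.Agent.Lib.Helper27.MetaSCV.exists_inverting hp2 hcommV hexpV
    hcardV (ρ a) (ρ a') j j (by rw [← map_pow, hap, map_one]) (by rw [← map_pow, ha'p, map_one]) hT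
  obtain ⟨t, ht_def⟩ : ∃ t : ↥Γ, t = ((a ^ α * a' * a ^ α) ^ 2) ^ p := ⟨_, rfl⟩
  have hρt : ρ t = ((ρ a ^ α * ρ a' * ρ a ^ α) ^ 2) ^ p := by
    rw [ht_def]; simp only [map_pow, map_mul]
  rw [← hρt] at hzt hzinv
  have htB : t ∈ B := by
    rw [ht_def]
    exact B.pow_mem (B.pow_mem (B.mul_mem (B.mul_mem (B.pow_mem haB _) ha'B) (B.pow_mem haB _)) _) _
  refine ⟨t, ?_, ⟨kerSub hQE Γ hΓ, hKn, hKp, ?_⟩, ?_⟩
  · intro v hv
    have h1 := hzinv (QuotientGroup.mk ⟨(v : Ω), hv⟩)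
    rw [hρ, MonoidHom.comp_apply, actV_mk, ← QuotientGroup.mk_inv, QuotientGroup.eq] at h1
    have h1' := (frattini ↥Q).inv_mem h1
    rw [mul_inv_rev, inv_inv, inv_inv] at h1'
    have h2 := Subgroup.mem_map_of_mem Q.subtype h1'
    exact h2
  · rw [hKdef]
    refine Subgroup.mem_inf.2 ⟨B.mul_mem (B.mul_mem (B.mul_mem htB haB) (B.inv_mem htB))
      (B.inv_mem haB), ?_⟩
    rw [MonoidHom.mem_ker, map_mul, map_mul, map_mul, map_inv, map_inv, hzt]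
    group
  · intro hcyc
    have hcycV : IsCyclic (↥Q ⧸ frattini ↥Q) :=
      isCyclic_of_surjective _ (QuotientGroup.mk'_surjective (frattini ↥Q))
    have h1 : Monoid.exponent (↥Q ⧸ frattini ↥Q) ∣ p :=
      Monoid.exponent_dvd_of_forall_pow_eq_one hexpV
    rw [IsCyclic.exponent_eq_card, hVcard] at h1
    have h2 := Nat.le_of_dvd hp.pos h1
    have h3 : p < p ^ 2 := by
      rw [pow_two]; exact lt_mul_of_one_lt_left hp.pos hp.one_lt
    omega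

end main

end Cfsg.Agent.Lib.Helper27.MetaSCA
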