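import Mathlib
import Cfsg.Agent.Lib.Helper27.MetaSCA
import Cfsg.Agent.Lib.Helper68.MetaActB
import Cfsg.Agent.S1447

set_option autoImplicit false

/-!
A metacyclic `p`-group `R` (`p` odd) with an automorphism stabilizing a non-cyclic subgroup `Q` and inverting
`Q / Φ(Q)` is abelian.
-/

namespace Cfsg.Agent.Lib.Helper27.MetaSCC

open Cfsg.Agent.Lib.Helper26.Rank2Aut Cfsg.Agent.Lib.Helper27.MetaSCA
open scoped commutatorElement

/-- a finite group with cyclic Frattini quotient is cyclic. -/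
theorem isCyclic_of_frattQuot {G : Type*} [Group G] [Finite G]
    (h : IsCyclic (G ⧸ frattini G)) : IsCyclic G := by
  obtain ⟨q, hq⟩ := h.exists_generator
  obtain ⟨g, rfl⟩ := QuotientGroup.mk_surjective q
  have htop : Subgroup.zpowers g ⊔ frattini G = ⊤ := by
    rw [eq_top_iff]
    intro x _
    obtain ⟨k, hk⟩ := Subgroup.mem_zpowers_iff.mp (hq (x : G ⧸ frattini G))
    rw [← QuotientGroup.mk_zpow, QuotientGroup.eq] at hk
    have : x = g ^ k * ((g ^ k)⁻¹ * x) := by group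
    rw [this]
    exact Subgroup.mul_mem_sup (Subgroup.zpow_mem_zpowers g k) hk
  have := frattini_nongenerating htop
  exact isCyclic_iff_exists_zpowers_eq_top.mpr ⟨g, this⟩

variable {Ω : Type*} [Group Ω]

theorem mem_stabSub_of_forall {R Q : Subgroup Ω} [Finite ↥R] (hQR : Q ≤ R) (τ : MulAut ↥R)
    (hτQ : ∀ v : ↥R, (v : Ω) ∈ Q → ((τ v : ↥R) : Ω) ∈ Q) : τ ∈ stabSub R Q := by
  have hfinQ : Finite ↥Q := Finite.of_injective _ (Subgroup.inclusion_injective hQR)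
  intro v
  refine ⟨fun h => ?_, hτQ v⟩
  let f : ↥Q → ↥Q := fun w => ⟨((τ ⟨w, hQR w.2⟩ : ↥R) : Ω), hτQ _ w.2⟩
  have hinj : Function.Injective f := by
    intro a b hab
    have h1 : ((τ ⟨a, hQR a.2⟩ : ↥R) : Ω) = ((τ ⟨b, hQR b.2⟩ : ↥R) : Ω) :=
      congrArg (fun x : ↥Q => (x : Ω)) hab
    have h2 := τ.injective (Subtype.ext h1)
    exact Subtype.ext (congrArg (fun x : ↥R => (x : Ω)) h2)
  obtain ⟨w, hw⟩ := (Finite.injective_iff_surjective.1 hinj) ⟨_, h⟩
  have h1 : ((τ ⟨w, hQR w.2⟩ : ↥R) : Ω) = ((τ v : ↥R) : Ω) :=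
    congrArg (fun x : ↥Q => (x : Ω)) hw
  have h2 := τ.injective (Subtype.ext h1)
  rw [← h2]
  exact w.2


/-- **Lemma C**. -/
theorem comm_of_inverting {p : ℕ} [Fact p.Prime] (hp2 : p ≠ 2) (R Q : Subgroup Ω) [Finite ↥R]
    (hR : IsPGroup p ↥R) (hm : Cfsg.IsMetacyclic ↥R) (hQR : Q ≤ R) (τ : MulAut ↥R)
    (hτQ : ∀ v : ↥R, (v : Ω) ∈ Q → ((τ v : ↥R) : Ω) ∈ Q)
    (hinv : ∀ v : ↥R, (v : Ω) ∈ Q → (v : Ω) * ((τ v : ↥R) : Ω) ∈ (frattini ↥Q).map Q.subtype)
    (hnc : ¬ IsCyclic ↥Q) : ∀ a b : ↥R, a * b = b * a := by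
  classical
  have hp : p.Prime := Fact.out
  have hfinQ : Finite ↥Q := Finite.of_injective _ (Subgroup.inclusion_injective hQR)
  have hQp : IsPGroup p ↥Q := hR.to_le hQR
  have hτS : τ ∈ stabSub R Q := mem_stabSub_of_forall hQR τ hτQ
  obtain ⟨T, hT_def⟩ : ∃ T : MulAut (↥Q ⧸ frattini ↥Q), T = actV R Q hQR ⟨τ, hτS⟩ := ⟨_, rfl⟩
  have hT : ∀ w, T w = w⁻¹ := by
    intro w
    induction w using QuotientGroup.induction_on with
    | H v =>
      rw [hT_def, actV_mk, ← QuotientGroup.mk_inv, QuotientGroup.eq]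
      have h1 := hinv ⟨v, hQR v.2⟩ v.2
      rw [Subgroup.mem_map] at h1
      obtain ⟨u, hu, hu'⟩ := h1
      have h2 : u = v * resHom R Q hQR ⟨τ, hτS⟩ v := Subtype.ext (hu'.trans rfl)
      rw [h2] at hu
      have h3 := (frattini ↥Q).inv_mem hu
      rwa [mul_inv_rev] at h3
  have hexpV : ∀ x : ↥Q ⧸ frattini ↥Q, x ^ p = 1 := by
    intro x
    induction x using QuotientGroup.induction_on with
    | H x =>
      rw [← QuotientGroup.mk_pow, QuotientGroup.eq_one_iff]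
      exact Cfsg.Agent.Lib.Helper03.pow_mem_frattini_of_isPGroup hQp x
  obtain ⟨n₀, hn₀⟩ : ∃ n, p + 1 = 2 * n := by
    obtain ⟨k, hk⟩ := hp.odd_of_ne_two hp2
    exact ⟨k + 1, by omega⟩
  have hT2 : T ^ 2 = 1 := by
    ext x
    rw [pow_two, MulAut.mul_apply, hT, hT, inv_inv]; rfl
  have hTodd : ∀ n, Odd n → ∀ w, (T ^ n) w = w⁻¹ := by
    rintro n ⟨k, hk⟩ w
    rw [hk, pow_succ, pow_mul, hT2, one_pow, one_mul, hT]
  -- the p'-part
  have hord : orderOf τ ≠ 0 := (orderOf_pos τ).ne'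
  obtain ⟨k, m, hpm, hkm⟩ := Nat.exists_eq_pow_mul_and_not_dvd hord p hp.ne_one
  obtain ⟨τ₀, hτ₀_def⟩ : ∃ τ₀ : MulAut ↥R, τ₀ = τ ^ (p ^ k) := ⟨_, rfl⟩
  have hτ₀m : τ₀ ^ m = 1 := by rw [hτ₀_def, ← pow_mul, ← hkm, pow_orderOf_eq_one]
  have hτ₀S : τ₀ ∈ stabSub R Q := by rw [hτ₀_def]; exact (stabSub R Q).pow_mem hτS _
  have hT₀ : actV R Q hQR ⟨τ₀, hτ₀S⟩ = T ^ (p ^ k) := by
    have h1 : (⟨τ₀, hτ₀S⟩ : ↥(stabSub R Q)) = ⟨τ, hτS⟩ ^ (p ^ k) := Subtype.ext hτ₀_def
    rw [h1, map_pow, hT_def]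
  have hpkodd : Odd (p ^ k) := (hp.odd_of_ne_two hp2).pow
  have hinv₀ : ∀ w, actV R Q hQR ⟨τ₀, hτ₀S⟩ w = w⁻¹ := by
    rw [hT₀]; exact hTodd _ hpkodd
  -- the semidirect product
  let G := ↥R ⋊[MonoidHom.id (MulAut ↥R)] MulAut ↥R
  haveI : Finite G := Finite.of_equiv _ SemidirectProduct.equivProd.symm
  let ι : ↥R →* G := SemidirectProduct.inl
  obtain ⟨s, hs_def⟩ : ∃ s : G, s = SemidirectProduct.inr τ₀ := ⟨_, rfl⟩
  obtain ⟨R', hR'_def⟩ : ∃ R' : Subgroup G, R' = ι.range := ⟨_, rfl⟩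
  obtain ⟨A', hA'_def⟩ : ∃ A' : Subgroup G, A' = Subgroup.zpowers s := ⟨_, rfl⟩
  have hιinj : Function.Injective ι := SemidirectProduct.inl_injective
  have hιR' : ∀ r : ↥R, ι r ∈ R' := fun r => by rw [hR'_def]; exact ⟨r, rfl⟩
  have hsA' : s ∈ A' := by rw [hA'_def]; exact Subgroup.mem_zpowers s
  have hR'p : IsPGroup p ↥R' := by
    rw [hR'_def]; exact hR.of_surjective ι.rangeRestrict ι.rangeRestrict_surjective
  have hR'm : Cfsg.IsMetacyclic ↥R' := by
    rw [hR'_def]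
    exact Cfsg.Agent.Lib.Helper68.MA.isMetacyclic_of_surjective ι.rangeRestrict
      ι.rangeRestrict_surjective hm
  have hR'n : R'.Normal := by
    rw [hR'_def]
    show (SemidirectProduct.inl : ↥R →* G).range.Normal
    rw [SemidirectProduct.range_inl_eq_ker_rightHom]; infer_instance
  have hA' : A' ≤ Subgroup.normalizer (R' : Set G) := by
    rw [Subgroup.normalizer_eq_top_iff.mpr hR'n]; exact le_top
  have hcop : (Nat.card A').Coprime p := by
    rw [hA'_def, Nat.card_zpowers, hs_def, orderOf_injective _ SemidirectProduct.inr_injective]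
    have h1 : orderOf τ₀ ∣ m := orderOf_dvd_of_pow_eq_one hτ₀m
    exact Nat.Coprime.coprime_dvd_left h1 ((Nat.Prime.coprime_iff_not_dvd hp).2 hpm).symm
  have key := (Cfsg.Agent.S1447.result p hp2 R' A' hR'p hR'm hA' hcop).2.2.2
  have hconj : ∀ r : ↥R, s * ι r * s⁻¹ = ι (τ₀ r) := by
    intro r
    rw [hs_def]
    have := SemidirectProduct.inl_aut (φ := MonoidHom.id (MulAut ↥R)) τ₀ r
    rw [map_inv] at this
    exact this.symm
  -- the commutator is not cyclic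
  have hncyc : ¬ IsCyclic ↥⁅R', A'⁆ := by
    intro hcyc
    apply hnc
    apply isCyclic_of_frattQuot
    let κ : ↥Q →* G := ι.comp (Subgroup.inclusion hQR)
    have hκinj : Function.Injective κ := hιinj.comp (Subgroup.inclusion_injective hQR)
    let W : Subgroup ↥Q := (⁅R', A'⁆).comap κ
    have hWcyc : IsCyclic ↥W := by
      let f : ↥W →* ↥⁅R', A'⁆ := (κ.comp W.subtype).codRestrict _ (fun w => w.2)
      have hf : Function.Injective f := by
        intro a b hab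
        have h1 : κ a = κ b := congrArg (fun x : ↥⁅R', A'⁆ => (x : G)) hab
        exact Subtype.ext (hκinj h1)
      exact isCyclic_of_injective f hf
    let π : ↥W →* (↥Q ⧸ frattini ↥Q) := (QuotientGroup.mk' (frattini ↥Q)).comp W.subtype
    have hπ : Function.Surjective π := by
      intro x
      have hy : (x ^ n₀) ^ 2 = x := by
        rw [← pow_mul, mul_comm, ← hn₀, pow_succ, hexpV, one_mul]
      obtain ⟨v, hv⟩ := QuotientGroup.mk_surjective (x ^ n₀)
      have huW : v * (resHom R Q hQR ⟨τ₀, hτ₀S⟩ v)⁻¹ ∈ W := by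
        show κ (v * (resHom R Q hQR ⟨τ₀, hτ₀S⟩ v)⁻¹) ∈ ⁅R', A'⁆
        have h1 : κ (v * (resHom R Q hQR ⟨τ₀, hτ₀S⟩ v)⁻¹) = ⁅κ v, s⁆ := by
          rw [commutatorElement_def]
          have h2 : κ v * s * (κ v)⁻¹ * s⁻¹ = κ v * (s * ι (Subgroup.inclusion hQR v)⁻¹ * s⁻¹) := by
            have hκ : κ v = ι (Subgroup.inclusion hQR v) := rfl
            rw [hκ, map_inv]
            simp only [mul_assoc]
          rw [h2, hconj, map_mul, map_inv]
          show ι (Subgroup.inclusion hQR v) * (ι (Subgroup.inclusion hQR _))⁻¹ = _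
          rw [map_inv, map_inv]
          rfl
        rw [h1]
        exact Subgroup.commutator_mem_commutator (hιR' _) hsA'
      refine ⟨⟨_, huW⟩, ?_⟩
      show (QuotientGroup.mk (v * (resHom R Q hQR ⟨τ₀, hτ₀S⟩ v)⁻¹) : ↥Q ⧸ frattini ↥Q) = x
      rw [QuotientGroup.mk_mul, QuotientGroup.mk_inv, ← actV_mk, hinv₀, inv_inv, hv, ← pow_two, hy]
    exact isCyclic_of_surjective π hπ
  by_contra hcomm
  have hR'nc : ¬ IsMulCommutative ↥R' := by
    intro hc
    apply hcomm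
    intro a b
    have h1 := hc.is_comm.comm (⟨ι a, hιR' a⟩ : ↥R') ⟨ι b, hιR' b⟩
    have h2 : ι a * ι b = ι b * ι a := congrArg (fun x : ↥R' => (x : G)) h1
    apply hιinj
    rw [map_mul, map_mul]; exact h2
  by_cases hcent : A' ≤ Subgroup.centralizer (R' : Set G)
  · have hτ₀1 : ∀ r : ↥R, τ₀ r = r := by
      intro r
      have h1 : s ∈ Subgroup.centralizer (R' : Set G) := hcent hsA'
      have h2 := h1 (ι r) (hιR' r)
      apply hιinj
      rw [← hconj, ← h2, mul_inv_cancel_right]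
    apply hnc
    apply isCyclic_of_frattQuot
    have hx1 : ∀ x : ↥Q ⧸ frattini ↥Q, x = 1 := by
      intro x
      have h3 : actV R Q hQR ⟨τ₀, hτ₀S⟩ x = x := by
        induction x using QuotientGroup.induction_on with
        | H v =>
          rw [actV_mk]
          congr 1
          apply Subtype.ext
          rw [resHom_apply]
          exact congrArg (fun y : ↥R => (y : Ω)) (hτ₀1 _)
      rw [hinv₀] at h3
      have h4 : x ^ 2 = 1 := by
        rw [pow_two]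
        nth_rewrite 1 [← h3]
        exact inv_mul_cancel x
      calc x = x ^ (p + 1) := by rw [pow_succ, hexpV, one_mul]
        _ = 1 := by rw [hn₀, pow_mul, h4, one_pow]
    have hsub : Subsingleton (↥Q ⧸ frattini ↥Q) := ⟨fun x y => by rw [hx1 x, hx1 y]⟩
    exact isCyclic_of_subsingleton
  · exact hncyc (key hR'nc hcent).2.1

end Cfsg.Agent.Lib.Helper27.MetaSCC
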