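import Mathlib
import Cfsg.Prelude.Def_FusionSystem
import Cfsg.Agent.Lib.Helper27.MetaSCA
import Cfsg.Agent.Lib.Helper27.MetaSCC
import Cfsg.Agent.Lib.Helper03.FusEss2
import Cfsg.Agent.Lib.Helper88.FusionHP4
import Cfsg.Agent.Lib.Helper88.FusionRS4
import Cfsg.Agent.Lib.Helper72.MetaReg
import Cfsg.Agent.Lib.Helper23.PGroupNorm

set_option autoImplicit false

/-!
A strongly closed metacyclic subgroup (`p` odd) of a saturated fusion system is contained in every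
essential subgroup.
-/

namespace Cfsg.Agent.Lib.Helper27.MetaSCF

open Cfsg Cfsg.FusionSystem Cfsg.Agent.Lib.Helper87 Cfsg.Agent.Lib.Helper88 Cfsg.Agent.Lib.Helper89
  Cfsg.Agent.Lib.Helper27.MetaSCA Cfsg.Agent.Lib.Helper03.FusEss

variable {Ω : Type*} [Group Ω] {S : Subgroup Ω}

/-- a strongly closed subgroup is normalized by `S`. -/
theorem conj_mem_of_stronglyClosed (F : FusionSystem S) {P : Subgroup Ω} (hP : F.StronglyClosed P)
    {s : Ω} (hs : s ∈ S) {y : Ω} (hy : y ∈ P) : s * y * s⁻¹ ∈ P :=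
  hP.2 P le_rfl (conjHom P s) (F.conj_mem hP.1 hs) ⟨y, hy⟩

/-- `Aut_F(E)` maps `P ∩ E` into `P` for a strongly closed `P`. -/
theorem aut_apply_mem_of_stronglyClosed (F : FusionSystem S) {P E : Subgroup Ω}
    (hP : F.StronglyClosed P) (hES : E ≤ S) {α : MulAut ↥E} (hα : α ∈ F.autGroup E) (v : ↥E)
    (hv : (v : Ω) ∈ P) : ((α v : ↥E) : Ω) ∈ P := by
  have hφ := (mem_autGroup_iff F hES α).1 hα
  have hle : P ⊓ E ≤ E := inf_le_right
  have h1 := Helper87.restrict_mem F hle hφ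
  exact hP.2 (P ⊓ E) inf_le_left _ h1 ⟨v, hv, v.2⟩

theorem autGroup_le_stabSub (F : FusionSystem S) {P E : Subgroup Ω}
    (hP : F.StronglyClosed P) (hES : E ≤ S) : F.autGroup E ≤ stabSub E (P ⊓ E) := by
  intro α hα v
  constructor
  · intro h
    have h1 := aut_apply_mem_of_stronglyClosed F hP hES ((F.autGroup E).inv_mem hα) (α v) h.1
    rw [MulAut.inv_apply_self] at h1
    exact ⟨h1, v.2⟩
  · intro h
    exact ⟨aut_apply_mem_of_stronglyClosed F hP hES hα v h.1, (α v).2⟩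

/-- elements of a normal `p`-subgroup of `Aut_F(E)`, `E` essential, are inner. -/
theorem inner_of_mem_normal_pSubgroup [Finite S] {p : ℕ} [Fact p.Prime] (F : FusionSystem S)
    {E : Subgroup Ω} (hE : F.IsEssential p E) (N : Subgroup ↥(F.autGroup E)) (hNn : N.Normal)
    (hNp : IsPGroup p N) (β : ↥(F.autGroup E)) (hβ : β ∈ N) :
    ∃ u : ↥E, MulAut.conj u = (β : MulAut ↥E) := by
  have hES : E ≤ S := hE.1.1
  have : Finite ↥E := finite_of_le hES
  obtain ⟨hcen, -, hnorm, Emb, hEmb⟩ := hE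
  have hsurj := QuotientGroup.mk'_surjective ((Inn E).subgroupOf (F.autGroup E))
  have hbar : N.map (QuotientGroup.mk' ((Inn E).subgroupOf (F.autGroup E))) = ⊥ :=
    normal_pSubgroup_eq_bot Emb hEmb _ (hNn.map _ hsurj) (hNp.map _)
  have h1 : QuotientGroup.mk' ((Inn E).subgroupOf (F.autGroup E)) β ∈
      N.map (QuotientGroup.mk' ((Inn E).subgroupOf (F.autGroup E))) := Subgroup.mem_map_of_mem _ hβ
  rw [hbar, Subgroup.mem_bot, QuotientGroup.mk'_apply, QuotientGroup.eq_one_iff,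
    Subgroup.mem_subgroupOf] at h1
  obtain ⟨u, hu⟩ := h1
  exact ⟨u, hu⟩

/-- an element of `N_S(E)` inducing an inner automorphism of the centric subgroup `E` lies in `E`. -/
theorem mem_of_conj_eq_inner {E : Subgroup Ω} (hcen : centralizerIn S E ≤ E) {x : Ω} (hxS : x ∈ S)
    (hES : E ≤ S) (u : ↥E) (hu : ∀ e : ↥E, (u : Ω) * e * (u : Ω)⁻¹ = x * e * x⁻¹) : x ∈ E := by
  have hcent : (u : Ω)⁻¹ * x ∈ centralizerIn S E := by
    rw [mem_centralizerIn]
    refine ⟨S.mul_mem (S.inv_mem (hES u.2)) hxS, fun e he => ?_⟩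
    have h2 := hu ⟨e, he⟩
    have h3 : (u : Ω)⁻¹ * x * e = (u : Ω)⁻¹ * (x * e * x⁻¹) * x := by group
    rw [h3, ← h2]; group
  have h4 := hcen hcent
  have h5 : x = (u : Ω) * ((u : Ω)⁻¹ * x) := by group
  rw [h5]
  exact E.mul_mem u.2 h4


/-- existence of an element of `P ∩ N_S(E)` outside `E`. -/
theorem exists_mem_normalizer_not_mem [Finite S] {p : ℕ} [Fact p.Prime] (hS : IsPGroup p S)
    (F : FusionSystem S) {P E : Subgroup Ω} (hP : F.StronglyClosed P) (hES : E ≤ S)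
    (hPE : ¬ P ≤ E) : ∃ x ∈ P, x ∈ Subgroup.normalizer (E : Set Ω) ∧ x ∉ E := by
  have hPS : P ≤ S := hP.1
  have hH : E < E ⊔ P := by
    refine lt_of_le_of_ne le_sup_left (fun h => hPE ?_)
    rw [h]; exact le_sup_right
  have hHS : E ⊔ P ≤ S := sup_le hES hPS
  haveI : Finite ↥(E ⊔ P) := finite_of_le hHS
  obtain ⟨h, hhH, hhN, hhE⟩ := Cfsg.Agent.Lib.Helper23.exists_mem_normalizer_notMem p (E ⊔ P)
    (hS.to_le hHS) E hH
  have hEN : E ≤ Subgroup.normalizer (P : Set Ω) := by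
    intro e he
    rw [Subgroup.mem_normalizer_iff]
    intro y
    constructor
    · exact fun hy => conj_mem_of_stronglyClosed F hP (hES he) hy
    · intro hy
      have := conj_mem_of_stronglyClosed F hP (S.inv_mem (hES he)) hy
      have e1 : e⁻¹ * (e * y * e⁻¹) * e⁻¹⁻¹ = y := by group
      rwa [e1] at this
  have hmem : h ∈ ((E ⊔ P : Subgroup Ω) : Set Ω) := hhH
  rw [Subgroup.coe_mul_of_left_le_normalizer_right E P hEN] at hmem
  obtain ⟨e, he, y, hy, rfl⟩ := Set.mem_mul.1 hmem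
  refine ⟨y, hy, ?_, ?_⟩
  · have h1 : y = e⁻¹ * (e * y) := by group
    rw [h1]
    exact Subgroup.mul_mem _ (Subgroup.inv_mem _ (Subgroup.le_normalizer he)) hhN
  · intro hyE
    exact hhE (E.mul_mem he hyE)


/-- **Main step**: a strongly closed metacyclic subgroup lies in every essential subgroup (`p` odd). -/
theorem le_of_isEssential [Finite S] {p : ℕ} [Fact p.Prime] (hS : IsPGroup p S)
    (F : FusionSystem S) (hF : F.IsSaturated p) {P : Subgroup Ω} (hP : F.StronglyClosed P)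
    (hp2 : p ≠ 2) (hm : Cfsg.IsMetacyclic ↥P) {E : Subgroup Ω} (hE : F.IsEssential p E) :
    P ≤ E := by
  classical
  by_contra hPE
  have hES : E ≤ S := hE.1.1
  have hPS : P ≤ S := hP.1
  haveI : Finite ↥E := finite_of_le hES
  have hEp : IsPGroup p ↥E := hS.to_le hES
  obtain ⟨x, hxP, hxN, hxE⟩ := exists_mem_normalizer_not_mem hS F hP hES hPE
  have hxS : x ∈ S := hPS hxP
  obtain ⟨Q, hQ_def⟩ : ∃ Q : Subgroup Ω, Q = P ⊓ E := ⟨_, rfl⟩
  have hQE : Q ≤ E := hQ_def ▸ inf_le_right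
  have hQP : Q ≤ P := hQ_def ▸ inf_le_left
  have hΓ : F.autGroup E ≤ stabSub E Q := hQ_def ▸ autGroup_le_stabSub F hP hES
  haveI : Finite ↥Q := finite_of_le (hQE.trans hES)
  have hQp : IsPGroup p ↥Q := hS.to_le (hQE.trans hES)
  have hQm : Cfsg.IsMetacyclic ↥Q := Cfsg.Agent.Lib.Helper68.MA.isMetacyclic_of_le hQP hm
  have hfr : (frattini ↥Q).index ≤ p ^ 2 :=
    Cfsg.Agent.Lib.Helper72.index_frattini_le_of_isMetacyclic hQp hQm
  -- the automorphism induced by x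
  have hxNS : x ∈ normalizerIn S E := Subgroup.mem_inf.2 ⟨hxS, hxN⟩
  obtain ⟨c', hc'_def⟩ : ∃ c' : ↥(F.autGroup E), c' = normHom F hES ⟨x, hxNS⟩ := ⟨_, rfl⟩
  have hc'app : ∀ e : ↥E, (((c' : MulAut ↥E) e : ↥E) : Ω) = x * e * x⁻¹ := by
    intro e; rw [hc'_def]; rfl
  obtain ⟨j, hj⟩ := (hS.to_le (normalizerIn_le S E)) ⟨x, hxNS⟩
  have hcp : (c' : MulAut ↥E) ^ (p ^ j) = 1 := by
    have h1 : c' ^ (p ^ j) = 1 := by rw [hc'_def, ← map_pow, hj, map_one]
    have h2 := congrArg (fun f : ↥(F.autGroup E) => (f : MulAut ↥E)) h1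
    exact h2
  have hcQ : (c' : MulAut ↥E) ∈ trivQuot E Q := by
    intro e
    rw [hQ_def]
    refine ⟨?_, (e⁻¹ * (c' : MulAut ↥E) e).2⟩
    rw [Subgroup.coe_mul, Subgroup.coe_inv, hc'app]
    have h1 : (e : Ω)⁻¹ * (x * e * x⁻¹) = ((e : Ω)⁻¹ * x * (e : Ω)⁻¹⁻¹) * x⁻¹ := by group
    rw [h1]
    exact P.mul_mem (conj_mem_of_stronglyClosed F hP (S.inv_mem (hES e.2)) hxP) (P.inv_mem hxP)
  have hcen : centralizerIn S E ≤ E := centralizerIn_le_of_isEssential F hE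
  rcases exists_inverting_aut hp2 hEp hQE hfr (F.autGroup E) hΓ (c' : MulAut ↥E) c'.2 j hcp hcQ with
    ⟨N, hNn, hNp, hcN⟩ | ⟨t, htinv, ⟨N, hNn, hNp, hcomm⟩, hnc⟩
  · -- c is inner
    obtain ⟨u, hu⟩ := inner_of_mem_normal_pSubgroup F hE N hNn hNp _ hcN
    apply hxE
    refine mem_of_conj_eq_inner hcen hxS hES u (fun e => ?_)
    have h1 := congrArg (fun f : MulAut ↥E => ((f e : ↥E) : Ω)) hu
    simp only [MulAut.conj_apply, Subgroup.coe_mul, Subgroup.coe_inv] at h1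
    rw [h1]
    exact hc'app e
  · -- main case
    obtain ⟨u, hu⟩ := inner_of_mem_normal_pSubgroup F hE N hNn hNp _ hcomm
    obtain ⟨tm, htm_def⟩ : ∃ tm : MulAut ↥E, tm = (t : MulAut ↥E) := ⟨_, rfl⟩
    obtain ⟨c, hc_def⟩ : ∃ c : MulAut ↥E, c = (c' : MulAut ↥E) := ⟨_, rfl⟩
    have hu' : MulAut.conj u = tm * c * tm⁻¹ * c⁻¹ := by rw [hu, htm_def, hc_def]; rfl
    have hrel : ∀ e : ↥E, tm (c e) = u * c (tm e) * u⁻¹ := by
      intro e
      have h1 : MulAut.conj u * c * tm = tm * c := by rw [hu']; group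
      have h2 := congrArg (fun f : MulAut ↥E => f e) h1
      simp only [MulAut.mul_apply, MulAut.conj_apply] at h2
      exact h2.symm
    have hcapp : ∀ e : ↥E, ((c e : ↥E) : Ω) = x * e * x⁻¹ := by rw [hc_def]; exact hc'app
    have htmΓ : tm ∈ F.autGroup E := by rw [htm_def]; exact t.2
    have htmQ : ∀ w : ↥E, (w : Ω) ∈ Q → ((tm w : ↥E) : Ω) ∈ Q := fun w hw => ((hΓ htmΓ) w).2 hw
    -- the extender
    obtain ⟨φ, hφ⟩ : ∃ φ : ↥E →* Ω, φ = E.subtype.comp (tm : ↥E ≃* ↥E).toMonoidHom := ⟨_, rfl⟩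
    have hφapp : ∀ e : ↥E, φ e = ((tm e : ↥E) : Ω) := fun e => by rw [hφ]; rfl
    have hxNt : x ∈ extender S E φ := by
      rw [mem_extender_iff]
      refine ⟨hxS, hxN, (u : Ω) * x, S.mul_mem (hES u.2) hxS, fun e hx' => ?_⟩
      have h1 : (⟨x * (e : Ω) * x⁻¹, hx'⟩ : ↥E) = c e := Subtype.ext (hcapp e).symm
      rw [h1, hφapp, hφapp, hrel, Subgroup.coe_mul, Subgroup.coe_mul, Subgroup.coe_inv, hcapp]
      group
    have hENt : E ≤ extender S E φ := le_extender hES (fun e => by rw [hφapp]; exact hES (tm e).2)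
    have hrec : F.IsReceptive E := ((isSaturated_iff_RS p hS F).1 hF).2 E hE.2.1
    have hext : ∃ ψ ∈ F.Hom (extender S E φ), ∀ (z : Ω) (hz : z ∈ E) (hN : z ∈ extender S E φ),
        ψ ⟨z, hN⟩ = ((tm ⟨z, hz⟩ : ↥E) : Ω) := by
      subst hφ
      exact exists_ext_aut F hrec htmΓ
    obtain ⟨ψ, hψ, hψE⟩ := hext
    obtain ⟨y, hy_def⟩ : ∃ y : Ω, y = ψ ⟨x, hxNt⟩ := ⟨_, rfl⟩
    have hyS : y ∈ S := hy_def ▸ (F.le_of_mem hψ).2 _
    have hyP : y ∈ P := by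
      have hle : Subgroup.zpowers x ≤ extender S E φ := Subgroup.zpowers_le.2 hxNt
      have h1 := Helper87.restrict_mem F hle hψ
      have h2 := hP.2 (Subgroup.zpowers x) (Subgroup.zpowers_le.2 hxP) _ h1
        ⟨x, Subgroup.mem_zpowers x⟩
      rw [hy_def]; exact h2
    have hycent : ((u : Ω) * x)⁻¹ * y ∈ centralizerIn S E := by
      rw [mem_centralizerIn]
      refine ⟨S.mul_mem (S.inv_mem (S.mul_mem (hES u.2) hxS)) hyS, fun e he => ?_⟩
      obtain ⟨e', he'⟩ : ∃ e' : ↥E, tm e' = ⟨e, he⟩ := ⟨tm⁻¹ ⟨e, he⟩, MulAut.apply_inv_self _ _ _⟩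
      have he'Nt : (e' : Ω) ∈ extender S E φ := hENt e'.2
      have hce'Nt : ((c e' : ↥E) : Ω) ∈ extender S E φ := hENt (c e').2
      have h1 : ψ ⟨(c e' : ↥E), hce'Nt⟩ = y * ψ ⟨e', he'Nt⟩ * y⁻¹ := by
        have h0 : (⟨((c e' : ↥E) : Ω), hce'Nt⟩ : ↥(extender S E φ)) =
            ⟨x, hxNt⟩ * ⟨e', he'Nt⟩ * ⟨x, hxNt⟩⁻¹ := Subtype.ext (hcapp e')
        rw [h0, map_mul, map_mul, map_inv, hy_def]
      rw [hψE _ (c e').2, hψE _ e'.2] at h1
      simp only [Subtype.coe_eta] at h1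
      rw [hrel, he', Subgroup.coe_mul, Subgroup.coe_mul, Subgroup.coe_inv, hcapp] at h1
      have h3 : ((u : Ω) * x)⁻¹ * y * e = ((u : Ω) * x)⁻¹ * (y * e * y⁻¹) * y := by group
      rw [h3, ← h1]; group
    have hw : ((u : Ω) * x)⁻¹ * y ∈ E := hcen hycent
    have hq : x⁻¹ * y ∈ Q := by
      rw [hQ_def]
      refine ⟨P.mul_mem (P.inv_mem hxP) hyP, ?_⟩
      have h1 : x⁻¹ * y = (x⁻¹ * (u : Ω) * x⁻¹⁻¹) * (((u : Ω) * x)⁻¹ * y) := by group
      rw [h1]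
      refine E.mul_mem ?_ hw
      have hxinv : x⁻¹ ∈ Subgroup.normalizer (E : Set Ω) := Subgroup.inv_mem _ hxN
      exact (Subgroup.mem_normalizer_iff.1 hxinv u).1 u.2
    -- the subgroup R = Q⟨x⟩
    obtain ⟨R, hR_def⟩ : ∃ R : Subgroup Ω, R = Q ⊔ Subgroup.zpowers x := ⟨_, rfl⟩
    have hQR : Q ≤ R := hR_def ▸ le_sup_left
    have hxR : x ∈ R :=
      hR_def ▸ (le_sup_right : Subgroup.zpowers x ≤ Q ⊔ Subgroup.zpowers x) (Subgroup.mem_zpowers x)
    have hRP : R ≤ P := by rw [hR_def]; exact sup_le hQP (Subgroup.zpowers_le.2 hxP)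
    have hRNt : R ≤ extender S E φ := by
      rw [hR_def]; exact sup_le (hQE.trans hENt) (Subgroup.zpowers_le.2 hxNt)
    have hRS : R ≤ S := hRP.trans hPS
    haveI : Finite ↥R := finite_of_le hRS
    have hRp : IsPGroup p ↥R := hS.to_le hRS
    have hRm : Cfsg.IsMetacyclic ↥R := Cfsg.Agent.Lib.Helper68.MA.isMetacyclic_of_le hRP hm
    obtain ⟨ψR, hψR_def⟩ : ∃ ψR : ↥R →* Ω, ψR = ψ.comp (Subgroup.inclusion hRNt) := ⟨_, rfl⟩
    have hψQ : ∀ v : ↥R, ∀ hv : (v : Ω) ∈ Q, ψR v = ((tm ⟨v, hQE hv⟩ : ↥E) : Ω) := by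
      intro v hv
      rw [hψR_def]
      exact hψE v (hQE hv) (hRNt v.2)
    have hψx : ψR ⟨x, hxR⟩ = y := by rw [hψR_def, hy_def]; rfl
    have hψRmem : ∀ r : ↥R, ψR r ∈ R := by
      have hle : Q ⊔ Subgroup.zpowers x ≤ (R.comap ψR).map R.subtype := by
        refine sup_le ?_ (Subgroup.zpowers_le.2 ?_)
        · intro v hv
          refine ⟨⟨v, hQR hv⟩, ?_, rfl⟩
          show ψR ⟨v, hQR hv⟩ ∈ R
          rw [hψQ ⟨v, hQR hv⟩ hv]
          exact hQR (htmQ _ hv)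
        · refine ⟨⟨x, hxR⟩, ?_, rfl⟩
          show ψR ⟨x, hxR⟩ ∈ R
          rw [hψx]
          have e1 : y = x * (x⁻¹ * y) := by group
          rw [e1]; exact R.mul_mem hxR (hQR hq)
      intro r
      have hr : (r : Ω) ∈ (R.comap ψR).map R.subtype :=
        hle (show (r : Ω) ∈ Q ⊔ Subgroup.zpowers x by rw [← hR_def]; exact r.2)
      obtain ⟨r', hr', hrr'⟩ := hr
      have h1 : r' = r := Subtype.ext hrr'
      rw [← h1]; exact hr'
    obtain ⟨ψ', hψ'_def⟩ : ∃ ψ' : ↥R →* ↥R, ψ' = ψR.codRestrict R hψRmem := ⟨_, rfl⟩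
    have hψ'app : ∀ v : ↥R, ((ψ' v : ↥R) : Ω) = ψR v := fun v => by rw [hψ'_def]; rfl
    have hψ'inj : Function.Injective ψ' := by
      intro a b hab
      have h1 : ψR a = ψR b := by rw [← hψ'app, ← hψ'app, hab]
      rw [hψR_def] at h1
      have h2 := F.injective_of_mem hψ h1
      exact Subgroup.inclusion_injective hRNt h2
    obtain ⟨τ, hτ_def⟩ : ∃ τ : MulAut ↥R,
        τ = MulEquiv.ofBijective ψ' ⟨hψ'inj, Finite.injective_iff_surjective.1 hψ'inj⟩ := ⟨_, rfl⟩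
    have hτapp : ∀ v : ↥R, ((τ v : ↥R) : Ω) = ψR v := fun v => by rw [hτ_def, ← hψ'app]; rfl
    have hcommR := Cfsg.Agent.Lib.Helper27.MetaSCC.comm_of_inverting hp2 R Q hRp hRm hQR τ
      (fun v hv => by rw [hτapp, hψQ v hv]; exact htmQ _ hv)
      (fun v hv => by
        rw [hτapp, hψQ v hv, htm_def]
        exact htinv ⟨v, hQE hv⟩ hv)
      hnc
    apply hxE
    refine mem_of_stab_two hS F hE Q (fun α hα w hw => ((hΓ hα) w).2 hw) hxS hxN ?_ ?_
    · intro q hq' _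
      have h1 := hcommR ⟨x, hxR⟩ ⟨q, hQR hq'⟩
      have h2 : x * q = q * x := congrArg (fun z : ↥R => (z : Ω)) h1
      rw [h2]; group
    · intro e he
      have h1 := hcQ ⟨e, he⟩
      rw [Subgroup.coe_mul, Subgroup.coe_inv, hc'app] at h1
      exact h1

end Cfsg.Agent.Lib.Helper27.MetaSCF
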