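import Mathlib
import Cfsg.Agent.Lib.Helper27.MetaSCF

set_option autoImplicit false

/-!
General reduction (any prime `p`): if a strongly closed subgroup `P` of a saturated fusion system is not
contained in an essential subgroup `E`, then `Aut(P ∩ E)` is not a `p`-group and some `x ∈ N_P(E) \ E` with
`x ^ p ∈ E` acts nontrivially on the Frattini quotient of `P ∩ E`.
-/

namespace Cfsg.Agent.Lib.Helper27.MetaSCG

open Cfsg Cfsg.FusionSystem Cfsg.Agent.Lib.Helper87 Cfsg.Agent.Lib.Helper88 Cfsg.Agent.Lib.Helper89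
  Cfsg.Agent.Lib.Helper27.MetaSCA Cfsg.Agent.Lib.Helper27.MetaSCF Cfsg.Agent.Lib.Helper03.FusEss
  Cfsg.Agent.Lib.Helper26.Rank2Aut

variable {Ω : Type*} [Group Ω]

section abstract

variable {p : ℕ} [Fact p.Prime] {E Q : Subgroup Ω} [Finite ↥E]

/-- **Lemma A'** (any prime): an element `c` of `Γ ≤ Aut(E)` acting trivially on `E / Q` which lies in no
normal `p`-subgroup of `Γ`: `Aut(Q)` is not a `p`-group and `c` acts nontrivially on `Q / Φ(Q)`. -/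
theorem not_isPGroup_mulAut (hE : IsPGroup p ↥E) (hQE : Q ≤ E) (Γ : Subgroup (MulAut ↥E))
    (hΓ : Γ ≤ stabSub E Q) (c : MulAut ↥E) (hc : c ∈ Γ) (hcQ : c ∈ trivQuot E Q)
    (hN : ¬ ∃ N : Subgroup ↥Γ, N.Normal ∧ IsPGroup p N ∧ (⟨c, hc⟩ : ↥Γ) ∈ N) :
    ¬ IsPGroup p (MulAut ↥Q) ∧
      ∃ v : ↥E, (v : Ω) ∈ Q ∧ ((v⁻¹ * c v : ↥E) : Ω) ∉ (frattini ↥Q).map Q.subtype := by
  classical
  have hfinQ : Finite ↥Q := Finite.of_injective _ (Subgroup.inclusion_injective hQE)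
  obtain ⟨a, ha_def⟩ : ∃ a : ↥Γ, a = ⟨c, hc⟩ := ⟨_, rfl⟩
  rw [← ha_def] at hN
  have hKn := kerSub_normal hQE Γ hΓ
  have hKp := kerSub_isPGroup (p := p) hE hQE Γ hΓ
  set B : Subgroup ↥Γ := (trivQuot E Q).subgroupOf Γ with hB
  have haB : a ∈ B := by
    rw [hB, Subgroup.mem_subgroupOf, ha_def]; exact hcQ
  constructor
  · intro hAp
    have ha : ∀ N : Subgroup ↥Γ, N.Normal → IsPGroup p N → a ∉ N :=
      fun N h1 h2 h3 => hN ⟨N, h1, h2, h3⟩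
    obtain ⟨g, hg⟩ := Cfsg.Agent.Lib.Helper02.PStab.exists_conj_not_pGroup a ha
    apply hg
    have ha'B : g * a * g⁻¹ ∈ B := by
      rw [hB, Subgroup.mem_subgroupOf]
      have := conj_mem_trivQuot (hΓ g.2) (Subgroup.mem_subgroupOf.1 haB)
      simpa using this
    have hDB : Subgroup.closure ({a, g * a * g⁻¹} : Set ↥Γ) ≤ B := by
      rw [Subgroup.closure_le]
      rintro s (rfl | rfl)
      · exact haB
      · exact ha'B
    obtain ⟨m, hm⟩ := hE.exists_card_eq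
    rintro ⟨d, hd⟩
    obtain ⟨n, hn⟩ := hAp (resHom E Q hQE (Subgroup.inclusion hΓ d))
    have hn'' : resHom E Q hQE (Subgroup.inclusion hΓ (d ^ (p ^ n))) = 1 := by
      rw [map_pow, map_pow]; exact hn
    have hγ1 : ((d : MulAut ↥E)) ^ (p ^ n) ∈ trivQuot E Q :=
      (trivQuot E Q).pow_mem (Subgroup.mem_subgroupOf.1 (hDB hd)) _
    have hγ2 : ∀ v : ↥E, (v : Ω) ∈ Q → ((d : MulAut ↥E) ^ (p ^ n)) v = v := by
      intro v hv
      have := congrArg (fun f : MulAut ↥Q => ((f ⟨v, hv⟩ : ↥Q) : Ω)) hn''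
      apply Subtype.ext
      exact this
    have h3 := pow_card_eq_one_of_trivial _ hγ1 hγ2
    refine ⟨n + m, Subtype.ext (Subtype.ext ?_)⟩
    show ((d : MulAut ↥E)) ^ (p ^ (n + m)) = 1
    rw [pow_add, pow_mul, ← hm]
    exact h3
  · by_contra hno
    apply hN
    refine ⟨kerSub hQE Γ hΓ, hKn, hKp, ?_⟩
    refine Subgroup.mem_inf.2 ⟨haB, ?_⟩
    rw [MonoidHom.mem_ker]
    ext q
    obtain ⟨v, rfl⟩ := QuotientGroup.mk_surjective q
    rw [MonoidHom.comp_apply, actV_mk, MulAut.one_apply, eq_comm, QuotientGroup.eq]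
    have h1 : (((⟨v, hQE v.2⟩ : ↥E)⁻¹ * c ⟨v, hQE v.2⟩ : ↥E) : Ω) ∈ (frattini ↥Q).map Q.subtype := by
      by_contra h
      exact hno ⟨⟨v, hQE v.2⟩, v.2, h⟩
    rw [Subgroup.mem_map] at h1
    obtain ⟨u, hu, hu'⟩ := h1
    have h2 : u = v⁻¹ * resHom E Q hQE (Subgroup.inclusion hΓ a) v := by
      apply Subtype.ext
      rw [ha_def]
      exact hu'.trans rfl
    rw [← h2]
    exact hu

end abstract


variable {S : Subgroup Ω}

/-- existence of an element of `P ∩ N_S(E)` outside `E` whose `p`-th power lies in `E`. -/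
theorem exists_mem_normalizer_pow_mem [Finite S] {p : ℕ} [Fact p.Prime] (hS : IsPGroup p S)
    (F : FusionSystem S) {P E : Subgroup Ω} (hP : F.StronglyClosed P) (hES : E ≤ S)
    (hPE : ¬ P ≤ E) : ∃ x ∈ P, x ∈ Subgroup.normalizer (E : Set Ω) ∧ x ∉ E ∧ x ^ p ∈ E := by
  classical
  obtain ⟨y, hyP, hyN, hyE⟩ := exists_mem_normalizer_not_mem hS F hP hES hPE
  have hyS : y ∈ S := hP.1 hyP
  obtain ⟨j, hj⟩ := hS ⟨y, hyS⟩
  have hj' : y ^ (p ^ j) = 1 := congrArg Subtype.val hj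
  have hex : ∃ k, y ^ (p ^ k) ∈ E := ⟨j, by rw [hj']; exact E.one_mem⟩
  have hk := Nat.find_spec hex
  have hk0 : Nat.find hex ≠ 0 := by
    intro h0
    rw [h0, pow_zero, pow_one] at hk
    exact hyE hk
  obtain ⟨k, hkk⟩ := Nat.exists_eq_succ_of_ne_zero hk0
  have hkmin : y ^ (p ^ k) ∉ E := Nat.find_min hex (by rw [hkk]; exact Nat.lt_succ_self k)
  refine ⟨y ^ (p ^ k), P.pow_mem hyP _, Subgroup.pow_mem _ hyN _, hkmin, ?_⟩
  rw [← pow_mul, ← pow_succ, ← Nat.succ_eq_add_one, ← hkk]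
  exact hk

/-- **Reduction**: a strongly closed subgroup `P` not contained in an essential subgroup `E`. -/
theorem exists_of_not_le [Finite S] {p : ℕ} [Fact p.Prime] (hS : IsPGroup p S)
    (F : FusionSystem S) {P : Subgroup Ω} (hP : F.StronglyClosed P)
    {E : Subgroup Ω} (hE : F.IsEssential p E) (hPE : ¬ P ≤ E) :
    ∃ x ∈ P, x ∈ Subgroup.normalizer (E : Set Ω) ∧ x ∉ E ∧ x ^ p ∈ E ∧
      ¬ IsPGroup p (MulAut ↥(P ⊓ E)) ∧
      ∃ v ∈ P ⊓ E, v⁻¹ * (x * v * x⁻¹) ∉ (frattini ↥(P ⊓ E)).map (P ⊓ E).subtype := by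
  classical
  have hES : E ≤ S := hE.1.1
  have hPS : P ≤ S := hP.1
  haveI : Finite ↥E := finite_of_le hES
  have hEp : IsPGroup p ↥E := hS.to_le hES
  obtain ⟨x, hxP, hxN, hxE, hxp⟩ := exists_mem_normalizer_pow_mem hS F hP hES hPE
  refine ⟨x, hxP, hxN, hxE, hxp, ?_⟩
  have hxS : x ∈ S := hPS hxP
  have hQE : P ⊓ E ≤ E := inf_le_right
  have hΓ : F.autGroup E ≤ stabSub E (P ⊓ E) := autGroup_le_stabSub F hP hES
  have hxNS : x ∈ normalizerIn S E := Subgroup.mem_inf.2 ⟨hxS, hxN⟩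
  obtain ⟨c', hc'_def⟩ : ∃ c' : ↥(F.autGroup E), c' = normHom F hES ⟨x, hxNS⟩ := ⟨_, rfl⟩
  have hc'app : ∀ e : ↥E, (((c' : MulAut ↥E) e : ↥E) : Ω) = x * e * x⁻¹ := by
    intro e; rw [hc'_def]; rfl
  have hcQ : (c' : MulAut ↥E) ∈ trivQuot E (P ⊓ E) := by
    intro e
    refine ⟨?_, (e⁻¹ * (c' : MulAut ↥E) e).2⟩
    rw [Subgroup.coe_mul, Subgroup.coe_inv, hc'app]
    have h1 : (e : Ω)⁻¹ * (x * e * x⁻¹) = ((e : Ω)⁻¹ * x * (e : Ω)⁻¹⁻¹) * x⁻¹ := by group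
    rw [h1]
    exact P.mul_mem (conj_mem_of_stronglyClosed F hP (S.inv_mem (hES e.2)) hxP) (P.inv_mem hxP)
  have hcen : centralizerIn S E ≤ E := centralizerIn_le_of_isEssential F hE
  have hN : ¬ ∃ N : Subgroup ↥(F.autGroup E), N.Normal ∧ IsPGroup p N ∧
      (⟨(c' : MulAut ↥E), c'.2⟩ : ↥(F.autGroup E)) ∈ N := by
    rintro ⟨N, hNn, hNp, hcN⟩
    obtain ⟨u, hu⟩ := inner_of_mem_normal_pSubgroup F hE N hNn hNp _ hcN
    apply hxE
    refine mem_of_conj_eq_inner hcen hxS hES u (fun e => ?_)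
    have h1 := congrArg (fun f : MulAut ↥E => ((f e : ↥E) : Ω)) hu
    simp only [MulAut.conj_apply, Subgroup.coe_mul, Subgroup.coe_inv] at h1
    rw [h1]
    exact hc'app e
  obtain ⟨h1, v, hvQ, hv⟩ := not_isPGroup_mulAut hEp hQE (F.autGroup E) hΓ (c' : MulAut ↥E) c'.2 hcQ hN
  refine ⟨h1, (v : Ω), hvQ, ?_⟩
  rw [Subgroup.coe_mul, Subgroup.coe_inv, hc'app] at hv
  exact hv

end Cfsg.Agent.Lib.Helper27.MetaSCG
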