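import Mathlib
import Cfsg.Agent.Lib.Helper89.MetaTwo

set_option autoImplicit false

/-!
A metacyclic 2-group in which some element `x` moves an involution `a` commuting with its image, with
`x²` an involution (or trivial) commuting with `a`, is dihedral, generalized quaternion or quasi-dihedral.
-/

namespace Cfsg.Agent.Lib.Helper27.MetaTwoD

open Cfsg.Agent.Lib.Helper89

variable {G : Type*} [Group G] [Finite G]

/-- an element of order at most two of a cyclic subgroup containing the involution `z` is `1` or `z`. -/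
theorem eq_one_or_eq_of_sq (N : Subgroup G) [IsCyclic N] {z n : G} (hz : z ∈ N) (hz2 : z * z = 1)
    (hz1 : z ≠ 1) (hn : n ∈ N) (hn2 : n * n = 1) : n = 1 ∨ n = z := by
  have hoz : orderOf z = 2 := by
    have : Fact (Nat.Prime 2) := ⟨Nat.prime_two⟩
    exact orderOf_eq_prime (by rw [pow_two]; exact hz2) hz1
  have hon : orderOf n ∣ orderOf z := by
    rw [hoz]; exact orderOf_dvd_of_pow_eq_one (by rw [pow_two]; exact hn2)
  obtain ⟨i, hi⟩ := Subgroup.mem_zpowers_iff.mp (mem_zpowers_of_orderOf_dvd' N hn hz hon)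
  rcases zpow_of_sq_eq_one hz2 i with h | h
  · left; rw [← hi, h]
  · right; rw [← hi, h]

/-- the same in a cyclic group. -/
theorem eq_one_or_eq_of_sq' {Q : Type*} [Group Q] [Finite Q] [IsCyclic Q] {z n : Q}
    (hz2 : z * z = 1) (hz1 : z ≠ 1) (hn2 : n * n = 1) : n = 1 ∨ n = z := by
  have hoz : orderOf z = 2 := by
    have : Fact (Nat.Prime 2) := ⟨Nat.prime_two⟩
    exact orderOf_eq_prime (by rw [pow_two]; exact hz2) hz1
  have hon : orderOf n ∣ orderOf z := by
    rw [hoz]; exact orderOf_dvd_of_pow_eq_one (by rw [pow_two]; exact hn2)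
  obtain ⟨i, hi⟩ := Subgroup.mem_zpowers_iff.mp (mem_zpowers_of_orderOf_dvd hon)
  rcases zpow_of_sq_eq_one hz2 i with h | h
  · left; rw [← hi, h]
  · right; rw [← hi, h]


/-- the case `x * x = a * (x * a * x⁻¹)`. -/
theorem dihedral_case_aux (hG : IsPGroup 2 G) (N : Subgroup G) [N.Normal] [IsCyclic N]
    (hQ : IsCyclic (G ⧸ N)) (a x : G) (ha : a * a = 1) (hne : x * a * x⁻¹ ≠ a)
    (hcomm : a * (x * a * x⁻¹) = (x * a * x⁻¹) * a) (hxx : x * x = a * (x * a * x⁻¹)) :
    (∃ m : ℕ, Nonempty (G ≃* DihedralGroup m)) ∨ (∃ m : ℕ, Nonempty (G ≃* QuaternionGroup m)) ∨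
      Cfsg.IsQuasiDihedral G := by
  obtain ⟨b, hb_def⟩ : ∃ b : G, b = x * a * x⁻¹ := ⟨_, rfl⟩
  rw [← hb_def] at hne hcomm hxx
  have hb2 : b * b = 1 := by
    rw [hb_def]
    calc x * a * x⁻¹ * (x * a * x⁻¹) = x * (a * a) * x⁻¹ := by group
      _ = 1 := by rw [ha]; group
  have hainv : a⁻¹ = a := inv_eq_of_mul_eq_one_left ha
  have hbinv : b⁻¹ = b := inv_eq_of_mul_eq_one_left hb2
  obtain ⟨z, hz_def⟩ : ∃ z : G, z = a * b := ⟨_, rfl⟩
  rw [← hz_def] at hxx
  have hz2 : z * z = 1 := by
    rw [hz_def]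
    calc a * b * (a * b) = a * (b * a) * b := by group
      _ = a * (a * b) * b := by rw [hcomm]
      _ = (a * a) * (b * b) := by group
      _ = 1 := by rw [ha, hb2, one_mul]
  have hz1 : z ≠ 1 := by
    intro h
    apply hne
    rw [hz_def] at h
    have : b = a⁻¹ := (eq_inv_of_mul_eq_one_right h)
    rw [this, hainv]
  have ha1 : a ≠ 1 := by
    intro h
    apply hne
    rw [hb_def, h]; group
  -- z ∈ N
  have hmkb : (QuotientGroup.mk b : G ⧸ N) = QuotientGroup.mk a := by
    have hc : ∀ u v : G ⧸ N, u * v = v * u := fun u v =>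
      isMulCommutative_iff.mp hQ.isMulCommutative u v
    rw [hb_def, QuotientGroup.mk_mul, QuotientGroup.mk_mul, hc, ← mul_assoc, ← QuotientGroup.mk_mul,
      inv_mul_cancel, QuotientGroup.mk_one, one_mul]
  have hzN : z ∈ N := by
    rw [← QuotientGroup.eq_one_iff, hz_def, QuotientGroup.mk_mul, hmkb, ← QuotientGroup.mk_mul, ha]
    rfl
  -- a ∉ N
  have haN : a ∉ N := by
    intro h
    rcases eq_one_or_eq_of_sq N hzN hz2 hz1 h ha with h1 | h1
    · exact ha1 h1
    · -- a = a * b
      rw [hz_def] at h1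
      have hb1 : b = 1 := by
        have := congrArg (fun t => a⁻¹ * t) h1
        simp only [inv_mul_cancel, inv_mul_cancel_left] at this
        exact this.symm
      apply ha1
      rw [hb_def] at hb1
      calc a = x⁻¹ * (x * a * x⁻¹) * x := by group
        _ = 1 := by rw [hb1]; group
  have hmka2 : (QuotientGroup.mk a : G ⧸ N) * QuotientGroup.mk a = 1 := by
    rw [← QuotientGroup.mk_mul, ha]; rfl
  have hmka1 : (QuotientGroup.mk a : G ⧸ N) ≠ 1 := fun h => haN ((QuotientGroup.eq_one_iff _).mp h)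
  -- x ∈ N
  have hxN : x ∈ N := by
    by_contra hx
    have hmkx2 : (QuotientGroup.mk x : G ⧸ N) * QuotientGroup.mk x = 1 := by
      rw [← QuotientGroup.mk_mul, hxx]; exact (QuotientGroup.eq_one_iff _).mpr hzN
    rcases eq_one_or_eq_of_sq' hmka2 hmka1 hmkx2 with h | h
    · exact hx ((QuotientGroup.eq_one_iff _).mp h)
    · -- a⁻¹ * x ∈ N, an element of order at most two
      have h1 : a⁻¹ * x ∈ N := QuotientGroup.eq.mp h.symm
      have h2 : (a⁻¹ * x) * (a⁻¹ * x) = 1 := by
        rw [hainv]
        calc a * x * (a * x) = a * (x * a * x⁻¹) * (x * x) := by group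
          _ = z * z := by rw [← hb_def, ← hz_def, hxx]
          _ = 1 := hz2
      rcases eq_one_or_eq_of_sq N hzN hz2 hz1 h1 h2 with h3 | h3
      · -- x = a
        have hxa : x = a := by
          have := congrArg (fun t => a * t) h3
          simpa using this
        apply hne
        rw [hb_def, hxa]; group
      · -- x = a * z = b
        have hxb : x = b := by
          have h4 := congrArg (fun t => a * t) h3
          simp only [mul_inv_cancel_left] at h4
          rw [h4, hz_def, ← mul_assoc, ha, one_mul]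
        apply hne
        have h5 : b = b * a * b⁻¹ := by
          conv_lhs => rw [hb_def, hxb]
        rw [h5, ← hcomm]; group
  -- conclusion
  have hx4 : orderOf x = 4 := by
    have := orderOf_eq_prime_pow (x := x) (p := 2) (n := 1) ?_ ?_
    · simpa using this
    · intro hc
      apply hz1
      rw [← hxx, ← pow_two]
      simpa using hc
    · have : x ^ 2 ^ (1 + 1) = (x * x) * (x * x) := by
        simp [pow_succ, mul_assoc]
      rw [this, hxx, hz2]
  refine meta_struct hG N hQ haN (by rw [ha]; exact N.one_mem) hxN hx4 ?_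
  intro h
  apply hne
  rw [hb_def]
  calc x * a * x⁻¹ = (a * x * a⁻¹) * a * x⁻¹ := by rw [h]
    _ = a * (x * (a⁻¹ * a) * x⁻¹) := by group
    _ = a := by group


/-- **Dihedral case**: `x` moves the involution `a` to a commuting involution, and `x * x` is an element of
order at most two commuting with `a`. -/
theorem dihedral_case (hG : IsPGroup 2 G) (N : Subgroup G) [N.Normal] [IsCyclic N]
    (hQ : IsCyclic (G ⧸ N)) (a x : G) (ha : a * a = 1) (hne : x * a * x⁻¹ ≠ a)
    (hcomm : a * (x * a * x⁻¹) = (x * a * x⁻¹) * a) (hs2 : (x * x) * (x * x) = 1)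
    (hsa : (x * x) * a = a * (x * x)) :
    (∃ m : ℕ, Nonempty (G ≃* DihedralGroup m)) ∨ (∃ m : ℕ, Nonempty (G ≃* QuaternionGroup m)) ∨
      Cfsg.IsQuasiDihedral G := by
  obtain ⟨b, hb_def⟩ : ∃ b : G, b = x * a * x⁻¹ := ⟨_, rfl⟩
  have hb2 : b * b = 1 := by
    rw [hb_def]
    calc x * a * x⁻¹ * (x * a * x⁻¹) = x * (a * a) * x⁻¹ := by group
      _ = 1 := by rw [ha]; group
  have hcomm' : a * b = b * a := by rw [hb_def]; exact hcomm
  have hne' : b ≠ a := by rw [hb_def]; exact hne
  have hainv : a⁻¹ = a := inv_eq_of_mul_eq_one_left ha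
  have hxb : x * b * x⁻¹ = a := by
    rw [hb_def]
    calc x * (x * a * x⁻¹) * x⁻¹ = (x * x) * a * (x * x)⁻¹ := by group
      _ = a * (x * x) * (x * x)⁻¹ := by rw [hsa]
      _ = a := by group
  obtain ⟨z, hz_def⟩ : ∃ z : G, z = a * b := ⟨_, rfl⟩
  have hz2 : z * z = 1 := by
    rw [hz_def]
    calc a * b * (a * b) = a * (b * a) * b := by group
      _ = a * (a * b) * b := by rw [hcomm']
      _ = (a * a) * (b * b) := by group
      _ = 1 := by rw [ha, hb2, one_mul]
  have hz1 : z ≠ 1 := by
    intro h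
    apply hne'
    rw [hz_def] at h
    have : b = a⁻¹ := (eq_inv_of_mul_eq_one_right h)
    rw [this, hainv]
  have ha1 : a ≠ 1 := by
    intro h
    apply hne
    rw [h]; group
  have hmkb : (QuotientGroup.mk b : G ⧸ N) = QuotientGroup.mk a := by
    have hc : ∀ u v : G ⧸ N, u * v = v * u := fun u v =>
      isMulCommutative_iff.mp hQ.isMulCommutative u v
    rw [hb_def, QuotientGroup.mk_mul, QuotientGroup.mk_mul, hc, ← mul_assoc, ← QuotientGroup.mk_mul,
      inv_mul_cancel, QuotientGroup.mk_one, one_mul]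
  have hzN : z ∈ N := by
    rw [← QuotientGroup.eq_one_iff, hz_def, QuotientGroup.mk_mul, hmkb, ← QuotientGroup.mk_mul, ha]
    rfl
  have haN : a ∉ N := by
    intro h
    rcases eq_one_or_eq_of_sq N hzN hz2 hz1 h ha with h1 | h1
    · exact ha1 h1
    · rw [hz_def] at h1
      have hb1 : b = 1 := by
        have := congrArg (fun t => a⁻¹ * t) h1
        simp only [inv_mul_cancel, inv_mul_cancel_left] at this
        exact this.symm
      apply ha1
      rw [hb_def] at hb1
      calc a = x⁻¹ * (x * a * x⁻¹) * x := by group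
        _ = 1 := by rw [hb1]; group
  have hmka2 : (QuotientGroup.mk a : G ⧸ N) * QuotientGroup.mk a = 1 := by
    rw [← QuotientGroup.mk_mul, ha]; rfl
  have hmka1 : (QuotientGroup.mk a : G ⧸ N) ≠ 1 := fun h => haN ((QuotientGroup.eq_one_iff _).mp h)
  -- s = x * x lies in N
  obtain ⟨s, hs_def⟩ : ∃ s : G, s = x * x := ⟨_, rfl⟩
  rw [← hs_def] at hs2 hsa
  have hxs : x * s * x⁻¹ = s := by rw [hs_def]; group
  have hsN : s ∈ N := by
    by_contra hs
    have hmks2 : (QuotientGroup.mk s : G ⧸ N) * QuotientGroup.mk s = 1 := by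
      rw [← QuotientGroup.mk_mul, hs2]; rfl
    have hmks1 : (QuotientGroup.mk s : G ⧸ N) ≠ 1 := fun h => hs ((QuotientGroup.eq_one_iff _).mp h)
    rcases eq_one_or_eq_of_sq' hmks2 hmks1 hmka2 with h | h
    · exact hmka1 h
    · have h1 : a⁻¹ * s ∈ N := QuotientGroup.eq.mp h
      have h2 : (a⁻¹ * s) * (a⁻¹ * s) = 1 := by
        rw [hainv]
        calc a * s * (a * s) = a * (s * a) * s := by group
          _ = a * (a * s) * s := by rw [hsa]
          _ = (a * a) * (s * s) := by group
          _ = 1 := by rw [ha, hs2, one_mul]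
      rcases eq_one_or_eq_of_sq N hzN hz2 hz1 h1 h2 with h3 | h3
      · -- s = a
        have hsa' : s = a := by
          have := congrArg (fun t => a * t) h3
          simpa using this
        apply hne
        rw [← hsa']; exact hxs
      · -- s = a * z = b
        have hsb : s = b := by
          have h4 := congrArg (fun t => a * t) h3
          simp only [mul_inv_cancel_left] at h4
          rw [h4, hz_def, ← mul_assoc, ha, one_mul]
        apply hne'
        rw [← hxb, ← hsb]; exact hxs.symm
  rcases eq_one_or_eq_of_sq N hzN hz2 hz1 hsN hs2 with h | h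
  · -- x * x = 1: use w = a * x
    have hxx1 : x * x = 1 := by rw [← hs_def]; exact h
    have hw : (a * x) * a * (a * x)⁻¹ = b := by
      calc (a * x) * a * (a * x)⁻¹ = a * (x * a * x⁻¹) * a⁻¹ := by group
        _ = a * b * a⁻¹ := by rw [← hb_def]
        _ = b * a * a⁻¹ := by rw [hcomm']
        _ = b := by group
    refine dihedral_case_aux hG N hQ a (a * x) ha (by rw [hw]; exact hne') (by rw [hw]; exact hcomm')
      ?_
    rw [hw]
    calc a * x * (a * x) = a * (x * a * x⁻¹) * (x * x) := by group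
      _ = a * b := by rw [← hb_def, hxx1, mul_one]
  · -- x * x = z
    refine dihedral_case_aux hG N hQ a x ha hne hcomm ?_
    rw [← hb_def, ← hz_def, ← hs_def]; exact h

end Cfsg.Agent.Lib.Helper27.MetaTwoD
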