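import Mathlib
import Cfsg.Agent.Lib.Helper05.N3Defs

/-! K-N3 (S4004) leaf C4c: `normalizer_zpowers_le` (norm trick 2). -/

set_option autoImplicit false

namespace Cfsg.Agent.Lib.Helper27.N3

open Cfsg.Agent.Lib.Helper05.N3 Cfsg.Agent.Lib.Helper22.Nse

theorem c4c_mul_pow_mul_inv_mem {G : Type*} [Group G] (H : Subgroup G) {x a : G}
    (hx : x ∈ Subgroup.normalizer (H : Set G)) (ha : a ∈ H) (i : ℕ) :
    (a * x) ^ i * (x ^ i)⁻¹ ∈ H := by
  induction i with
  | zero => simp
  | succ i ih =>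
    have hxi : x ^ i ∈ Subgroup.normalizer (H : Set G) := Subgroup.pow_mem _ hx i
    have h1 : x ^ i * a * (x ^ i)⁻¹ ∈ H := (Subgroup.mem_normalizer_iff.1 hxi a).1 ha
    have : (a * x) ^ (i + 1) * (x ^ (i + 1))⁻¹
        = ((a * x) ^ i * (x ^ i)⁻¹) * (x ^ i * a * (x ^ i)⁻¹) := by
      rw [pow_succ, pow_succ]; group
    rw [this]; exact H.mul_mem ih h1

theorem c4c_pow_inj_of_prime_order {G : Type*} [Group G] {r : ℕ} (hr : r.Prime) {y y' : G}
    (hy : orderOf y = r) (hy' : orderOf y' = r) {i : ℕ} (hi0 : 0 < i) (hir : i < r)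
    (h : y ^ i = y' ^ i) : y = y' := by
  have hcop : Nat.Coprime i r :=
    Nat.Coprime.symm ((Nat.Prime.coprime_iff_not_dvd hr).2 (Nat.not_dvd_of_pos_of_lt hi0 hir))
  obtain ⟨m, -, hm⟩ := Nat.exists_mul_mod_eq_one_of_coprime hcop hr.one_lt
  have e1 : y ^ (i * m) = y := by
    rw [← pow_mod_orderOf, hy, hm, pow_one]
  have e2 : y' ^ (i * m) = y' := by
    rw [← pow_mod_orderOf, hy', hm, pow_one]
  rw [← e1, ← e2, pow_mul, pow_mul, h]

theorem c4c_norm_trick {G : Type*} [Group G] [Finite G] {A : Type*} [CommGroup A]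
    (φ : G →* MulAut A)
    (c x : G) (r r' : ℕ) (hr : r.Prime) (hc : orderOf c = r')
    (hx : x ∈ Subgroup.normalizer ((Subgroup.zpowers c : Subgroup G) : Set G))
    (hfix : ∀ w : A, φ c w = w → w = 1)
    (hord : ∀ j : ℕ, orderOf (c ^ j * x) = r)
    (hN : ∀ y : G, y ^ r = 1 → ∀ v : A, ∏ i ∈ Finset.range r, φ (y ^ i) v = 1)
    (v : A) : v ^ r' = 1 := by
  classical
  let _ : Fintype (Subgroup.zpowers c) := Fintype.ofFinite _
  have hT : ∀ w : A, ∏ e : Subgroup.zpowers c, φ (e : G) w = 1 := by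
    intro w
    apply hfix
    rw [map_prod]
    exact Fintype.prod_equiv
      (Equiv.mulLeft (⟨c, Subgroup.mem_zpowers c⟩ : Subgroup.zpowers c)) _ _
      (fun e => by simp [map_mul])
  have hcardE : Fintype.card (Subgroup.zpowers c) = r' := by
    rw [← hc, Fintype.card_eq_nat_card, Nat.card_zpowers]
  have h1 : ∏ j : Fin r', ∏ i ∈ Finset.range r, φ ((c ^ (j : ℕ) * x) ^ i) v = 1 := by
    apply Finset.prod_eq_one
    intro j _
    apply hN
    rw [← hord j]; exact pow_orderOf_eq_one _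
  rw [Finset.prod_comm] at h1
  obtain ⟨r0, rfl⟩ : ∃ r0, r = r0 + 1 := ⟨r - 1, (Nat.succ_pred_eq_of_pos hr.pos).symm⟩
  rw [Finset.prod_range_succ'] at h1
  have h2 : ∀ i ∈ Finset.range r0, ∏ j : Fin r', φ ((c ^ (j : ℕ) * x) ^ (i + 1)) v = 1 := by
    intro i hi
    have hi' : i + 1 < r0 + 1 := by
      have := Finset.mem_range.1 hi
      omega
    let g : Fin r' → Subgroup.zpowers c := fun j =>
      ⟨(c ^ (j : ℕ) * x) ^ (i + 1) * (x ^ (i + 1))⁻¹,
        c4c_mul_pow_mul_inv_mem (Subgroup.zpowers c) hx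
          (Subgroup.pow_mem _ (Subgroup.mem_zpowers c) _) (i + 1)⟩
    have hg : Function.Bijective g := by
      rw [Fintype.bijective_iff_injective_and_card]
      refine ⟨?_, by rw [hcardE, Fintype.card_fin]⟩
      intro j j' hjj
      have h3 : (c ^ (j : ℕ) * x) ^ (i + 1) = (c ^ (j' : ℕ) * x) ^ (i + 1) := by
        have := congrArg Subtype.val hjj
        exact mul_right_cancel this
      have h4 : c ^ (j : ℕ) * x = c ^ (j' : ℕ) * x :=
        c4c_pow_inj_of_prime_order hr (hord j) (hord j') (Nat.succ_pos i) hi' h3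
      have h5 : c ^ (j : ℕ) = c ^ (j' : ℕ) := mul_right_cancel h4
      have hj : (j : ℕ) ∈ Set.Iio (orderOf c) := by rw [hc]; exact j.2
      have hj' : (j' : ℕ) ∈ Set.Iio (orderOf c) := by rw [hc]; exact j'.2
      exact Fin.ext (pow_injOn_Iio_orderOf hj hj' h5)
    rw [← hT (φ (x ^ (i + 1)) v)]
    refine Fintype.prod_bijective g hg _ _ (fun j => ?_)
    show φ ((c ^ (j : ℕ) * x) ^ (i + 1)) v = φ ((g j : Subgroup.zpowers c) : G) (φ (x ^ (i + 1)) v)
    rw [← MulAut.mul_apply, ← map_mul]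
    congr 2
    simp [g]
  rw [Finset.prod_eq_one h2, one_mul] at h1
  simpa using h1

theorem normalizer_zpowers_le {G : Type*} [Group G] [Finite G] (r r' : ℕ) (hr : r.Prime) [Fact r'.Prime] (hrr : r ≠ r')
    (hord : ∀ g : G, orderOf g = 1 ∨ orderOf g = r ∨ orderOf g = r')
    (V : Subgroup G) (hVn : V.Normal) (hV : V ≠ ⊥) (hVr : IsPGroup r V) (hVc : ∀ a ∈ V, ∀ b ∈ V, a * b = b * a)
    (hQ : ∀ Q : Sylow r' G, Nat.card Q = r') (c : G) (hc : orderOf c = r') :
    Subgroup.normalizer ((Subgroup.zpowers c : Subgroup G) : Set G) ≤ Subgroup.zpowers c := by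
  classical
  have hr' : r'.Prime := Fact.out
  intro x hx
  by_contra hxc
  haveI := hVn
  letI : CommGroup V :=
    { (inferInstance : Group V) with mul_comm := fun a b => Subtype.ext (hVc a a.2 b b.2) }
  have hVord : ∀ w : G, w ∈ V → w ≠ 1 → orderOf w = r := by
    intro w hw hw1
    obtain ⟨k, hk⟩ := hVr ⟨w, hw⟩
    have hk' : w ^ r ^ k = 1 := by simpa using congrArg Subtype.val hk
    rcases hord w with h | h | h
    · exact absurd (orderOf_eq_one_iff.1 h) hw1
    · exact h
    · exfalso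
      have h6 : r' ∣ r ^ k := h ▸ orderOf_dvd_of_pow_eq_one hk'
      have h7 := (Nat.prime_dvd_prime_iff_eq hr' hr).1 (hr'.dvd_of_dvd_pow h6)
      exact hrr h7.symm
  have hCV : ∀ w : G, w ∈ V → c * w = w * c → w = 1 := by
    intro w hw hcw
    by_contra hw1
    have how : orderOf w = r := hVord w hw hw1
    have hcomm : Commute w c := hcw.symm
    have hcop : Nat.Coprime (orderOf w) (orderOf c) := by
      rw [how, hc]; exact (Nat.coprime_primes hr hr').2 hrr
    have h8 := hcomm.orderOf_mul_eq_mul_orderOf_of_coprime hcop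
    rw [how, hc] at h8
    have h9 := hr.two_le
    have h10 := hr'.two_le
    rcases hord (w * c) with h | h | h
    · rw [h] at h8; nlinarith
    · rw [h] at h8; nlinarith
    · rw [h] at h8; nlinarith
  obtain ⟨Q, hQle⟩ := (IsPGroup.of_card (p := r') (n := 1)
    (by rw [Nat.card_zpowers, hc, pow_one] : Nat.card (Subgroup.zpowers c) = r' ^ 1)).exists_le_sylow
  have hQeq : (Q : Subgroup G) = Subgroup.zpowers c := by
    symm
    apply Subgroup.eq_of_le_of_card_ge hQle
    rw [hQ Q, Nat.card_zpowers, hc]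
  have hL1 : ∀ y : G, y ∈ Subgroup.normalizer ((Subgroup.zpowers c : Subgroup G) : Set G) →
      orderOf y = r' → y ∈ Subgroup.zpowers c := by
    intro y hy hyo
    have hP : IsPGroup r' (Subgroup.zpowers y) := IsPGroup.of_card (n := 1)
      (by rw [Nat.card_zpowers, hyo, pow_one])
    have h11 := hP.inf_normalizer_sylow Q
    have hmem : y ∈ Subgroup.zpowers y ⊓ Subgroup.normalizer (Q : Set G) := by
      refine ⟨Subgroup.mem_zpowers y, ?_⟩
      show y ∈ Subgroup.normalizer ((Q : Subgroup G) : Set G)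
      rw [hQeq]; exact hy
    rw [h11] at hmem
    rw [← hQeq]; exact hmem.2
  have hF0 : ∀ j : ℕ, orderOf (c ^ j * x) = r := by
    intro j
    have hmemN : c ^ j * x ∈ Subgroup.normalizer ((Subgroup.zpowers c : Subgroup G) : Set G) :=
      Subgroup.mul_mem _
        (Subgroup.le_normalizer (Subgroup.pow_mem _ (Subgroup.mem_zpowers c) j)) hx
    have hnot : c ^ j * x ∉ Subgroup.zpowers c := by
      intro h
      apply hxc
      have h12 := Subgroup.mul_mem _
        (Subgroup.inv_mem _ (Subgroup.pow_mem _ (Subgroup.mem_zpowers c) j)) h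
      simpa using h12
    rcases hord (c ^ j * x) with h | h | h
    · exfalso; apply hnot; rw [orderOf_eq_one_iff.1 h]; exact Subgroup.one_mem _
    · exact h
    · exact absurd (hL1 _ hmemN h) hnot
  have hpowform : ∀ (y : G) (v : V) (n : ℕ), ((v : G) * y) ^ n =
      ((∏ i ∈ Finset.range n, (MulAut.conjNormal (H := V)) (y ^ i) v : V) : G) * y ^ n := by
    intro y v n
    induction n with
    | zero => simp
    | succ n ih =>
      rw [pow_succ, ih, Finset.prod_range_succ, Subgroup.coe_mul, MulAut.conjNormal_apply, pow_succ]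
      group
  have hN : ∀ y : G, y ^ r = 1 → ∀ v : V,
      ∏ i ∈ Finset.range r, (MulAut.conjNormal (H := V)) (y ^ i) v = 1 := by
    intro y hy v
    have h1 := hpowform y v r
    rw [hy, mul_one] at h1
    have h2 : ((v : G) * y) ^ r = 1 := by
      rcases hord ((v : G) * y) with h | h | h
      · rw [orderOf_eq_one_iff.1 h, one_pow]
      · rw [← h]; exact pow_orderOf_eq_one _
      · by_contra hne
        have hu1 : ((∏ i ∈ Finset.range r, (MulAut.conjNormal (H := V)) (y ^ i) v : V) : G) ≠ 1 := by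
          rw [← h1]; exact hne
        have huo := hVord _ (Subtype.property _) hu1
        have h13 : ((∏ i ∈ Finset.range r, (MulAut.conjNormal (H := V)) (y ^ i) v : V) : G) ^ r' = 1 := by
          rw [← h1, ← pow_mul, mul_comm, pow_mul, ← h, pow_orderOf_eq_one, one_pow]
        have hdvd : r ∣ r' := huo ▸ orderOf_dvd_of_pow_eq_one h13
        exact hrr ((Nat.prime_dvd_prime_iff_eq hr hr').1 hdvd)
    rw [h2] at h1
    exact Subtype.ext (by rw [← h1]; rfl)
  have hfix : ∀ w : V, (MulAut.conjNormal (H := V)) c w = w → w = 1 := by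
    intro w hw
    have h1 : c * (w : G) * c⁻¹ = w := by
      have h14 := congrArg Subtype.val hw
      rwa [MulAut.conjNormal_apply] at h14
    have h2 : c * (w : G) = w * c := by
      calc c * (w : G) = (c * (w : G) * c⁻¹) * c := by group
        _ = w * c := by rw [h1]
    exact Subtype.ext (hCV w w.2 h2)
  have key : ∀ v : V, v ^ r' = 1 := fun v =>
    c4c_norm_trick (MulAut.conjNormal (H := V)) c x r r' hr hc hx hfix hF0 hN v
  apply hV
  rw [Subgroup.eq_bot_iff_forall]
  intro w hw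
  by_contra hw1
  have how := hVord w hw hw1
  have h1 : w ^ r' = 1 := by
    have h15 := congrArg Subtype.val (key ⟨w, hw⟩)
    simpa using h15
  have hdvd : r ∣ r' := how ▸ orderOf_dvd_of_pow_eq_one h1
  exact hrr ((Nat.prime_dvd_prime_iff_eq hr hr').1 hdvd)

end Cfsg.Agent.Lib.Helper27.N3
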