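import Mathlib
import Cfsg.Prelude.Def_LieTwisted
import Cfsg.Agent.S1073

set_option autoImplicit false

/-!
# K-NQ leaf R1 (S2787): `O₃(²G₂(q)) = 1` for `q ≥ 27`, from the simplicity of the Ree groups (S1073)
-/

namespace Cfsg.Agent.Lib.Helper27.NQ

/-- in a finite simple non-commutative group every normal `p`-subgroup is trivial -/
theorem r1_aux {G : Type*} [Group G] [Finite G] (hS : IsSimpleGroup G) (hnc : ¬ IsMulCommutative G)
    {p : ℕ} [Fact p.Prime] (N : Subgroup G) (hN : N.Normal) (hNp : IsPGroup p N) : N = ⊥ := by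
  have := hS
  rcases hN.eq_bot_or_eq_top with h | h
  · exact h
  · exfalso
    have hG : IsPGroup p G := by
      intro g
      have hg : g ∈ N := by rw [h]; exact Subgroup.mem_top g
      obtain ⟨k, hk⟩ := hNp ⟨g, hg⟩
      refine ⟨k, ?_⟩
      have h2 := congrArg Subtype.val hk
      simpa using h2
    have hc : Nontrivial (Subgroup.center G) := hG.center_nontrivial
    have hcn : (Subgroup.center G).Normal := inferInstance
    rcases hcn.eq_bot_or_eq_top with h' | h'
    · exact ((Subgroup.nontrivial_iff_ne_bot _).mp hc) h'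
    · apply hnc
      refine ⟨⟨fun a b => ?_⟩⟩
      have ha : a ∈ Subgroup.center G := by rw [h']; exact Subgroup.mem_top a
      exact ((Subgroup.mem_center_iff.mp ha) b).symm

theorem ree_normal_pgroup_eq_bot {K : Type*} [Field K] [Fintype K] {m : ℕ} (hm : 1 ≤ m)
    (hK : Fintype.card K = 3 ^ (2 * m + 1)) (N : Subgroup ↥(Cfsg.Lie.twistedG2 K (3 ^ m))) (hN : N.Normal)
    (hNp : IsPGroup 3 N) : N = ⊥ := by
  classical
  have : Fact (Nat.Prime 3) := ⟨Nat.prime_three⟩
  have : Finite ↥(Cfsg.Lie.twistedG2 K (3 ^ m)) := inferInstance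
  obtain ⟨hS, hnc⟩ := Cfsg.Agent.S1073.result hm hK
  exact r1_aux hS hnc N hN hNp

end Cfsg.Agent.Lib.Helper27.NQ
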