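import Mathlib
import Cfsg.Agent.Lib.Helper22.NseDefs

/-!
# K-NSE-C6b (keystone 343110): prime-power information for `nse = {1,45,80,90,144}`
-/

set_option autoImplicit false

namespace Cfsg.Agent.Lib.Helper27.Nse

open Cfsg.Agent.Lib.Helper22.Nse

/-- value and totient constraint at `m ≥ 3` -/
theorem c6b_vp {N : ℕ} {S : ℕ → ℕ} {V : Finset ℕ} (H : NseHyp N S V) (B : A6Basic N S)
    (m t : ℕ) (hm : 3 ≤ m) (ht : Nat.totient m = t) :
    (S m = 0 ∨ S m = 80 ∨ S m = 90 ∨ S m = 144) ∧ t ∣ S m :=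
  ⟨B.val m hm, ht ▸ H.phi m⟩

/-- Frobenius at a prime power, expanded. -/
theorem c6b_frob_pp {N : ℕ} {S : ℕ → ℕ} {V : Finset ℕ} (H : NseHyp N S V) (p k : ℕ)
    (hp : p.Prime) (h : p ^ k ∣ N) : p ^ k ∣ ∑ x ∈ Finset.range (k + 1), S (p ^ x) := by
  have := H.frob (p ^ k) h
  rwa [Nat.sum_divisors_prime_pow hp] at this

theorem c6b_not7 {N : ℕ} {S : ℕ → ℕ} (H : NseHyp N S {1, 45, 80, 90, 144}) (hs : SylowHyp N S)
    (B : A6Basic N S) : ¬ 7 ∣ N := by
  intro h7
  have hS7 : S 7 = 90 := B.seven h7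
  have h49 : ¬ 7 ^ 2 ∣ N := by
    intro h49
    have hf := c6b_frob_pp H 7 2 (by norm_num) h49
    simp only [Finset.sum_range_succ, Finset.sum_range_zero] at hf
    norm_num at hf
    rw [H.one, hS7] at hf
    obtain ⟨hv, hd⟩ := c6b_vp H B 49 42 (by norm_num) (by decide)
    rcases hv with h | h | h | h <;> rw [h] at hd hf <;> omega
  obtain ⟨n, hn1, hn2, hn3⟩ := hs 7 1 (by norm_num) (by norm_num) (by simpa using h7)
    (by simpa using h49) (by rw [pow_one, hS7]; norm_num)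
  rw [pow_one, hS7, show Nat.totient 7 = 6 by decide] at hn1
  have hn15 : n = 15 := by omega
  rw [hn15] at hn3
  have h5 : 5 ∣ N := (by norm_num : 5 ∣ 15).trans hn3
  have h35 : 35 ∣ N := by
    have : Nat.Coprime 5 7 := by norm_num
    exact this.mul_dvd_of_dvd_of_dvd h5 h7
  have hf := H.frob 35 h35
  rw [show Nat.divisors 35 = {1, 5, 7, 35} by decide] at hf
  rw [Finset.sum_insert (by decide), Finset.sum_insert (by decide), Finset.sum_insert (by decide),
    Finset.sum_singleton] at hf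
  rw [H.one, hS7, B.five h5] at hf
  obtain ⟨hv, hd⟩ := c6b_vp H B 35 24 (by norm_num) (by decide)
  rcases hv with h | h | h | h <;> rw [h] at hd hf <;> omega

theorem c6b_four {N : ℕ} {S : ℕ → ℕ} (H : NseHyp N S {1, 45, 80, 90, 144})
    (B : A6Basic N S) (h4 : 4 ∣ N) : S 4 = 90 := by
  have hf := c6b_frob_pp H 2 2 Nat.prime_two (by simpa using h4)
  simp only [Finset.sum_range_succ, Finset.sum_range_zero] at hf
  norm_num at hf
  rw [H.one, B.two] at hf
  rcases B.val 4 (by norm_num) with h | h | h | h <;> rw [h] at hf ⊢ <;> omega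

theorem c6b_not16 {N : ℕ} {S : ℕ → ℕ} (H : NseHyp N S {1, 45, 80, 90, 144})
    (B : A6Basic N S) : ¬ 16 ∣ N := by
  intro h16
  have h4 : 4 ∣ N := (by norm_num : 4 ∣ 16).trans h16
  have hS4 := c6b_four H B h4
  have hf := c6b_frob_pp H 2 4 Nat.prime_two (by simpa using h16)
  simp only [Finset.sum_range_succ, Finset.sum_range_zero] at hf
  norm_num at hf
  rw [H.one, B.two, hS4] at hf
  obtain ⟨hv8, hd8⟩ := c6b_vp H B 8 4 (by norm_num) (by decide)
  obtain ⟨hv16, hd16⟩ := c6b_vp H B 16 8 (by norm_num) (by decide)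
  rcases hv8 with h | h | h | h <;> rcases hv16 with h' | h' | h' | h' <;>
    rw [h] at hd8 hf <;> rw [h'] at hd16 hf <;> omega

theorem c6b_nine27 {N : ℕ} {S : ℕ → ℕ} (H : NseHyp N S {1, 45, 80, 90, 144})
    (B : A6Basic N S) (h27 : 27 ∣ N) : S 9 = 0 ∧ S 27 = 0 := by
  have h3 : 3 ∣ N := (by norm_num : 3 ∣ 27).trans h27
  have hf := c6b_frob_pp H 3 3 Nat.prime_three (by simpa using h27)
  simp only [Finset.sum_range_succ, Finset.sum_range_zero] at hf
  norm_num at hf
  rw [H.one, B.three h3] at hf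
  obtain ⟨hv9, hd9⟩ := c6b_vp H B 9 6 (by norm_num) (by decide)
  obtain ⟨hv27, hd27⟩ := c6b_vp H B 27 18 (by norm_num) (by decide)
  rcases hv9 with h | h | h | h <;> rcases hv27 with h' | h' | h' | h' <;>
    rw [h] at hd9 hf <;> rw [h'] at hd27 hf <;> omega

theorem c6b_not243 {N : ℕ} {S : ℕ → ℕ} (H : NseHyp N S {1, 45, 80, 90, 144})
    (B : A6Basic N S) : ¬ 243 ∣ N := by
  intro h243
  have h27 : 27 ∣ N := (by norm_num : 27 ∣ 243).trans h243
  have h3 : 3 ∣ N := (by norm_num : 3 ∣ 27).trans h27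
  obtain ⟨h9, h27'⟩ := c6b_nine27 H B h27
  have h81 : S 81 = 0 := by
    by_contra h
    exact H.closed 81 9 h (by norm_num) h9
  have h243' : S 243 = 0 := by
    by_contra h
    exact H.closed 243 9 h (by norm_num) h9
  have hf := c6b_frob_pp H 3 5 Nat.prime_three (by simpa using h243)
  simp only [Finset.sum_range_succ, Finset.sum_range_zero] at hf
  norm_num at hf
  rw [H.one, B.three h3, h9, h27', h81, h243'] at hf
  omega

theorem c6b_not25 {N : ℕ} {S : ℕ → ℕ} (H : NseHyp N S {1, 45, 80, 90, 144}) (hs : SylowHyp N S)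
    (B : A6Basic N S) : ¬ 25 ∣ N := by
  intro h25
  have h5 : 5 ∣ N := (by norm_num : 5 ∣ 25).trans h25
  have hS5 := B.five h5
  have hS25 : S 25 = 80 := by
    have hf := c6b_frob_pp H 5 2 (by norm_num) (by simpa using h25)
    simp only [Finset.sum_range_succ, Finset.sum_range_zero] at hf
    norm_num at hf
    rw [H.one, hS5] at hf
    obtain ⟨hv, hd⟩ := c6b_vp H B 25 20 (by norm_num) (by decide)
    rcases hv with h | h | h | h <;> rw [h] at hd hf ⊢ <;> omega
  have h125 : ¬ 5 ^ 3 ∣ N := by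
    intro h125
    have hf := c6b_frob_pp H 5 3 (by norm_num) h125
    simp only [Finset.sum_range_succ, Finset.sum_range_zero] at hf
    norm_num at hf
    rw [H.one, hS5, hS25] at hf
    obtain ⟨hv, hd⟩ := c6b_vp H B 125 100 (by norm_num) (by decide)
    rcases hv with h | h | h | h <;> rw [h] at hd hf <;> omega
  obtain ⟨n, hn1, hn2, hn3⟩ := hs 5 2 (by norm_num) (by norm_num) (by simpa using h25)
    (by simpa using h125) (by norm_num; rw [hS25]; norm_num)
  norm_num at hn1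
  rw [hS25, show Nat.totient 25 = 20 by decide] at hn1
  omega

/-- C6b -/
theorem a6_parts {N : ℕ} {S : ℕ → ℕ} (H : NseHyp N S {1, 45, 80, 90, 144}) (hs : SylowHyp N S)
    (B : A6Basic N S) : A6Parts N S :=
  ⟨c6b_not7 H hs B, c6b_not16 H B, c6b_four H B, c6b_not243 H B,
    fun h => (c6b_nine27 H B h).1, c6b_not25 H hs B⟩

end Cfsg.Agent.Lib.Helper27.Nse
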