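import Cfsg.Agent.Lib.Helper69.OPbDefs
import Cfsg.Agent.Lib.Helper63.OPb0
import Cfsg.Agent.Lib.Helper98.Os3
import Cfsg.Agent.Lib.Helper98.Oh0
import Cfsg.Agent.Lib.Helper98.Sy6

/-!
# K-OPb LEAF 10 (core, helper27): semisimple elements fixing a member of the isometry class

`exists_fixed_semisimple_of`: LEAF 10 of `notes/S5989_keystones.lean.txt` with LEAF 1 (`exists_sub_isoCls`) and
LEAF 9 (`piece_chain`) passed as hypotheses `L1`, `L9` (for the given `B`, `y`), and `c`, `Odd i` abstracted to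
`c` (even, positive) and a proposition `P`.
-/

set_option autoImplicit false

namespace Cfsg.Agent.Lib.Helper27.OPb

open Module Cfsg.Agent.Lib.Helper98.Elus Cfsg.Agent.Lib.Helper98.Sy Cfsg.Agent.Lib.Helper98.Oh
  Cfsg.Agent.Lib.Helper69.OPb Cfsg.Agent.Lib.Helper63.OPb

universe u
variable {F : Type u} [Field F] {V : Type u} [AddCommGroup V] [Module F V]

theorem exists_fixed_semisimple_of [FiniteDimensional F V] (h2 : (2 : F) ≠ 0)
    (B : LinearMap.BilinForm F V) (hS : ∀ a b, B a b = B b a) (hV : NonDeg B ⊤)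
    (r : ℕ) (hrF : (r : F) ≠ 0) (y : V →ₗ[F] V) (hy : y ^ r = 1) (hiso : Iso B y)
    (c : ℕ) (hc1 : 1 ≤ c) (hce : Even c) (P : Prop)
    (L1 : ∀ (U : Submodule F V), NonDeg B U → ∀ (W₀ : Submodule F V), NonDeg B W₀ →
      finrank F W₀ < finrank F U → ∃ W : Submodule F V, W ≤ U ∧ NonDeg B W ∧ IsoCls B W W₀)
    (L9 : ∀ (U : Submodule F V), U ≤ V1 r y → Inv y U → NonDeg B U →
      ∃ T : ℕ, finrank F U = T * c ∧ (Plus B U ↔ (P ∨ Even T)) ∧
        ∀ s : ℕ, s ≤ T → ∃ W : Submodule F V, W ≤ U ∧ Inv y W ∧ NonDeg B W ∧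
          finrank F W = s * c)
    (m : ℕ) (hm : Odd m) (hmn : m < finrank F V)
    (W₀ : Submodule F V) (hW₀ : NonDeg B W₀) (hW₀d : finrank F W₀ = m)
    (hcond : m % c < finrank F V % c ∨
      (finrank F V % c = 0 ∧ ¬ (Plus B ⊤ ↔ (P ∨ Even (finrank F V / c))))) :
    ∃ W : Submodule F V, Inv y W ∧ NonDeg B W ∧ IsoCls B W W₀ := by
  have hR : B.IsRefl := Cfsg.Agent.Lib.Helper98.Os.isRefl_of_symm hS
  have hinvtop : Inv y ⊤ := fun v _ => Submodule.mem_top
  obtain ⟨hnd0', hnd1'⟩ := nonDeg_inf_parts_refl hR r hrF y hy hiso ⊤ hV hinvtop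
  have hnd0 : NonDeg B (V0 y) := by rwa [top_inf_eq] at hnd0'
  have hnd1 : NonDeg B (V1 r y) := by rwa [top_inf_eq] at hnd1'
  have hsum := finrank_V0_add_V1 r hrF y hy
  obtain ⟨T, hT, hTplus, hTchain⟩ := L9 (V1 r y) le_rfl (inv_V1 r y) hnd1
  have hort01 : Ort B (V0 y) (V1 r y) := ort_V0_V1 r hrF y hy hiso
  -- arithmetic
  have key : ∃ s : ℕ, s ≤ T ∧ s * c ≤ m ∧ m - s * c < finrank F (V0 y) := by
    by_cases hTm : T ≤ m / c
    · have hTc : T * c ≤ m :=
        calc T * c ≤ (m / c) * c := Nat.mul_le_mul_right c hTm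
          _ ≤ m := Nat.div_mul_le_self m c
      refine ⟨T, le_rfl, hTc, ?_⟩
      omega
    · have hlt : m / c < T := Nat.lt_of_not_le hTm
      refine ⟨m / c, hlt.le, Nat.div_mul_le_self m c, ?_⟩
      have hmod : m - m / c * c = m % c := by
        have := Nat.div_add_mod m c
        rw [Nat.mul_comm] at this
        omega
      rw [hmod]
      have hnmod : finrank F V % c = finrank F (V0 y) % c := by
        rw [← hsum, hT, Nat.add_mul_mod_self_right]
      rcases hcond with hA | ⟨hB0, hBn⟩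
      · calc m % c < finrank F V % c := hA
          _ = finrank F (V0 y) % c := hnmod
          _ ≤ finrank F (V0 y) := Nat.mod_le _ _
      · have hcle : c ≤ finrank F (V0 y) := by
          by_contra hcon
          have hlt0 : finrank F (V0 y) < c := Nat.lt_of_not_le hcon
          have h0 : finrank F (V0 y) = 0 := by
            rw [hnmod, Nat.mod_eq_of_lt hlt0] at hB0
            exact hB0
          have hV1top : V1 r y = ⊤ := by
            apply Submodule.eq_top_of_finrank_eq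
            omega
          apply hBn
          have hdiv : finrank F V / c = T := by
            have hn : finrank F V = T * c := by omega
            rw [hn]
            exact Nat.mul_div_cancel T (by omega)
          rw [hdiv, ← hV1top]
          exact hTplus
        exact lt_of_lt_of_le (Nat.mod_lt m (by omega)) hcle
  obtain ⟨s, hsT, hscm, hsa⟩ := key
  have hsc_lt : s * c < m := by
    have hev : Even (s * c) := hce.mul_left s
    rcases hev with ⟨k, hk⟩
    rcases hm with ⟨l, hl⟩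
    omega
  obtain ⟨W1, hW1le, hW1inv, hW1nd, hW1d⟩ := hTchain s hsT
  obtain ⟨W1', hW1'le, hW1'nd, hW1'iso⟩ :=
    L1 W₀ hW₀ W1 hW1nd (by rw [hW1d, hW₀d]; exact hsc_lt)
  obtain ⟨hA1, hA2, hAnd, hAd⟩ :=
    Cfsg.Agent.Lib.Helper98.Os.compl_props hR W1' W₀ hW1'nd hW1'le hW₀
  have hW1'd : finrank F W1' = s * c := by rw [isoCls_finrank hW1'iso, hW1d]
  have hAdim : finrank F ↥(B.orthogonal W1' ⊓ W₀) = m - s * c := by omega
  obtain ⟨W0, hW0le, hW0nd, hW0iso⟩ :=
    L1 (V0 y) hnd0 (B.orthogonal W1' ⊓ W₀) hAnd (by rw [hAdim]; exact hsa)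
  have hort : Ort B W0 W1 := fun u hu v hv => hort01 u (hW0le hu) v (hW1le hv)
  obtain ⟨hWnd, hWd⟩ := Cfsg.Agent.Lib.Helper98.Os.nonDeg_sup hR W0 W1 hW0nd hW1nd hort
  refine ⟨W0 ⊔ W1, ?_, hWnd, ?_⟩
  · apply Inv.sup _ hW1inv
    intro v hv
    have hyv : y v = v := (mem_V0 y v).mp (hW0le hv)
    rw [hyv]
    exact hv
  · have hort' : Ort B (B.orthogonal W1' ⊓ W₀) W1' := by
      intro u hu v hv
      have hu1 := (Submodule.mem_inf.mp hu).1
      rw [hS]
      exact LinearMap.BilinForm.mem_orthogonal_iff.mp hu1 v hv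
    have hd' : (B.orthogonal W1' ⊓ W₀) ⊓ W1' = ⊥ := by
      rw [inf_comm]
      exact hA2
    have h := isoCls_sup h2 hS hort hort' hWd hd' hW0iso (isoCls_symm hW1'iso)
    rwa [sup_comm (B.orthogonal W1' ⊓ W₀) W1', hA1] at h

/-- LEAF 10 of `notes/S5989_keystones.lean.txt` (exact conclusion and hypotheses) from LEAF 1 (`exists_sub_isoCls`) and
LEAF 9 (`piece_chain`), passed as hypotheses `H1`, `H9` in their exact spec form (for the given `F`, `V`). -/
theorem exists_fixed_semisimple_of_leaves [Fintype F] [FiniteDimensional F V]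
    (H1 : ∀ (_ : (2 : F) ≠ 0) (B : LinearMap.BilinForm F V) (_ : ∀ a b, B a b = B b a)
      (U : Submodule F V) (_ : NonDeg B U) (W₀ : Submodule F V) (_ : NonDeg B W₀)
      (_ : finrank F W₀ < finrank F U),
      ∃ W : Submodule F V, W ≤ U ∧ NonDeg B W ∧ IsoCls B W W₀)
    (H9 : ∀ (_ : (2 : F) ≠ 0) (B : LinearMap.BilinForm F V) (_ : ∀ a b, B a b = B b a)
      (_ : NonDeg B ⊤) (p f : ℕ) [Fact p.Prime] (_ : Fintype.card F = p ^ f)
      (r : ℕ) [Fact r.Prime] (_ : p ≠ r) (_ : r ≠ 2) (_ : (r : F) ≠ 0) (y : V →ₗ[F] V)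
      (_ : y ^ r = 1) (_ : Iso B y)
      (U : Submodule F V) (_ : U ≤ V1 r y) (_ : Inv y U) (_ : NonDeg B U),
      ∃ T : ℕ, finrank F U = T * cOf (orderOf ((Fintype.card F : ℕ) : ZMod r)) ∧
        (Plus B U ↔ (Odd (orderOf ((Fintype.card F : ℕ) : ZMod r)) ∨ Even T)) ∧
        ∀ s : ℕ, s ≤ T → ∃ W : Submodule F V, W ≤ U ∧ Inv y W ∧ NonDeg B W ∧
          finrank F W = s * cOf (orderOf ((Fintype.card F : ℕ) : ZMod r)))
    (h2 : (2 : F) ≠ 0)
    (B : LinearMap.BilinForm F V) (hS : ∀ a b, B a b = B b a) (hV : NonDeg B ⊤)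
    (p f : ℕ) [Fact p.Prime] (hF : Fintype.card F = p ^ f)
    (r : ℕ) [Fact r.Prime] (hpr : p ≠ r) (hr2 : r ≠ 2) (hrF : (r : F) ≠ 0) (y : V →ₗ[F] V)
    (hy : y ^ r = 1) (hiso : Iso B y)
    (m : ℕ) (hm : Odd m) (hmn : m < finrank F V)
    (W₀ : Submodule F V) (hW₀ : NonDeg B W₀) (hW₀d : finrank F W₀ = m)
    (hcond : m % cOf (orderOf ((Fintype.card F : ℕ) : ZMod r)) <
        finrank F V % cOf (orderOf ((Fintype.card F : ℕ) : ZMod r)) ∨
      (finrank F V % cOf (orderOf ((Fintype.card F : ℕ) : ZMod r)) = 0 ∧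
        ¬ (Plus B ⊤ ↔ (Odd (orderOf ((Fintype.card F : ℕ) : ZMod r)) ∨
          Even (finrank F V / cOf (orderOf ((Fintype.card F : ℕ) : ZMod r))))))) :
    ∃ W : Submodule F V, Inv y W ∧ NonDeg B W ∧ IsoCls B W W₀ :=
  exists_fixed_semisimple_of h2 B hS hV r hrF y hy hiso
    (cOf (orderOf ((Fintype.card F : ℕ) : ZMod r)))
    (cOf_pos _ (orderOf_card_pos p f hF r hpr)) (cOf_even _)
    (Odd (orderOf ((Fintype.card F : ℕ) : ZMod r)))
    (fun U hU W₀ hW₀ hlt => H1 h2 B hS U hU W₀ hW₀ hlt)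
    (fun U hUV1 hU hUnd => H9 h2 B hS hV p f hF r hpr hr2 hrF y hy hiso U hUV1 hU hUnd)
    m hm hmn W₀ hW₀ hW₀d hcond

end Cfsg.Agent.Lib.Helper27.OPb
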