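import Mathlib
import Cfsg.Prelude.Def_CaseTheorems
import Cfsg.Agent.Lib.Helper27.WreathedAut
import Cfsg.Agent.Lib.Helper87.FusionGroup
import Cfsg.Agent.Lib.Helper87.SylowRel
import Cfsg.Agent.Lib.Helper20.SylowNormal

/-! Local structure of a finite group with a wreathed Sylow 2-subgroup. -/

set_option autoImplicit false
set_option linter.style.haveILetI false
set_option linter.unusedSectionVars false

namespace Cfsg.Agent.Lib.Helper27

open Cfsg

section general

variable {G : Type*} [Group G]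

theorem mem_sup_of_le_normalizer {H K : Subgroup G}
    (hH : H ≤ Subgroup.normalizer (K : Set G)) {x : G} :
    x ∈ H ⊔ K ↔ ∃ y ∈ H, ∃ z ∈ K, y * z = x := by
  constructor
  · intro hx
    rw [Subgroup.sup_eq_closure] at hx
    refine Subgroup.closure_induction ?_ ?_ ?_ ?_ hx
    · rintro x (hx | hx)
      · exact ⟨x, hx, 1, K.one_mem, by simp⟩
      · exact ⟨1, H.one_mem, x, hx, by simp⟩
    · exact ⟨1, H.one_mem, 1, K.one_mem, by simp⟩
    · rintro _ _ _ _ ⟨y₁, hy₁, z₁, hz₁, rfl⟩ ⟨y₂, hy₂, z₂, hz₂, rfl⟩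
      refine ⟨y₁ * y₂, H.mul_mem hy₁ hy₂, (y₂⁻¹ * z₁ * y₂) * z₂, K.mul_mem ?_ hz₂, by group⟩
      have := (Subgroup.mem_normalizer_iff''.mp (hH hy₂) z₁).mp hz₁
      exact this
    · rintro _ _ ⟨y, hy, z, hz, rfl⟩
      refine ⟨y⁻¹, H.inv_mem hy, y * z⁻¹ * y⁻¹, ?_, by group⟩
      exact (Subgroup.mem_normalizer_iff.mp (hH hy) z⁻¹).mp (K.inv_mem hz)
  · rintro ⟨y, hy, z, hz, rfl⟩
    exact Subgroup.mul_mem_sup hy hz

theorem normalizer_le_normalizer_centralizer (H : Subgroup G) :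
    Subgroup.normalizer (H : Set G) ≤
      Subgroup.normalizer ((Subgroup.centralizer (H : Set G) : Subgroup G) : Set G) := by
  intro g hg
  rw [Subgroup.mem_normalizer_iff]
  have key : ∀ g : G, g ∈ Subgroup.normalizer (H : Set G) →
      ∀ c ∈ Subgroup.centralizer (H : Set G), g * c * g⁻¹ ∈ Subgroup.centralizer (H : Set G) := by
    intro g hg c hc
    rw [Subgroup.mem_centralizer_iff] at hc ⊢
    intro u hu
    have hu' : g⁻¹ * u * g ∈ H := (Subgroup.mem_normalizer_iff''.mp hg u).mp hu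
    have := hc _ hu'
    calc u * (g * c * g⁻¹) = g * ((g⁻¹ * u * g) * c) * g⁻¹ := by group
      _ = g * (c * (g⁻¹ * u * g)) * g⁻¹ := by rw [this]
      _ = g * c * g⁻¹ * u := by group
  intro c
  constructor
  · exact key g hg c
  · intro hc
    have := key g⁻¹ (Subgroup.inv_mem _ hg) _ hc
    have e : g⁻¹ * (g * c * g⁻¹) * g⁻¹⁻¹ = c := by group
    rw [e] at this
    exact this

theorem centralizer_le_normalizer' (H : Subgroup G) :
    Subgroup.centralizer (H : Set G) ≤ Subgroup.normalizer (H : Set G) := by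
  intro c hc
  rw [Subgroup.mem_centralizer_iff] at hc
  rw [Subgroup.mem_normalizer_iff]
  intro u
  constructor
  · intro hu
    have : c * u * c⁻¹ = u := by rw [← hc u hu]; group
    rw [this]; exact hu
  · intro hu
    have h1 := hc _ hu
    have : u = c * u * c⁻¹ := by
      have : c * u * c⁻¹ * c = c * (c * u * c⁻¹) := h1
      have h2 : c * u = c * (c * u * c⁻¹) := by rw [← this]; group
      exact mul_left_cancel h2
    rw [this]; exact hu

theorem normalizer_le_normalizer_sup_centralizer (V : Subgroup G) :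
    Subgroup.normalizer (V : Set G) ≤
      Subgroup.normalizer ((V ⊔ Subgroup.centralizer (V : Set G) : Subgroup G) : Set G) := by
  set C := Subgroup.centralizer (V : Set G) with hC
  set N := Subgroup.normalizer (V : Set G) with hN
  have hVN : V ≤ N := Subgroup.le_normalizer
  have hNC : N ≤ Subgroup.normalizer (C : Set G) := normalizer_le_normalizer_centralizer _
  intro g hg
  rw [Subgroup.mem_normalizer_iff]
  have key : ∀ g : G, g ∈ N → ∀ w ∈ V ⊔ C, g * w * g⁻¹ ∈ V ⊔ C := by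
    intro g hg w hw
    rw [mem_sup_of_le_normalizer (hVN.trans hNC)] at hw
    obtain ⟨v, hv, c, hc, rfl⟩ := hw
    have e1 : g * (v * c) * g⁻¹ = (g * v * g⁻¹) * (g * c * g⁻¹) := by group
    rw [e1]
    exact Subgroup.mul_mem_sup ((Subgroup.mem_normalizer_iff.mp hg v).mp hv)
      ((Subgroup.mem_normalizer_iff.mp (hNC hg) c).mp hc)
  intro w
  constructor
  · exact key g hg w
  · intro hw
    have := key g⁻¹ (N.inv_mem hg) _ hw
    have e : g⁻¹ * (g * w * g⁻¹) * g⁻¹⁻¹ = w := by group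
    rw [e] at this
    exact this

/-- `|N(H) : C(H)|` divides `|Aut H|` -/
theorem relIndex_centralizer_dvd (H : Subgroup G) [Finite H] :
    (Subgroup.centralizer (H : Set G)).relIndex (Subgroup.normalizer (H : Set G)) ∣
      Nat.card (MulAut H) := by
  have h1 : (Subgroup.centralizer (H : Set G)).relIndex (Subgroup.normalizer (H : Set G)) =
      Nat.card H.normalizerMonoidHom.range := by
    rw [Subgroup.relIndex, ← Subgroup.normalizerMonoidHom_ker, Subgroup.index_ker]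
  rw [h1]
  exact Subgroup.card_subgroup_dvd_card _

end general

namespace IsWr

variable {G : Type*} [Group G] [Finite G] {S : Sylow 2 G} {n : ℕ} {x y z : ↥(S : Subgroup G)}

theorem conj_mem_UG (h : IsWr n x y z) {g u : G} (hg : g ∈ (S : Subgroup G)) (hu : u ∈ h.UG) :
    g * u * g⁻¹ ∈ h.UG := by
  rw [h.mem_UG_iff] at hu
  obtain ⟨a, b, rfl⟩ := hu
  rcases h.casesG hg with ⟨c, d, rfl⟩ | ⟨c, d, rfl⟩
  · rw [h.PG_conj_PG]; exact h.PG_mem_UG _ _
  · rw [h.QG_conj_PG]; exact h.PG_mem_UG _ _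

theorem le_normalizer_UG (h : IsWr n x y z) :
    (S : Subgroup G) ≤ Subgroup.normalizer (h.UG : Set G) := by
  intro g hg
  rw [Subgroup.mem_normalizer_iff]
  intro u
  constructor
  · exact h.conj_mem_UG hg
  · intro hu
    have := h.conj_mem_UG (Subgroup.inv_mem _ hg) hu
    have e : g⁻¹ * (g * u * g⁻¹) * g⁻¹⁻¹ = u := by group
    rw [e] at this
    exact this

theorem centralizer_UG_inf (h : IsWr n x y z) :
    Subgroup.centralizer (h.UG : Set G) ⊓ (S : Subgroup G) = h.UG := by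
  apply le_antisymm
  · intro g hg
    rw [Subgroup.mem_inf] at hg
    obtain ⟨hgC, hgS⟩ := hg
    rcases h.casesG hgS with ⟨c, d, rfl⟩ | ⟨c, d, rfl⟩
    · exact h.PG_mem_UG _ _
    · exfalso
      rw [Subgroup.mem_centralizer_iff] at hgC
      have := hgC _ (h.PG_mem_UG 1 0)
      rw [h.PG_comm_QG_iff] at this
      exact h.one_ne_zero' this
  · intro g hg
    rw [Subgroup.mem_inf]
    refine ⟨?_, h.UG_le hg⟩
    rw [Subgroup.mem_centralizer_iff]
    intro u hu
    rw [SetLike.mem_coe] at hu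
    rw [h.mem_UG_iff] at hg hu
    obtain ⟨a, b, rfl⟩ := hg
    obtain ⟨c, d, rfl⟩ := hu
    rw [h.PG_mul_PG, h.PG_mul_PG, add_comm a c, add_comm b d]

theorem relIndex_UG (h : IsWr n x y z) : h.UG.relIndex (S : Subgroup G) = 2 := by
  have h1 : h.UG.subgroupOf (S : Subgroup G) = h.U := by
    ext t
    rw [Subgroup.mem_subgroupOf, ← h.mem_U_iff_coe_mem_UG]
  rw [Subgroup.relIndex, h1, h.index_U]

theorem not_two_dvd_relIndex (N : Subgroup G) (hSN : (S : Subgroup G) ≤ N) :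
    ¬ 2 ∣ (S : Subgroup G).relIndex N := by
  intro hc
  exact S.not_dvd_index (hc.trans (Subgroup.relIndex_dvd_index_of_le hSN))

/-- `|N_G(U) : C_G(U)| = 2 m` with `m` odd dividing 3 -/
theorem relIndex_centralizer_normalizer_UG (h : IsWr n x y z) :
    (Subgroup.centralizer (h.UG : Set G)).relIndex (Subgroup.normalizer (h.UG : Set G)) = 2 ∨
    (Subgroup.centralizer (h.UG : Set G)).relIndex (Subgroup.normalizer (h.UG : Set G)) = 6 := by
  set C := Subgroup.centralizer (h.UG : Set G) with hC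
  set N := Subgroup.normalizer (h.UG : Set G) with hN
  have hCN : C ≤ N := centralizer_le_normalizer' _
  have hSN : (S : Subgroup G) ≤ N := h.le_normalizer_UG
  have hNC : N ≤ Subgroup.normalizer (C : Set G) := normalizer_le_normalizer_centralizer _
  have hSC : (S : Subgroup G) ≤ Subgroup.normalizer (C : Set G) := hSN.trans hNC
  have e1 : C.relIndex ((S : Subgroup G) ⊔ C) = 2 := by
    rw [Cfsg.Agent.Lib.Helper20.relIndex_sup_right_of_le_normalizer _ _ hSC,
      ← Subgroup.inf_relIndex_right, h.centralizer_UG_inf, h.relIndex_UG]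
  have e2 := Subgroup.relIndex_mul_relIndex C ((S : Subgroup G) ⊔ C) N le_sup_right
    (sup_le hSN hCN)
  rw [e1] at e2
  set m := ((S : Subgroup G) ⊔ C).relIndex N with hm
  have hmodd : Odd m := by
    rw [← Nat.not_even_iff_odd, even_iff_two_dvd]
    intro hc
    apply not_two_dvd_relIndex N hSN
    have e3 := Subgroup.relIndex_mul_relIndex (S : Subgroup G) ((S : Subgroup G) ⊔ C) N
      le_sup_left (sup_le hSN hCN)
    rw [← e3]
    exact Dvd.dvd.mul_left hc _
  have hdvd : m ∣ Nat.card (MulAut h.UG) := by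
    have := relIndex_centralizer_dvd h.UG
    rw [← hC, ← hN, ← e2] at this
    exact (Dvd.intro_left _ rfl).trans this
  have hcard : Nat.card (MulAut h.UG) = Nat.card (MulAut h.U) := by
    have ε : h.UG ≃* h.U :=
      (Subgroup.equivMapOfInjective h.U (S : Subgroup G).subtype
        (S : Subgroup G).subtype_injective).symm
    exact Nat.card_congr (MulAut.congr ε).toEquiv
  rw [hcard] at hdvd
  have h3 := h.odd_dvd_card_mulAut_U hmodd hdvd
  have hm13 : m = 1 ∨ m = 3 := by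
    have := Nat.le_of_dvd (by norm_num) h3
    interval_cases m
    · simp at h3
    · left; rfl
    · exfalso; revert h3; decide
    · right; rfl
  rcases hm13 with h1 | h1
  · left; rw [← e2, h1]
  · right; rw [← e2, h1]

open Cfsg.Agent.Lib.Helper87 in
theorem map_conj_le_of_mem {H K : Subgroup G} (hHK : H ≤ K) {s : G} (hs : s ∈ K) :
    H.map (MulAut.conj s).toMonoidHom ≤ K := by
  intro w hw
  rw [mem_map_conj_iff] at hw
  have := K.mul_mem (K.mul_mem hs (hHK hw)) (K.inv_mem hs)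
  have e : s * (s⁻¹ * w * s) * s⁻¹ = w := by group
  rw [e] at this
  exact this

/-- the centralizer in `T` of a good subgroup is the centre of `T` -/
theorem IsGoodG.centralizer_inf_le (h : IsWr n x y z) {V : Subgroup G} {δ : ZMod (2 ^ n)}
    (hV : h.IsGoodG V δ) : Subgroup.centralizer (V : Set G) ⊓ (S : Subgroup G) ≤ h.ZG := by
  intro g hg
  rw [Subgroup.mem_inf, Subgroup.mem_centralizer_iff] at hg
  obtain ⟨hgC, hgS⟩ := hg
  have hP : h.PG (hh n) 0 ∈ V := by
    rw [hV.P_mem]; linear_combination two_mul_hh h.one_le_n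
  have hQ : h.QG δ 0 ∈ V := by rw [hV.Q_mem]; ring
  rcases h.casesG hgS with ⟨c, d, rfl⟩ | ⟨c, d, rfl⟩
  · have := hgC _ hQ
    rw [eq_comm, h.PG_comm_QG_iff] at this
    rw [h.mem_ZG_iff]; exact ⟨c, by rw [this]⟩
  · have := hgC _ hP
    rw [h.PG_comm_QG_iff] at this
    exact absurd this h.hh_ne_zero'

theorem IsGoodG.ZG_le (h : IsWr n x y z) {V : Subgroup G} {δ : ZMod (2 ^ n)}
    (hV : h.IsGoodG V δ) : h.ZG ≤ V := by
  intro g hg
  rw [h.mem_ZG_iff] at hg
  obtain ⟨a, rfl⟩ := hg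
  rw [hV.P_mem]; ring

theorem IsGoodG.relIndex_normalizer_inf (h : IsWr n x y z) {V : Subgroup G} {δ : ZMod (2 ^ n)}
    (hV : h.IsGoodG V δ) :
    V.relIndex ((S : Subgroup G) ⊓ Subgroup.normalizer (V : Set G)) = 2 := by
  have h1 := (hV.isGood h).relIndex_normalizer h
  rw [← Subgroup.subgroupOf_normalizer_eq hV.le] at h1
  have e : (Subgroup.normalizer (V : Set G)).subgroupOf (S : Subgroup G) =
      ((S : Subgroup G) ⊓ Subgroup.normalizer (V : Set G)).subgroupOf (S : Subgroup G) := by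
    rw [inf_comm, Subgroup.inf_subgroupOf_right]
  rw [e, Subgroup.relIndex_subgroupOf inf_le_left] at h1
  exact h1

open Cfsg.Agent.Lib.Helper87 in
/-- conjugacy of good subgroups, in `G` -/
theorem IsGoodG.conj (h : IsWr n x y z) {V V' : Subgroup G} {δ δ' a : ZMod (2 ^ n)}
    (hV : h.IsGoodG V δ) (hV' : h.IsGoodG V' δ') (hδ : δ' - δ = 2 * a) :
    V.map (MulAut.conj (h.PG a 0)).toMonoidHom = V' := by
  ext g
  rw [mem_map_conj_iff]
  have e1 : (h.PG a 0)⁻¹ = h.PG (-a) 0 := by rw [h.PG_inv, neg_zero]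
  have e2 : h.PG a 0 = (h.PG (-a) 0)⁻¹ := by rw [h.PG_inv, neg_neg, neg_zero]
  have hT : ∀ g : G, g ∈ (S : Subgroup G) →
      ((h.PG a 0)⁻¹ * g * h.PG a 0 ∈ V ↔ g ∈ V') := by
    intro g hg
    rw [e1, e2]
    rcases h.casesG hg with ⟨c, d, rfl⟩ | ⟨c, d, rfl⟩
    · rw [h.PG_conj_PG, hV.P_mem, hV'.P_mem]
    · rw [h.PG_conj_QG, hV.Q_mem, hV'.Q_mem]
      constructor
      · intro h1; linear_combination h1 - 2 * hδ
      · intro h1; linear_combination h1 + 2 * hδ
  by_cases hg : g ∈ (S : Subgroup G)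
  · exact hT g hg
  · constructor
    · intro hc
      exfalso
      apply hg
      have h1 := hV.le hc
      have h2 := (S : Subgroup G).mul_mem ((S : Subgroup G).mul_mem (h.PG_mem a 0) h1)
        ((S : Subgroup G).inv_mem (h.PG_mem a 0))
      have e : h.PG a 0 * ((h.PG a 0)⁻¹ * g * h.PG a 0) * (h.PG a 0)⁻¹ = g := by group
      rw [e] at h2
      exact h2
    · intro hc
      exact absurd (hV'.le hc) hg

open Cfsg.Agent.Lib.Helper87 in
/-- any conjugate of `V = Q ⊔ Z(T)` inside `T` is `T`-conjugate to `V` -/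
theorem conj_V (h : IsWr n x y z) (Q : Subgroup G) (hQT : Q ≤ (S : Subgroup G))
    (eQ : Q ≃* QuaternionGroup 2) (g : G)
    (hg : (Q ⊔ h.ZG).map (MulAut.conj g).toMonoidHom ≤ (S : Subgroup G)) :
    ∃ s ∈ (S : Subgroup G),
      ((Q ⊔ h.ZG).map (MulAut.conj g).toMonoidHom).map (MulAut.conj s).toMonoidHom = Q ⊔ h.ZG := by
  obtain ⟨δ, e, hδ, hV⟩ := h.isGoodG_of_Q8 Q hQT eQ
  set Q' := Q.map (MulAut.conj g).toMonoidHom with hQ'
  set Z' := h.ZG.map (MulAut.conj g).toMonoidHom with hZ'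
  have hmap : (Q ⊔ h.ZG).map (MulAut.conj g).toMonoidHom = Q' ⊔ Z' := Subgroup.map_sup _ _ _
  have hQ'T : Q' ≤ (S : Subgroup G) := (Subgroup.map_mono le_sup_left).trans hg
  have hZ'T : Z' ≤ (S : Subgroup G) := (Subgroup.map_mono le_sup_right).trans hg
  have eQ' : Q' ≃* QuaternionGroup 2 :=
    (Subgroup.equivMapOfInjective Q _ (MulAut.conj g).injective).symm.trans eQ
  obtain ⟨δ', e', hδ', hV'⟩ := h.isGoodG_of_Q8 Q' hQ'T eQ'
  -- Z' = ZG
  have hZle : Z' ≤ h.ZG := by
    intro w hw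
    apply hV'.centralizer_inf_le h
    rw [Subgroup.mem_inf]
    refine ⟨?_, hZ'T hw⟩
    rw [Subgroup.mem_centralizer_iff]
    have hsup : Q' ⊔ h.ZG ≤ Subgroup.centralizer ({w} : Set G) := by
      apply sup_le
      · intro q hq
        rw [Subgroup.mem_centralizer_iff]
        intro w' hw'
        rw [Set.mem_singleton_iff] at hw'
        subst hw'
        rw [hQ', mem_map_conj_iff] at hq
        rw [hZ', mem_map_conj_iff] at hw
        -- g⁻¹ q g ∈ Q, g⁻¹ w' g ∈ ZG commute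
        obtain ⟨a, ha⟩ := (h.mem_ZG_iff _).mp hw
        have hcomm : (g⁻¹ * w' * g) * (g⁻¹ * q * g) = (g⁻¹ * q * g) * (g⁻¹ * w' * g) := by
          rw [ha]
          rcases h.casesG (hQT hq) with ⟨c, d, hcd⟩ | ⟨c, d, hcd⟩
          · rw [hcd, h.PG_mul_PG, h.PG_mul_PG, add_comm a c, add_comm a d]
          · rw [hcd]; exact (h.PG_comm_QG_iff a a c d).mpr rfl
        have : g * ((g⁻¹ * w' * g) * (g⁻¹ * q * g)) * g⁻¹ =
            g * ((g⁻¹ * q * g) * (g⁻¹ * w' * g)) * g⁻¹ := by rw [hcomm]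
        calc w' * q = g * ((g⁻¹ * w' * g) * (g⁻¹ * q * g)) * g⁻¹ := by group
          _ = g * ((g⁻¹ * q * g) * (g⁻¹ * w' * g)) * g⁻¹ := this
          _ = q * w' := by group
      · intro ζ hζ
        rw [Subgroup.mem_centralizer_iff]
        intro w' hw'
        rw [Set.mem_singleton_iff] at hw'
        subst hw'
        obtain ⟨a, rfl⟩ := (h.mem_ZG_iff _).mp hζ
        rcases h.casesG (hZ'T hw) with ⟨c, d, rfl⟩ | ⟨c, d, rfl⟩
        · rw [h.PG_mul_PG, h.PG_mul_PG, add_comm a c, add_comm a d]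
        · exact ((h.PG_comm_QG_iff a a c d).mpr rfl).symm
    intro v hv
    have := hsup hv
    rw [Subgroup.mem_centralizer_iff] at this
    exact (this w rfl).symm
  have hZeq : Z' = h.ZG := by
    apply Subgroup.eq_of_le_of_card_ge hZle
    rw [hZ', card_map_conj]
  rw [hmap, hZeq]
  rw [hZeq] at hmap
  refine ⟨h.PG (e - e') 0, h.PG_mem _ _, ?_⟩
  exact hV'.conj h hV (by rw [hδ, hδ']; ring)

open Cfsg.Agent.Lib.Helper87 in
/-- `V = Q ⊔ Z(T)` is fully normalized: `N_T(V)` is a Sylow 2-subgroup of `N_G(V)` -/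
theorem sylow_normalizer_V (h : IsWr n x y z) (Q : Subgroup G) (hQT : Q ≤ (S : Subgroup G))
    (eQ : Q ≃* QuaternionGroup 2) :
    ∀ C : Subgroup G, IsPGroup 2 C →
      (S : Subgroup G) ⊓ Subgroup.normalizer ((Q ⊔ h.ZG : Subgroup G) : Set G) ≤ C →
      C ≤ Subgroup.normalizer ((Q ⊔ h.ZG : Subgroup G) : Set G) →
      C = (S : Subgroup G) ⊓ Subgroup.normalizer ((Q ⊔ h.ZG : Subgroup G) : Set G) := by
  intro C hC hBC hCN
  set V := Q ⊔ h.ZG with hVdef
  set N := Subgroup.normalizer (V : Set G) with hN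
  obtain ⟨δ, e, hδ, hV⟩ := h.isGoodG_of_Q8 Q hQT eQ
  have hVB : V ≤ (S : Subgroup G) ⊓ N := le_inf hV.le Subgroup.le_normalizer
  obtain ⟨g, hg⟩ := exists_conj_le_sylow S hC
  have hVg : V.map (MulAut.conj g).toMonoidHom ≤ (S : Subgroup G) :=
    (Subgroup.map_mono (hVB.trans hBC)).trans hg
  obtain ⟨s, hs, hsV⟩ := h.conj_V Q hQT eQ g hVg
  rw [map_conj_map_conj] at hsV
  -- s * g normalizes V
  have hsgN : s * g ∈ N := by
    rw [hN, Subgroup.mem_normalizer_iff'']
    intro v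
    rw [← mem_map_conj_iff, hsV]
  have hle : C.map (MulAut.conj (s * g)).toMonoidHom ≤ (S : Subgroup G) ⊓ N := by
    apply le_inf
    · rw [← map_conj_map_conj]
      exact map_conj_le_of_mem hg hs
    · exact map_conj_le_of_mem hCN hsgN
  symm
  apply Subgroup.eq_of_le_of_card_ge hBC
  have := Nat.card_le_card_of_injective (Subgroup.inclusion hle) (Subgroup.inclusion_injective hle)
  rw [card_map_conj] at this
  exact this

open Cfsg.Agent.Lib.Helper87 in
theorem not_two_dvd_relIndex_normalizer_V (h : IsWr n x y z) (Q : Subgroup G)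
    (hQT : Q ≤ (S : Subgroup G)) (eQ : Q ≃* QuaternionGroup 2) :
    ¬ 2 ∣ ((S : Subgroup G) ⊓ Subgroup.normalizer ((Q ⊔ h.ZG : Subgroup G) : Set G)).relIndex
      (Subgroup.normalizer ((Q ⊔ h.ZG : Subgroup G) : Set G)) := by
  have hP : IsPGroup 2 ((S : Subgroup G) ⊓
      Subgroup.normalizer ((Q ⊔ h.ZG : Subgroup G) : Set G) : Subgroup G) :=
    S.isPGroup'.to_le inf_le_left
  obtain ⟨R, hR⟩ := (sylow_subgroupOf_iff (p := 2)
    (Subgroup.normalizer ((Q ⊔ h.ZG : Subgroup G) : Set G))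
    ((S : Subgroup G) ⊓ Subgroup.normalizer ((Q ⊔ h.ZG : Subgroup G) : Set G)) inf_le_right).mpr
    ⟨hP, h.sylow_normalizer_V Q hQT eQ⟩
  rw [Subgroup.relIndex, ← hR]
  exact R.not_dvd_index

/-- `|N_T(V) V C_G(V) : V C_G(V)| = 2` -/
theorem relIndex_VC_sup (h : IsWr n x y z) (Q : Subgroup G)
    (hQT : Q ≤ (S : Subgroup G)) (eQ : Q ≃* QuaternionGroup 2) :
    ((Q ⊔ h.ZG) ⊔ Subgroup.centralizer ((Q ⊔ h.ZG : Subgroup G) : Set G)).relIndex
      (((S : Subgroup G) ⊓ Subgroup.normalizer ((Q ⊔ h.ZG : Subgroup G) : Set G)) ⊔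
        ((Q ⊔ h.ZG) ⊔ Subgroup.centralizer ((Q ⊔ h.ZG : Subgroup G) : Set G))) = 2 := by
  set V := Q ⊔ h.ZG with hVdef
  set C := Subgroup.centralizer (V : Set G) with hC
  set N := Subgroup.normalizer (V : Set G) with hN
  obtain ⟨δ, e, hδ, hV⟩ := h.isGoodG_of_Q8 Q hQT eQ
  set R := (S : Subgroup G) ⊓ N with hR
  have hVN : V ≤ N := Subgroup.le_normalizer
  have hNC : N ≤ Subgroup.normalizer (C : Set G) := normalizer_le_normalizer_centralizer _
  have hRN : R ≤ N := inf_le_right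
  have hVR : V ≤ R := le_inf hV.le hVN
  have hNVC : N ≤ Subgroup.normalizer ((V ⊔ C : Subgroup G) : Set G) :=
    normalizer_le_normalizer_sup_centralizer V
  have hinf : (V ⊔ C) ⊓ R = V := by
    apply le_antisymm
    · intro w hw
      rw [Subgroup.mem_inf] at hw
      obtain ⟨hw1, hw2⟩ := hw
      rw [mem_sup_of_le_normalizer (hVN.trans hNC)] at hw1
      obtain ⟨v, hv, c, hc, rfl⟩ := hw1
      have hcS : c ∈ (S : Subgroup G) := by
        have h1 : v * c ∈ (S : Subgroup G) := (inf_le_left : R ≤ (S : Subgroup G)) hw2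
        have := (S : Subgroup G).mul_mem ((S : Subgroup G).inv_mem (hV.le hv)) h1
        rw [inv_mul_cancel_left] at this
        exact this
      have hcZ : c ∈ h.ZG := hV.centralizer_inf_le h (Subgroup.mem_inf.mpr ⟨hc, hcS⟩)
      exact V.mul_mem hv (hV.ZG_le h hcZ)
    · exact le_inf le_sup_left hVR
  rw [Cfsg.Agent.Lib.Helper20.relIndex_sup_right_of_le_normalizer _ _ (hRN.trans hNVC),
    ← Subgroup.inf_relIndex_right, hinf, hR, hN]
  exact hV.relIndex_normalizer_inf h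

/-- `|N_G(V) : V C_G(V)|` is 2 or 6 -/
theorem relIndex_normalizer_V (h : IsWr n x y z) (Q : Subgroup G)
    (hQT : Q ≤ (S : Subgroup G)) (eQ : Q ≃* QuaternionGroup 2) :
    ((Q ⊔ h.ZG) ⊔ Subgroup.centralizer ((Q ⊔ h.ZG : Subgroup G) : Set G)).relIndex
        (Subgroup.normalizer ((Q ⊔ h.ZG : Subgroup G) : Set G)) = 2 ∨
    ((Q ⊔ h.ZG) ⊔ Subgroup.centralizer ((Q ⊔ h.ZG : Subgroup G) : Set G)).relIndex
        (Subgroup.normalizer ((Q ⊔ h.ZG : Subgroup G) : Set G)) = 6 := by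
  have e1 := h.relIndex_VC_sup Q hQT eQ
  set V := Q ⊔ h.ZG with hVdef
  set C := Subgroup.centralizer (V : Set G) with hC
  set N := Subgroup.normalizer (V : Set G) with hN
  obtain ⟨δ, e, hδ, hV⟩ := h.isGoodG_of_Q8 Q hQT eQ
  set R := (S : Subgroup G) ⊓ N with hR
  have hCN : C ≤ N := centralizer_le_normalizer' _
  have hVN : V ≤ N := Subgroup.le_normalizer
  have hVCN : V ⊔ C ≤ N := sup_le hVN hCN
  have hRN : R ≤ N := inf_le_right
  have e2 := Subgroup.relIndex_mul_relIndex (V ⊔ C) (R ⊔ (V ⊔ C)) N le_sup_right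
    (sup_le hRN hVCN)
  rw [e1] at e2
  set m := (R ⊔ (V ⊔ C)).relIndex N with hm
  have hmodd : Odd m := by
    rw [← Nat.not_even_iff_odd, even_iff_two_dvd]
    intro hc
    apply h.not_two_dvd_relIndex_normalizer_V Q hQT eQ
    have e3 := Subgroup.relIndex_mul_relIndex R (R ⊔ (V ⊔ C)) N le_sup_left (sup_le hRN hVCN)
    rw [← e3]
    exact Dvd.dvd.mul_left hc _
  have hdvd : m ∣ Nat.card (MulAut V) := by
    have h1 := relIndex_centralizer_dvd V
    have h2 := Subgroup.relIndex_mul_relIndex C (V ⊔ C) N le_sup_right hVCN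
    rw [← hC, ← hN, ← h2, ← e2] at h1
    exact (Dvd.intro_left _ rfl).trans ((Dvd.intro_left _ rfl).trans h1)
  have hcard : Nat.card (MulAut V) = Nat.card (MulAut (V.subgroupOf (S : Subgroup G))) := by
    have ε : V ≃* V.subgroupOf (S : Subgroup G) := (Subgroup.subgroupOfEquivOfLe hV.le).symm
    exact Nat.card_congr (MulAut.congr ε).toEquiv
  rw [hcard] at hdvd
  have h3 := (hV.isGood h).odd_dvd_card_mulAut h hmodd hdvd
  have hm13 : m = 1 ∨ m = 3 := by
    have := Nat.le_of_dvd (by norm_num) h3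
    interval_cases m
    · simp at h3
    · left; rfl
    · exfalso; revert h3; decide
    · right; rfl
  rcases hm13 with h1 | h1
  · left; rw [← e2, h1]
  · right; rw [← e2, h1]

/-- if `|N_G(V) : V C_G(V)| = 2` then `N_G(V) = N_T(V) C_G(V)` -/
theorem normalizer_V_eq (h : IsWr n x y z) (Q : Subgroup G)
    (hQT : Q ≤ (S : Subgroup G)) (eQ : Q ≃* QuaternionGroup 2)
    (h2 : ((Q ⊔ h.ZG) ⊔ Subgroup.centralizer ((Q ⊔ h.ZG : Subgroup G) : Set G)).relIndex
        (Subgroup.normalizer ((Q ⊔ h.ZG : Subgroup G) : Set G)) = 2) :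
    ∀ g ∈ Subgroup.normalizer ((Q ⊔ h.ZG : Subgroup G) : Set G),
      ∃ r ∈ (S : Subgroup G) ⊓ Subgroup.normalizer ((Q ⊔ h.ZG : Subgroup G) : Set G),
      ∃ c ∈ Subgroup.centralizer ((Q ⊔ h.ZG : Subgroup G) : Set G), r * c = g := by
  have e1 := h.relIndex_VC_sup Q hQT eQ
  set V := Q ⊔ h.ZG with hVdef
  set C := Subgroup.centralizer (V : Set G) with hC
  set N := Subgroup.normalizer (V : Set G) with hN
  obtain ⟨δ, e, hδ, hV⟩ := h.isGoodG_of_Q8 Q hQT eQ
  set R := (S : Subgroup G) ⊓ N with hR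
  have hCN : C ≤ N := centralizer_le_normalizer' _
  have hVN : V ≤ N := Subgroup.le_normalizer
  have hVCN : V ⊔ C ≤ N := sup_le hVN hCN
  have hRN : R ≤ N := inf_le_right
  have hVR : V ≤ R := le_inf hV.le hVN
  have hNC : N ≤ Subgroup.normalizer (C : Set G) := normalizer_le_normalizer_centralizer _
  have e2 := Subgroup.relIndex_mul_relIndex (V ⊔ C) (R ⊔ (V ⊔ C)) N le_sup_right
    (sup_le hRN hVCN)
  rw [e1, h2] at e2
  have e3 : (R ⊔ (V ⊔ C)).relIndex N = 1 := by omega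
  rw [Subgroup.relIndex_eq_one] at e3
  intro g hg
  have hg' := e3 hg
  have hsup : R ⊔ (V ⊔ C) = R ⊔ C := by
    rw [← sup_assoc, sup_eq_left.mpr hVR]
  rw [hsup, mem_sup_of_le_normalizer (hRN.trans hNC)] at hg'
  exact hg'

end IsWr

end Cfsg.Agent.Lib.Helper27
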