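import Mathlib
import Cfsg.Prelude.Def_CaseTheorems
import Cfsg.Agent.Lib.Helper27.WreathedFusion
import Cfsg.Agent.Lib.Helper27.InvClasses

/-! Involutions and odd-order local automorphisms in a group with wreathed Sylow 2-subgroup. -/

set_option autoImplicit false
set_option linter.style.haveILetI false
set_option linter.unusedSectionVars false

namespace Cfsg.Agent.Lib.Helper27

open Cfsg

namespace IsWr

variable {G : Type*} [Group G] [Finite G] {S : Sylow 2 G} {n : ℕ} {x y z : ↥(S : Subgroup G)}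

/-- the central involution -/
def zG (h : IsWr n x y z) : G := h.PG (hh n) (hh n)
/-- a non-central involution of `U` -/
def uG (h : IsWr n x y z) : G := h.PG (hh n) 0
/-- an involution outside `U` -/
def tG (h : IsWr n x y z) : G := h.QG 0 0

theorem orderOf_zG (h : IsWr n x y z) : orderOf h.zG = 2 := by
  rw [zG, h.orderOf_PG_eq_two_iff]
  exact ⟨Or.inr rfl, Or.inr rfl, fun hc => h.hh_ne_zero' hc.1⟩

theorem orderOf_uG (h : IsWr n x y z) : orderOf h.uG = 2 := by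
  rw [uG, h.orderOf_PG_eq_two_iff]
  exact ⟨Or.inr rfl, Or.inl rfl, fun hc => h.hh_ne_zero' hc.1⟩

theorem orderOf_tG (h : IsWr n x y z) : orderOf h.tG = 2 := by
  rw [tG, h.orderOf_QG_eq_two_iff, add_zero]

theorem involution_cases (h : IsWr n x y z) {t : G} (ht : t ∈ (S : Subgroup G))
    (ht2 : orderOf t = 2) :
    t = h.zG ∨ t = h.uG ∨ t = h.PG 0 (hh n) ∨ ∃ c, t = h.QG c (-c) := by
  rcases h.casesG ht with ⟨a, b, rfl⟩ | ⟨a, b, rfl⟩
  · rw [h.orderOf_PG_eq_two_iff] at ht2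
    obtain ⟨ha, hb, hne⟩ := ht2
    rcases ha with rfl | rfl <;> rcases hb with rfl | rfl
    · exact absurd ⟨rfl, rfl⟩ hne
    · right; right; left; rfl
    · right; left; rfl
    · left; rfl
  · rw [h.orderOf_QG_eq_two_iff] at ht2
    right; right; right
    exact ⟨a, by rw [show b = -a by linear_combination ht2]⟩

open Cfsg.Agent.Lib.Helper87 in
theorem involution_conj (h : IsWr n x y z) {t : G} (ht2 : orderOf t = 2) :
    IsConj t h.zG ∨ IsConj t h.uG ∨ IsConj t h.tG := by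
  haveI : Fact (Nat.Prime 2) := ⟨Nat.prime_two⟩
  have hP : IsPGroup 2 (Subgroup.zpowers t) := by
    apply IsPGroup.of_card (n := 1)
    rw [Nat.card_zpowers, ht2, pow_one]
  obtain ⟨g, hg⟩ := exists_conj_le_sylow S hP
  have hgt : g * t * g⁻¹ ∈ (S : Subgroup G) :=
    hg (conj_mem_map_conj (Subgroup.mem_zpowers t))
  have hgt2 : orderOf (g * t * g⁻¹) = 2 := by
    have : g * t * g⁻¹ = MulAut.conj g t := rfl
    rw [this, MulEquiv.orderOf_eq, ht2]
  have hc : IsConj t (g * t * g⁻¹) := isConj_iff.mpr ⟨g, rfl⟩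
  rcases h.involution_cases hgt hgt2 with h1 | h1 | h1 | ⟨c, h1⟩
  · left; rw [← h1]; exact hc
  · right; left; rw [← h1]; exact hc
  · right; left
    apply hc.trans
    rw [h1, isConj_iff]
    exact ⟨h.QG 0 0, by rw [h.QG_conj_PG]; rfl⟩
  · right; right
    apply hc.trans
    rw [h1, isConj_iff]
    refine ⟨h.PG (-c) 0, ?_⟩
    rw [h.PG_conj_QG]
    show h.QG _ _ = h.QG 0 0
    congr 1 <;> ring

/-- extraction of an odd-order element from `|N_G(U) : C_G(U)| = 6` -/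
theorem exists_odd_UG (h : IsWr n x y z)
    (h6 : (Subgroup.centralizer (h.UG : Set G)).relIndex (Subgroup.normalizer (h.UG : Set G)) = 6) :
    ∃ g ∈ Subgroup.normalizer (h.UG : Set G), Odd (orderOf g) ∧
      g ∉ Subgroup.centralizer (h.UG : Set G) ∧ g ^ 3 ∈ Subgroup.centralizer (h.UG : Set G) := by
  obtain ⟨g, hgN, hodd, hgC⟩ := exists_odd_not_mem _ _ (centralizer_le_normalizer' h.UG)
    (normalizer_le_normalizer_centralizer h.UG) (by
      rw [h6]
      rintro ⟨j, hj⟩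
      have h2 : (2 : ℕ) ^ j ∣ 6 := by rw [← hj]
      have h3 : (3 : ℕ) ∣ 2 ^ j := by rw [← hj]; norm_num
      have := (Nat.Prime.dvd_of_dvd_pow Nat.prime_three h3)
      omega)
  refine ⟨g, hgN, hodd, hgC, ?_⟩
  set α := h.UG.normalizerMonoidHom ⟨g, hgN⟩ with hα
  have hk : α ^ (orderOf g) = 1 := normalizerMonoidHom_pow_eq_one _ hgN (pow_orderOf_eq_one g)
  have hcard : Nat.card h.UG.normalizerMonoidHom.range = 6 := by
    rw [← h6, Subgroup.relIndex, ← Subgroup.normalizerMonoidHom_ker, Subgroup.index_ker]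
  have h6' : α ^ 6 = 1 := by
    have : (⟨α, ⟨_, rfl⟩⟩ : h.UG.normalizerMonoidHom.range) ^ 6 = 1 := by
      rw [← hcard]; exact pow_card_eq_one'
    have := congrArg Subtype.val this
    simpa using this
  have h3 : α ^ 3 = 1 := by
    have hd : orderOf α ∣ Nat.gcd 6 (orderOf g) :=
      Nat.dvd_gcd (orderOf_dvd_of_pow_eq_one h6') (orderOf_dvd_of_pow_eq_one hk)
    have hg3 : Nat.gcd 6 (orderOf g) ∣ 3 := by
      have hcop : Nat.Coprime 2 (orderOf g) := Nat.coprime_two_left.mpr hodd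
      have : Nat.gcd (2 * 3) (orderOf g) = Nat.gcd 3 (orderOf g) :=
        Nat.Coprime.gcd_mul_left_cancel 3 hcop
      rw [show (6 : ℕ) = 2 * 3 from rfl, this]
      exact Nat.gcd_dvd_left _ _
    exact orderOf_dvd_iff_pow_eq_one.mp (hd.trans hg3)
  have hg3N : g ^ 3 ∈ Subgroup.normalizer (h.UG : Set G) := Subgroup.pow_mem _ hgN 3
  apply mem_centralizer_of_hom_eq_one _ hg3N
  have : (⟨g ^ 3, hg3N⟩ : Subgroup.normalizer (h.UG : Set G)) = ⟨g, hgN⟩ ^ 3 := rfl
  rw [this, map_pow]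
  exact h3

/-- such an element acts fixed-point-freely on `U` -/
theorem fixedPointFree_UG (h : IsWr n x y z) {g : G}
    (hgN : g ∈ Subgroup.normalizer (h.UG : Set G)) (hodd : Odd (orderOf g))
    (hgC : g ∉ Subgroup.centralizer (h.UG : Set G)) :
    ∀ w ∈ h.UG, g * w * g⁻¹ = w → w = 1 := by
  intro w hw hgw
  by_contra hw1
  haveI : Fact (Nat.Prime 2) := ⟨Nat.prime_two⟩
  have hP : IsPGroup 2 (S : Subgroup G) := S.isPGroup'
  obtain ⟨j, hj⟩ := (IsPGroup.iff_orderOf.mp hP) ⟨w, h.UG_le hw⟩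
  rw [Subgroup.orderOf_mk] at hj
  have hj0 : j ≠ 0 := by
    rintro rfl
    rw [pow_zero, orderOf_eq_one_iff] at hj
    exact hw1 hj
  apply hgC
  apply h.odd_centralizes_UG hgN hodd (t := w ^ (2 ^ (j - 1))) (h.UG.pow_mem hw _)
  · rw [orderOf_pow' _ (by positivity), hj]
    have : 2 ^ j = 2 * 2 ^ (j - 1) := by
      rw [← pow_succ']; congr 1; omega
    rw [this, Nat.gcd_eq_right (Dvd.intro_left _ rfl)]
    exact Nat.mul_div_cancel _ (by positivity)
  · have : g * w ^ (2 ^ (j - 1)) * g⁻¹ = (g * w * g⁻¹) ^ (2 ^ (j - 1)) := by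
      rw [conj_pow]
    rw [this, hgw]

/-- if `|N_G(U) : C_G(U)| = 6`, the central involution is conjugate to the other involutions
of `U` -/
theorem isConj_zG_uG (h : IsWr n x y z) {g : G}
    (hgN : g ∈ Subgroup.normalizer (h.UG : Set G)) (hodd : Odd (orderOf g))
    (hgC : g ∉ Subgroup.centralizer (h.UG : Set G)) : IsConj h.zG h.uG := by
  have hzU : h.zG ∈ h.UG := h.PG_mem_UG _ _
  have h1 : g * h.zG * g⁻¹ ∈ h.UG := (Subgroup.mem_normalizer_iff.mp hgN _).mp hzU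
  have h2 : orderOf (g * h.zG * g⁻¹) = 2 := by
    have : g * h.zG * g⁻¹ = MulAut.conj g h.zG := rfl
    rw [this, MulEquiv.orderOf_eq, h.orderOf_zG]
  have hc : IsConj h.zG (g * h.zG * g⁻¹) := isConj_iff.mpr ⟨g, rfl⟩
  rcases h.involution_cases (h.UG_le h1) h2 with h3 | h3 | h3 | ⟨c, h3⟩
  · exfalso
    have := h.fixedPointFree_UG hgN hodd hgC _ hzU h3
    have h4 := h.orderOf_zG
    rw [this, orderOf_one] at h4
    omega
  · rw [← h3]; exact hc
  · apply hc.trans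
    rw [h3, isConj_iff]
    exact ⟨h.QG 0 0, by rw [h.QG_conj_PG]; rfl⟩
  · exfalso
    rw [h3] at h1
    exact h.QG_not_mem_UG _ _ h1

/-- extraction of an odd-order element from `|N_G(V) : V C_G(V)| = 6`: it moves the
involution `uG` out of `U` -/
theorem exists_odd_V (h : IsWr n x y z) (Q : Subgroup G) (hQT : Q ≤ (S : Subgroup G))
    (eQ : Q ≃* QuaternionGroup 2)
    (h6 : ((Q ⊔ h.ZG) ⊔ Subgroup.centralizer ((Q ⊔ h.ZG : Subgroup G) : Set G)).relIndex
        (Subgroup.normalizer ((Q ⊔ h.ZG : Subgroup G) : Set G)) = 6) :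
    ∃ g ∈ Subgroup.normalizer ((Q ⊔ h.ZG : Subgroup G) : Set G), Odd (orderOf g) ∧
      ∃ c d, g * h.uG * g⁻¹ = h.QG c d := by
  obtain ⟨δ, e, hδ, hV⟩ := h.isGoodG_of_Q8 Q hQT eQ
  obtain ⟨g, hgN, hodd, hgC⟩ := exists_odd_not_mem _ _
    (sup_le Subgroup.le_normalizer (centralizer_le_normalizer' (Q ⊔ h.ZG)))
    (normalizer_le_normalizer_sup_centralizer (Q ⊔ h.ZG)) (by
      rw [h6]
      rintro ⟨j, hj⟩
      have h3 : (3 : ℕ) ∣ 2 ^ j := by rw [← hj]; norm_num
      have := (Nat.Prime.dvd_of_dvd_pow Nat.prime_three h3)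
      omega)
  refine ⟨g, hgN, hodd, ?_⟩
  have huV : h.uG ∈ Q ⊔ h.ZG := by
    rw [uG, hV.P_mem]; linear_combination two_mul_hh h.one_le_n
  have h1 : g * h.uG * g⁻¹ ∈ Q ⊔ h.ZG := (Subgroup.mem_normalizer_iff.mp hgN _).mp huV
  rcases h.casesG (hV.le h1) with ⟨c, d, hcd⟩ | ⟨c, d, hcd⟩
  · exfalso
    apply hgC
    apply Subgroup.mem_sup_right
    apply hV.odd_centralizes h hgN hodd
    rw [← uG, hcd]; exact h.PG_mem_UG _ _
  · exact ⟨c, d, hcd⟩

theorem isConj_uG_tG (h : IsWr n x y z) {g : G} {c d : ZMod (2 ^ n)}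
    (hg : g * h.uG * g⁻¹ = h.QG c d) : IsConj h.uG h.tG := by
  have h2 : orderOf (g * h.uG * g⁻¹) = 2 := by
    have : g * h.uG * g⁻¹ = MulAut.conj g h.uG := rfl
    rw [this, MulEquiv.orderOf_eq, h.orderOf_uG]
  rw [hg, h.orderOf_QG_eq_two_iff] at h2
  have hc : IsConj h.uG (h.QG c d) := isConj_iff.mpr ⟨g, hg⟩
  apply hc.trans
  rw [isConj_iff]
  refine ⟨h.PG (-c) 0, ?_⟩
  rw [h.PG_conj_QG]
  show h.QG _ _ = h.QG 0 0
  congr 1
  · ring
  · linear_combination h2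

/-- `T ≤ H` as soon as `U ≤ H` and `tG ∈ H` -/
theorem le_of_UG_le_of_tG_mem (h : IsWr n x y z) {H : Subgroup G} (hU : h.UG ≤ H)
    (ht : h.tG ∈ H) : (S : Subgroup G) ≤ H := by
  intro g hg
  rcases h.casesG hg with ⟨a, b, rfl⟩ | ⟨a, b, rfl⟩
  · exact hU (h.PG_mem_UG a b)
  · have : h.QG a b = h.PG a b * h.tG := by
      rw [tG, h.PG_mul_QG, add_zero, add_zero]
    rw [this]
    exact H.mul_mem (hU (h.PG_mem_UG a b)) ht

theorem UG_comm (h : IsWr n x y z) : ∀ a ∈ h.UG, ∀ b ∈ h.UG, a * b = b * a := by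
  intro a ha b hb
  rw [h.mem_UG_iff] at ha hb
  obtain ⟨i, j, rfl⟩ := ha
  obtain ⟨k, l, rfl⟩ := hb
  rw [h.PG_mul_PG, h.PG_mul_PG, add_comm i k, add_comm j l]

theorem pow_eq_one_of_mem (h : IsWr n x y z) {a : G} (ha : a ∈ (S : Subgroup G)) :
    ∃ j : ℕ, a ^ (2 ^ j) = 1 := by
  refine ⟨2 * n + 1, ?_⟩
  have := h.pow_two_pow_eq_one ⟨a, ha⟩
  exact congrArg Subtype.val this

/-- if `|N_G(U) : C_G(U)| = 6` then `U` lies in every subgroup of index two -/
theorem UG_le_of_index_two (h : IsWr n x y z) {g : G}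
    (hgN : g ∈ Subgroup.normalizer (h.UG : Set G)) (hodd : Odd (orderOf g))
    (hgC : g ∉ Subgroup.centralizer (h.UG : Set G))
    (hg3 : g ^ 3 ∈ Subgroup.centralizer (h.UG : Set G))
    {H : Subgroup G} (hH : H.index = 2) : h.UG ≤ H := by
  apply le_of_index_two_of_fixedPointFree hH h.UG h.UG_comm
    (fun a ha => h.pow_eq_one_of_mem (h.UG_le ha)) (mem_of_odd_of_index_two hH hodd)
    (fun w hw => (Subgroup.mem_normalizer_iff.mp hgN w).mp hw) ?_
    (h.fixedPointFree_UG hgN hodd hgC)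
  intro w hw
  rw [Subgroup.mem_centralizer_iff] at hg3
  have := hg3 w hw
  rw [← this]; group

end IsWr

end Cfsg.Agent.Lib.Helper27
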