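import Mathlib
import Cfsg.Prelude.Def_CaseTheorems
import Cfsg.Agent.Lib.Helper27.WreathedClasses
import Cfsg.Agent.Lib.Helper27.FrobReduce

/-! The nilpotent case of the fusion trichotomy for wreathed Sylow 2-subgroups:
if `Aut_G(U)` and `Aut_G(V)` are 2-groups then `G` has a normal 2-complement. -/

set_option autoImplicit false
set_option linter.style.haveILetI false
set_option linter.unusedSectionVars false

namespace Cfsg.Agent.Lib.Helper27

open Cfsg

section general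

variable {G : Type*} [Group G]

theorem mem_of_odd_of_relIndex_two {C N : Subgroup G} (h : C.relIndex N = 2) {g : G}
    (hg : g ∈ N) (hodd : Odd (orderOf g)) : g ∈ C := by
  have h1 : (C.subgroupOf N).index = 2 := h
  have h2 : Odd (orderOf (⟨g, hg⟩ : N)) := by rw [Subgroup.orderOf_mk]; exact hodd
  have := mem_of_odd_of_index_two h1 h2
  rwa [Subgroup.mem_subgroupOf] at this

/-- in a group with a normal complement to `T`, fusion in `T` is controlled by `T` -/
theorem conj_in_of_isComplement' {N T : Subgroup G} [N.Normal] (hNT : N.IsComplement' T)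
    {t t' : G} (ht : t ∈ T) (ht' : t' ∈ T) (hc : IsConj t t') :
    ∃ s ∈ T, s * t * s⁻¹ = t' := by
  obtain ⟨g, hg⟩ := isConj_iff.mp hc
  have hsup : N ⊔ T = ⊤ := hNT.sup_eq_top
  have hgm : g ∈ N ⊔ T := by rw [hsup]; exact Subgroup.mem_top g
  rw [← SetLike.mem_coe, Subgroup.normal_mul, Set.mem_mul] at hgm
  obtain ⟨k, hk, s, hs, rfl⟩ := hgm
  refine ⟨s, hs, ?_⟩
  have h1 : s * t * s⁻¹ ∈ T := T.mul_mem (T.mul_mem hs ht) (T.inv_mem hs)
  have h2 : t' * (s * t * s⁻¹)⁻¹ ∈ T := T.mul_mem ht' (T.inv_mem h1)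
  have h3 : t' * (s * t * s⁻¹)⁻¹ ∈ N := by
    have e : t' * (s * t * s⁻¹)⁻¹ = k * ((s * t * s⁻¹) * k⁻¹ * (s * t * s⁻¹)⁻¹) := by
      rw [← hg]; group
    rw [e]
    exact N.mul_mem hk (Subgroup.Normal.conj_mem inferInstance _ (N.inv_mem hk) _)
  have h4 : t' * (s * t * s⁻¹)⁻¹ = 1 := by
    have := hNT.disjoint
    rw [Subgroup.disjoint_def] at this
    exact this h3 h2
  exact (mul_inv_eq_one.mp h4).symm

end general

namespace IsWr

variable {G : Type*} [Group G] [Finite G] {S : Sylow 2 G} {n : ℕ} {x y z : ↥(S : Subgroup G)}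

/-- the classification of self-centralizing subgroups of `T` with an odd-order automorphism,
for subgroups of `G` -/
theorem classificationG (h : IsWr n x y z) {D : Subgroup G} (hDT : D ≤ (S : Subgroup G))
    (hC : (S : Subgroup G) ⊓ Subgroup.centralizer (D : Set G) ≤ D) {g : G}
    (hg : g ∈ Subgroup.normalizer (D : Set G)) (hodd : Odd (orderOf g))
    (hgC : g ∉ Subgroup.centralizer (D : Set G)) :
    D = h.UG ∨ ∃ δ e, δ = 2 * e ∧ h.IsGoodG D δ := by
  set X := D.subgroupOf (S : Subgroup G) with hX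
  have hCX : Subgroup.centralizer (X : Set ↥(S : Subgroup G)) ≤ X := by
    intro t ht
    rw [hX, Subgroup.mem_subgroupOf]
    apply hC
    rw [Subgroup.mem_inf]
    refine ⟨t.2, ?_⟩
    rw [Subgroup.mem_centralizer_iff] at ht ⊢
    intro d hd
    have := ht ⟨d, hDT hd⟩ (by rw [SetLike.mem_coe, hX, Subgroup.mem_subgroupOf]; exact hd)
    exact congrArg Subtype.val this
  have hA : ¬ IsPGroup 2 (MulAut X) := by
    intro hP
    apply hgC
    set φ := D.normalizerMonoidHom ⟨g, hg⟩ with hφ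
    have hk : φ ^ (orderOf g) = 1 := normalizerMonoidHom_pow_eq_one _ hg (pow_orderOf_eq_one g)
    set ε : D ≃* X := (Subgroup.subgroupOfEquivOfLe hDT).symm with hε
    set φ' : MulAut X := MulAut.congr ε φ with hφ'
    have hk' : φ' ^ (orderOf g) = 1 := by rw [hφ', ← map_pow, hk, map_one]
    obtain ⟨j, hj⟩ := hP φ'
    have h1 : orderOf φ' ∣ Nat.gcd (orderOf g) (2 ^ j) :=
      Nat.dvd_gcd (orderOf_dvd_of_pow_eq_one hk') (orderOf_dvd_of_pow_eq_one hj)
    have h2 : Nat.gcd (orderOf g) (2 ^ j) = 1 :=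
      Nat.Coprime.pow_right j (Nat.coprime_two_right.mpr hodd)
    rw [h2, Nat.dvd_one, orderOf_eq_one_iff] at h1
    rw [hφ', map_eq_one_iff _ (MulAut.congr ε).injective] at h1
    exact mem_centralizer_of_hom_eq_one _ hg h1
  have hmap : X.map (S : Subgroup G).subtype = D := Subgroup.map_subgroupOf_eq_of_le hDT
  rcases h.classification X hCX hA with hXU | ⟨δ, e, hδ, hXg⟩
  · left
    rw [← hmap, hXU, UG]
  · right
    refine ⟨δ, e, hδ, hDT, ?_, ?_⟩
    · intro a b
      rw [← hXg.P_mem]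
      rfl
    · intro c d
      rw [← hXg.Q_mem]
      rfl

/-- if `Aut_G(U)` and `Aut_G(V)` are 2-groups, odd-order elements normalizing a 2-subgroup
centralize it -/
theorem frobCond_of_two_two (h : IsWr n x y z) (Q : Subgroup G)
    (hQT : Q ≤ (S : Subgroup G)) (eQ : Q ≃* QuaternionGroup 2)
    (h₁ : (Subgroup.centralizer (h.UG : Set G)).relIndex (Subgroup.normalizer (h.UG : Set G)) = 2)
    (h₂ : ((Q ⊔ h.ZG) ⊔ Subgroup.centralizer ((Q ⊔ h.ZG : Subgroup G) : Set G)).relIndex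
        (Subgroup.normalizer ((Q ⊔ h.ZG : Subgroup G) : Set G)) = 2) :
    Cfsg.Agent.Lib.Helper41.FrobCond 2 G := by
  haveI : Fact (Nat.Prime 2) := ⟨Nat.prime_two⟩
  by_contra hF
  obtain ⟨D, hDT, hC, g, hgN, hcop, hgC⟩ := exists_centric_of_not_frobCond S hF
  have hodd : Odd (orderOf g) := Nat.coprime_two_right.mp hcop
  rcases h.classificationG hDT hC hgN hodd hgC with hDU | ⟨δ, e, hδ, hD⟩
  · subst hDU
    exact hgC (mem_of_odd_of_relIndex_two h₁ hgN hodd)
  · obtain ⟨δ₀, e₀, hδ₀, hV⟩ := h.isGoodG_of_Q8 Q hQT eQ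
    set V := Q ⊔ h.ZG with hVdef
    set s := h.PG (e₀ - e) 0 with hs
    have hconj : D.map (MulAut.conj s).toMonoidHom = V :=
      hD.conj h hV (by rw [hδ, hδ₀]; ring)
    have hconj' : Cfsg.Agent.Lib.Helper41.lc s D = V := hconj
    -- the conjugate of `g`
    have hg'N : s * g * s⁻¹ ∈ Subgroup.normalizer (V : Set G) := by
      rw [← hconj', Cfsg.Agent.Lib.Helper41.normalizer_lc]
      exact Cfsg.Agent.Lib.Helper41.conj_mem_lc hgN
    have hodd' : Odd (orderOf (s * g * s⁻¹)) := by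
      have : s * g * s⁻¹ = MulAut.conj s g := rfl
      rw [this, MulEquiv.orderOf_eq]
      exact hodd
    have hg'VC : s * g * s⁻¹ ∈ V ⊔ Subgroup.centralizer (V : Set G) :=
      mem_of_odd_of_relIndex_two h₂ hg'N hodd'
    rw [mem_sup_of_le_normalizer
      (normalizer_le_normalizer_centralizer V |>.trans' Subgroup.le_normalizer)] at hg'VC
    obtain ⟨v, hv, c, hc, hvc⟩ := hg'VC
    have hu : h.PG (hh n) 0 ∈ V := by
      rw [hV.P_mem]; linear_combination two_mul_hh h.one_le_n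
    have hcu : c * h.PG (hh n) 0 * c⁻¹ = h.PG (hh n) 0 := by
      rw [Subgroup.mem_centralizer_iff] at hc
      rw [← hc _ hu]; group
    have hgp : s * g * s⁻¹ * h.PG (hh n) 0 * (s * g * s⁻¹)⁻¹ ∈ h.UG := by
      rw [← hvc]
      have e1 : v * c * h.PG (hh n) 0 * (v * c)⁻¹ = v * (c * h.PG (hh n) 0 * c⁻¹) * v⁻¹ := by
        group
      rw [e1, hcu]
      exact h.conj_mem_UG (hV.le hv) (h.PG_mem_UG _ _)
    have hg'C := hV.odd_centralizes h hg'N hodd' hgp
    rw [← hconj'] at hg'C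
    exact hgC (conj_mem_centralizer_lc hg'C)

/-- with a normal 2-complement, the three involutions `zG`, `uG`, `tG` are pairwise non-conjugate -/
theorem not_isConj_of_complement (h : IsWr n x y z) {N : Subgroup G} [N.Normal]
    (hN : N.IsComplement' (S : Subgroup G)) :
    ¬ IsConj h.zG h.uG ∧ ¬ IsConj h.zG h.tG ∧ ¬ IsConj h.uG h.tG := by
  have hz : h.zG ∈ (S : Subgroup G) := h.PG_mem _ _
  have hu : h.uG ∈ (S : Subgroup G) := h.PG_mem _ _
  have ht : h.tG ∈ (S : Subgroup G) := h.QG_mem _ _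
  have hzc : ∀ s ∈ (S : Subgroup G), s * h.zG * s⁻¹ = h.zG := by
    intro s hs
    rcases h.casesG hs with ⟨a, b, rfl⟩ | ⟨a, b, rfl⟩
    · rw [zG, h.PG_conj_PG]
    · rw [zG, h.QG_conj_PG]
  refine ⟨?_, ?_, ?_⟩
  · intro hc
    obtain ⟨s, hs, hst⟩ := conj_in_of_isComplement' hN hz hu hc
    rw [hzc s hs, zG, uG] at hst
    exact h.hh_ne_zero' (h.PG_inj hst).2
  · intro hc
    obtain ⟨s, hs, hst⟩ := conj_in_of_isComplement' hN hz ht hc
    rw [hzc s hs, zG, tG] at hst
    exact h.PG_ne_QG _ _ _ _ hst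
  · intro hc
    obtain ⟨s, hs, hst⟩ := conj_in_of_isComplement' hN hu ht hc
    have h1 : s * h.uG * s⁻¹ ∈ h.UG := h.conj_mem_UG hs (h.PG_mem_UG _ _)
    rw [hst, tG] at h1
    exact h.QG_not_mem_UG _ _ h1

end IsWr

end Cfsg.Agent.Lib.Helper27
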