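import Mathlib
import Cfsg.Prelude.Def_CaseTheorems
import Cfsg.Agent.Lib.Helper27.WreathedCenter

set_option autoImplicit false
set_option linter.style.haveILetI false
set_option linter.unusedSectionVars false

namespace Cfsg.Agent.Lib.Helper27

open Cfsg

theorem quat_xa_conj_a_one (m : ℕ) (k : ZMod (2 * m)) :
    QuaternionGroup.xa k * QuaternionGroup.a 1 * (QuaternionGroup.xa k)⁻¹ =
      (QuaternionGroup.a (-1) : QuaternionGroup m) := by
  have e : (QuaternionGroup.xa k : QuaternionGroup m)⁻¹ =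
      QuaternionGroup.xa ((m : ZMod (2 * m)) + k) := rfl
  rw [e, QuaternionGroup.xa_mul_a, QuaternionGroup.xa_mul_xa]
  congr 1
  have : ((2 * m : ℕ) : ZMod (2 * m)) = 0 := ZMod.natCast_self _
  push_cast at this
  linear_combination this

theorem quat_xa_sq (m : ℕ) (k : ZMod (2 * m)) :
    QuaternionGroup.xa k * QuaternionGroup.xa k =
      (QuaternionGroup.a 1 : QuaternionGroup m) ^ m := by
  rw [QuaternionGroup.xa_mul_xa, QuaternionGroup.a_one_pow]
  congr 1
  ring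

theorem quat_a_eq_pow (m : ℕ) [NeZero m] (k : ZMod (2 * m)) :
    (QuaternionGroup.a k : QuaternionGroup m) = (QuaternionGroup.a 1) ^ k.val := by
  rw [QuaternionGroup.a_one_pow, ZMod.natCast_zmod_val]

namespace IsWr

variable {S : Type*} [Group S] [Finite S] {n : ℕ} {x y z : S}

theorem two_mul_pow (h : IsWr n x y z) : 2 * 2 ^ (n - 1) = 2 ^ n := by
  rw [← pow_succ', Nat.sub_add_cancel h.one_le_n]

/-- the index cast -/
def cc (h : IsWr n x y z) : ZMod (2 * 2 ^ (n - 1)) ≃+* ZMod (2 ^ n) :=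
  ZMod.ringEquivCongr h.two_mul_pow

theorem cc_half (h : IsWr n x y z) : h.cc ((2 ^ (n - 1) : ℕ) : ZMod (2 * 2 ^ (n - 1))) = hh n := by
  rw [map_natCast]; rfl

/-- the embedding of the generalized quaternion group -/
def qHom (h : IsWr n x y z) : QuaternionGroup (2 ^ (n - 1)) →* S where
  toFun
    | QuaternionGroup.a i => h.P (h.cc i) (-(h.cc i))
    | QuaternionGroup.xa i => h.Q (-(h.cc i)) (hh n + h.cc i)
  map_one' := by
    show h.P (h.cc 0) (-(h.cc 0)) = 1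
    rw [map_zero, neg_zero]; exact h.P_zero
  map_mul' := by
    rintro (i | i) (j | j)
    · show h.P (h.cc (i + j)) (-(h.cc (i + j))) = h.P (h.cc i) (-(h.cc i)) * h.P (h.cc j) (-(h.cc j))
      rw [h.P_mul_P, map_add]; congr 1; ring
    · show h.Q (-(h.cc (j - i))) (hh n + h.cc (j - i)) =
        h.P (h.cc i) (-(h.cc i)) * h.Q (-(h.cc j)) (hh n + h.cc j)
      rw [h.P_mul_Q, map_sub]; congr 1 <;> ring
    · show h.Q (-(h.cc (i + j))) (hh n + h.cc (i + j)) =
        h.Q (-(h.cc i)) (hh n + h.cc i) * h.P (h.cc j) (-(h.cc j))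
      rw [h.Q_mul_P, map_add]; congr 1 <;> ring
    · show h.P (h.cc (((2 ^ (n - 1) : ℕ) : ZMod (2 * 2 ^ (n - 1))) + j - i))
          (-(h.cc (((2 ^ (n - 1) : ℕ) : ZMod (2 * 2 ^ (n - 1))) + j - i))) =
        h.Q (-(h.cc i)) (hh n + h.cc i) * h.Q (-(h.cc j)) (hh n + h.cc j)
      rw [h.Q_mul_Q, map_sub, map_add, h.cc_half]
      have := neg_hh h.one_le_n
      congr 1
      · ring
      · linear_combination this

theorem qHom_a (h : IsWr n x y z) (i : ZMod (2 * 2 ^ (n - 1))) :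
    h.qHom (QuaternionGroup.a i) = h.P (h.cc i) (-(h.cc i)) := rfl

theorem qHom_xa (h : IsWr n x y z) (i : ZMod (2 * 2 ^ (n - 1))) :
    h.qHom (QuaternionGroup.xa i) = h.Q (-(h.cc i)) (hh n + h.cc i) := rfl

theorem qHom_injective (h : IsWr n x y z) : Function.Injective h.qHom := by
  rintro (i | i) (j | j) hij
  · rw [qHom_a, qHom_a] at hij
    rw [h.cc.injective (h.P_inj hij).1]
  · rw [qHom_a, qHom_xa] at hij
    exact absurd hij (h.P_ne_Q _ _ _ _)
  · rw [qHom_a, qHom_xa] at hij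
    exact absurd hij.symm (h.P_ne_Q _ _ _ _)
  · rw [qHom_xa, qHom_xa] at hij
    have := (h.Q_inj hij).1
    rw [h.cc.injective (neg_injective this)]

/-- the generalized quaternion subgroup -/
def Y0 (h : IsWr n x y z) : Subgroup S := h.qHom.range

theorem mem_Y0_iff (h : IsWr n x y z) (s : S) :
    s ∈ h.Y0 ↔ (∃ d, s = h.P d (-d)) ∨ (∃ a, s = h.Q a (hh n - a)) := by
  rw [Y0, MonoidHom.mem_range]
  constructor
  · rintro ⟨(i | i), rfl⟩
    · left; exact ⟨h.cc i, rfl⟩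
    · right
      refine ⟨-(h.cc i), ?_⟩
      rw [qHom_xa]; congr 1; ring
  · rintro (⟨d, rfl⟩ | ⟨a, rfl⟩)
    · refine ⟨QuaternionGroup.a (h.cc.symm d), ?_⟩
      rw [qHom_a, RingEquiv.apply_symm_apply]
    · refine ⟨QuaternionGroup.xa (h.cc.symm (-a)), ?_⟩
      rw [qHom_xa, RingEquiv.apply_symm_apply]; congr 1 <;> ring

theorem P_mem_Y0_iff (h : IsWr n x y z) (a b : ZMod (2 ^ n)) : h.P a b ∈ h.Y0 ↔ a + b = 0 := by
  rw [h.mem_Y0_iff]
  constructor
  · rintro (⟨d, hd⟩ | ⟨c, hc⟩)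
    · obtain ⟨rfl, rfl⟩ := h.P_inj hd
      ring
    · exact absurd hc (h.P_ne_Q _ _ _ _)
  · intro hab
    left
    exact ⟨a, by rw [show b = -a by linear_combination hab]⟩

theorem Q_mem_Y0_iff (h : IsWr n x y z) (a b : ZMod (2 ^ n)) : h.Q a b ∈ h.Y0 ↔ a + b = hh n := by
  rw [h.mem_Y0_iff]
  constructor
  · rintro (⟨d, hd⟩ | ⟨c, hc⟩)
    · exact absurd hd.symm (h.P_ne_Q _ _ _ _)
    · obtain ⟨rfl, rfl⟩ := h.Q_inj hc
      ring
  · intro hab
    right
    exact ⟨a, by rw [show b = hh n - a by linear_combination hab]⟩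

theorem card_Y0 (h : IsWr n x y z) : Nat.card h.Y0 = 2 ^ (n + 1) := by
  rw [Y0, ← Nat.card_congr (MonoidHom.ofInjective h.qHom_injective).toEquiv,
    Nat.card_eq_fintype_card, QuaternionGroup.card]
  have := h.two_mul_pow
  rw [pow_succ]
  omega

noncomputable def Y0_equiv (h : IsWr n x y z) : h.Y0 ≃* QuaternionGroup (2 ^ (n - 1)) :=
  (MonoidHom.ofInjective h.qHom_injective).symm

theorem Y0_normal (h : IsWr n x y z) : h.Y0.Normal := by
  constructor
  intro t ht g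
  rcases h.cases t with ⟨i, j, rfl⟩ | ⟨i, j, rfl⟩
  · rw [h.P_mem_Y0_iff] at ht
    rcases h.cases g with ⟨a, b, rfl⟩ | ⟨a, b, rfl⟩
    · rw [h.P_conj_P, h.P_mem_Y0_iff]; exact ht
    · rw [h.Q_conj_P, h.P_mem_Y0_iff, add_comm]; exact ht
  · rw [h.Q_mem_Y0_iff] at ht
    rcases h.cases g with ⟨a, b, rfl⟩ | ⟨a, b, rfl⟩
    · rw [h.P_conj_Q, h.Q_mem_Y0_iff]; linear_combination ht
    · rw [h.Q_conj_Q, h.Q_mem_Y0_iff]; linear_combination ht

end IsWr

end Cfsg.Agent.Lib.Helper27
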