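import Mathlib
import Cfsg.Prelude.Def_CaseTheorems
import Cfsg.Agent.Lib.Helper27.WreathedNilp
import Cfsg.Agent.Lib.Helper27.WreathedQuat

/-! The generalized quaternion subgroup `Y0G` of a wreathed Sylow 2-subgroup, in `G`-coordinates,
and the relation "same coset of `Y0G`, and equal if one of them is central". -/

set_option autoImplicit false
set_option linter.style.haveILetI false
set_option linter.unusedSectionVars false

namespace Cfsg.Agent.Lib.Helper27

open Cfsg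

namespace IsWr

variable {G : Type*} [Group G] [Finite G] {S : Sylow 2 G} {n : ℕ} {x y z : ↥(S : Subgroup G)}

/-- the generalized quaternion subgroup of `T` as a subgroup of `G` -/
noncomputable def Y0G (h : IsWr n x y z) : Subgroup G := h.Y0.map (S : Subgroup G).subtype

theorem Y0G_le (h : IsWr n x y z) : h.Y0G ≤ (S : Subgroup G) := by
  rintro _ ⟨t, -, rfl⟩
  exact t.2

theorem PG_mem_Y0G_iff (h : IsWr n x y z) (a b : ZMod (2 ^ n)) :
    h.PG a b ∈ h.Y0G ↔ a + b = 0 := by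
  rw [← h.P_mem_Y0_iff, Y0G, Subgroup.mem_map]
  constructor
  · rintro ⟨t, ht, ht2⟩
    have : t = h.P a b := Subtype.ext ht2
    rw [← this]; exact ht
  · intro ht; exact ⟨_, ht, rfl⟩

theorem QG_mem_Y0G_iff (h : IsWr n x y z) (a b : ZMod (2 ^ n)) :
    h.QG a b ∈ h.Y0G ↔ a + b = hh n := by
  rw [← h.Q_mem_Y0_iff, Y0G, Subgroup.mem_map]
  constructor
  · rintro ⟨t, ht, ht2⟩
    have : t = h.Q a b := Subtype.ext ht2
    rw [← this]; exact ht
  · intro ht; exact ⟨_, ht, rfl⟩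

theorem card_Y0G (h : IsWr n x y z) : Nat.card h.Y0G = 2 ^ (n + 1) := by
  rw [Y0G, Subgroup.card_map_of_injective (Subgroup.subtype_injective _), h.card_Y0]

noncomputable def Y0G_equiv (h : IsWr n x y z) : h.Y0G ≃* QuaternionGroup (2 ^ (n - 1)) :=
  (Subgroup.equivMapOfInjective h.Y0 _ (Subgroup.subtype_injective _)).symm.trans h.Y0_equiv

/-- `Y0G` is generated by `PG 1 (-1)` and any of its elements outside `U` -/
theorem Y0G_le_of_mem (h : IsWr n x y z) {X : Subgroup G} (h1 : h.PG 1 (-1) ∈ X)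
    {c d : ZMod (2 ^ n)} (hcd : c + d = hh n) (h2 : h.QG c d ∈ X) : h.Y0G ≤ X := by
  have hP : ∀ a : ZMod (2 ^ n), h.PG a (-a) ∈ X := by
    intro a
    have := X.pow_mem h1 a.val
    rw [h.PG_pow] at this
    simpa using this
  intro g hg
  rcases h.casesG (h.Y0G_le hg) with ⟨a, b, rfl⟩ | ⟨a, b, rfl⟩
  · rw [h.PG_mem_Y0G_iff] at hg
    have := hP a
    rwa [show -a = b by linear_combination (-1 : ZMod (2 ^ n)) * hg] at this
  · rw [h.QG_mem_Y0G_iff] at hg
    have e : h.QG a b = h.PG (a - c) (-(a - c)) * h.QG c d := by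
      rw [h.PG_mul_QG]
      congr 1
      · ring
      · linear_combination hg - hcd
    rw [e]
    exact X.mul_mem (hP _) h2

/-- the fusion relation: same coset of `Y0G`, and equal if one of them is central -/
def RG (h : IsWr n x y z) (a b : G) : Prop :=
  a⁻¹ * b ∈ h.Y0G ∧ (a ∈ h.ZG ∨ b ∈ h.ZG → a = b)

theorem RG_refl (h : IsWr n x y z) (a : G) : h.RG a a :=
  ⟨by rw [inv_mul_cancel]; exact Subgroup.one_mem _, fun _ => rfl⟩

theorem RG_trans (h : IsWr n x y z) (a b c : G) (hab : h.RG a b) (hbc : h.RG b c) : h.RG a c := by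
  refine ⟨?_, ?_⟩
  · have := h.Y0G.mul_mem hab.1 hbc.1
    have e : a⁻¹ * b * (b⁻¹ * c) = a⁻¹ * c := by group
    rwa [e] at this
  · rintro (ha | hc)
    · have h1 := hab.2 (Or.inl ha)
      subst h1
      exact hbc.2 (Or.inl ha)
    · have h1 := hbc.2 (Or.inr hc)
      subst h1
      exact hab.2 (Or.inr hc)

theorem conj_ZG (h : IsWr n x y z) {s w : G} (hs : s ∈ (S : Subgroup G)) (hw : w ∈ h.ZG) :
    s * w * s⁻¹ = w := by
  rw [h.mem_ZG_iff] at hw
  obtain ⟨a, rfl⟩ := hw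
  rcases h.casesG hs with ⟨c, d, rfl⟩ | ⟨c, d, rfl⟩
  · rw [h.PG_conj_PG]
  · rw [h.QG_conj_PG]

/-- conjugation by elements of `T` respects the relation -/
theorem RG_conj_T (h : IsWr n x y z) {a s : G} (ha : a ∈ (S : Subgroup G))
    (hs : s ∈ (S : Subgroup G)) : h.RG a (s * a * s⁻¹) := by
  refine ⟨?_, ?_⟩
  · rcases h.casesG ha with ⟨i, j, rfl⟩ | ⟨i, j, rfl⟩
    · rcases h.casesG hs with ⟨c, d, rfl⟩ | ⟨c, d, rfl⟩
      · rw [h.PG_conj_PG, inv_mul_cancel]; exact Subgroup.one_mem _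
      · rw [h.QG_conj_PG, h.PG_inv, h.PG_mul_PG, h.PG_mem_Y0G_iff]; ring
    · rcases h.casesG hs with ⟨c, d, rfl⟩ | ⟨c, d, rfl⟩
      · rw [h.PG_conj_QG, h.QG_inv, h.QG_mul_QG, h.PG_mem_Y0G_iff]; ring
      · rw [h.QG_conj_QG, h.QG_inv, h.QG_mul_QG, h.PG_mem_Y0G_iff]; ring
  · rintro (hz | hz)
    · exact (h.conj_ZG hs hz).symm
    · have h1 := h.conj_ZG ((S : Subgroup G).inv_mem hs) hz
      have e : s⁻¹ * (s * a * s⁻¹) * s⁻¹⁻¹ = a := by group
      rw [e] at h1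
      rw [h1]
      exact (h.conj_ZG hs (h1 ▸ hz)).symm

/-- the key computation in a good subgroup: elements with equal squares, both central or both
non-central, lie in the same coset of `Y0G` -/
theorem IsGoodG.inv_mul_mem_Y0G (h : IsWr n x y z) {V : Subgroup G} {δ : ZMod (2 ^ n)}
    (hV : h.IsGoodG V δ) {a b : G} (ha : a ∈ V) (hb : b ∈ V) (hsq : a * a = b * b)
    (hz : a ∈ h.ZG ↔ b ∈ h.ZG) : a⁻¹ * b ∈ h.Y0G := by
  have hn1 := h.one_le_n
  have hZ : ∀ i j : ZMod (2 ^ n), h.PG i j ∈ h.ZG ↔ i = j := by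
    intro i j
    rw [h.mem_ZG_iff]
    constructor
    · rintro ⟨c, hc⟩
      obtain ⟨rfl, rfl⟩ := h.PG_inj hc
      rfl
    · rintro rfl; exact ⟨i, rfl⟩
  have hZQ : ∀ i j : ZMod (2 ^ n), h.QG i j ∉ h.ZG := by
    intro i j hc
    rw [h.mem_ZG_iff] at hc
    obtain ⟨c, hc⟩ := hc
    exact h.PG_ne_QG _ _ _ _ hc.symm
  rcases h.casesG (hV.le ha) with ⟨i, j, rfl⟩ | ⟨i, j, rfl⟩
  · rw [hV.P_mem] at ha
    rcases h.casesG (hV.le hb) with ⟨k, l, rfl⟩ | ⟨k, l, rfl⟩
    · rw [hV.P_mem] at hb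
      rw [h.PG_mul_PG, h.PG_mul_PG] at hsq
      obtain ⟨h1, h2⟩ := h.PG_inj hsq
      rw [hZ, hZ] at hz
      rw [h.PG_inv, h.PG_mul_PG, h.PG_mem_Y0G_iff]
      have ha' : 2 * (i - j) = 0 := ha
      have hb' : 2 * (k - l) = 0 := hb
      rw [two_mul_eq_zero_iff hn1] at ha' hb'
      rcases ha' with ha' | ha' <;> rcases hb' with hb' | hb'
      · linear_combination (-1 : ZMod (2 ^ n)) * h1 + ha' - hb'
      · exfalso
        have : i = j := sub_eq_zero.mp ha'
        have h3 := hz.mp this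
        rw [h3, sub_self] at hb'
        exact h.hh_ne_zero' hb'.symm
      · exfalso
        have : k = l := sub_eq_zero.mp hb'
        have h3 := hz.mpr this
        rw [h3, sub_self] at ha'
        exact h.hh_ne_zero' ha'.symm
      · linear_combination (-1 : ZMod (2 ^ n)) * h1 + ha' - hb'
    · rw [h.PG_mul_PG, h.QG_mul_QG] at hsq
      obtain ⟨h1, h2⟩ := h.PG_inj hsq
      have hij : i ≠ j := fun hc => hZQ _ _ (hz.mp ((hZ i j).mpr hc))
      have ha' : 2 * (i - j) = 0 := ha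
      rw [two_mul_eq_zero_iff hn1] at ha'
      rcases ha' with ha' | ha'
      · exact absurd (sub_eq_zero.mp ha') hij
      · rw [h.PG_inv, h.PG_mul_QG, h.QG_mem_Y0G_iff]
        linear_combination (-1 : ZMod (2 ^ n)) * h1 + ha'
  · rcases h.casesG (hV.le hb) with ⟨k, l, rfl⟩ | ⟨k, l, rfl⟩
    · rw [hV.P_mem] at hb
      rw [h.PG_mul_PG, h.QG_mul_QG] at hsq
      obtain ⟨h1, h2⟩ := h.PG_inj hsq
      have hkl : k ≠ l := fun hc => hZQ _ _ (hz.mpr ((hZ k l).mpr hc))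
      have hb' : 2 * (k - l) = 0 := hb
      rw [two_mul_eq_zero_iff hn1] at hb'
      rcases hb' with hb' | hb'
      · exact absurd (sub_eq_zero.mp hb') hkl
      · rw [h.QG_inv, h.QG_mul_PG, h.QG_mem_Y0G_iff]
        linear_combination (-1 : ZMod (2 ^ n)) * h1 - hb' - two_mul_hh hn1
    · rw [h.QG_mul_QG, h.QG_mul_QG] at hsq
      obtain ⟨h1, h2⟩ := h.PG_inj hsq
      rw [h.QG_inv, h.QG_mul_QG, h.PG_mem_Y0G_iff]
      linear_combination (-1 : ZMod (2 ^ n)) * h1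

end IsWr

end Cfsg.Agent.Lib.Helper27
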