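import Mathlib
import Cfsg.Prelude.Def_CaseTheorems
import Cfsg.Agent.Lib.Helper27.WreathedClasses
import Cfsg.Agent.Lib.Helper61.Fusion

/-! If `Aut_G(V)` is a 2-group, involutions outside `U` are not fused to the central involution. -/

set_option autoImplicit false
set_option linter.style.haveILetI false
set_option linter.unusedSectionVars false

namespace Cfsg.Agent.Lib.Helper27

open Cfsg

namespace IsWr

variable {G : Type*} [Group G] [Finite G] {S : Sylow 2 G} {n : ℕ} {x y z : ↥(S : Subgroup G)}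

/-- the centralizer in `T` of the involution `QG e (-e)` -/
def R0 (h : IsWr n x y z) (e : ZMod (2 ^ n)) : Subgroup G :=
  Subgroup.centralizer ({h.QG e (-e)} : Set G) ⊓ (S : Subgroup G)

theorem mem_R0_iff (h : IsWr n x y z) (e : ZMod (2 ^ n)) (g : G) :
    g ∈ h.R0 e ↔ (∃ a, g = h.PG a a) ∨ (∃ c d, g = h.QG c d ∧ c - d = 2 * e) := by
  rw [R0, Subgroup.mem_inf, Subgroup.mem_centralizer_singleton_iff]
  constructor
  · rintro ⟨hc, hT⟩
    rcases h.casesG hT with ⟨a, b, rfl⟩ | ⟨c, d, rfl⟩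
    · left
      rw [h.PG_comm_QG_iff] at hc
      exact ⟨a, by rw [hc]⟩
    · right
      rw [h.QG_comm_QG_iff] at hc
      exact ⟨c, d, rfl, by linear_combination hc⟩
  · rintro (⟨a, rfl⟩ | ⟨c, d, rfl, hcd⟩)
    · exact ⟨(h.PG_comm_QG_iff a a _ _).mpr rfl, h.PG_mem _ _⟩
    · exact ⟨(h.QG_comm_QG_iff _ _ _ _).mpr (by linear_combination hcd), h.QG_mem _ _⟩

theorem R0_le (h : IsWr n x y z) (e : ZMod (2 ^ n)) : h.R0 e ≤ (S : Subgroup G) := inf_le_right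

theorem R0_le_V (h : IsWr n x y z) {V : Subgroup G} {e : ZMod (2 ^ n)}
    (hV : h.IsGoodG V (2 * e)) : h.R0 e ≤ V := by
  intro g hg
  rw [h.mem_R0_iff] at hg
  rcases hg with ⟨a, rfl⟩ | ⟨c, d, rfl, hcd⟩
  · rw [hV.P_mem]; ring
  · rw [hV.Q_mem]; linear_combination 2 * hcd

/-- `N_T(R₀) ≤ V` -/
theorem normalizer_R0_inf_le (h : IsWr n x y z) {V : Subgroup G} {e : ZMod (2 ^ n)}
    (hV : h.IsGoodG V (2 * e)) :
    (S : Subgroup G) ⊓ Subgroup.normalizer ((h.R0 e : Subgroup G) : Set G) ≤ V := by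
  intro g hg
  rw [Subgroup.mem_inf] at hg
  obtain ⟨hgT, hgN⟩ := hg
  have hτ : h.QG e (-e) ∈ h.R0 e := (h.mem_R0_iff e _).mpr (Or.inr ⟨e, -e, rfl, by ring⟩)
  have h1 := (Subgroup.mem_normalizer_iff.mp hgN _).mp hτ
  rw [h.mem_R0_iff] at h1
  rcases h.casesG hgT with ⟨a, b, rfl⟩ | ⟨a, b, rfl⟩
  · rw [h.PG_conj_QG] at h1
    rcases h1 with ⟨a', h1⟩ | ⟨c, d, h1, hcd⟩
    · exact absurd h1.symm (h.PG_ne_QG _ _ _ _)
    · obtain ⟨rfl, rfl⟩ := h.QG_inj h1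
      rw [hV.P_mem]; linear_combination hcd
  · rw [h.QG_conj_QG] at h1
    rcases h1 with ⟨a', h1⟩ | ⟨c, d, h1, hcd⟩
    · exact absurd h1.symm (h.PG_ne_QG _ _ _ _)
    · obtain ⟨rfl, rfl⟩ := h.QG_inj h1
      rw [hV.Q_mem]; linear_combination hcd

/-- `V ≤ N_G(R₀)` -/
theorem V_le_normalizer_R0 (h : IsWr n x y z) {V : Subgroup G} {e : ZMod (2 ^ n)}
    (hV : h.IsGoodG V (2 * e)) :
    V ≤ Subgroup.normalizer ((h.R0 e : Subgroup G) : Set G) := by
  have key : ∀ v ∈ V, ∀ r ∈ h.R0 e, v * r * v⁻¹ ∈ h.R0 e := by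
    intro v hv r hr
    rw [h.mem_R0_iff] at hr ⊢
    rcases h.casesG (hV.le hv) with ⟨a, b, rfl⟩ | ⟨a, b, rfl⟩
    · have hab := (hV.P_mem a b).mp hv
      rcases hr with ⟨c, rfl⟩ | ⟨c, d, rfl, hcd⟩
      · left; exact ⟨c, by rw [h.PG_conj_PG]⟩
      · right
        refine ⟨_, _, h.PG_conj_QG a b c d, ?_⟩
        linear_combination hcd + hab
    · have hab := (hV.Q_mem a b).mp hv
      rcases hr with ⟨c, rfl⟩ | ⟨c, d, rfl, hcd⟩
      · left; exact ⟨c, by rw [h.QG_conj_PG]⟩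
      · right
        refine ⟨_, _, h.QG_conj_QG a b c d, ?_⟩
        linear_combination -hcd + hab
  intro v hv
  rw [Subgroup.mem_normalizer_iff]
  intro r
  constructor
  · exact key v hv r
  · intro hr
    have := key v⁻¹ (V.inv_mem hv) _ hr
    have e' : v⁻¹ * (v * r * v⁻¹) * v⁻¹⁻¹ = r := by group
    rw [e'] at this
    exact this

open Cfsg.Agent.Lib.Helper87 in
/-- if `Aut_G(V)` is a 2-group then `V` is a Sylow 2-subgroup of `N_G(R₀)` -/
theorem V_maximal_in_normalizer_R0 (h : IsWr n x y z) (Q : Subgroup G)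
    (hQT : Q ≤ (S : Subgroup G)) (eQ : Q ≃* QuaternionGroup 2)
    (h2 : ((Q ⊔ h.ZG) ⊔ Subgroup.centralizer ((Q ⊔ h.ZG : Subgroup G) : Set G)).relIndex
        (Subgroup.normalizer ((Q ⊔ h.ZG : Subgroup G) : Set G)) = 2)
    {e : ZMod (2 ^ n)} (hV : h.IsGoodG (Q ⊔ h.ZG) (2 * e)) :
    ∀ P₀ : Subgroup G, IsPGroup 2 P₀ → Q ⊔ h.ZG ≤ P₀ →
      P₀ ≤ Subgroup.normalizer ((h.R0 e : Subgroup G) : Set G) → P₀ = Q ⊔ h.ZG := by
  intro P₀ hP₀ hVP hPM
  obtain ⟨g₁, hg₁⟩ := exists_conj_le_sylow S hP₀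
  have hVg : (Q ⊔ h.ZG).map (MulAut.conj g₁).toMonoidHom ≤ (S : Subgroup G) :=
    (Subgroup.map_mono hVP).trans hg₁
  obtain ⟨s, hs, hsV⟩ := h.conj_V Q hQT eQ g₁ hVg
  rw [map_conj_map_conj] at hsV
  have hsgN : s * g₁ ∈ Subgroup.normalizer ((Q ⊔ h.ZG : Subgroup G) : Set G) := by
    rw [Subgroup.mem_normalizer_iff'']
    intro v
    rw [← mem_map_conj_iff, hsV]
  obtain ⟨r, hr, c, hc, hrc⟩ := h.normalizer_V_eq Q hQT eQ h2 _ hsgN
  have hrT : r ∈ (S : Subgroup G) := (Subgroup.mem_inf.mp hr).1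
  have hceq : c = r⁻¹ * (s * g₁) := by rw [← hrc]; group
  have hle1 : P₀.map (MulAut.conj c).toMonoidHom ≤ (S : Subgroup G) := by
    rw [hceq, ← map_conj_map_conj, ← map_conj_map_conj]
    exact map_conj_le_of_mem (map_conj_le_of_mem hg₁ hs) ((S : Subgroup G).inv_mem hrT)
  have hcM : c ∈ Subgroup.normalizer ((h.R0 e : Subgroup G) : Set G) := by
    apply centralizer_le_normalizer'
    exact Subgroup.centralizer_le (h.R0_le_V hV) hc
  have hle2 : P₀.map (MulAut.conj c).toMonoidHom ≤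
      Subgroup.normalizer ((h.R0 e : Subgroup G) : Set G) := map_conj_le_of_mem hPM hcM
  have hle : P₀.map (MulAut.conj c).toMonoidHom ≤ Q ⊔ h.ZG :=
    (le_inf hle1 hle2).trans (h.normalizer_R0_inf_le hV)
  symm
  apply Subgroup.eq_of_le_of_card_ge hVP
  have := Nat.card_le_card_of_injective (Subgroup.inclusion hle) (Subgroup.inclusion_injective hle)
  rw [card_map_conj] at this
  exact this

/-- an extremal conjugation of `QG e (-e)` to the central involution maps `R₀` into `U` -/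
theorem conj_R0_le_UG (h : IsWr n x y z) {e : ZMod (2 ^ n)} {g : G}
    (hgτ : g * h.QG e (-e) * g⁻¹ = h.zG)
    (hgT : ∀ x ∈ (S : Subgroup G), x * h.QG e (-e) = h.QG e (-e) * x →
      g * x * g⁻¹ ∈ (S : Subgroup G)) :
    ∀ r ∈ h.R0 e, g * r * g⁻¹ ∈ h.UG := by
  have hn2 := h.hn
  have hE : g * h.PG 1 1 * g⁻¹ ∈ h.UG := by
    have hET : g * h.PG 1 1 * g⁻¹ ∈ (S : Subgroup G) :=
      hgT _ (h.PG_mem 1 1) ((h.PG_comm_QG_iff 1 1 _ _).mpr rfl)
    rcases h.casesG hET with ⟨a, b, hab⟩ | ⟨c, d, hcd⟩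
    · rw [hab]; exact h.PG_mem_UG _ _
    · exfalso
      have h1 : (g * h.PG 1 1 * g⁻¹) ^ (2 ^ (n - 1)) = g * h.zG * g⁻¹ := by
        rw [conj_pow, h.PG_pow, mul_one]
        rfl
      have h2 : (g * h.PG 1 1 * g⁻¹) ^ (2 ^ (n - 1)) =
          h.PG (((2 ^ (n - 2) : ℕ) : ZMod (2 ^ n)) * (c + d))
            (((2 ^ (n - 2) : ℕ) : ZMod (2 ^ n)) * (c + d)) := by
        have : 2 ^ (n - 1) = 2 * 2 ^ (n - 2) := by
          rw [← pow_succ']; congr 1; omega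
        rw [hcd, this, h.QG_pow_two_mul]
      rw [h1] at h2
      have h3 : orderOf (g * h.zG * g⁻¹) = 2 := by
        have : g * h.zG * g⁻¹ = MulAut.conj g h.zG := rfl
        rw [this, MulEquiv.orderOf_eq, h.orderOf_zG]
      rw [h2, h.orderOf_PG_eq_two_iff] at h3
      obtain ⟨hf, -, hne⟩ := h3
      have hf' : ((2 ^ (n - 2) : ℕ) : ZMod (2 ^ n)) * (c + d) = hh n := by
        rcases hf with hf | hf
        · exact absurd ⟨hf, hf⟩ hne
        · exact hf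
      rw [hf'] at h2
      have h4 : g * h.zG * g⁻¹ = g * h.QG e (-e) * g⁻¹ := by rw [h2, hgτ]; rfl
      have h5 : h.zG = h.QG e (-e) := by
        have := mul_left_cancel (mul_right_cancel h4)
        exact this
      exact h.PG_ne_QG _ _ _ _ h5
  have hdiag : ∀ c : ZMod (2 ^ n), g * h.PG c c * g⁻¹ ∈ h.UG := by
    intro c
    have : h.PG c c = (h.PG 1 1) ^ c.val := by
      rw [h.PG_pow, mul_one, ZMod.natCast_zmod_val]
    rw [this, ← conj_pow]
    exact h.UG.pow_mem hE _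
  intro r hr
  rw [h.mem_R0_iff] at hr
  rcases hr with ⟨a, rfl⟩ | ⟨c, d, rfl, hcd⟩
  · exact hdiag a
  · have : h.QG c d = h.PG (c - e) (c - e) * h.QG e (-e) := by
      rw [h.PG_mul_QG]
      congr 1
      · ring
      · linear_combination -hcd
    rw [this]
    have e1 : g * (h.PG (c - e) (c - e) * h.QG e (-e)) * g⁻¹ =
        (g * h.PG (c - e) (c - e) * g⁻¹) * (g * h.QG e (-e) * g⁻¹) := by group
    rw [e1, hgτ]
    exact h.UG.mul_mem (hdiag _) (h.PG_mem_UG _ _)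

theorem card_UG (h : IsWr n x y z) : Nat.card h.UG = 2 ^ (2 * n) := by
  rw [UG, Subgroup.card_map_of_injective (S : Subgroup G).subtype_injective, h.card_U]

theorem two_ne_zero' (h : IsWr n x y z) : (2 : ZMod (2 ^ n)) ≠ 0 := by
  intro hc
  have h1 : ((2 : ℕ) : ZMod (2 ^ n)) = 0 := by exact_mod_cast hc
  rw [ZMod.natCast_eq_zero_iff] at h1
  have := Nat.le_of_dvd (by norm_num) h1
  have := h.four_le
  omega

open Cfsg.Agent.Lib.Helper87 Cfsg.Agent.Lib.Helper61 in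
/-- if `|N_G(V) : V C_G(V)| = 2`, the involutions outside `U` are not conjugate to the
central involution -/
theorem not_isConj_tG_zG (h : IsWr n x y z) (Q : Subgroup G)
    (hQT : Q ≤ (S : Subgroup G)) (eQ : Q ≃* QuaternionGroup 2)
    (h2 : ((Q ⊔ h.ZG) ⊔ Subgroup.centralizer ((Q ⊔ h.ZG : Subgroup G) : Set G)).relIndex
        (Subgroup.normalizer ((Q ⊔ h.ZG : Subgroup G) : Set G)) = 2) :
    ¬ IsConj h.tG h.zG := by
  intro hconj
  haveI : Fact (Nat.Prime 2) := ⟨Nat.prime_two⟩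
  obtain ⟨δ, e, hδ, hV⟩ := h.isGoodG_of_Q8 Q hQT eQ
  subst hδ
  -- τ' = QG e (-e) is conjugate to tG
  have hτt : IsConj (h.QG e (-e)) h.tG := by
    rw [isConj_iff]
    refine ⟨h.PG (-e) 0, ?_⟩
    rw [h.PG_conj_QG]
    show h.QG _ _ = h.QG 0 0
    congr 1 <;> ring
  obtain ⟨g₀, hg₀⟩ := isConj_iff.mp (hτt.trans hconj)
  have hzc : ∀ x ∈ (S : Subgroup G), x * h.zG = h.zG * x := by
    intro x hx
    rcases h.casesG hx with ⟨a, b, rfl⟩ | ⟨a, b, rfl⟩
    · rw [zG, h.PG_mul_PG, h.PG_mul_PG, add_comm a, add_comm b]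
    · exact ((h.PG_comm_QG_iff _ _ a b).mpr rfl).symm
  obtain ⟨g, hgτ, hgT⟩ := exists_conj_centralizer_le S (h.QG e (-e)) h.zG hzc g₀ hg₀
  have hR0U := h.conj_R0_le_UG hgτ hgT
  -- W = g⁻¹ U g centralizes R₀
  set W := h.UG.map (MulAut.conj g⁻¹).toMonoidHom with hW
  set M := Subgroup.normalizer ((h.R0 e : Subgroup G) : Set G) with hM
  have hWmem : ∀ w, w ∈ W ↔ g * w * g⁻¹ ∈ h.UG := by
    intro w
    rw [hW, mem_map_conj_iff, inv_inv]
  have hWM : W ≤ M := by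
    intro w hw
    apply centralizer_le_normalizer'
    rw [Subgroup.mem_centralizer_iff]
    intro r hr
    have h1 := h.UG_comm _ (hR0U r hr) _ ((hWmem w).mp hw)
    have e1 : r * w = g⁻¹ * ((g * r * g⁻¹) * (g * w * g⁻¹)) * g := by group
    have e2 : w * r = g⁻¹ * ((g * w * g⁻¹) * (g * r * g⁻¹)) * g := by group
    rw [e1, e2, h1]
  have hVM : Q ⊔ h.ZG ≤ M := h.V_le_normalizer_R0 hV
  have hVP : IsPGroup 2 (Q ⊔ h.ZG : Subgroup G) := S.isPGroup'.to_le hV.le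
  obtain ⟨R, hR⟩ := (sylow_subgroupOf_iff (p := 2) M (Q ⊔ h.ZG) hVM).mpr
    ⟨hVP, h.V_maximal_in_normalizer_R0 Q hQT eQ h2 hV⟩
  have hWP : IsPGroup 2 W := (S.isPGroup'.to_le h.UG_le).map _
  have hW'P : IsPGroup 2 (W.subgroupOf M) := hWP.comap_subtype
  obtain ⟨m, hm⟩ := exists_conj_le_sylow R hW'P
  rw [hR] at hm
  -- in G
  have hWV : W.map (MulAut.conj (m : G)).toMonoidHom ≤ Q ⊔ h.ZG := by
    intro w hw
    rw [mem_map_conj_iff] at hw
    have hwM : (m : G)⁻¹ * w * (m : G) ∈ M := hWM hw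
    have h1 : (⟨(m : G)⁻¹ * w * (m : G), hwM⟩ : M) ∈ W.subgroupOf M := by
      rw [Subgroup.mem_subgroupOf]; exact hw
    have h2 := hm (conj_mem_map_conj (g := m) h1)
    rw [Subgroup.mem_subgroupOf] at h2
    have e1 : ((m * ⟨(m : G)⁻¹ * w * (m : G), hwM⟩ * m⁻¹ : M) : G) = w := by
      simp only [Subgroup.coe_mul, Subgroup.coe_inv]
      group
    rw [e1] at h2
    exact h2
  rw [hW, map_conj_map_conj] at hWV
  set W₂ := h.UG.map (MulAut.conj ((m : G) * g⁻¹)).toMonoidHom with hW₂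
  have hW₂comm : IsMulCommutative W₂ := by
    constructor
    constructor
    rintro ⟨a, ha⟩ ⟨b, hb⟩
    apply Subtype.ext
    rw [hW₂, mem_map_conj_iff] at ha hb
    have h1 := h.UG_comm _ ha _ hb
    show a * b = b * a
    set k := (m : G) * g⁻¹ with hk
    have e1 : a * b = k * ((k⁻¹ * a * k) * (k⁻¹ * b * k)) * k⁻¹ := by group
    have e2 : b * a = k * ((k⁻¹ * b * k) * (k⁻¹ * a * k)) * k⁻¹ := by group
    rw [e1, e2, h1]
  have hW₂card : Nat.card W₂ = 2 ^ (2 * n) := by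
    rw [hW₂, card_map_conj, h.card_UG]
  have hW₂eq := h.eq_UG W₂ (hWV.trans hV.le) hW₂comm hW₂card
  have hUV : h.UG ≤ Q ⊔ h.ZG := hW₂eq ▸ hWV
  have h10 := hUV (h.PG_mem_UG 1 0)
  rw [hV.P_mem] at h10
  apply h.two_ne_zero'
  linear_combination h10

end IsWr

end Cfsg.Agent.Lib.Helper27
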