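import Mathlib
import Cfsg.Prelude.Def_CaseTheorems
import Cfsg.Agent.Lib.Helper27.WreathedQC1
import Cfsg.Agent.Lib.Helper27.WreathedTau
import Cfsg.Agent.Lib.Helper27.FrattiniCentric

/-! Global fusion in a group with a wreathed Sylow 2-subgroup when `Aut_G(U)` is a 2-group:
`G`-conjugate elements of `T` lie in the same coset of the generalized quaternion subgroup `Y0G`,
and central elements of `T` are not fused to any other element of `T`. -/

set_option autoImplicit false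
set_option linter.style.haveILetI false
set_option linter.unusedSectionVars false

namespace Cfsg.Agent.Lib.Helper27

open Cfsg

namespace IsWr

variable {G : Type*} [Group G] [Finite G] {S : Sylow 2 G} {n : ℕ} {x y z : ↥(S : Subgroup G)}

/-- odd-order elements normalizing `T` centralize it -/
theorem odd_normalizer_T_centralizes (h : IsWr n x y z) {g : G}
    (hg : g ∈ Subgroup.normalizer (((S : Subgroup G) : Subgroup G) : Set G))
    (hodd : Odd (orderOf g)) :
    g ∈ Subgroup.centralizer (((S : Subgroup G) : Subgroup G) : Set G) := by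
  by_contra hgC
  rcases h.classificationG (le_refl _) inf_le_left hg hodd hgC with hU | ⟨δ, e, _, hgood⟩
  · have : h.QG 0 0 ∈ h.UG := by rw [← hU]; exact h.QG_mem 0 0
    exact h.QG_not_mem_UG _ _ this
  · have := (hgood.P_mem 1 0).mp (h.PG_mem 1 0)
    rw [sub_zero, mul_one] at this
    exact h.two_ne_zero' this

/-- `N_G(T)` acts on `T` like `T` -/
theorem normalizer_T_conj (h : IsWr n x y z) {g : G}
    (hg : g ∈ Subgroup.normalizer (((S : Subgroup G) : Subgroup G) : Set G)) :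
    ∃ s ∈ (S : Subgroup G), ∀ a ∈ (S : Subgroup G), g * a * g⁻¹ = s * a * s⁻¹ := by
  haveI : Fact (Nat.Prime 2) := ⟨Nat.prime_two⟩
  exact exists_conj_of_coprime_centralize (Cfsg.Agent.Lib.Helper41.sylow_fullyNormalized S)
    (fun g hg hcop => h.odd_normalizer_T_centralizes hg (Nat.coprime_two_right.mp hcop)) hg

/-- central elements of `T` are not fused to other central elements -/
theorem conj_ZG_eq (h : IsWr n x y z) {g w : G} (hw : w ∈ h.ZG) (hgw : g * w * g⁻¹ ∈ h.ZG) :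
    g * w * g⁻¹ = w := by
  haveI : Fact (Nat.Prime 2) := ⟨Nat.prime_two⟩
  have hcomm : ∀ v ∈ h.ZG, ∀ s ∈ (S : Subgroup G), s * v = v * s := by
    intro v hv s hs
    have := h.conj_ZG hs hv
    calc s * v = (s * v * s⁻¹) * s := by group
      _ = v * s := by rw [this]
  obtain ⟨m, hm, hmw⟩ := Cfsg.Agent.Lib.Helper61.burnside_fusion S w (g * w * g⁻¹)
    (hcomm w hw) (hcomm _ hgw) g rfl
  obtain ⟨s, hs, hact⟩ := h.normalizer_T_conj hm
  have hwT : w ∈ (S : Subgroup G) := by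
    rw [h.mem_ZG_iff] at hw
    obtain ⟨a, rfl⟩ := hw
    exact h.PG_mem a a
  rw [← hmw, hact w hwT]
  exact h.conj_ZG hs hw

/-- elements of the normalizer of a good subgroup fix `ZG` pointwise -/
theorem IsGoodG.normalizer_fix_ZG (h : IsWr n x y z) {V : Subgroup G} {δ : ZMod (2 ^ n)}
    (hV : h.IsGoodG V δ) {m : G} (hm : m ∈ Subgroup.normalizer (V : Set G)) {w : G}
    (hw : w ∈ h.ZG) : m * w * m⁻¹ = w := by
  apply h.conj_ZG_eq hw
  apply hV.centralizer_inf_le h
  have hwV : w ∈ V := hV.ZG_le h hw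
  have hmw : m * w * m⁻¹ ∈ V := (Subgroup.mem_normalizer_iff.mp hm _).mp hwV
  rw [Subgroup.mem_inf]
  refine ⟨?_, hV.le hmw⟩
  rw [Subgroup.mem_centralizer_iff]
  intro v hv
  have hv' : m⁻¹ * v * m⁻¹⁻¹ ∈ V :=
    (Subgroup.mem_normalizer_iff.mp (Subgroup.inv_mem _ hm) _).mp hv
  have hwc : w * (m⁻¹ * v * m⁻¹⁻¹) = (m⁻¹ * v * m⁻¹⁻¹) * w := by
    have h1 := h.conj_ZG (hV.le hv') hw
    calc w * (m⁻¹ * v * m⁻¹⁻¹) = ((m⁻¹ * v * m⁻¹⁻¹) * w * (m⁻¹ * v * m⁻¹⁻¹)⁻¹) *
          (m⁻¹ * v * m⁻¹⁻¹) := by rw [h1]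
      _ = (m⁻¹ * v * m⁻¹⁻¹) * w := by group
  calc v * (m * w * m⁻¹) = m * ((m⁻¹ * v * m⁻¹⁻¹) * w) * m⁻¹ := by group
    _ = m * (w * (m⁻¹ * v * m⁻¹⁻¹)) * m⁻¹ := by rw [hwc]
    _ = m * w * m⁻¹ * v := by group

/-- the normalizer of a good subgroup respects the fusion relation -/
theorem IsGoodG.RG_conj (h : IsWr n x y z) {V : Subgroup G} {δ : ZMod (2 ^ n)}
    (hV : h.IsGoodG V δ) {g : G} (hg : g ∈ Subgroup.normalizer (V : Set G)) {a : G}
    (ha : a ∈ V) : h.RG a (g * a * g⁻¹) := by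
  have hfix : ∀ m ∈ Subgroup.normalizer (V : Set G), ∀ w ∈ h.ZG, m * w * m⁻¹ = w :=
    fun m hm w hw => hV.normalizer_fix_ZG h hm hw
  have hb : g * a * g⁻¹ ∈ V := (Subgroup.mem_normalizer_iff.mp hg _).mp ha
  have hginv : g⁻¹ ∈ Subgroup.normalizer (V : Set G) := Subgroup.inv_mem _ hg
  -- squares lie in `ZG`
  have hsqZ : a * a ∈ h.ZG := by
    rcases h.casesG (hV.le ha) with ⟨i, j, rfl⟩ | ⟨i, j, rfl⟩
    · rw [hV.P_mem] at ha
      rw [h.PG_mul_PG, h.mem_ZG_iff]
      exact ⟨i + i, by congr 1; linear_combination (-1 : ZMod (2 ^ n)) * ha⟩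
    · rw [h.QG_mul_QG, h.mem_ZG_iff]
      exact ⟨i + j, by congr 1; ring⟩
  have hsq : a * a = g * a * g⁻¹ * (g * a * g⁻¹) := by
    have := hfix g hg _ hsqZ
    rw [← this]; group
  have hback : g * a * g⁻¹ ∈ h.ZG → a = g * a * g⁻¹ := by
    intro hz
    have := hfix g⁻¹ hginv _ hz
    have e : g⁻¹ * (g * a * g⁻¹) * g⁻¹⁻¹ = a := by group
    rw [e] at this
    exact this
  have hz : a ∈ h.ZG ↔ g * a * g⁻¹ ∈ h.ZG := by
    constructor
    · intro haZ; rw [hfix g hg a haZ]; exact haZ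
    · intro hbZ; rw [hback hbZ]; exact hbZ
  refine ⟨hV.inv_mul_mem_Y0G h ha hb hsq hz, ?_⟩
  rintro (haZ | hbZ)
  · exact (hfix g hg a haZ).symm
  · exact hback hbZ

/-- the local step: normalizers of fully normalized subgroups of `T` respect the relation -/
theorem RG_conj_normalizer (h : IsWr n x y z)
    (h₁ : (Subgroup.centralizer (h.UG : Set G)).relIndex (Subgroup.normalizer (h.UG : Set G)) = 2)
    {H : Subgroup G} (hHT : H ≤ (S : Subgroup G))
    (hidx : ¬ 2 ∣ ((S : Subgroup G) ⊓ Subgroup.normalizer (H : Set G)).relIndex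
      (Subgroup.normalizer (H : Set G)))
    {m : G} (hm : m ∈ Subgroup.normalizer (H : Set G)) {a : G} (ha : a ∈ H) :
    h.RG a (m * a * m⁻¹) := by
  haveI : Fact (Nat.Prime 2) := ⟨Nat.prime_two⟩
  by_cases hc : ∀ g ∈ Subgroup.normalizer (H : Set G), Nat.Coprime (orderOf g) 2 →
      g ∈ Subgroup.centralizer (H : Set G)
  · obtain ⟨s, hs, hact⟩ := exists_conj_of_coprime_centralize hidx hc hm
    rw [hact a ha]
    exact h.RG_conj_T (hHT ha) hs
  · have hex : ∃ g ∈ Subgroup.normalizer (H : Set G), Nat.Coprime (orderOf g) 2 ∧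
        g ∉ Subgroup.centralizer (H : Set G) := by
      by_contra hcon
      apply hc
      intro g hg hcop
      by_contra hgC
      exact hcon ⟨g, hg, hcop, hgC⟩
    obtain ⟨g, hgN, hcop, hgC⟩ := hex
    obtain ⟨g', hg'N, hcop', hg'C⟩ := exists_coprime_centricClosure S.2 hidx hgN hcop hgC
    have hodd' : Odd (orderOf g') := Nat.coprime_two_right.mp hcop'
    have hHsT : H ⊔ ((S : Subgroup G) ⊓ Subgroup.centralizer (H : Set G)) ≤ (S : Subgroup G) :=
      sup_le hHT inf_le_left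
    rcases h.classificationG hHsT centricClosure_centric hg'N hodd' hg'C with
      hU | ⟨δ, e, _, hgood⟩
    · exfalso
      rw [hU] at hg'N hg'C
      exact hg'C (mem_of_odd_of_relIndex_two h₁ hg'N hodd')
    · obtain ⟨m', _, hm'Ns, hact⟩ := exists_normalizer_centricClosure S.2 hidx hm
      rw [hact a ha]
      exact hgood.RG_conj h hm'Ns (Subgroup.mem_sup_left ha)

/-- global fusion: `G`-conjugate elements of `T` are related -/
theorem RG_conj (h : IsWr n x y z)
    (h₁ : (Subgroup.centralizer (h.UG : Set G)).relIndex (Subgroup.normalizer (h.UG : Set G)) = 2)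
    {a g : G} (ha : a ∈ (S : Subgroup G)) (hag : g * a * g⁻¹ ∈ (S : Subgroup G)) :
    h.RG a (g * a * g⁻¹) := by
  haveI : Fact (Nat.Prime 2) := ⟨Nat.prime_two⟩
  have key := Cfsg.Agent.Lib.Helper59.alperin_induction S h.RG h.RG_refl h.RG_trans
    (fun Q htame m hm _ a ha => by
      have := h.RG_conj_normalizer h₁ (inf_le_left : (S : Subgroup G) ⊓ (Q : Subgroup G) ≤ _)
        htame.1 (Subgroup.inv_mem _ hm) ha
      rwa [inv_inv] at this) a g⁻¹ ha (by rwa [inv_inv])
  rwa [inv_inv] at key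

end IsWr

end Cfsg.Agent.Lib.Helper27
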