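import Mathlib
import Cfsg.Prelude.Def_CaseTheorems
import Cfsg.Agent.Lib.Helper27.WreathedQC2
import Cfsg.Agent.Lib.Helper13.HallTransfer

/-! The case `|N_G(U):C_G(U)| = 2`, `|N_G(V):V C_G(V)| = 6` of the fusion trichotomy for wreathed
Sylow 2-subgroups: the focal subgroup is the generalized quaternion subgroup. -/

set_option autoImplicit false
set_option linter.style.haveILetI false
set_option linter.unusedSectionVars false

namespace Cfsg.Agent.Lib.Helper27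

open Cfsg
open scoped commutatorElement

section general

variable {G : Type*} [Group G]

/-- in a subgroup `H` of index two of `K`, commutators of elements of `K` with odd-order elements
of `K` lie in `H` -/
theorem comm_mem_of_index_two {K : Subgroup G} (H : Subgroup ↥K) (hH : H.index = 2) {g a : G}
    (hgK : g ∈ K) (hodd : Odd (orderOf g)) (ha : a ∈ K) :
    a⁻¹ * g * a * g⁻¹ ∈ H.map K.subtype := by
  haveI : H.Normal := Subgroup.normal_of_index_eq_two hH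
  have hoddK : Odd (orderOf (⟨g, hgK⟩ : K)) := by rw [Subgroup.orderOf_mk]; exact hodd
  have hgH : (⟨g, hgK⟩ : K) ∈ H := mem_of_odd_of_index_two hH hoddK
  have h1 : (⟨a, ha⟩ : K)⁻¹ * ⟨g, hgK⟩ * (⟨a, ha⟩ : K)⁻¹⁻¹ ∈ H :=
    Subgroup.Normal.conj_mem inferInstance _ hgH _
  have h2 := H.mul_mem h1 (H.inv_mem hgH)
  refine ⟨_, h2, ?_⟩
  simp

theorem mem_of_odd_of_index_two_pow {K : Subgroup G} [K.Normal] {j : ℕ} (hK : K.index = 2 ^ j)
    {g : G} (hodd : Odd (orderOf g)) : g ∈ K := by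
  have h1 : g ^ (2 ^ j) ∈ K := by rw [← hK]; exact K.pow_index_mem g
  have hz : g ∈ Subgroup.zpowers (g ^ (2 ^ j)) := by
    rw [mem_zpowers_pow_iff]
    exact (Nat.Coprime.pow_right j (Nat.coprime_two_right.mpr hodd)).symm
  exact (Subgroup.zpowers_le.mpr h1) hz

end general

namespace IsWr

variable {G : Type*} [Group G] [Finite G] {S : Sylow 2 G} {n : ℕ} {x y z : ↥(S : Subgroup G)}

/-- an odd-order element of `N_G(V)` mapping the element `PG q4 (-q4)` of order four of `U ⊓ Y0G`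
outside `U` -/
theorem exists_odd_V_quat (h : IsWr n x y z) (Q : Subgroup G) (hQT : Q ≤ (S : Subgroup G))
    (eQ : Q ≃* QuaternionGroup 2)
    (h6 : ((Q ⊔ h.ZG) ⊔ Subgroup.centralizer ((Q ⊔ h.ZG : Subgroup G) : Set G)).relIndex
        (Subgroup.normalizer ((Q ⊔ h.ZG : Subgroup G) : Set G)) = 6) :
    ∃ g : G, Odd (orderOf g) ∧ ∃ c d, c + d = hh n ∧
      (h.PG (q4 n) (-(q4 n)))⁻¹ * g * h.PG (q4 n) (-(q4 n)) * g⁻¹ = h.QG c d := by
  obtain ⟨g, hgN, hodd, c, d, hcd⟩ := h.exists_odd_V Q hQT eQ h6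
  obtain ⟨δ, e, _, hV⟩ := h.isGoodG_of_Q8 Q hQT eQ
  refine ⟨g, hodd, c - hh n, d, ?_, ?_⟩
  · have h2 : orderOf (g * h.uG * g⁻¹) = 2 := by
      have : g * h.uG * g⁻¹ = MulAut.conj g h.uG := rfl
      rw [this, MulEquiv.orderOf_eq, h.orderOf_uG]
    rw [hcd, h.orderOf_QG_eq_two_iff] at h2
    linear_combination h2 - two_mul_hh h.one_le_n
  · have hζ : h.PG (q4 n) (q4 n) ∈ h.ZG := (h.mem_ZG_iff _).mpr ⟨_, rfl⟩
    have hfix := hV.normalizer_fix_ZG h hgN hζ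
    have hu : h.uG = h.PG (q4 n) (q4 n) * h.PG (q4 n) (-(q4 n)) := by
      rw [uG, h.PG_mul_PG, h.q4_add_q4, add_neg_cancel]
    have h1 : g * h.PG (q4 n) (-(q4 n)) * g⁻¹ = (h.PG (q4 n) (q4 n))⁻¹ * h.QG c d := by
      rw [← hcd, hu]
      have e1 : g * (h.PG (q4 n) (q4 n) * h.PG (q4 n) (-(q4 n))) * g⁻¹ =
          (g * h.PG (q4 n) (q4 n) * g⁻¹) * (g * h.PG (q4 n) (-(q4 n)) * g⁻¹) := by group
      rw [e1, hfix]; group
    have e2 : (h.PG (q4 n) (-(q4 n)))⁻¹ * g * h.PG (q4 n) (-(q4 n)) * g⁻¹ =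
        (h.PG (q4 n) (-(q4 n)))⁻¹ * (g * h.PG (q4 n) (-(q4 n)) * g⁻¹) := by group
    rw [e2, h1, h.PG_inv, h.PG_inv, h.PG_mul_QG, h.PG_mul_QG]
    congr 1
    · have := h.q4_add_q4
      linear_combination (-1 : ZMod (2 ^ n)) * this
    · ring

/-- the focal subgroup is contained in `Y0G` -/
theorem focalSubgroup_le_Y0G (h : IsWr n x y z)
    (h₁ : (Subgroup.centralizer (h.UG : Set G)).relIndex (Subgroup.normalizer (h.UG : Set G)) = 2) :
    Subgroup.focalSubgroup (S : Subgroup G) ≤ h.Y0G := by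
  rw [Subgroup.focalSubgroup_def, Subgroup.closure_le]
  rintro g ⟨hgT, a, haT, u, rfl⟩
  have hconj : u * a⁻¹ * u⁻¹ ∈ (S : Subgroup G) := by
    have : u * a⁻¹ * u⁻¹ = a⁻¹ * ⁅a, u⁆ := by rw [commutatorElement_def]; group
    rw [this]
    exact Subgroup.mul_mem _ (Subgroup.inv_mem _ haT) hgT
  have := (h.RG_conj h₁ (Subgroup.inv_mem _ haT) hconj).1
  have e : (a⁻¹)⁻¹ * (u * a⁻¹ * u⁻¹) = ⁅a, u⁆ := by rw [commutatorElement_def]; group
  rw [e] at this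
  exact this

/-- the focal subgroup is `Y0G` -/
theorem focalSubgroup_eq_Y0G (h : IsWr n x y z) (Q : Subgroup G) (hQT : Q ≤ (S : Subgroup G))
    (eQ : Q ≃* QuaternionGroup 2)
    (h₁ : (Subgroup.centralizer (h.UG : Set G)).relIndex (Subgroup.normalizer (h.UG : Set G)) = 2)
    (h6 : ((Q ⊔ h.ZG) ⊔ Subgroup.centralizer ((Q ⊔ h.ZG : Subgroup G) : Set G)).relIndex
        (Subgroup.normalizer ((Q ⊔ h.ZG : Subgroup G) : Set G)) = 6) :
    Subgroup.focalSubgroup (S : Subgroup G) = h.Y0G := by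
  apply le_antisymm (h.focalSubgroup_le_Y0G h₁)
  obtain ⟨g, _, c, d, hcd, hg⟩ := h.exists_odd_V_quat Q hQT eQ h6
  apply h.Y0G_le_of_mem (c := c) (d := d) _ hcd
  · rw [Subgroup.focalSubgroup_def]
    apply Subgroup.subset_closure
    refine ⟨h.QG_mem c d, (h.PG (q4 n) (-(q4 n)))⁻¹, Subgroup.inv_mem _ (h.PG_mem _ _), g, ?_⟩
    rw [commutatorElement_def, inv_inv, ← hg]
  · rw [Subgroup.focalSubgroup_def]
    apply Subgroup.subset_closure
    refine ⟨h.PG_mem 1 (-1), h.PG 1 0, h.PG_mem 1 0, h.QG 0 0, ?_⟩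
    rw [commutatorElement_def]
    have e : h.PG 1 0 * h.QG 0 0 * (h.PG 1 0)⁻¹ * (h.QG 0 0)⁻¹ =
        h.PG 1 0 * (h.QG 0 0 * (h.PG 1 0)⁻¹ * (h.QG 0 0)⁻¹) := by group
    rw [e, h.PG_inv, h.QG_conj_PG, h.PG_mul_PG]
    congr 1 <;> ring

end IsWr

end Cfsg.Agent.Lib.Helper27
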