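import Mathlib
import Cfsg.Prelude.Def_CaseTheorems
import Cfsg.Agent.Lib.Helper27.WreathedQC3

/-! The case `|N_G(U):C_G(U)| = 2`, `|N_G(V):V C_G(V)| = 6`: the normal subgroup of index `2 ^ n`
with generalized quaternion Sylow 2-subgroups, weak closure in `Z(T)`, classes of involutions. -/

set_option autoImplicit false
set_option linter.style.haveILetI false
set_option linter.unusedSectionVars false

namespace Cfsg.Agent.Lib.Helper27

open Cfsg
open scoped commutatorElement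

namespace IsWr

variable {G : Type*} [Group G] [Finite G] {S : Sylow 2 G} {n : ℕ} {x y z : ↥(S : Subgroup G)}

theorem relIndex_Y0G (h : IsWr n x y z) : h.Y0G.relIndex (S : Subgroup G) = 2 ^ n := by
  have h1 := Cfsg.Agent.Lib.Helper20.relIndex_mul_card_of_le h.Y0G_le
  rw [h.card_Y0G, h.card] at h1
  have e : 2 ^ (2 * n + 1) = 2 ^ n * 2 ^ (n + 1) := by rw [← pow_add]; congr 1; omega
  rw [e] at h1
  exact Nat.eq_of_mul_eq_mul_right (by positivity) h1

/-- the normal subgroup of index `2 ^ n` with generalized quaternion Sylow 2-subgroups and without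
subgroups of index two -/
theorem exists_quaternion_residual (h : IsWr n x y z) (Q : Subgroup G)
    (hQT : Q ≤ (S : Subgroup G)) (eQ : Q ≃* QuaternionGroup 2)
    (h₁ : (Subgroup.centralizer (h.UG : Set G)).relIndex (Subgroup.normalizer (h.UG : Set G)) = 2)
    (h6 : ((Q ⊔ h.ZG) ⊔ Subgroup.centralizer ((Q ⊔ h.ZG : Subgroup G) : Set G)).relIndex
        (Subgroup.normalizer ((Q ⊔ h.ZG : Subgroup G) : Set G)) = 6) :
    ∃ K : Subgroup G, K.Normal ∧ K.index = 2 ^ n ∧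
      (∀ P : Sylow 2 ↥K, ∃ m : ℕ, 1 ≤ m ∧
        Nonempty ((P : Subgroup ↥K) ≃* QuaternionGroup (2 ^ m))) ∧
      (∀ H : Subgroup ↥K, H.index ≠ 2) := by
  haveI : Fact (Nat.Prime 2) := ⟨Nat.prime_two⟩
  have hfoc := h.focalSubgroup_eq_Y0G Q hQT eQ h₁ h6
  obtain ⟨hinf, hsup⟩ := Cfsg.Agent.Lib.Helper13.hall_transferFocal (S : Subgroup G)
    S.card_coprime_index
  set K := (S : Subgroup G).transferFocal.ker with hK
  haveI hKn : K.Normal := MonoidHom.normal_ker _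
  rw [hfoc] at hinf
  have hYK : h.Y0G ≤ K := by rw [← hinf]; exact inf_le_left
  have hidx : K.index = 2 ^ n := by
    calc K.index = K.relIndex ⊤ := (Subgroup.relIndex_top_right K).symm
      _ = K.relIndex (K ⊔ (S : Subgroup G)) := by rw [hsup]
      _ = K.relIndex (S : Subgroup G) := Subgroup.relIndex_sup_left (S : Subgroup G) K
      _ = (K ⊓ (S : Subgroup G)).relIndex (S : Subgroup G) :=
          (Subgroup.inf_relIndex_right K (S : Subgroup G)).symm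
      _ = h.Y0G.relIndex (S : Subgroup G) := by rw [hinf]
      _ = 2 ^ n := h.relIndex_Y0G
  have hsyl : ¬ 2 ∣ (h.Y0G.subgroupOf K).index := by
    have := Cfsg.Agent.Lib.Helper20.not_dvd_relIndex_inf_normal S K
    rw [inf_comm, hinf] at this
    exact this
  have hYp : IsPGroup 2 (h.Y0G.subgroupOf K) := (S.2.to_le h.Y0G_le).comap_subtype
  refine ⟨K, hKn, hidx, ?_, ?_⟩
  · intro P
    refine ⟨n - 1, by have := h.hn; omega, ⟨?_⟩⟩
    have e1 : (P : Subgroup K) ≃* ((hYp.toSylow hsyl : Sylow 2 K) : Subgroup K) :=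
      Sylow.equiv P (hYp.toSylow hsyl)
    have e2 : ((hYp.toSylow hsyl : Sylow 2 K) : Subgroup K) ≃* h.Y0G :=
      Subgroup.subgroupOfEquivOfLe hYK
    exact e1.trans (e2.trans h.Y0G_equiv)
  · intro H hH
    obtain ⟨g, hodd, c, d, hcd, hg⟩ := h.exists_odd_V_quat Q hQT eQ h6
    have hi₀K : h.PG (q4 n) (-(q4 n)) ∈ K :=
      hYK ((h.PG_mem_Y0G_iff _ _).mpr (add_neg_cancel _))
    have hgK : g ∈ K := mem_of_odd_of_index_two_pow hidx hodd
    have hw1 : h.QG c d ∈ H.map K.subtype := by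
      rw [← hg]; exact comm_mem_of_index_two H hH hgK hodd hi₀K
    have hodd2 : Odd (orderOf (h.PG 1 0 * g * (h.PG 1 0)⁻¹)) := by
      have : h.PG 1 0 * g * (h.PG 1 0)⁻¹ = MulAut.conj (h.PG 1 0) g := rfl
      rw [this, MulEquiv.orderOf_eq]
      exact hodd
    have hg2K : h.PG 1 0 * g * (h.PG 1 0)⁻¹ ∈ K := mem_of_odd_of_index_two_pow hidx hodd2
    have hw2 := comm_mem_of_index_two H hH hg2K hodd2 hi₀K
    have hc : h.PG 1 0 * h.PG (q4 n) (-(q4 n)) = h.PG (q4 n) (-(q4 n)) * h.PG 1 0 :=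
      h.UG_comm _ (h.PG_mem_UG _ _) _ (h.PG_mem_UG _ _)
    have e : (h.PG (q4 n) (-(q4 n)))⁻¹ * (h.PG 1 0 * g * (h.PG 1 0)⁻¹) * h.PG (q4 n) (-(q4 n)) *
        (h.PG 1 0 * g * (h.PG 1 0)⁻¹)⁻¹ =
        h.PG 1 0 * ((h.PG (q4 n) (-(q4 n)))⁻¹ * g * h.PG (q4 n) (-(q4 n)) * g⁻¹) *
          (h.PG 1 0)⁻¹ := by
      have h1 : (h.PG 1 0)⁻¹ * h.PG (q4 n) (-(q4 n)) * h.PG 1 0 = h.PG (q4 n) (-(q4 n)) := by
        rw [mul_assoc, ← hc]; group
      have h2 : (h.PG (q4 n) (-(q4 n)))⁻¹ * h.PG 1 0 = h.PG 1 0 * (h.PG (q4 n) (-(q4 n)))⁻¹ := by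
        rw [eq_mul_inv_iff_mul_eq, mul_assoc, hc]; group
      calc (h.PG (q4 n) (-(q4 n)))⁻¹ * (h.PG 1 0 * g * (h.PG 1 0)⁻¹) * h.PG (q4 n) (-(q4 n)) *
            (h.PG 1 0 * g * (h.PG 1 0)⁻¹)⁻¹
          = ((h.PG (q4 n) (-(q4 n)))⁻¹ * h.PG 1 0) * g *
              ((h.PG 1 0)⁻¹ * h.PG (q4 n) (-(q4 n)) * h.PG 1 0) * g⁻¹ * (h.PG 1 0)⁻¹ := by group
        _ = (h.PG 1 0 * (h.PG (q4 n) (-(q4 n)))⁻¹) * g * h.PG (q4 n) (-(q4 n)) * g⁻¹ *
              (h.PG 1 0)⁻¹ := by rw [h1, h2]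
        _ = _ := by group
    rw [e, hg, h.PG_conj_QG] at hw2
    have hP1 : h.PG 1 (-1) ∈ H.map K.subtype := by
      have := Subgroup.mul_mem _ hw2 (Subgroup.inv_mem _ hw1)
      rw [h.QG_inv, h.QG_mul_QG] at this
      have e3 : h.PG (c + (1 - 0) + -c) (d - (1 - 0) + -d) = h.PG 1 (-1) := by
        congr 1 <;> ring
      rwa [e3] at this
    have hY : h.Y0G ≤ H.map K.subtype := h.Y0G_le_of_mem hP1 hcd hw1
    have hle : h.Y0G.subgroupOf K ≤ H := by
      intro k hk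
      rw [Subgroup.mem_subgroupOf] at hk
      obtain ⟨k', hk', hkk⟩ := hY hk
      have : k' = k := Subtype.ext hkk
      rwa [← this]
    have := Subgroup.index_dvd_of_le hle
    rw [hH] at this
    exact hsyl this

/-- subgroups of `Z(T)` are weakly closed in `T` -/
theorem isWeaklyClosed_of_le_ZG (h : IsWr n x y z)
    (h₁ : (Subgroup.centralizer (h.UG : Set G)).relIndex (Subgroup.normalizer (h.UG : Set G)) = 2)
    {Z₀ : Subgroup G} (hZ : Z₀ ≤ h.ZG) : Cfsg.IsWeaklyClosed Z₀ (S : Subgroup G) := by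
  have hZT : Z₀ ≤ (S : Subgroup G) := by
    intro w hw
    obtain ⟨a, rfl⟩ := (h.mem_ZG_iff w).mp (hZ hw)
    exact h.PG_mem a a
  refine ⟨hZT, fun g hg => ?_⟩
  have hfix : ∀ v ∈ Z₀, g * v * g⁻¹ = v := by
    intro v hv
    have hgv : g * v * g⁻¹ ∈ (S : Subgroup G) := hg ⟨v, hv, rfl⟩
    exact ((h.RG_conj h₁ (hZT hv) hgv).2 (Or.inl (hZ hv))).symm
  ext w
  constructor
  · rintro ⟨v, hv, rfl⟩
    show g * v * g⁻¹ ∈ Z₀
    rw [hfix v hv]; exact hv
  · intro hw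
    exact ⟨w, hw, hfix w hw⟩

/-- the central involution is not fused to the non-central involutions of `U` -/
theorem not_isConj_zG_uG (h : IsWr n x y z)
    (h₁ : (Subgroup.centralizer (h.UG : Set G)).relIndex (Subgroup.normalizer (h.UG : Set G)) = 2) :
    ¬ IsConj h.zG h.uG := by
  intro hc
  obtain ⟨g, hg⟩ := isConj_iff.mp hc
  have hzT : h.zG ∈ (S : Subgroup G) := h.PG_mem _ _
  have huT : g * h.zG * g⁻¹ ∈ (S : Subgroup G) := by rw [hg]; exact h.PG_mem _ _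
  have hzZ : h.zG ∈ h.ZG := (h.mem_ZG_iff _).mpr ⟨_, rfl⟩
  have := (h.RG_conj h₁ hzT huT).2 (Or.inl hzZ)
  rw [hg, zG, uG] at this
  exact h.hh_ne_zero' (h.PG_inj this).2

end IsWr

end Cfsg.Agent.Lib.Helper27
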