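import Mathlib
import Cfsg.Prelude.Def_CaseTheorems
import Cfsg.Agent.Lib.Helper27.WreathedQC4
import Cfsg.Agent.Lib.Helper27.WreathedQ8
import Cfsg.Agent.S1211

/-! The wreathed half of S1213: involution centralizers in groups with wreathed Sylow 2-subgroups
and no subgroup of index two. -/

set_option autoImplicit false
set_option linter.style.haveILetI false
set_option linter.unusedSectionVars false

namespace Cfsg.Agent.Lib.Helper27

open Cfsg

section general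

theorem isWreathed_of_mulEquiv {A B : Type*} [Group A] [Group B] (e : A ≃* B)
    (hA : Cfsg.IsWreathed A) : Cfsg.IsWreathed B := by
  obtain ⟨n, hn, hc, x, y, z, h1, h2, h3, h4, h5⟩ := hA
  refine ⟨n, hn, ?_, e x, e y, e z, ?_, ?_, ?_, ?_, ?_⟩
  · rw [← Nat.card_congr e.toEquiv, hc]
  · rw [MulEquiv.orderOf_eq, h1]
  · rw [← map_mul, ← map_mul, h2]
  · have := congrArg (Subgroup.map e.toMonoidHom) h3
    rw [Subgroup.map_inf _ _ _ e.injective, Subgroup.map_bot, MonoidHom.map_zpowers,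
      MonoidHom.map_zpowers] at this
    exact this
  · rw [MulEquiv.orderOf_eq, h4]
  · rw [← map_inv, ← map_mul, ← map_mul, h5]

variable {G : Type*} [Group G]

/-- a normal subgroup of index `2 ^ j`, `j ≥ 1`, lies in a subgroup of index two -/
theorem exists_index_two_of_normal_index_pow [Finite G] {K : Subgroup G} [K.Normal] {j : ℕ}
    (hj : 1 ≤ j) (hK : K.index = 2 ^ j) : ∃ H : Subgroup G, H.index = 2 := by
  haveI : Fact (Nat.Prime 2) := ⟨Nat.prime_two⟩
  have hcard : Nat.card (G ⧸ K) = 2 ^ j := by rw [← Subgroup.index_eq_card, hK]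
  obtain ⟨H', hH'⟩ := Sylow.exists_subgroup_card_pow_prime (G := G ⧸ K) 2 (n := j - 1)
    (by rw [hcard]; exact pow_dvd_pow 2 (by omega))
  refine ⟨H'.comap (QuotientGroup.mk' K), ?_⟩
  rw [Subgroup.index_comap_of_surjective _ (QuotientGroup.mk'_surjective K)]
  have h1 := H'.card_mul_index
  rw [hH', hcard] at h1
  have e : 2 ^ j = 2 ^ (j - 1) * 2 := by rw [← pow_succ]; congr 1; omega
  rw [e] at h1
  exact Nat.eq_of_mul_eq_mul_left (by positivity) h1

end general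

namespace IsWr

variable {G : Type*} [Group G] [Finite G] {S : Sylow 2 G} {n : ℕ} {x y z : ↥(S : Subgroup G)}

/-- a quaternion subgroup of order 8 of `T` -/
theorem exists_Q8G (h : IsWr n x y z) :
    ∃ Q : Subgroup G, Q ≤ (S : Subgroup G) ∧ Nonempty (Q ≃* QuaternionGroup 2) := by
  have hcd : (0 : ZMod (2 ^ n)) + hh n = hh n := zero_add _
  refine ⟨(h.q8Hom 0 (hh n) hcd).range.map (S : Subgroup G).subtype, ?_, ⟨?_⟩⟩
  · rintro _ ⟨t, -, rfl⟩
    exact t.2
  · exact (Subgroup.equivMapOfInjective _ _ (Subgroup.subtype_injective _)).symm.trans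
      (MonoidHom.ofInjective (h.q8Hom_injective 0 (hh n) hcd)).symm

/-- an involution in the centre of `T` is `zG` -/
theorem eq_zG_of_central (h : IsWr n x y z) {t : G} (ht : t ∈ (S : Subgroup G))
    (ht2 : orderOf t = 2) (hc : ∀ s ∈ (S : Subgroup G), s * t = t * s) : t = h.zG := by
  rcases h.involution_cases ht ht2 with h1 | h1 | h1 | ⟨c, h1⟩
  · exact h1
  · exfalso
    have := hc _ (h.QG_mem 0 0)
    rw [h1, uG, eq_comm, h.PG_comm_QG_iff] at this
    exact h.hh_ne_zero' this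
  · exfalso
    have := hc _ (h.QG_mem 0 0)
    rw [h1, eq_comm, h.PG_comm_QG_iff] at this
    exact h.hh_ne_zero' this.symm
  · exfalso
    have := hc _ (h.PG_mem 1 0)
    rw [h1, h.PG_comm_QG_iff] at this
    exact h.one_ne_zero' this

theorem isMulCommutative_UG (h : IsWr n x y z) : IsMulCommutative h.UG :=
  ⟨⟨fun a b => Subtype.ext (h.UG_comm _ a.2 _ b.2)⟩⟩

/-- without subgroups of index two, both automizers have order six -/
theorem six_six_of_no_index_two (h : IsWr n x y z) (hS : Cfsg.IsWreathed (S : Subgroup G))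
    (hG : ∀ H : Subgroup G, H.index ≠ 2)
    (Q : Subgroup G) (hQT : Q ≤ (S : Subgroup G)) (eQ : Q ≃* QuaternionGroup 2) :
    (Subgroup.centralizer (h.UG : Set G)).relIndex (Subgroup.normalizer (h.UG : Set G)) = 6 ∧
    ((Q ⊔ h.ZG) ⊔ Subgroup.centralizer ((Q ⊔ h.ZG : Subgroup G) : Set G)).relIndex
        (Subgroup.normalizer ((Q ⊔ h.ZG : Subgroup G) : Set G)) = 6 := by
  haveI : Fact (Nat.Prime 2) := ⟨Nat.prime_two⟩
  rcases h.relIndex_centralizer_normalizer_UG with h2 | h6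
  · exfalso
    rcases h.relIndex_normalizer_V Q hQT eQ with k2 | k6
    · have hnpc : Cfsg.HasNormalPComplement 2 G :=
        Cfsg.Agent.Lib.Helper41.hasNormalPComplement_of_frobCond
          (h.frobCond_of_two_two Q hQT eQ h2 k2)
      obtain ⟨N, hNn, hN⟩ := (Cfsg.Agent.Lib.Helper03.hasNormalPComplement_iff S).mp hnpc
      haveI := hNn
      have hidx : N.index = 2 ^ (2 * n + 1) := by
        rw [hN.symm.index_eq_card, h.card]
      obtain ⟨H, hH⟩ := exists_index_two_of_normal_index_pow (by omega) hidx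
      exact hG H hH
    · obtain ⟨K, hKn, hidx, -, -⟩ := h.exists_quaternion_residual Q hQT eQ h2 k6
      haveI := hKn
      obtain ⟨H, hH⟩ := exists_index_two_of_normal_index_pow h.one_le_n hidx
      exact hG H hH
  · refine ⟨h6, ?_⟩
    rcases h.relIndex_normalizer_V Q hQT eQ with k2 | k6
    · exfalso
      obtain ⟨⟨K, -, hidx, -, -⟩, -⟩ := Cfsg.Agent.S1211.result S hS n h.card h.UG h.UG_le
        h.isMulCommutative_UG h.card_UG Q hQT eQ h6 k2
      exact hG K hidx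
    · exact k6

/-- the structure of the centralizer of the central involution when `|N_G(V) : V C_G(V)| = 6` -/
theorem centralizer_zG_structure (h : IsWr n x y z) (hS : Cfsg.IsWreathed (S : Subgroup G))
    (Q : Subgroup G) (hQT : Q ≤ (S : Subgroup G)) (eQ : Q ≃* QuaternionGroup 2)
    (h₂ : ((Q ⊔ h.ZG) ⊔ Subgroup.centralizer ((Q ⊔ h.ZG : Subgroup G) : Set G)).relIndex
        (Subgroup.normalizer ((Q ⊔ h.ZG : Subgroup G) : Set G)) = 6)
    (x₁ : G) (hx₁ : x₁ = h.zG) :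
    ∃ R : Sylow 2 ↥(Subgroup.centralizer ({x₁} : Set G)), Nat.card R = Nat.card S ∧
      (∃ K : Subgroup ↥(Subgroup.centralizer ({x₁} : Set G)), K.Normal ∧
        (∃ a : ℕ, K.index = 2 ^ a) ∧ (∀ H : Subgroup ↥K, H.index ≠ 2) ∧
        (∀ P : Sylow 2 ↥K, ∃ m : ℕ, 1 ≤ m ∧
          Nonempty ((P : Subgroup ↥K) ≃* QuaternionGroup (2 ^ m)))) ∧
      (∀ Z₀ : Subgroup ↥(Subgroup.centralizer ({x₁} : Set G)),
        Z₀ ≤ ((Subgroup.center (R : Subgroup ↥(Subgroup.centralizer ({x₁} : Set G)))).map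
          (R : Subgroup ↥(Subgroup.centralizer ({x₁} : Set G))).subtype) →
        Cfsg.IsWeaklyClosed Z₀ (R : Subgroup ↥(Subgroup.centralizer ({x₁} : Set G)))) := by
  subst hx₁
  haveI : Fact (Nat.Prime 2) := ⟨Nat.prime_two⟩
  have hzZ : h.zG ∈ h.ZG := (h.mem_ZG_iff _).mpr ⟨_, rfl⟩
  set C := Subgroup.centralizer ({h.zG} : Set G) with hC
  have hmemC : ∀ g : G, g ∈ C ↔ h.zG * g = g * h.zG := by
    intro g
    rw [hC, Subgroup.mem_centralizer_iff]
    constructor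
    · intro hg; exact hg _ rfl
    · intro hg w hw
      rw [Set.mem_singleton_iff] at hw
      rw [hw]; exact hg
  have hTC : (S : Subgroup G) ≤ C := by
    intro s hs
    rw [hmemC]
    have := h.conj_ZG hs hzZ
    calc h.zG * s = (s * h.zG * s⁻¹) * s := by rw [this]
      _ = s * h.zG := by group
  have hP : IsPGroup 2 ((S : Subgroup G).subgroupOf C) := S.2.comap_subtype
  have hidx : ¬ 2 ∣ ((S : Subgroup G).subgroupOf C).index := fun hd =>
    S.not_dvd_index (hd.trans (Subgroup.relIndex_dvd_index_of_le hTC))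
  set R : Sylow 2 ↥C := hP.toSylow hidx with hR
  have hRmem : ∀ c : ↥C, c ∈ (R : Subgroup ↥C) ↔ (c : G) ∈ (S : Subgroup G) := fun c => Iff.rfl
  have eR : ↥(R : Subgroup ↥C) ≃* ↥(S : Subgroup G) := Subgroup.subgroupOfEquivOfLe hTC
  have hRw : Cfsg.IsWreathed ↥(R : Subgroup ↥C) := isWreathed_of_mulEquiv eR.symm hS
  obtain ⟨n', xc, yc, zc, hc⟩ := exists_isWr hRw
  refine ⟨R, Nat.card_congr eR.toEquiv, ?_⟩
  -- the central involution of `R` is `zG`
  have hzC : h.zG ∈ C := hTC (h.PG_mem _ _)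
  have hcentral : ∀ c : ↥C, c * (⟨h.zG, hzC⟩ : ↥C) = ⟨h.zG, hzC⟩ * c := by
    intro c
    apply Subtype.ext
    exact ((hmemC c).mp c.2).symm
  have hxc : (⟨h.zG, hzC⟩ : ↥C) = hc.zG := by
    apply hc.eq_zG_of_central
    · rw [hRmem]; exact h.PG_mem _ _
    · rw [Subgroup.orderOf_mk]; exact h.orderOf_zG
    · intro s _; exact hcentral s
  -- `Aut_C(U)` is a 2-group
  have h₁C : (Subgroup.centralizer (hc.UG : Set ↥C)).relIndex
      (Subgroup.normalizer (hc.UG : Set ↥C)) = 2 := by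
    rcases hc.relIndex_centralizer_normalizer_UG with k | k
    · exact k
    · exfalso
      obtain ⟨g₁, hg₁N, hodd₁, hg₁C, -⟩ := hc.exists_odd_UG k
      obtain ⟨c, hcc⟩ := isConj_iff.mp (hc.isConj_zG_uG hg₁N hodd₁ hg₁C)
      rw [← hxc] at hcc
      have e1 : c * (⟨h.zG, hzC⟩ : ↥C) * c⁻¹ = ⟨h.zG, hzC⟩ := by
        rw [hcentral c]; group
      rw [e1, hxc, zG, uG] at hcc
      exact hc.hh_ne_zero' (hc.PG_inj hcc).2
  obtain ⟨QC, hQCT, ⟨eQC⟩⟩ := hc.exists_Q8G
  have h₂C : ((QC ⊔ hc.ZG) ⊔ Subgroup.centralizer ((QC ⊔ hc.ZG : Subgroup ↥C) : Set ↥C)).relIndex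
      (Subgroup.normalizer ((QC ⊔ hc.ZG : Subgroup ↥C) : Set ↥C)) = 6 := by
    rcases hc.relIndex_normalizer_V QC hQCT eQC with k | k
    · exfalso
      have hF := hc.frobCond_of_two_two QC hQCT eQC h₁C k
      obtain ⟨g, hgN, hodd, c, d, hcd⟩ := h.exists_odd_V Q hQT eQ h₂
      obtain ⟨δ, e, _, hV⟩ := h.isGoodG_of_Q8 Q hQT eQ
      have hgz : g * h.zG * g⁻¹ = h.zG := hV.normalizer_fix_ZG h hgN hzZ
      have hgC : g ∈ C := by
        rw [hmemC]
        calc h.zG * g = (g * h.zG * g⁻¹) * g := by rw [hgz]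
          _ = g * h.zG := by group
      have hVp : IsPGroup 2 ((Q ⊔ h.ZG).subgroupOf C) := (S.2.to_le hV.le).comap_subtype
      have hgN' : (⟨g, hgC⟩ : ↥C) ∈
          Subgroup.normalizer (((Q ⊔ h.ZG).subgroupOf C : Subgroup ↥C) : Set ↥C) := by
        rw [Subgroup.mem_normalizer_iff]
        intro w
        rw [Subgroup.mem_subgroupOf, Subgroup.mem_subgroupOf]
        exact Subgroup.mem_normalizer_iff.mp hgN (w : G)
      have hcop : Nat.Coprime (orderOf (⟨g, hgC⟩ : ↥C)) 2 := by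
        rw [Subgroup.orderOf_mk]; exact Nat.coprime_two_right.mpr hodd
      have hcent := hF _ hVp _ hgN' hcop
      have huV : h.uG ∈ Q ⊔ h.ZG := by
        rw [uG, hV.P_mem]; linear_combination two_mul_hh h.one_le_n
      have huC : h.uG ∈ C := hTC (h.PG_mem _ _)
      rw [Subgroup.mem_centralizer_iff] at hcent
      have h3 := hcent (⟨h.uG, huC⟩ : ↥C) (by
        rw [SetLike.mem_coe, Subgroup.mem_subgroupOf]; exact huV)
      have h4 : h.uG * g = g * h.uG := congrArg Subtype.val h3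
      have h5 : g * h.uG * g⁻¹ = h.uG := by rw [← h4]; group
      rw [h5, uG] at hcd
      exact h.PG_ne_QG _ _ _ _ hcd
    · exact k
  refine ⟨?_, ?_⟩
  · obtain ⟨K, hKn, hKi, hKs, hKh⟩ := hc.exists_quaternion_residual QC hQCT eQC h₁C h₂C
    exact ⟨K, hKn, ⟨n', hKi⟩, hKh, hKs⟩
  · intro Z₀ hZ₀
    exact hc.isWeaklyClosed_of_le_ZG h₁C hZ₀

/-- the wreathed half of S1213 -/
theorem wreathed_half (S : Sylow 2 G) (hS : Cfsg.IsWreathed (S : Subgroup G))
    (hG : ∀ H : Subgroup G, H.index ≠ 2) (x₁ : G) (hx : orderOf x₁ = 2) :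
    ∃ R : Sylow 2 ↥(Subgroup.centralizer ({x₁} : Set G)), Nat.card R = Nat.card S ∧
      (∃ K : Subgroup ↥(Subgroup.centralizer ({x₁} : Set G)), K.Normal ∧
        (∃ a : ℕ, K.index = 2 ^ a) ∧ (∀ H : Subgroup ↥K, H.index ≠ 2) ∧
        (∀ P : Sylow 2 ↥K, ∃ m : ℕ, 1 ≤ m ∧
          Nonempty ((P : Subgroup ↥K) ≃* QuaternionGroup (2 ^ m)))) ∧
      (∀ Z₀ : Subgroup ↥(Subgroup.centralizer ({x₁} : Set G)),
        Z₀ ≤ ((Subgroup.center (R : Subgroup ↥(Subgroup.centralizer ({x₁} : Set G)))).map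
          (R : Subgroup ↥(Subgroup.centralizer ({x₁} : Set G))).subtype) →
        Cfsg.IsWeaklyClosed Z₀ (R : Subgroup ↥(Subgroup.centralizer ({x₁} : Set G)))) := by
  haveI : Fact (Nat.Prime 2) := ⟨Nat.prime_two⟩
  obtain ⟨n, x, y, z, h⟩ := exists_isWr hS
  obtain ⟨Q, hQT, ⟨eQ⟩⟩ := h.exists_Q8G
  obtain ⟨h₁, h₂⟩ := h.six_six_of_no_index_two hS hG Q hQT eQ
  -- all involutions are conjugate
  obtain ⟨g₁, hg₁N, hodd₁, hg₁C, -⟩ := h.exists_odd_UG h₁
  obtain ⟨g₂, hg₂N, hodd₂, c, d, hg₂⟩ := h.exists_odd_V Q hQT eQ h₂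
  have hzu : IsConj h.zG h.uG := h.isConj_zG_uG hg₁N hodd₁ hg₁C
  have hut : IsConj h.uG h.tG := h.isConj_uG_tG hg₂
  have hxz : IsConj h.zG x₁ := by
    rcases h.involution_conj hx with h1 | h1 | h1
    · exact h1.symm
    · exact hzu.trans h1.symm
    · exact (hzu.trans hut).trans h1.symm
  obtain ⟨g, hg⟩ := isConj_iff.mp hxz
  -- the conjugate Sylow subgroup
  have hS' : Cfsg.IsWreathed ↥((g • S : Sylow 2 G) : Subgroup G) :=
    isWreathed_of_mulEquiv (S.equivSMul g) hS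
  obtain ⟨n', x', y', z', h'⟩ := exists_isWr hS'
  have hmem : ∀ s' : G, s' ∈ ((g • S : Sylow 2 G) : Subgroup G) ↔
      ∃ s ∈ (S : Subgroup G), g * s * g⁻¹ = s' := by
    intro s'
    rw [Sylow.coe_subgroup_smul, Subgroup.mem_smul_pointwise_iff_exists]
    rfl
  have hzZ : h.zG ∈ h.ZG := (h.mem_ZG_iff _).mpr ⟨_, rfl⟩
  have hx₁ : x₁ = h'.zG := by
    apply h'.eq_zG_of_central _ hx
    · intro s' hs'
      obtain ⟨s, hs, rfl⟩ := (hmem s').mp hs'
      rw [← hg]
      have := h.conj_ZG hs hzZ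
      calc g * s * g⁻¹ * (g * h.zG * g⁻¹) = g * ((s * h.zG * s⁻¹) * s) * g⁻¹ := by group
        _ = g * (h.zG * s) * g⁻¹ := by rw [this]
        _ = g * h.zG * g⁻¹ * (g * s * g⁻¹) := by group
    · rw [hmem]
      exact ⟨h.zG, h.PG_mem _ _, hg⟩
  obtain ⟨Q', hQ'T, ⟨eQ'⟩⟩ := h'.exists_Q8G
  obtain ⟨-, h₂'⟩ := h'.six_six_of_no_index_two hS' hG Q' hQ'T eQ'
  obtain ⟨R, hRc, hR⟩ := h'.centralizer_zG_structure hS' Q' hQ'T eQ' h₂' x₁ hx₁
  refine ⟨R, ?_, hR⟩
  rw [hRc]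
  exact (Nat.card_congr (S.equivSMul g).toEquiv).symm

end IsWr

end Cfsg.Agent.Lib.Helper27
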