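import Mathlib
import Cfsg.Agent.Lib.Helper64.MinInv

set_option autoImplicit false

/-! A non-abelian minimal normal subgroup of even order of a finite group with a single class of
involutions is simple. -/

namespace Cfsg.Agent.Lib.Helper27

open Cfsg.Agent.Lib.Helper64

variable {Γ : Type*} [Group Γ]

theorem sq_eq_one_of_orderOf_two {t : Γ} (ht : orderOf t = 2) : t * t = 1 := by
  rw [← sq, ← ht]; exact pow_orderOf_eq_one t

theorem ne_one_of_orderOf_two {t : Γ} (ht : orderOf t = 2) : t ≠ 1 := by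
  rintro rfl
  rw [orderOf_one] at ht
  omega

theorem orderOf_two_of_sq {t : Γ} (h2 : t * t = 1) (h1 : t ≠ 1) : orderOf t = 2 := by
  apply orderOf_eq_prime
  · rw [sq]; exact h2
  · exact h1

/-- a minimal invariant subgroup of a minimal normal subgroup is simple
(copied from helper66's proof of S3680 so as not to depend on that file's internals) -/
theorem isSimpleGroup_of_minInv {Γ : Type*} [Group Γ] {V T : Subgroup Γ} (hVn : V.Normal)
    (hVmin : ∀ M : Subgroup Γ, M.Normal → M ≤ V → M = ⊥ ∨ M = V) (hT : IsMinInv V T) :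
    IsSimpleGroup T := by
  have : Nontrivial T := (Subgroup.nontrivial_iff_ne_bot T).2 hT.ne_bot
  refine ⟨fun H hH => ?_⟩
  have hinv : ∀ n ∈ V, ∀ x ∈ H.map T.subtype, n * x * n⁻¹ ∈ H.map T.subtype := by
    intro n hn x hx
    obtain ⟨t, ht, c, hc, rfl⟩ := exists_decomp hVn hVmin hT hn
    obtain ⟨y, hy, rfl⟩ := hx
    have hcy : c * (y : Γ) = (y : Γ) * c :=
      ((Subgroup.mem_centralizer_iff.1 hc.2) _ y.2).symm
    have e : t * c * (y : Γ) * (t * c)⁻¹ = t * (y : Γ) * t⁻¹ := by
      rw [mul_inv_rev, mul_assoc t c, hcy]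
      group
    change t * c * (y : Γ) * (t * c)⁻¹ ∈ H.map T.subtype
    rw [e]
    exact ⟨⟨t, ht⟩ * y * ⟨t, ht⟩⁻¹, hH.conj_mem y hy ⟨t, ht⟩, rfl⟩
  rcases hT.min _ (Subgroup.map_subtype_le H) hinv with h | h
  · left
    rw [eq_bot_iff]
    intro y hy
    have : (y : Γ) ∈ H.map T.subtype := ⟨y, hy, rfl⟩
    rw [h, Subgroup.mem_bot] at this
    exact Subgroup.mem_bot.2 (Subtype.ext this)
  · right
    rw [eq_top_iff]
    intro y _
    have : (y : Γ) ∈ H.map T.subtype := by rw [h]; exact y.2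
    obtain ⟨z, hz, hzy⟩ := this
    rwa [← Subtype.ext hzy]

/-- a non-abelian minimal normal subgroup containing an involution, in a group with a single
class of involutions, equals each of its minimal invariant subgroups -/
theorem minInv_eq_of_invol_conj [Finite Γ]
    (hconj : ∀ t t' : Γ, orderOf t = 2 → orderOf t' = 2 → IsConj t t')
    {N T : Subgroup Γ} (hN : N.Normal)
    (hmin : ∀ M : Subgroup Γ, M.Normal → M ≤ N → M = ⊥ ∨ M = N)
    (hNc : ¬ ∀ x ∈ N, ∀ y ∈ N, x * y = y * x)
    {n₀ : Γ} (hn₀ : n₀ ∈ N) (hn₀2 : orderOf n₀ = 2) (hT : IsMinInv N T) : T = N := by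
  have hTc : ∀ g : Γ, cj g T ⊓ Subgroup.centralizer ((cj g T : Subgroup Γ) : Set Γ) = ⊥ :=
    fun g => inf_centralizer_eq_bot hN hmin (hT.cj hN g) hNc
  -- some conjugate of `T` contains an involution
  have hex : ∃ g : Γ, ∃ t ∈ cj g T, orderOf t = 2 := by
    by_contra hcon
    -- then `n₀` centralizes every conjugate of `T`, hence `N`
    have hcent : ∀ g : Γ, n₀ ∈ Subgroup.centralizer ((cj g T : Subgroup Γ) : Set Γ) := by
      intro g
      obtain ⟨t, ht, c, hc, hn⟩ := exists_decomp hN hmin (hT.cj hN g) hn₀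
      have htc : t * c = c * t := ((Subgroup.mem_centralizer_iff.mp hc.2) t ht)
      have h1 : t * t * (c * c) = 1 := by
        have := sq_eq_one_of_orderOf_two hn₀2
        rw [hn] at this
        calc t * t * (c * c) = t * (t * c) * c := by group
          _ = t * (c * t) * c := by rw [htc]
          _ = t * c * (t * c) := by group
          _ = 1 := this
      have h2 : t * t ∈ cj g T ⊓ Subgroup.centralizer ((cj g T : Subgroup Γ) : Set Γ) := by
        refine ⟨Subgroup.mul_mem _ ht ht, ?_⟩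
        have : t * t = (c * c)⁻¹ := eq_inv_of_mul_eq_one_left h1
        rw [this]
        exact Subgroup.inv_mem _ (Subgroup.mul_mem _ hc.2 hc.2)
      rw [hTc g, Subgroup.mem_bot] at h2
      by_cases ht1 : t = 1
      · rw [hn, ht1, one_mul]; exact hc.2
      · exact absurd ⟨g, t, ht, orderOf_two_of_sq h2 ht1⟩ hcon
    have hcl : Subgroup.normalClosure (T : Set Γ) ≤
        Subgroup.centralizer ({n₀} : Set Γ) := by
      unfold Subgroup.normalClosure
      rw [Subgroup.closure_le]
      intro y hy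
      rw [Group.mem_conjugatesOfSet_iff] at hy
      obtain ⟨a, ha, hay⟩ := hy
      obtain ⟨g, rfl⟩ := isConj_iff.mp hay
      rw [SetLike.mem_coe, Subgroup.mem_centralizer_iff]
      intro w hw
      rw [Set.mem_singleton_iff] at hw
      subst hw
      exact ((Subgroup.mem_centralizer_iff.mp (hcent g)) _ (conj_mem_cj ha)).symm
    rw [normalClosure_eq_of_minimal hN hmin hT] at hcl
    -- `n₀` is central in `N`; the centre of `N` is trivial
    have hZn : (N ⊓ Subgroup.centralizer (N : Set Γ)).Normal := by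
      have := hN
      have : (Subgroup.centralizer (N : Set Γ)).Normal := Subgroup.normal_centralizer
      infer_instance
    rcases hmin _ hZn inf_le_left with h0 | h0
    · have : n₀ ∈ N ⊓ Subgroup.centralizer (N : Set Γ) := by
        rw [Subgroup.mem_inf]
        refine ⟨hn₀, ?_⟩
        rw [Subgroup.mem_centralizer_iff]
        intro w hw
        have := (Subgroup.mem_centralizer_iff.mp (hcl hw)) n₀ rfl
        exact this.symm
      rw [h0, Subgroup.mem_bot] at this
      exact ne_one_of_orderOf_two hn₀2 this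
    · apply hNc
      intro a ha b hb
      have : b ∈ N ⊓ Subgroup.centralizer (N : Set Γ) := by rw [h0]; exact hb
      exact ((Subgroup.mem_centralizer_iff.mp this.2) a ha)
  obtain ⟨g₀, t₀, ht₀, ht₀2⟩ := hex
  -- an involution of `T` itself
  have hl₁ : g₀⁻¹ * t₀ * g₀ ∈ T := mem_cj.mp ht₀
  have hl₁2 : orderOf (g₀⁻¹ * t₀ * g₀) = 2 := by
    have : g₀⁻¹ * t₀ * g₀ = MulAut.conj g₀⁻¹ t₀ := by simp [MulAut.conj_apply]
    rw [this, MulEquiv.orderOf_eq, ht₀2]
  set l₁ := g₀⁻¹ * t₀ * g₀ with hl₁def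
  by_contra hTN
  -- some conjugate of `T` differs from `T`
  have hex2 : ∃ g : Γ, cj g T ≠ T := by
    by_contra hcon
    have hall : ∀ g : Γ, cj g T = T := by
      intro g
      by_contra hg
      exact hcon ⟨g, hg⟩
    have hTn : T.Normal := by
      constructor
      intro a ha g
      have := conj_mem_cj (g := g) ha
      rwa [hall g] at this
    rcases hmin T hTn hT.le with h0 | h0
    · exact hT.ne_bot h0
    · exact hTN h0
  obtain ⟨g, hg⟩ := hex2
  have hT' := hT.cj hN g
  have hl₂ : g * l₁ * g⁻¹ ∈ cj g T := conj_mem_cj hl₁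
  set l₂ := g * l₁ * g⁻¹ with hl₂def
  have hl₂2 : orderOf l₂ = 2 := by
    have : l₂ = MulAut.conj g l₁ := rfl
    rw [this, MulEquiv.orderOf_eq, hl₁2]
  have hcomm : l₁ * l₂ = l₂ * l₁ := hT.commute_of_ne hT' (Ne.symm hg) hl₁ hl₂
  have hdisj : T ⊓ cj g T = ⊥ := (hT.eq_or_disjoint hT').resolve_left (Ne.symm hg)
  have hl₂T : l₂ ∉ T := by
    intro hc
    have : l₂ ∈ T ⊓ cj g T := ⟨hc, hl₂⟩
    rw [hdisj, Subgroup.mem_bot] at this
    exact ne_one_of_orderOf_two hl₂2 this
  have hprod2 : orderOf (l₁ * l₂) = 2 := by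
    apply orderOf_two_of_sq
    · calc l₁ * l₂ * (l₁ * l₂) = l₁ * (l₂ * l₁) * l₂ := by group
        _ = l₁ * (l₁ * l₂) * l₂ := by rw [hcomm]
        _ = (l₁ * l₁) * (l₂ * l₂) := by group
        _ = 1 := by rw [sq_eq_one_of_orderOf_two hl₁2, sq_eq_one_of_orderOf_two hl₂2, one_mul]
    · intro h1
      apply hl₂T
      have : l₂ = l₁⁻¹ := eq_inv_of_mul_eq_one_right h1
      rw [this]
      exact T.inv_mem hl₁
  obtain ⟨k, hk⟩ := isConj_iff.mp (hconj l₁ (l₁ * l₂) hl₁2 hprod2)
  have hT₃ := hT.cj hN k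
  have hmem₃ : l₁ * l₂ ∈ cj k T := by rw [← hk]; exact conj_mem_cj hl₁
  by_cases h3 : cj k T = T
  · rw [h3] at hmem₃
    apply hl₂T
    have : l₂ = l₁⁻¹ * (l₁ * l₂) := by group
    rw [this]
    exact T.mul_mem (T.inv_mem hl₁) hmem₃
  · -- `l₁` is central in `T`
    have hcen : l₁ ∈ T ⊓ Subgroup.centralizer (T : Set Γ) := by
      rw [Subgroup.mem_inf]
      refine ⟨hl₁, ?_⟩
      rw [Subgroup.mem_centralizer_iff]
      intro a ha
      have e1 : a * (l₁ * l₂) = (l₁ * l₂) * a := hT.commute_of_ne hT₃ (Ne.symm h3) ha hmem₃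
      have e2 : a * l₂ = l₂ * a := hT.commute_of_ne hT' (Ne.symm hg) ha hl₂
      have e3 : a * l₁ * l₂ = l₁ * a * l₂ := by
        calc a * l₁ * l₂ = a * (l₁ * l₂) := by group
          _ = (l₁ * l₂) * a := e1
          _ = l₁ * (l₂ * a) := by group
          _ = l₁ * (a * l₂) := by rw [e2]
          _ = l₁ * a * l₂ := by group
      exact mul_right_cancel e3
    have h0 := inf_centralizer_eq_bot hN hmin hT hNc
    rw [h0, Subgroup.mem_bot] at hcen
    exact ne_one_of_orderOf_two hl₁2 hcen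

/-- a non-abelian minimal normal subgroup containing an involution, in a group with a single
class of involutions, is simple -/
theorem minNormal_simple_of_invol_conj [Finite Γ]
    (hconj : ∀ t t' : Γ, orderOf t = 2 → orderOf t' = 2 → IsConj t t')
    {N : Subgroup Γ} (hN : N.Normal) (hN1 : N ≠ ⊥)
    (hmin : ∀ M : Subgroup Γ, M.Normal → M ≤ N → M = ⊥ ∨ M = N)
    (hNc : ¬ ∀ x ∈ N, ∀ y ∈ N, x * y = y * x)
    {n₀ : Γ} (hn₀ : n₀ ∈ N) (hn₀2 : orderOf n₀ = 2) : IsSimpleGroup N := by
  obtain ⟨T, hT⟩ := exists_isMinInv N hN1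
  have hTN := minInv_eq_of_invol_conj hconj hN hmin hNc hn₀ hn₀2 hT
  have := isSimpleGroup_of_minInv hN hmin hT
  rw [hTN] at this
  exact this

end Cfsg.Agent.Lib.Helper27
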