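import Mathlib
import Cfsg.Prelude.Def_CaseTheorems
import Cfsg.Agent.Lib.Helper27.SimpleSocle
import Cfsg.Agent.Lib.Helper27.S1213Wr
import Cfsg.Agent.Lib.Helper81.PSolvable
import Cfsg.Agent.Lib.Helper20.SylowNormal

set_option autoImplicit false

/-! A finite group with a single class of involutions, two non-commuting involutions in a Sylow
2-subgroup `S`, `S` cyclic modulo its involutions, and no subgroup of index two: `G/O(G)` has a
non-abelian simple normal subgroup of odd index. -/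

namespace Cfsg.Agent.Lib.Helper27

open Cfsg Cfsg.Agent.Lib.Helper64

section

variable {G : Type*} [Group G] [Finite G]

theorem odd_card_oddCore : Odd (Nat.card (Cfsg.oddCore G)) :=
  Nat.coprime_two_right.mp (Cfsg.Agent.Lib.Helper81.card_pPrimeCore_coprime (G := G) 2)

theorem sylow_inf_oddCore (S : Sylow 2 G) : (S : Subgroup G) ⊓ Cfsg.oddCore G = ⊥ := by
  haveI : Fact (Nat.Prime 2) := ⟨Nat.prime_two⟩
  apply Subgroup.inf_eq_bot_of_coprime
  obtain ⟨m, hm⟩ := IsPGroup.iff_card.mp S.2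
  rw [hm]
  exact Nat.Coprime.pow_left m (Nat.coprime_two_left.mpr odd_card_oddCore)

theorem orderOf_two_not_mem_oddCore {t : G} (ht : orderOf t = 2) : t ∉ Cfsg.oddCore G := by
  intro hmem
  have h1 := Subgroup.orderOf_dvd_natCard (Cfsg.oddCore G) hmem
  rw [ht] at h1
  have := odd_card_oddCore (G := G)
  rw [← Nat.not_even_iff_odd, even_iff_two_dvd] at this
  exact this h1

theorem orderOf_mk_of_orderOf_two {t : G} (ht : orderOf t = 2) :
    orderOf (QuotientGroup.mk' (Cfsg.oddCore G) t) = 2 := by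
  apply orderOf_two_of_sq
  · rw [← map_mul, sq_eq_one_of_orderOf_two ht, map_one]
  · intro h1
    have : t ∈ (QuotientGroup.mk' (Cfsg.oddCore G)).ker := h1
    rw [QuotientGroup.ker_mk'] at this
    exact orderOf_two_not_mem_oddCore ht this

/-- involutions of `G/O(G)` lift to involutions of `G` -/
theorem exists_lift_orderOf_two {q : G ⧸ Cfsg.oddCore G} (hq : orderOf q = 2) :
    ∃ t : G, orderOf t = 2 ∧ QuotientGroup.mk' (Cfsg.oddCore G) t = q := by
  obtain ⟨g, rfl⟩ := QuotientGroup.mk'_surjective (Cfsg.oddCore G) q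
  set π := QuotientGroup.mk' (Cfsg.oddCore G) with hπ
  have hg2 : g * g ∈ Cfsg.oddCore G := by
    rw [← QuotientGroup.ker_mk' (Cfsg.oddCore G), MonoidHom.mem_ker, map_mul]
    exact sq_eq_one_of_orderOf_two hq
  have hodd : Odd (orderOf (g * g)) := by
    have h1 := Subgroup.orderOf_dvd_natCard (Cfsg.oddCore G) hg2
    exact Odd.of_dvd_nat odd_card_oddCore h1
  obtain ⟨m, hm⟩ := hodd
  -- `t = g ^ (2 m + 1)`
  refine ⟨g ^ (2 * m + 1), ?_, ?_⟩
  · apply orderOf_two_of_sq
    · rw [← pow_add]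
      have : (g * g) ^ (2 * m + 1) = 1 := by rw [← hm]; exact pow_orderOf_eq_one _
      rw [← sq, ← pow_mul] at this
      rw [← this]; congr 1; ring
    · intro h1
      have h2 : (π g) ^ (2 * m + 1) = 1 := by rw [← map_pow, h1, map_one]
      have h3 : (π g) ^ (2 * m + 1) = π g := by
        rw [pow_succ, pow_mul, sq, sq_eq_one_of_orderOf_two hq, one_pow, one_mul]
      rw [h3] at h2
      exact ne_one_of_orderOf_two hq h2
  · rw [map_pow, pow_succ, pow_mul, sq, sq_eq_one_of_orderOf_two hq, one_pow, one_mul]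

/-- the main generic theorem -/
theorem exists_simple_normal_odd_index (S : Sylow 2 G)
    (hconj : ∀ t t' : G, orderOf t = 2 → orderOf t' = 2 → IsConj t t')
    (u v : G) (hu : u ∈ (S : Subgroup G)) (hv : v ∈ (S : Subgroup G))
    (hu2 : orderOf u = 2) (hv2 : orderOf v = 2) (huv : u * v ≠ v * u)
    (t₀ : G)
    (hgen : ∀ M : Subgroup G, (∀ t ∈ (S : Subgroup G), orderOf t = 2 → t ∈ M) →
      (S : Subgroup G) ≤ M ⊔ Subgroup.zpowers t₀)
    (hG : ∀ H : Subgroup G, H.index ≠ 2) :
    ∃ L : Subgroup (G ⧸ Cfsg.oddCore G), L.Normal ∧ Odd L.index ∧ IsSimpleGroup L ∧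
      ¬ IsMulCommutative L := by
  haveI : Fact (Nat.Prime 2) := ⟨Nat.prime_two⟩
  set π := QuotientGroup.mk' (Cfsg.oddCore G) with hπ
  have hπs : Function.Surjective π := QuotientGroup.mk'_surjective _
  -- all involutions of the quotient are conjugate
  have hconj' : ∀ q q' : G ⧸ Cfsg.oddCore G, orderOf q = 2 → orderOf q' = 2 → IsConj q q' := by
    intro q q' hq hq'
    obtain ⟨t, ht, rfl⟩ := exists_lift_orderOf_two hq
    obtain ⟨t', ht', rfl⟩ := exists_lift_orderOf_two hq'
    obtain ⟨c, hc⟩ := isConj_iff.mp (hconj t t' ht ht')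
    rw [isConj_iff]
    refine ⟨π c, ?_⟩
    show π c * π t * (π c)⁻¹ = π t'
    rw [← map_inv, ← map_mul, ← map_mul, hc]
  haveI : Nontrivial (G ⧸ Cfsg.oddCore G) :=
    ⟨⟨π u, 1, ne_one_of_orderOf_two (orderOf_mk_of_orderOf_two hu2)⟩⟩
  obtain ⟨N, hNn, hN1, hmin⟩ := exists_minimal_normal (G := G ⧸ Cfsg.oddCore G)
  -- `N` has even order
  have heven : 2 ∣ Nat.card N := by
    by_contra hodd
    apply hN1
    have h1 := Cfsg.Agent.Lib.Helper81.le_pPrimeCore (p := 2) hNn
      ((Nat.Prime.coprime_iff_not_dvd Nat.prime_two).mpr hodd).symm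
    have h2 := Cfsg.Agent.Lib.Helper81.pPrimeCore_quotient_eq_bot (G := G) 2
    rw [h2] at h1
    exact le_bot_iff.mp h1
  obtain ⟨n₀', hn₀'⟩ := exists_prime_orderOf_dvd_card' (G := N) 2 heven
  have hn₀2 : orderOf (n₀' : G ⧸ Cfsg.oddCore G) = 2 := by rw [Subgroup.orderOf_coe]; exact hn₀'
  -- all involutions of the quotient lie in `N`
  have hinvN : ∀ q : G ⧸ Cfsg.oddCore G, orderOf q = 2 → q ∈ N := by
    intro q hq
    obtain ⟨c, hc⟩ := isConj_iff.mp (hconj' _ q hn₀2 hq)
    rw [← hc]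
    exact hNn.conj_mem _ n₀'.2 c
  -- `N` is not abelian
  have hNc : ¬ ∀ a ∈ N, ∀ b ∈ N, a * b = b * a := by
    intro hcomm
    have h1 : π u * π v = π v * π u := hcomm _ (hinvN _ (orderOf_mk_of_orderOf_two hu2)) _
      (hinvN _ (orderOf_mk_of_orderOf_two hv2))
    have h2 : u * v * u⁻¹ * v⁻¹ ∈ Cfsg.oddCore G := by
      rw [← QuotientGroup.ker_mk' (Cfsg.oddCore G), MonoidHom.mem_ker]
      show π (u * v * u⁻¹ * v⁻¹) = 1
      rw [map_mul, map_mul, map_mul, map_inv, map_inv, h1]
      group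
    have h3 : u * v * u⁻¹ * v⁻¹ ∈ (S : Subgroup G) :=
      Subgroup.mul_mem _ (Subgroup.mul_mem _ (Subgroup.mul_mem _ hu hv) (Subgroup.inv_mem _ hu))
        (Subgroup.inv_mem _ hv)
    have h4 : u * v * u⁻¹ * v⁻¹ ∈ (S : Subgroup G) ⊓ Cfsg.oddCore G := ⟨h3, h2⟩
    rw [sylow_inf_oddCore, Subgroup.mem_bot] at h4
    apply huv
    calc u * v = (u * v * u⁻¹ * v⁻¹) * (v * u) := by group
      _ = v * u := by rw [h4, one_mul]
  have hsimple : IsSimpleGroup N :=
    minNormal_simple_of_invol_conj hconj' hNn hN1 hmin hNc n₀'.2 hn₀2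
  refine ⟨N, hNn, ?_, hsimple, ?_⟩
  · -- odd index
    haveI := hNn
    set M := N.comap π with hM
    have hMidx : M.index = N.index := Subgroup.index_comap_of_surjective N hπs
    have hMinv : ∀ t ∈ (S : Subgroup G), orderOf t = 2 → t ∈ M := by
      intro t _ ht2
      rw [hM, Subgroup.mem_comap]
      exact hinvN _ (orderOf_mk_of_orderOf_two ht2)
    have hSM := hgen M hMinv
    rw [← hMidx]
    by_contra hnodd
    have h2idx : 2 ∣ M.index := by
      rw [← even_iff_two_dvd, ← Nat.not_odd_iff_even]; exact hnodd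
    set ρ := QuotientGroup.mk' M with hρ
    have hρs : Function.Surjective ρ := QuotientGroup.mk'_surjective _
    set Pbar := (S : Subgroup G).map ρ with hPbar
    have hPle : Pbar ≤ Subgroup.zpowers (ρ t₀) := by
      have h1 : Pbar ≤ (M ⊔ Subgroup.zpowers t₀).map ρ := Subgroup.map_mono hSM
      rw [Subgroup.map_sup, MonoidHom.map_zpowers, hρ, QuotientGroup.map_mk'_self,
        bot_sup_eq] at h1
      exact h1
    have hcyc : IsCyclic Pbar := Subgroup.isCyclic_of_le hPle
    have hPp : IsPGroup 2 Pbar := S.2.map ρ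
    have hPidx : ¬ 2 ∣ Pbar.index := fun hd =>
      S.not_dvd_index (hd.trans (Subgroup.index_map_dvd _ hρs))
    have hcardQ : 2 ∣ Nat.card (G ⧸ M) := by rw [← Subgroup.index_eq_card]; exact h2idx
    obtain ⟨K, hKn, hKodd, hKsup, -⟩ :=
      Cfsg.Agent.Lib.Helper20.exists_normal_two_complement Pbar hcyc hPp hPidx hcardQ
    haveI := hKn
    have hKidx : ∃ j : ℕ, 1 ≤ j ∧ K.index = 2 ^ j := by
      have h1 : K.index = (K ⊓ Pbar).relIndex Pbar := by
        calc K.index = K.relIndex ⊤ := (Subgroup.relIndex_top_right K).symm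
          _ = K.relIndex (K ⊔ Pbar) := by rw [hKsup]
          _ = K.relIndex Pbar := Subgroup.relIndex_sup_left Pbar K
          _ = (K ⊓ Pbar).relIndex Pbar := (Subgroup.inf_relIndex_right K Pbar).symm
      obtain ⟨m, hm⟩ := IsPGroup.iff_card.mp hPp
      have h2 : K.index ∣ 2 ^ m := by
        rw [h1, ← hm]
        exact Subgroup.relIndex_dvd_card _ _
      obtain ⟨j, -, hj⟩ := (Nat.dvd_prime_pow Nat.prime_two).mp h2
      refine ⟨j, ?_, hj⟩
      by_contra hj0
      have : j = 0 := by omega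
      rw [this, pow_zero] at hj
      have h3 := K.card_mul_index
      rw [hj, mul_one] at h3
      rw [← h3] at hcardQ
      rw [← Nat.not_even_iff_odd, even_iff_two_dvd] at hKodd
      exact hKodd hcardQ
    obtain ⟨j, hj1, hj⟩ := hKidx
    obtain ⟨H, hH⟩ := exists_index_two_of_normal_index_pow hj1 hj
    apply hG (H.comap ρ)
    rw [Subgroup.index_comap_of_surjective H hρs, hH]
  · intro hcomm
    apply hNc
    intro a ha b hb
    have := hcomm.is_comm.comm (⟨a, ha⟩ : N) ⟨b, hb⟩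
    exact congrArg Subtype.val this

end

end Cfsg.Agent.Lib.Helper27
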