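import Mathlib
import Cfsg.Agent.Lib.Helper27.FusGenGroup
import Cfsg.Agent.Lib.Helper27.FusGenJ
import Cfsg.Agent.Lib.Helper16.ZJ

/-!
# Pushing up: a Sylow `p`-subgroup in a unique maximal subgroup

If `C_G(O_p(G)) ≤ O_p(G)` and the Sylow `p`-subgroup `S` lies in a unique maximal subgroup, then
`℧¹(Z(S))` or `C_S(Z(J(S)))` is normal in `G`.
-/

set_option autoImplicit false

namespace Cfsg.Agent.Lib.Helper27.PushUp

open Cfsg Cfsg.Agent.Lib.Helper27.FusGen

variable {G : Type*} [Group G] [Finite G] {p : ℕ} [Fact p.Prime]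

/-- a subgroup containing `S` is everything or lies in the unique maximal overgroup `M` of `S` -/
theorem eq_top_or_le_of_unique (S M : Subgroup G) (hM : IsCoatom M)
    (huniq : ∀ M' : Subgroup G, IsCoatom M' ∧ S ≤ M' → M' = M) (H : Subgroup G) (hSH : S ≤ H) :
    H = ⊤ ∨ H ≤ M := by
  rcases eq_top_or_exists_le_coatom H with h | ⟨M', hM', hHM'⟩
  · exact Or.inl h
  · right
    rw [← huniq M' ⟨hM', hSH.trans hHM'⟩]
    exact hHM'

/-- Frattini: a normal subgroup inside `M` meets `S` in a normal subgroup of `G`. -/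
theorem inf_normal_of_le (S : Sylow p G) (M : Subgroup G) (hM : IsCoatom M)
    (huniq : ∀ M' : Subgroup G, IsCoatom M' ∧ (S : Subgroup G) ≤ M' → M' = M)
    (N : Subgroup G) [hN : N.Normal] (hNM : N ≤ M) : ((S : Subgroup G) ⊓ N).Normal := by
  have hSle : (S : Subgroup G) ≤ Subgroup.normalizer (((S : Subgroup G) ⊓ N : Subgroup G) : Set G) := by
    intro s hs
    rw [Subgroup.mem_normalizer_iff]
    intro h
    constructor
    · rintro ⟨h1, h2⟩
      exact ⟨Subgroup.mul_mem _ (Subgroup.mul_mem _ hs h1) (Subgroup.inv_mem _ hs), hN.conj_mem h h2 s⟩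
    · rintro ⟨h1, h2⟩
      refine ⟨?_, ?_⟩
      · have h3 := (S : Subgroup G).mul_mem ((S : Subgroup G).mul_mem ((S : Subgroup G).inv_mem hs) h1) hs
        have e : s⁻¹ * (s * h * s⁻¹) * s = h := by group
        rw [e] at h3
        exact h3
      · have h3 := hN.conj_mem _ h2 s⁻¹
        have e : s⁻¹ * (s * h * s⁻¹) * s⁻¹⁻¹ = h := by group
        rw [e] at h3
        exact h3
  rcases eq_top_or_le_of_unique (S : Subgroup G) M hM huniq _ hSle with h | h
  · exact Subgroup.normalizer_eq_top_iff.mp h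
  · exfalso
    apply hM.1
    rw [eq_top_iff]
    intro g _
    obtain ⟨a, ha, c, hc, rfl⟩ := Cfsg.Agent.Lib.Helper16.ZJ.frattini_inf_normal S N g
    exact M.mul_mem (h ha) (hNM hc)

/-- **Pushing up, the case of `℧¹(Z(S))`.** -/
theorem agemo_or_centralizer_normal (S : Sylow p G)
    (hcon : Subgroup.centralizer (Cfsg.pCore p G : Set G) ≤ Cfsg.pCore p G)
    (hE₂ : ∃! M : Subgroup G, IsCoatom M ∧ (S : Subgroup G) ≤ M) :
    (Cfsg.powerClosure p 1 ((S : Subgroup G) ⊓ Subgroup.centralizer ((S : Subgroup G) : Set G))).Normal ∨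
      (((S : Subgroup G) ⊓ Subgroup.centralizer (Cfsg.centerThompsonAOf (S : Subgroup G) : Set G))).Normal := by
  classical
  obtain ⟨M, ⟨hMco, hSM⟩, hMuniq⟩ := hE₂
  have huniq : ∀ M' : Subgroup G, IsCoatom M' ∧ (S : Subgroup G) ≤ M' → M' = M := fun M' h => hMuniq M' h
  obtain ⟨N, hNn, hNV, hor⟩ := gt_loc S hcon
  have hSp : IsPGroup p (S : Subgroup G) := S.2
  -- `S` centralizes `V`
  have hSV : (S : Subgroup G) ≤ Subgroup.centralizer ((VZ p (S : Subgroup G) : Subgroup G) : Set G) := by
    intro s hs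
    rw [Subgroup.mem_centralizer_iff]
    intro v hv
    have hvz := VZ_le_center p (S : Subgroup G) hv
    exact (Subgroup.mem_centralizer_iff.mp hvz.2 s hs).symm
  -- if `V` is central it is normal
  have hcentral : ∀ D : Subgroup G, D ≤ Subgroup.centralizer ((VZ p (S : Subgroup G) : Subgroup G) : Set G) →
      D ⊔ (S : Subgroup G) = ⊤ → (VZ p (S : Subgroup G)).Normal := by
    intro D hD htop
    have hall : (⊤ : Subgroup G) ≤ Subgroup.centralizer ((VZ p (S : Subgroup G) : Subgroup G) : Set G) := by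
      rw [← htop]; exact sup_le hD hSV
    constructor
    intro v hv g
    have := Subgroup.mem_centralizer_iff.mp (hall (Subgroup.mem_top g)) v hv
    have e : g * v * g⁻¹ = v := by rw [← this]; group
    rw [e]; exact hv
  by_cases hNM : N ≤ M
  · have hP₁n : ((S : Subgroup G) ⊓ N).Normal := inf_normal_of_le S M hMco huniq N hNM
    have hP₁p : IsPGroup p ((S : Subgroup G) ⊓ N : Subgroup G) := hSp.to_le inf_le_left
    have hP₁Q : (S : Subgroup G) ⊓ N ≤ Cfsg.pCore p G := Cfsg.Agent.Lib.Helper16.ZJ.le_pCore hP₁n hP₁p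
    have hJN : thompsonSubgroupAOf (S : Subgroup G) ≤ N := by
      rcases hor with h | h
      · exact h
      · exact absurd hP₁Q h
    have hJS : thompsonSubgroupAOf (S : Subgroup G) ≤ (S : Subgroup G) :=
      Cfsg.Agent.Lib.Helper53.thompsonAOf_le _
    have hJP₁ : thompsonSubgroupAOf (S : Subgroup G) ≤ (S : Subgroup G) ⊓ N := le_inf hJS hJN
    have hJeq : thompsonSubgroupAOf ((S : Subgroup G) ⊓ N) = thompsonSubgroupAOf (S : Subgroup G) :=
      thompsonAOf_eq_of_le hJP₁ inf_le_left
    have hJn : (thompsonSubgroupAOf (S : Subgroup G)).Normal := by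
      rw [← hJeq]
      apply Subgroup.normalizer_eq_top_iff.mp
      rw [eq_top_iff]
      have h1 := normalizer_le_normalizer_thompsonAOf ((S : Subgroup G) ⊓ N) hP₁p
      rw [Subgroup.normalizer_eq_top_iff.mpr hP₁n] at h1
      exact h1
    have hZJn : (Cfsg.centerThompsonAOf (S : Subgroup G)).Normal := by
      unfold Cfsg.centerThompsonAOf
      haveI := hJn
      exact inferInstance
    haveI := hZJn
    have hDn : (Subgroup.centralizer (Cfsg.centerThompsonAOf (S : Subgroup G) : Set G)).Normal :=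
      Subgroup.normal_centralizer
    by_cases hDM : Subgroup.centralizer (Cfsg.centerThompsonAOf (S : Subgroup G) : Set G) ≤ M
    · right
      exact inf_normal_of_le S M hMco huniq _ hDM
    · left
      have hDS : Subgroup.centralizer (Cfsg.centerThompsonAOf (S : Subgroup G) : Set G) ⊔ (S : Subgroup G) = ⊤ := by
        rcases eq_top_or_le_of_unique (S : Subgroup G) M hMco huniq _ le_sup_right with h | h
        · exact h
        · exact absurd (le_sup_left.trans h) hDM
      apply hcentral _ _ hDS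
      apply Subgroup.centralizer_le
      intro v hv
      have hvz := VZ_le_center p (S : Subgroup G) hv
      have h1 : v ∈ thompsonSubgroupAOf (S : Subgroup G) := center_le_thompsonAOf (S : Subgroup G) hvz
      have h2 : v ∈ Subgroup.centralizer (thompsonSubgroupAOf (S : Subgroup G) : Set G) :=
        Subgroup.centralizer_le (by exact_mod_cast hJS) hvz.2
      exact ⟨h1, h2⟩
  · left
    have hNS : N ⊔ (S : Subgroup G) = ⊤ := by
      rcases eq_top_or_le_of_unique (S : Subgroup G) M hMco huniq _ le_sup_right with h | h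
      · exact h
      · exact absurd (le_sup_left.trans h) hNM
    exact hcentral N hNV hNS

end Cfsg.Agent.Lib.Helper27.PushUp
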