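import Mathlib
import Cfsg.Agent.Lib.Helper49.RSU3Defs

set_option autoImplicit false
set_option linter.unusedSectionVars false
set_option linter.unusedVariables false

/-!
# K-RSU3 leaf L15 (S2283): `F_p[μ³] = F` for `μ` of order `q + 1` in a field with `q²` elements, `q ≥ 3`, `q ≠ 5, 8`
-/

namespace Cfsg.Agent.Lib.Helper27.RSU3

variable {F : Type*} [Field F] [Fintype F] {q : ℕ}

/-- the arithmetic core: `r ^ m = q ^ 2`, `o * g = q + 1`, `g ∣ 3`, `o ∣ r - 1` force `m = 1` -/
theorem l15_arith (hq : 3 ≤ q) (hq5 : q ≠ 5) (hq8 : q ≠ 8) (r m o g : ℕ) (hr : 2 ≤ r) (hm : 0 < m)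
    (hcard : q ^ 2 = r ^ m) (hog : o * g = q + 1) (hg : g = 1 ∨ g = 3) (ho : o ∣ r - 1) : m = 1 := by
  by_contra hne1
  have hm2 : 2 ≤ m := by omega
  have ho_le : o ≤ r - 1 := Nat.le_of_dvd (by omega) ho
  have hq3r : q + 4 ≤ 3 * r := by
    rcases hg with h | h
    · rw [h, mul_one] at hog
      omega
    · rw [h] at hog
      omega
  by_cases hm3 : 3 ≤ m
  · -- `r ^ 3 ≤ q ^ 2`
    have h3 : r ^ 3 ≤ r ^ m := Nat.pow_le_pow_right (by omega) hm3
    have h4 : r * r * r ≤ q * q := by
      have e1 : r ^ 3 = r * r * r := by ring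
      have e2 : q ^ 2 = q * q := by ring
      omega
    by_cases hr9 : 9 ≤ r
    · have h1 : q < 3 * r := by omega
      have h2 : q * q < (3 * r) * (3 * r) := Nat.mul_self_lt_mul_self h1
      have h5 : (3 * r) * (3 * r) ≤ r * r * r := by nlinarith
      omega
    · have hr8 : r ≤ 8 := by omega
      interval_cases r
      · omega
      · have : q ≤ 5 := by omega
        nlinarith
      · have h8 : q ≤ 8 := by omega
        have : 8 ≤ q := by nlinarith
        omega
      · have : q ≤ 11 := by omega
        nlinarith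
      · have : q ≤ 14 := by omega
        nlinarith
      · have : q ≤ 17 := by omega
        nlinarith
      · have : q ≤ 20 := by omega
        nlinarith
  · have hm_eq : m = 2 := by omega
    rw [hm_eq] at hcard
    have hrq : q = r := Nat.pow_left_injective (by norm_num : (2 : ℕ) ≠ 0) hcard
    subst hrq
    have ho2 : o ∣ q + 1 := ⟨g, hog.symm⟩
    have ho3 : o ∣ 2 := by
      have : q + 1 = (q - 1) + 2 := by omega
      rw [this] at ho2
      exact (Nat.dvd_add_right ho).mp ho2
    have ho_le2 : o ≤ 2 := Nat.le_of_dvd (by norm_num) ho3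
    have hq_le : q ≤ 5 := by
      rcases hg with h | h
      · rw [h, mul_one] at hog; omega
      · rw [h] at hog; omega
    interval_cases q
    · -- q = 3
      rcases hg with h | h
      · rw [h, mul_one] at hog; omega
      · rw [h] at hog; omega
    · -- q = 4
      rcases hg with h | h
      · rw [h, mul_one] at hog; omega
      · rw [h] at hog; omega
    · exact hq5 rfl

theorem span_generic (hq : 3 ≤ q) (hq5 : q ≠ 5) (hq8 : q ≠ 8) (hF : Fintype.card F = q ^ 2)
    (μ : F) (hμ : orderOf μ = q + 1) (S : Set F) (h1 : (1 : F) ∈ S)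
    (hadd : ∀ a ∈ S, ∀ b ∈ S, a + b ∈ S) (hmul : ∀ a ∈ S, μ ^ 3 * a ∈ S) : ∀ c : F, c ∈ S := by
  classical
  have hN : 9 ≤ Fintype.card F := by
    rw [hF]
    nlinarith
  -- `S` is closed under multiplication by positive naturals
  have hnat : ∀ n : ℕ, ∀ a ∈ S, ((n + 1 : ℕ) : F) * a ∈ S := by
    intro n
    induction n with
    | zero =>
      intro a ha
      simpa using ha
    | succ n ih =>
      intro a ha
      have : ((n + 1 + 1 : ℕ) : F) * a = ((n + 1 : ℕ) : F) * a + a := by
        push_cast
        ring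
      rw [this]
      exact hadd _ (ih a ha) _ ha
  have hcast0 : ((Fintype.card F : ℕ) : F) = 0 := FiniteField.cast_card_eq_zero F
  have hzero : (0 : F) ∈ S := by
    have h := hnat (Fintype.card F - 1) 1 h1
    have e : Fintype.card F - 1 + 1 = Fintype.card F := by omega
    rw [e, hcast0, zero_mul] at h
    exact h
  have hneg : ∀ a ∈ S, -a ∈ S := by
    intro a ha
    have h := hnat (Fintype.card F - 2) a ha
    have e : Fintype.card F - 2 + 1 = Fintype.card F - 1 := by omega
    have e2 : ((Fintype.card F - 1 : ℕ) : F) = -1 := by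
      rw [Nat.cast_sub (by omega), hcast0]
      simp
    rw [e, e2, neg_one_mul] at h
    exact h
  -- the stabiliser subring
  let T : Subring F :=
    { carrier := {x | ∀ s ∈ S, x * s ∈ S}
      mul_mem' := by
        intro a b ha hb s hs
        have := ha _ (hb s hs)
        rwa [mul_assoc]
      one_mem' := by
        intro s hs
        rwa [one_mul]
      add_mem' := by
        intro a b ha hb s hs
        rw [add_mul]
        exact hadd _ (ha s hs) _ (hb s hs)
      zero_mem' := by
        intro s hs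
        rw [zero_mul]
        exact hzero
      neg_mem' := by
        intro a ha s hs
        rw [neg_mul]
        exact hneg _ (ha s hs) }
  have hTmem : ∀ x : F, x ∈ T ↔ ∀ s ∈ S, x * s ∈ S := fun x => Iff.rfl
  have hpowinv : ∀ x : F, x ∈ T → x⁻¹ ∈ T := by
    intro x hx
    by_cases hx0 : x = 0
    · rw [hx0, inv_zero]; exact T.zero_mem
    · have h1' : x ^ (Fintype.card F - 1) = 1 := FiniteField.pow_card_sub_one_eq_one x hx0
      have h2 : x⁻¹ = x ^ (Fintype.card F - 2) := by
        have h3 : x ^ (Fintype.card F - 1) = x ^ (Fintype.card F - 2) * x := by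
          rw [← pow_succ]
          congr 1
          omega
        rw [h3] at h1'
        exact (eq_inv_of_mul_eq_one_left h1').symm
      rw [h2]
      exact T.pow_mem hx _
  let K : Subfield F := { T with inv_mem' := hpowinv }
  have hKT : ∀ x : F, x ∈ K ↔ x ∈ T := fun x => Iff.rfl
  have hμ3 : μ ^ 3 ∈ K := (hKT _).2 ((hTmem _).2 hmul)
  have hμ0 : μ ≠ 0 := by
    intro h
    rw [h, orderOf_zero] at hμ
    · omega
  -- r = card K
  set r := Fintype.card K with hr
  have hr2 : 2 ≤ r := Fintype.one_lt_card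
  have hμ3K : (⟨μ ^ 3, hμ3⟩ : K) ≠ 0 := by
    intro h
    have := congrArg Subtype.val h
    simp only [ZeroMemClass.coe_zero] at this
    exact pow_ne_zero 3 hμ0 this
  have hpowK : (⟨μ ^ 3, hμ3⟩ : K) ^ (r - 1) = 1 := FiniteField.pow_card_sub_one_eq_one _ hμ3K
  have hpowF : (μ ^ 3) ^ (r - 1) = 1 := by
    have := congrArg Subtype.val hpowK
    simpa using this
  have ho : orderOf (μ ^ 3) ∣ r - 1 := orderOf_dvd_of_pow_eq_one hpowF
  have hord : orderOf (μ ^ 3) = (q + 1) / Nat.gcd (q + 1) 3 := by
    rw [orderOf_pow' μ (by norm_num : (3 : ℕ) ≠ 0), hμ]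
  have hgdvd : Nat.gcd (q + 1) 3 ∣ 3 := Nat.gcd_dvd_right _ _
  have hg : Nat.gcd (q + 1) 3 = 1 ∨ Nat.gcd (q + 1) 3 = 3 := by
    have := (Nat.dvd_prime Nat.prime_three).1 hgdvd
    exact this
  have hog : orderOf (μ ^ 3) * Nat.gcd (q + 1) 3 = q + 1 := by
    rw [hord]
    exact Nat.div_mul_cancel (Nat.gcd_dvd_left _ _)
  have hcard : Fintype.card F = r ^ Module.finrank K F := Module.card_eq_pow_finrank
  have hepos : 0 < Module.finrank K F := Module.finrank_pos
  have he1 : Module.finrank K F = 1 :=
    l15_arith hq hq5 hq8 r (Module.finrank K F) (orderOf (μ ^ 3)) (Nat.gcd (q + 1) 3) hr2 hepos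
      (by rw [← hF, hcard]) hog hg ho
  have hcardeq : Fintype.card K = Fintype.card F := by
    rw [hcard, he1, pow_one]
  have hsurj : Function.Surjective (Subtype.val : K → F) := by
    have hbij : Function.Bijective (Subtype.val : K → F) :=
      (Fintype.bijective_iff_injective_and_card _).2 ⟨Subtype.val_injective, hcardeq⟩
    exact hbij.2
  intro c
  obtain ⟨⟨k, hk⟩, hkk⟩ := hsurj c
  have hk' : c ∈ T := by
    have : k = c := hkk
    rw [← this]; exact (hKT _).1 hk
  have := (hTmem _).1 hk' 1 h1
  rwa [mul_one] at this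

end Cfsg.Agent.Lib.Helper27.RSU3
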