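import Mathlib

set_option autoImplicit false
set_option linter.unusedSectionVars false
set_option linter.unusedVariables false

/-!
# The stabiliser subfield of an additively closed subset of a finite field containing `1`
-/

namespace Cfsg.Agent.Lib.Helper27.RSU3

variable {F : Type*} [Field F] [Fintype F]

/-- `{x | x S ⊆ S}` is a subfield `K` (for `1 ∈ S`, `S + S ⊆ S`, `F` finite), and `K ⊆ S` -/
theorem exists_stab_subfield (S : Set F) (h1 : (1 : F) ∈ S)
    (hadd : ∀ a ∈ S, ∀ b ∈ S, a + b ∈ S) :
    ∃ K : Subfield F, (∀ x : F, x ∈ K ↔ ∀ s ∈ S, x * s ∈ S) ∧ ∀ x : F, x ∈ K → x ∈ S := by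
  classical
  have hN : 2 ≤ Fintype.card F := Fintype.one_lt_card
  have hnat : ∀ n : ℕ, ∀ a ∈ S, ((n + 1 : ℕ) : F) * a ∈ S := by
    intro n
    induction n with
    | zero =>
      intro a ha
      simpa using ha
    | succ n ih =>
      intro a ha
      have : ((n + 1 + 1 : ℕ) : F) * a = ((n + 1 : ℕ) : F) * a + a := by
        push_cast
        ring
      rw [this]
      exact hadd _ (ih a ha) _ ha
  have hcast0 : ((Fintype.card F : ℕ) : F) = 0 := FiniteField.cast_card_eq_zero F
  have hzero : (0 : F) ∈ S := by
    have h := hnat (Fintype.card F - 1) 1 h1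
    have e : Fintype.card F - 1 + 1 = Fintype.card F := by omega
    rw [e, hcast0, zero_mul] at h
    exact h
  have hneg : ∀ a ∈ S, -a ∈ S := by
    intro a ha
    by_cases h2 : Fintype.card F = 2
    · -- characteristic 2: `-a = a`
      have h20 : ((2 : ℕ) : F) = 0 := by rw [← h2]; exact hcast0
      have : -a = a := by
        have h3 : a + a = 0 := by
          have : a + a = ((2 : ℕ) : F) * a := by push_cast; ring
          rw [this, h20, zero_mul]
        exact neg_eq_of_add_eq_zero_left h3
      rw [this]; exact ha
    · have h := hnat (Fintype.card F - 2) a ha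
      have e : Fintype.card F - 2 + 1 = Fintype.card F - 1 := by omega
      have e2 : ((Fintype.card F - 1 : ℕ) : F) = -1 := by
        rw [Nat.cast_sub (by omega), hcast0]
        simp
      rw [e, e2, neg_one_mul] at h
      exact h
  let T : Subring F :=
    { carrier := {x | ∀ s ∈ S, x * s ∈ S}
      mul_mem' := by
        intro a b ha hb s hs
        have := ha _ (hb s hs)
        rwa [mul_assoc]
      one_mem' := by
        intro s hs
        rwa [one_mul]
      add_mem' := by
        intro a b ha hb s hs
        rw [add_mul]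
        exact hadd _ (ha s hs) _ (hb s hs)
      zero_mem' := by
        intro s hs
        rw [zero_mul]
        exact hzero
      neg_mem' := by
        intro a ha s hs
        rw [neg_mul]
        exact hneg _ (ha s hs) }
  have hTmem : ∀ x : F, x ∈ T ↔ ∀ s ∈ S, x * s ∈ S := fun x => Iff.rfl
  have hpowinv : ∀ x : F, x ∈ T → x⁻¹ ∈ T := by
    intro x hx
    by_cases hx0 : x = 0
    · rw [hx0, inv_zero]; exact T.zero_mem
    · have h1' : x ^ (Fintype.card F - 1) = 1 := FiniteField.pow_card_sub_one_eq_one x hx0
      have h2 : x⁻¹ = x ^ (Fintype.card F - 2) := by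
        have h3 : x ^ (Fintype.card F - 1) = x ^ (Fintype.card F - 2) * x := by
          rw [← pow_succ]
          congr 1
          omega
        rw [h3] at h1'
        exact (eq_inv_of_mul_eq_one_left h1').symm
      rw [h2]
      exact T.pow_mem hx _
  refine ⟨{ T with inv_mem' := hpowinv }, fun x => Iff.rfl, ?_⟩
  intro x hx
  have hx' : x ∈ T := hx
  have := (hTmem x).1 hx' 1 h1
  rwa [mul_one] at this

/-- a subfield of full cardinality is everything -/
theorem mem_of_card_eq (K : Subfield F) [Fintype K] (h : Fintype.card K = Fintype.card F) (x : F) : x ∈ K := by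
  have hbij : Function.Bijective (Subtype.val : K → F) :=
    (Fintype.bijective_iff_injective_and_card _).2 ⟨Subtype.val_injective, h⟩
  obtain ⟨⟨k, hk⟩, hkk⟩ := hbij.2 x
  have : k = x := hkk
  rw [← this]; exact hk

/-- elements of a subfield with `r` elements satisfy `x ^ r = x` -/
theorem pow_card_of_mem (K : Subfield F) [Fintype K] (x : F) (hx : x ∈ K) : x ^ Fintype.card K = x := by
  have h := FiniteField.pow_card (⟨x, hx⟩ : K)
  have := congrArg Subtype.val h
  simpa using this

/-- nonzero elements of a subfield with `r` elements satisfy `x ^ (r - 1) = 1` -/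
theorem pow_card_sub_one_of_mem (K : Subfield F) [Fintype K] (x : F) (hx : x ∈ K) (hx0 : x ≠ 0) :
    x ^ (Fintype.card K - 1) = 1 := by
  have hK0 : (⟨x, hx⟩ : K) ≠ 0 := by
    intro h
    have := congrArg Subtype.val h
    simp only [ZeroMemClass.coe_zero] at this
    exact hx0 this
  have h := FiniteField.pow_card_sub_one_eq_one (⟨x, hx⟩ : K) hK0
  have := congrArg Subtype.val h
  simpa using this

end Cfsg.Agent.Lib.Helper27.RSU3
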