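import Mathlib
import Cfsg.Agent.Lib.Helper49.RSU3Defs
import Cfsg.Agent.Lib.Helper27.RSU3Stab

set_option autoImplicit false
set_option linter.unusedSectionVars false
set_option linter.unusedVariables false

/-!
# K-RSU3 leaf L16 (S2283): `q = 5`: `F_5[c] = F_25` when `c ^ 5 ≠ c`
-/

namespace Cfsg.Agent.Lib.Helper27.RSU3

variable {F : Type*} [Field F] [Fintype F] {q : ℕ}

/-- `25 = r ^ m`, `r ≠ 5` force `m = 1` -/
theorem l16_arith (r m : ℕ) (hr2 : 2 ≤ r) (hm : 0 < m) (h : 5 ^ 2 = r ^ m) (h5 : r ≠ 5) : m = 1 := by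
  by_contra hne1
  have hm2 : 2 ≤ m := by omega
  have h2m : 2 ^ m ≤ r ^ m := Nat.pow_le_pow_left hr2 m
  have hm6 : m ≤ 4 := by
    by_contra h7
    have h7' : 5 ≤ m := by omega
    have : 2 ^ 5 ≤ 2 ^ m := Nat.pow_le_pow_right (by norm_num) h7'
    omega
  have hr8 : r ≤ 5 := by
    by_contra h9
    have h9' : 6 ≤ r := by omega
    have h92 : 6 ^ 2 ≤ r ^ 2 := Nat.pow_le_pow_left h9' 2
    have hr2m : r ^ 2 ≤ r ^ m := Nat.pow_le_pow_right (by omega) hm2
    omega
  clear h2m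
  interval_cases m <;> interval_cases r <;> (try norm_num at h) <;> omega

theorem span_five (hq5 : q = 5) (hF : Fintype.card F = q ^ 2) (c : F) (hc : c ^ 5 ≠ c)
    (S : Set F) (h1 : (1 : F) ∈ S)
    (hadd : ∀ a ∈ S, ∀ b ∈ S, a + b ∈ S) (hmul : ∀ a ∈ S, c * a ∈ S) : ∀ x : F, x ∈ S := by
  classical
  subst hq5
  obtain ⟨K, hK, hKS⟩ := exists_stab_subfield S h1 hadd
  have hcK : c ∈ K := (hK _).2 hmul
  set r := Fintype.card K with hr
  have hr2 : 2 ≤ r := Fintype.one_lt_card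
  have hc5 : r ≠ 5 := by
    intro h5
    apply hc
    have := pow_card_of_mem K c hcK
    rwa [← hr, h5] at this
  have hcard : Fintype.card F = r ^ Module.finrank K F := Module.card_eq_pow_finrank
  have hepos : 0 < Module.finrank K F := Module.finrank_pos
  rw [hF] at hcard
  have he1 : Module.finrank K F = 1 := l16_arith r _ hr2 hepos hcard hc5
  have hcardeq : Fintype.card K = Fintype.card F := by
    rw [hF, hcard, he1, pow_one]
  intro x
  exact hKS x (mem_of_card_eq K hcardeq x)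

end Cfsg.Agent.Lib.Helper27.RSU3
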