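import Mathlib
import Cfsg.Agent.Lib.Helper48.RSpDefs2

/-!
# K-RSp leaf X1 (keystone 228107, S2281 pack of helper48): conjugation of `x(S)` by the regular unipotent `u`
-/

set_option autoImplicit false
set_option linter.unusedVariables false

namespace Cfsg.Agent.Lib.Helper27.RSp

open Matrix Cfsg.Agent.Lib.Helper48.RSp Cfsg.Agent.Lib.Helper18

theorem xMat_mul_uMat (m : ℕ) {F : Type*} [Field F] (s : F) (hAU : Aalt m F * Uup m F = 1) (S : SM m F) :
    xMat m S * uMat m s = uMat m s * xMat m (Uup m F * S * (Uup m F)ᵀ) := by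
  unfold xMat uMat
  rw [Matrix.fromBlocks_multiply, Matrix.fromBlocks_multiply]
  have e : Aalt m F * (Uup m F * S * (Uup m F)ᵀ) = S * (Uup m F)ᵀ := by
    rw [← Matrix.mul_assoc, ← Matrix.mul_assoc, hAU, Matrix.one_mul]
  simp only [Matrix.one_mul, Matrix.mul_one, Matrix.mul_zero, Matrix.zero_mul, add_zero, zero_add]
  rw [e, add_comm (S * (Uup m F)ᵀ) (Aalt m F * s • Elast m F)]

theorem XG_conj_U {m : ℕ} {F : Type*} [Field F] {G : Subgroup (SpG m F)} (s : F)
    (hAU : Aalt m F * Uup m F = 1) (hu : InG G (uMat m s)) :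
    ∀ S ∈ XG G, Uup m F * S * (Uup m F)ᵀ ∈ XG G := by
  rintro S ⟨hS, hx⟩
  refine ⟨?_, ?_⟩
  · rw [Matrix.transpose_mul, Matrix.transpose_mul, Matrix.transpose_transpose, hS, Matrix.mul_assoc]
  · exact inG_of_conj' hu hx (xMat_mul_uMat m s hAU S)

end Cfsg.Agent.Lib.Helper27.RSp
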