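import Mathlib
import Cfsg.Agent.Lib.Helper48.RSpDefs2

/-!
# K-RSp leaf X2 (keystone 228108, S2281 pack of helper48), parallel hand of helper27:
conjugation of `x(S)` (last row zero) by the opposite regular unipotent `c`
-/

set_option autoImplicit false
set_option linter.unusedVariables false

namespace Cfsg.Agent.Lib.Helper27.RSp

open Matrix Cfsg.Agent.Lib.Helper48.RSp Cfsg.Agent.Lib.Helper18

theorem x2_Elast_mul (m : ℕ) {F : Type*} [Field F] (S : SM m F)
    (hrow : ∀ j, S (Fin.last (m + 1)) j = 0) : Elast m F * S = 0 := by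
  ext i j
  rw [Matrix.mul_apply, Matrix.zero_apply]
  apply Finset.sum_eq_zero
  intro k _
  unfold Elast
  rw [Matrix.single_apply]
  split_ifs with h
  · rw [← h.2, hrow j, mul_zero]
  · rw [zero_mul]

theorem x2_mul_Elast (m : ℕ) {F : Type*} [Field F] (S : SM m F) (hS : Sᵀ = S)
    (hrow : ∀ j, S (Fin.last (m + 1)) j = 0) : S * Elast m F = 0 := by
  have h := x2_Elast_mul m S hrow
  have h2 := congrArg Matrix.transpose h
  rw [Matrix.transpose_mul, hS, Matrix.transpose_zero] at h2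
  have hE : (Elast m F)ᵀ = Elast m F := by
    unfold Elast
    rw [Matrix.transpose_single]
  rwa [hE] at h2

theorem cMat_mul_xMat (m : ℕ) {F : Type*} [Field F] (t σ : F)
    (hLD : (Llow m t)ᵀ * Dlow m t = 1) (S : SM m F) (hS : Sᵀ = S)
    (hrow : ∀ j, S (Fin.last (m + 1)) j = 0) :
    cMat m t σ * xMat m S = xMat m (Llow m t * S * (Llow m t)ᵀ) * cMat m t σ := by
  have hES := x2_Elast_mul m S hrow
  have hSE := x2_mul_Elast m S hS hrow
  unfold cMat xMat
  rw [Matrix.fromBlocks_multiply, Matrix.fromBlocks_multiply]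
  have e1 : Llow m t * S * (Llow m t)ᵀ * Dlow m t = Llow m t * S := by
    rw [Matrix.mul_assoc (Llow m t * S), hLD, Matrix.mul_one]
  have e2 : Llow m t * S * (Llow m t)ᵀ * (Dlow m t * (σ • Elast m F)) = 0 := by
    rw [← Matrix.mul_assoc, e1, Matrix.mul_smul, Matrix.mul_assoc, hSE, Matrix.mul_zero, smul_zero]
  have e3 : Dlow m t * (σ • Elast m F) * S = 0 := by
    rw [Matrix.mul_assoc, Matrix.smul_mul, hES, smul_zero, Matrix.mul_zero]
  simp only [Matrix.one_mul, Matrix.mul_one, Matrix.mul_zero, Matrix.zero_mul, add_zero, zero_add]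
  rw [e1, e2, e3, add_zero, zero_add]

theorem XG_conj_L {m : ℕ} {F : Type*} [Field F] {G : Subgroup (SpG m F)} (t σ : F)
    (hLD : (Llow m t)ᵀ * Dlow m t = 1) (hc : InG G (cMat m t σ)) :
    ∀ S ∈ XG G, (∀ j, S (Fin.last (m + 1)) j = 0) → Llow m t * S * (Llow m t)ᵀ ∈ XG G := by
  rintro S ⟨hS, hx⟩ hrow
  refine ⟨?_, ?_⟩
  · rw [Matrix.transpose_mul, Matrix.transpose_mul, Matrix.transpose_transpose, hS, Matrix.mul_assoc]
  · exact inG_of_conj hc hx (cMat_mul_xMat m t σ hLD S hS hrow)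

end Cfsg.Agent.Lib.Helper27.RSp
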