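import Mathlib
import Cfsg.Agent.Lib.Helper48.RSpDefs2

/-!
# K-RSp leaf X3 (keystone 228109, S2281 pack of helper48), parallel hand of helper27:
`n = 2`: the quadratic Levi step.
-/

set_option autoImplicit false
set_option linter.unusedVariables false
set_option linter.unusedSimpArgs false

namespace Cfsg.Agent.Lib.Helper27.RSp

open Matrix Cfsg.Agent.Lib.Helper48.RSp Cfsg.Agent.Lib.Helper18

variable {F : Type*} [Field F]

theorem x3_Llow_zero (t : F) (ht : t ≠ 0) : Llow 0 t = !![1, 0; t, 1] := by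
  ext i j
  fin_cases i <;> fin_cases j <;>
    simp [Llow, dvec, Uup, Nup, Matrix.mul_apply, Matrix.diagonal_apply, Fin.sum_univ_two,
      Matrix.add_apply, Matrix.one_apply, ht]

theorem x3_Dlow_zero (t : F) (ht : t ≠ 0) : Dlow 0 t = !![1, -t; 0, 1] := by
  ext i j
  fin_cases i <;> fin_cases j <;>
    simp [Dlow, dvec, Aalt, Matrix.mul_apply, Matrix.diagonal_apply, Fin.sum_univ_two, ht]

theorem x3_Elast_zero : Elast 0 F = !![0, 0; 0, 1] := by
  ext i j
  fin_cases i <;> fin_cases j <;> simp [Elast, Matrix.single_apply, Fin.last]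

/-- the inverse transpose of `tauMat t σ β` -/
def tauInvT (t σ β : F) : Matrix (Fin 2) (Fin 2) F :=
  !![1 - σ * β * t, -(σ * β * t ^ 2); σ * β, 1 + σ * β * t]

theorem x3_tau_transpose_mul (t σ β : F) : (tauMat t σ β)ᵀ * tauInvT t σ β = 1 := by
  ext i j
  fin_cases i <;> fin_cases j <;>
    simp [tauMat, tauInvT, Matrix.mul_apply, Fin.sum_univ_two, Matrix.transpose_apply] <;> ring

/-- the conjugate `c x(S) c⁻¹`, explicitly -/
def x3P (t σ α β : F) : BM 0 F :=
  Matrix.fromBlocks (tauMat t σ β)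
    ((!![1, 0; t, 1] : Matrix (Fin 2) (Fin 2) F) * !![α, β; β, 0] * (!![1, 0; t, 1] : Matrix (Fin 2) (Fin 2) F)ᵀ)
    0 (tauInvT t σ β)

theorem x3_key1 (t σ α β : F) (ht : t ≠ 0) :
    cMat 0 t σ * xMat 0 (!![α, β; β, 0] : Matrix (Fin 2) (Fin 2) F) = x3P t σ α β * cMat 0 t σ := by
  unfold cMat xMat x3P
  rw [x3_Llow_zero t ht, x3_Dlow_zero t ht, x3_Elast_zero, Matrix.fromBlocks_multiply,
    Matrix.fromBlocks_multiply]
  congr 1
  · ext i j
    fin_cases i <;> fin_cases j <;>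
      simp only [Matrix.mul_apply, Matrix.add_apply, Fin.sum_univ_two, Matrix.transpose_apply,
        Matrix.smul_apply, Matrix.zero_apply] <;>
      simp [tauMat, tauInvT, Matrix.one_apply, Fin.zero_eta, Fin.mk_one] <;> ring
  · ext i j
    fin_cases i <;> fin_cases j <;>
      simp only [Matrix.mul_apply, Matrix.add_apply, Fin.sum_univ_two, Matrix.transpose_apply,
        Matrix.smul_apply, Matrix.zero_apply] <;>
      simp [tauMat, tauInvT, Matrix.one_apply, Fin.zero_eta, Fin.mk_one] <;> ring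
  · ext i j
    fin_cases i <;> fin_cases j <;>
      simp only [Matrix.mul_apply, Matrix.add_apply, Fin.sum_univ_two, Matrix.transpose_apply,
        Matrix.smul_apply, Matrix.zero_apply] <;>
      simp [tauMat, tauInvT, Matrix.one_apply, Fin.zero_eta, Fin.mk_one] <;> ring
  · ext i j
    fin_cases i <;> fin_cases j <;>
      simp only [Matrix.mul_apply, Matrix.add_apply, Fin.sum_univ_two, Matrix.transpose_apply,
        Matrix.smul_apply, Matrix.zero_apply] <;>
      simp [tauMat, tauInvT, Matrix.one_apply, Fin.zero_eta, Fin.mk_one] <;> ring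

theorem x3_key2 (t σ α β : F) (S₂ : SM 0 F) :
    x3P t σ α β * xMat 0 S₂ =
      xMat 0 (tauMat t σ β * S₂ * (tauMat t σ β)ᵀ) * x3P t σ α β := by
  unfold xMat x3P
  rw [Matrix.fromBlocks_multiply, Matrix.fromBlocks_multiply]
  have e : tauMat t σ β * S₂ * (tauMat t σ β)ᵀ * tauInvT t σ β = tauMat t σ β * S₂ := by
    rw [Matrix.mul_assoc (tauMat t σ β * S₂), x3_tau_transpose_mul, Matrix.mul_one]
  simp only [Matrix.one_mul, Matrix.mul_one, Matrix.mul_zero, Matrix.zero_mul, add_zero, zero_add]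
  rw [e, add_comm (tauMat t σ β * S₂)]

/-- **LEAF X3** (keystone 228109) -/
theorem XG_conj_tau {F : Type*} [Field F] {G : Subgroup (SpG 0 F)} (t σ : F) (ht : t ≠ 0)
    (hc : InG G (cMat 0 t σ)) :
    ∀ S ∈ XG G, S 1 1 = 0 → ∀ S₂ ∈ XG G,
      tauMat t σ (S 0 1) * S₂ * (tauMat t σ (S 0 1))ᵀ ∈ XG G := by
  rintro S ⟨hS, hx⟩ h11 S₂ ⟨hS₂, hx₂⟩
  have h10 : S 1 0 = S 0 1 := by
    have := congrFun (congrFun hS 0) 1
    rw [Matrix.transpose_apply] at this
    exact this
  have hSeq : S = !![S 0 0, S 0 1; S 0 1, 0] := by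
    rw [Matrix.eta_fin_two S, h10, h11]
    simp
  have hP : InG G (x3P t σ (S 0 0) (S 0 1)) := by
    have hx' : InG G (xMat 0 (!![S 0 0, S 0 1; S 0 1, 0] : Matrix (Fin 2) (Fin 2) F)) := by
      rw [← hSeq]
      exact hx
    exact inG_of_conj hc hx' (x3_key1 t σ (S 0 0) (S 0 1) ht)
  refine ⟨?_, ?_⟩
  · rw [Matrix.transpose_mul, Matrix.transpose_mul, Matrix.transpose_transpose, hS₂, Matrix.mul_assoc]
  · exact inG_of_conj hP hx₂ (x3_key2 t σ (S 0 0) (S 0 1) S₂)

end Cfsg.Agent.Lib.Helper27.RSp
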