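import Mathlib
import Cfsg.Agent.Lib.Helper20.RU2Defs
import Cfsg.Agent.Lib.Helper73.RUHub

set_option autoImplicit false
set_option linter.unusedVariables false
set_option linter.unusedSectionVars false

/-!
# K-RU2 leaf C (S2278): the first filling step `row1_mem` (all `1 + s E_10` lie in `G`)
-/

namespace Cfsg.Agent.Lib.Helper27.RU2

open Matrix Cfsg.Agent.Lib.Helper73.RU Cfsg.Agent.Lib.Helper20.RU2
open Cfsg.Agent.Lib.Helper73.RUSpec

variable {F : Type*} [Field F]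

theorem c_row0 {μ : F} (hμ : μ ≠ 0) :
    (μ⁻¹ • (Pi.single 0 1 : Fin 3 → F)) ᵥ* dM μ = Pi.single 0 1 := by
  ext j
  fin_cases j <;> simp [dM, Matrix.vecMul, dotProduct, Fin.sum_univ_three, Pi.single_apply, hμ]

theorem c_dstep {G : Subgroup (SpecialLinearGroup (Fin 3) F)} {μ : F} (hμ : μ ≠ 0)
    (hd : InG G (dM μ)) (w : Fin 3 → F)
    (hw : InG G (tvm w (Pi.single 0 1))) :
    InG G (tvm (μ⁻¹ • (dM μ *ᵥ w)) (Pi.single 0 1)) := by
  have h1 := mul_tvm (dM μ) w (μ⁻¹ • (Pi.single 0 1 : Fin 3 → F))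
  rw [c_row0 hμ] at h1
  have h2 : InG G (tvm (dM μ *ᵥ w) (μ⁻¹ • (Pi.single 0 1 : Fin 3 → F)) * dM μ) := by
    rw [← h1]; exact inG_mul hd hw
  have h3 := inG_of_mul_right hd h2
  rw [tvm_smul_left]
  exact h3

/-- the additive group of all `s` with `1 + s E_10 ∈ G` -/
def cS (G : Subgroup (SpecialLinearGroup (Fin 3) F)) : AddSubgroup F where
  carrier := {s | InG G (tvm (s • (Pi.single 1 1 : Fin 3 → F)) (Pi.single 0 1))}
  zero_mem' := by
    show InG G _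
    rw [zero_smul, tvm_zero]; exact inG_one
  add_mem' := by
    intro a b ha hb
    show InG G _
    rw [add_smul, ← tvm_mul_tvm _ _ _ (by simp [dotProduct, Fin.sum_univ_three, Pi.single_apply])]
    exact inG_mul ha hb
  neg_mem' := by
    intro a ha
    show InG G _
    rw [neg_smul]
    exact inG_tvm_neg (by simp [dotProduct, Fin.sum_univ_three, Pi.single_apply]) ha

theorem row1_mem {G : Subgroup (SpecialLinearGroup (Fin 3) F)} {μ c' : F}
    (hμ : μ ≠ 0) (hμ3 : μ ^ 3 ≠ 1) (hc' : c' ≠ 0)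
    (hspan : ∀ S : AddSubgroup F, (∀ s ∈ S, μ⁻¹ ^ 3 * s ∈ S) → (∃ s ∈ S, s ≠ 0) → S = ⊤)
    (hA : InG G (A3 F)) (hd : InG G (dM μ))
    (hz : InG G (tvm (c' • (Pi.single 2 1 : Fin 3 → F)) (Pi.single 0 1))) :
    ∀ s : F, InG G (tvm (s • (Pi.single 1 1 : Fin 3 → F)) (Pi.single 0 1)) := by
  have hclosed : ∀ s ∈ cS G, μ⁻¹ ^ 3 * s ∈ cS G := by
    intro s hs
    have h := c_dstep hμ hd _ hs
    have e : μ⁻¹ • (dM μ *ᵥ (s • (Pi.single 1 1 : Fin 3 → F))) =
        (μ⁻¹ ^ 3 * s) • (Pi.single 1 1 : Fin 3 → F) := by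
      ext i
      fin_cases i <;> simp [dM, Matrix.mulVec, dotProduct, Fin.sum_univ_three, Pi.single_apply] <;> ring
    rw [e] at h
    exact h
  have hne : ∃ s ∈ cS G, s ≠ 0 := by
    have hφ : (![1, -1, 1] : Fin 3 → F) ᵥ* A3 F = Pi.single 0 1 := by
      ext j
      fin_cases j <;> simp [A3, Matrix.vecMul, dotProduct, Fin.sum_univ_three, Pi.single_apply]
    have hS := mset_step (Pi.single 0 1) ![1, -1, 1] (c' • (Pi.single 2 1 : Fin 3 → F)) hA hφ
      (by simp [dotProduct, Fin.sum_univ_three, Pi.single_apply]) hz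
      (c' • (Pi.single 2 1 : Fin 3 → F)) (by simp [dotProduct, Fin.sum_univ_three, Pi.single_apply]) hz
      (by simp [A3, Matrix.mulVec, dotProduct, Fin.sum_univ_three, Pi.single_apply])
    have e1 : (-((![1, -1, 1] : Fin 3 → F) ⬝ᵥ (c' • (Pi.single 2 1 : Fin 3 → F)))) •
        (A3 F *ᵥ (c' • (Pi.single 2 1 : Fin 3 → F))) = ![0, -(c' ^ 2), -(c' ^ 2)] := by
      ext i
      fin_cases i <;> simp [A3, Matrix.mulVec, dotProduct, Fin.sum_univ_three, Pi.single_apply] <;> ring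
    rw [e1] at hS
    have hD := c_dstep hμ hd _ hS
    have e2 : μ⁻¹ • (dM μ *ᵥ (![0, -(c' ^ 2), -(c' ^ 2)] : Fin 3 → F)) =
        ![0, -(c' ^ 2) * μ⁻¹ ^ 3, -(c' ^ 2)] := by
      ext i
      fin_cases i <;> simp [dM, Matrix.mulVec, dotProduct, Fin.sum_univ_three, hμ] <;>
        first | ring1 | (rw [mul_inv_cancel₀ hμ]; ring1) | field_simp
    rw [e2] at hD
    have hneg := inG_tvm_neg (by simp [dotProduct, Fin.sum_univ_three, Pi.single_apply]) hS
    have hprod := inG_mul hD hneg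
    rw [tvm_mul_tvm _ _ _ (by simp [dotProduct, Fin.sum_univ_three, Pi.single_apply])] at hprod
    have e3 : (![0, -(c' ^ 2) * μ⁻¹ ^ 3, -(c' ^ 2)] : Fin 3 → F) + -(![0, -(c' ^ 2), -(c' ^ 2)]) =
        (-(c' ^ 2) * (μ⁻¹ ^ 3 - 1)) • (Pi.single 1 1 : Fin 3 → F) := by
      ext i
      fin_cases i <;> simp [Pi.single_apply] <;> ring
    rw [e3] at hprod
    refine ⟨-(c' ^ 2) * (μ⁻¹ ^ 3 - 1), hprod, ?_⟩
    have h3 : μ⁻¹ ^ 3 ≠ 1 := by
      intro h
      apply hμ3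
      rw [inv_pow, inv_eq_one] at h
      exact h
    exact mul_ne_zero (neg_ne_zero.mpr (pow_ne_zero _ hc')) (sub_ne_zero.mpr h3)
  have htop := hspan (cS G) hclosed hne
  intro s
  have hs : s ∈ cS G := by rw [htop]; exact AddSubgroup.mem_top s
  exact hs

end Cfsg.Agent.Lib.Helper27.RU2
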