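import Mathlib
import Cfsg.Agent.Lib.Helper20.RU2Defs
import Cfsg.Agent.Lib.Helper73.RUHub
import Cfsg.Agent.S2280

set_option autoImplicit false
set_option linter.unusedVariables false
set_option linter.unusedSectionVars false

/-!
# K-RU2 leaf I (S2278): the bridge to the K-RU hub for `n = 3`
-/

namespace Cfsg.Agent.Lib.Helper27.RU2

open Matrix Cfsg.Agent.Lib.Helper73.RU Cfsg.Agent.Lib.Helper20.RU2
open Cfsg.Agent.Lib.Helper73.RUSpec

theorem i_aMat_eq (F : Type*) [Field F] : aMat 0 F = A3 F := by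
  ext i j
  fin_cases i <;> fin_cases j <;> simp [aMat, A3]

theorem i_cMat_eq (F : Type*) [Field F] : cMat 0 F 1 = cL F := by
  ext i j
  fin_cases i <;> fin_cases j <;> simp [cMat, cL, Fin.ext_iff]

theorem eq_top_of_three {F : Type*} [Field F] {G : Subgroup (SpecialLinearGroup (Fin 3) F)} (l : F)
    (hl0 : l ≠ 0) (hl : ∀ x : F, x ≠ 0 → ∃ k : ℕ, x = l ^ (k + 1))
    (ha : InG G (A3 F)) (hc : InG G (cL F))
    (hz : InG G (tvm (l • (Pi.single 0 1 : Fin 3 → F)) (Pi.single 2 1))) : G = ⊤ := by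
  have ha' : InG (n := 0 + 3) G (aMat 0 F) := by rw [i_aMat_eq]; exact ha
  have hc' : InG (n := 0 + 3) G (cMat 0 F 1) := by rw [i_cMat_eq]; exact hc
  have hz' : InG (n := 0 + 3) G
      (tvm (l • (Pi.single 0 1 : Fin (0 + 3) → F)) (Pi.single (Fin.last (0 + 2)) 1)) := hz
  have h1 := Cfsg.Agent.S2280.elast_mem_Ax (m := 0) G l 1 hl0 hl (Or.inl rfl) ha' hc' hz'
  have h2 := single_mem_Ax_of (m := 0) (G := G) (fun s ψ hψ => ax_smul s hψ)
    (fun ψ hψ A hA => ax_vecMul hψ hA)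
    (fun ψ₁ ψ₂ h1 h2 v₀ hv1 hv2 => ax_add_of h1 h2 v₀ hv1 hv2) (cMat 0 F 1) (cMu 0 F 1) hc'
    (single_vecMul_cMat 0 F 1)
    (by
      intro j
      unfold cMu
      split_ifs
      · exact one_ne_zero
      · exact one_ne_zero) h1
  exact eq_top_of_single_mem_Ax G h2

end Cfsg.Agent.Lib.Helper27.RU2
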