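import Mathlib
import Cfsg.Agent.Lib.Helper73.RUDefs

set_option autoImplicit false

/-!
# K-RU4 leaf B core (S2279): the `3 × 3` pairing calculus for the triple commutator

`D X = 1 + C X P` with `C : n × 3`, `P : 3 × n`, `P C = K = [[0,0,0],[ε,0,0],[ν,ε,0]]`, `ε² = 1`.
`D X * D Y = D (X + Y + X K Y)`; with `X₁ = diag(l,-l,0)`, `X₂ = diag(0,l,-l)`:
`[D X₁, [D X₁, D X₂]] = D (l³ E₂₀)`.
-/

namespace Cfsg.Agent.Lib.Helper27.RU4x

open Matrix Cfsg.Agent.Lib.Helper73.RU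

variable {n : ℕ} {F : Type*} [Field F]

/-- `1 + C X P` -/
def bD (C : Matrix (Fin n) (Fin 3) F) (P : Matrix (Fin 3) (Fin n) F) (X : Matrix (Fin 3) (Fin 3) F) :
    Matrix (Fin n) (Fin n) F := 1 + C * X * P

theorem bD_zero (C : Matrix (Fin n) (Fin 3) F) (P : Matrix (Fin 3) (Fin n) F) : bD C P 0 = 1 := by
  unfold bD
  rw [Matrix.mul_zero, Matrix.zero_mul, add_zero]

theorem bD_mul (C : Matrix (Fin n) (Fin 3) F) (P : Matrix (Fin 3) (Fin n) F)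
    (K X Y : Matrix (Fin 3) (Fin 3) F) (hK : P * C = K) :
    bD C P X * bD C P Y = bD C P (X + Y + X * K * Y) := by
  unfold bD
  have h1 : C * X * P * (C * Y * P) = C * (X * K * Y) * P := by
    rw [← hK]
    simp only [Matrix.mul_assoc]
  rw [Matrix.mul_add, Matrix.add_mul, Matrix.add_mul, Matrix.one_mul, Matrix.mul_one, Matrix.one_mul, h1,
    Matrix.mul_add, Matrix.mul_add, Matrix.add_mul, Matrix.add_mul]
  abel

/-- the pairing matrix -/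
def bK (ε ν : F) : Matrix (Fin 3) (Fin 3) F := !![0, 0, 0; ε, 0, 0; ν, ε, 0]

def bX1 (l : F) : Matrix (Fin 3) (Fin 3) F := !![l, 0, 0; 0, -l, 0; 0, 0, 0]
def bX2 (l : F) : Matrix (Fin 3) (Fin 3) F := !![0, 0, 0; 0, l, 0; 0, 0, -l]
def bX1i (l ε : F) : Matrix (Fin 3) (Fin 3) F := !![-l, 0, 0; -(l ^ 2 * ε), l, 0; 0, 0, 0]
def bX2i (l ε : F) : Matrix (Fin 3) (Fin 3) F := !![0, 0, 0; 0, -l, 0; 0, -(l ^ 2 * ε), l]
def bA1 (l : F) : Matrix (Fin 3) (Fin 3) F := !![l, 0, 0; 0, 0, 0; 0, 0, -l]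
def bA2 (l ε ν : F) : Matrix (Fin 3) (Fin 3) F :=
  !![0, 0, 0; -(l ^ 2 * ε), l, 0; l ^ 2 * ν + l ^ 3, -(l ^ 2 * ε), -l]
def bY (l ε ν : F) : Matrix (Fin 3) (Fin 3) F :=
  !![0, 0, 0; -(l ^ 2 * ε), 0, 0; l ^ 2 * ν + l ^ 3, -(l ^ 2 * ε), 0]
def bYi (l ε ν : F) : Matrix (Fin 3) (Fin 3) F :=
  !![0, 0, 0; l ^ 2 * ε, 0, 0; -(l ^ 2 * ν) - l ^ 3, l ^ 2 * ε, 0]
def bB1 (l ε ν : F) : Matrix (Fin 3) (Fin 3) F :=
  !![l, 0, 0; -(l ^ 2 * ε), -l, 0; l ^ 2 * ν + l ^ 3, -(l ^ 2 * ε), 0]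
def bB2 (l ε ν : F) : Matrix (Fin 3) (Fin 3) F :=
  !![0, 0, 0; -(l ^ 2 * ε), 0, 0; l ^ 2 * ν + 2 * l ^ 3, -(l ^ 2 * ε), 0]
def bZ (l : F) : Matrix (Fin 3) (Fin 3) F := !![0, 0, 0; 0, 0, 0; l ^ 3, 0, 0]

section identities
variable (l ε ν : F) (hε : ε * ε = 1)
include hε

theorem b_id1 : bX1 l + bX1i l ε + bX1 l * bK ε ν * bX1i l ε = 0 := by
  ext i j
  fin_cases i <;> fin_cases j <;>
    simp [bX1, bX1i, bK, Matrix.mul_apply, Fin.sum_univ_three] <;> grind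

theorem b_id2 : bX2 l + bX2i l ε + bX2 l * bK ε ν * bX2i l ε = 0 := by
  ext i j
  fin_cases i <;> fin_cases j <;>
    simp [bX2, bX2i, bK, Matrix.mul_apply, Fin.sum_univ_three] <;> grind

theorem b_id3 : bX1 l + bX2 l + bX1 l * bK ε ν * bX2 l = bA1 l := by
  ext i j
  fin_cases i <;> fin_cases j <;>
    simp [bX1, bX2, bA1, bK, Matrix.mul_apply, Fin.sum_univ_three] <;> grind

theorem b_id4 : bA1 l + bX1i l ε + bA1 l * bK ε ν * bX1i l ε = bA2 l ε ν := by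
  ext i j
  fin_cases i <;> fin_cases j <;>
    simp [bA1, bX1i, bA2, bK, Matrix.mul_apply, Fin.sum_univ_three] <;> grind

theorem b_id5 : bA2 l ε ν + bX2i l ε + bA2 l ε ν * bK ε ν * bX2i l ε = bY l ε ν := by
  ext i j
  fin_cases i <;> fin_cases j <;>
    simp [bA2, bX2i, bY, bK, Matrix.mul_apply, Fin.sum_univ_three] <;> grind

theorem b_id6 : bY l ε ν + bYi l ε ν + bY l ε ν * bK ε ν * bYi l ε ν = 0 := by
  ext i j
  fin_cases i <;> fin_cases j <;>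
    simp [bY, bYi, bK, Matrix.mul_apply, Fin.sum_univ_three] <;> grind

theorem b_id7 : bX1 l + bY l ε ν + bX1 l * bK ε ν * bY l ε ν = bB1 l ε ν := by
  ext i j
  fin_cases i <;> fin_cases j <;>
    simp [bX1, bY, bB1, bK, Matrix.mul_apply, Fin.sum_univ_three] <;> grind

theorem b_id8 : bB1 l ε ν + bX1i l ε + bB1 l ε ν * bK ε ν * bX1i l ε = bB2 l ε ν := by
  ext i j
  fin_cases i <;> fin_cases j <;>
    simp [bB1, bX1i, bB2, bK, Matrix.mul_apply, Fin.sum_univ_three] <;> grind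

theorem b_id9 : bB2 l ε ν + bYi l ε ν + bB2 l ε ν * bK ε ν * bYi l ε ν = bZ l := by
  ext i j
  fin_cases i <;> fin_cases j <;>
    simp [bB2, bYi, bZ, bK, Matrix.mul_apply, Fin.sum_univ_three] <;> grind

end identities

/-- the abstract triple commutator -/
theorem b_core {G : Subgroup (SpecialLinearGroup (Fin n) F)}
    (C : Matrix (Fin n) (Fin 3) F) (P : Matrix (Fin 3) (Fin n) F) (l ε ν : F) (hε : ε * ε = 1)
    (hK : P * C = bK ε ν)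
    (h1 : InG G (bD C P (bX1 l))) (h2 : InG G (bD C P (bX2 l))) :
    InG G (bD C P (bZ l)) := by
  have m := fun X Y => bD_mul C P (bK ε ν) X Y hK
  have h1i : InG G (bD C P (bX1i l ε)) :=
    inG_of_mul_eq_one h1 (by rw [m, b_id1 l ε ν hε, bD_zero])
  have h2i : InG G (bD C P (bX2i l ε)) :=
    inG_of_mul_eq_one h2 (by rw [m, b_id2 l ε ν hε, bD_zero])
  have hY : InG G (bD C P (bY l ε ν)) := by
    have h := inG_mul (inG_mul (inG_mul h1 h2) h1i) h2i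
    rw [m, b_id3 l ε ν hε, m, b_id4 l ε ν hε, m, b_id5 l ε ν hε] at h
    exact h
  have hYi : InG G (bD C P (bYi l ε ν)) :=
    inG_of_mul_eq_one hY (by rw [m, b_id6 l ε ν hε, bD_zero])
  have h := inG_mul (inG_mul (inG_mul h1 hY) h1i) hYi
  rw [m, b_id7 l ε ν hε, m, b_id8 l ε ν hε, m, b_id9 l ε ν hε] at h
  exact h

end Cfsg.Agent.Lib.Helper27.RU4x
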