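import Mathlib
import Cfsg.Agent.Lib.Helper73.RUDefs
import Cfsg.Agent.Lib.Helper73.RUHub
import Cfsg.Agent.Lib.Helper27.RU4G
import Cfsg.Agent.Lib.Helper27.RU4BCore

set_option autoImplicit false

/-!
# K-RU4 leaf B (S2279): the transvection `[d₋₁,[d₋₁,d₀]] = 1 + l³ c₁ φ₋₁ᵀ`, `d₋₁ = u⁻¹ v`, `d₀ = v u⁻¹`

Concrete part: `C` has the columns `ρ = a⁻¹ e_last`, `e_last`, `c₁ = a e_last`; `P` has the rows `f₁ = e_0 a`, `e_0`,
`φ = e_0 a⁻¹`; `P C = K`; `a (1 + C X₁ P) = v = (1 + C X₂ P) a`.
-/

namespace Cfsg.Agent.Lib.Helper27.RU4x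

open Matrix Cfsg.Agent.Lib.Helper73.RU Cfsg.Agent.Lib.Helper73.RUSpec

section defs
variable (m : ℕ) (F : Type*) [Field F]

/-- the index `last - 1` -/
def pen : Fin (m + 3) := ⟨m + 1, by omega⟩

/-- `v = g a g⁻¹ = a + l E_{last,1} - l E_{last-1,0}` -/
def v4 (l : F) : Matrix (Fin (m + 3)) (Fin (m + 3)) F :=
  aMat m F + Matrix.single (Fin.last (m + 2)) 1 l - Matrix.single (pen m) 0 l

/-- `c₁ = a e_last = e_last + e_{last-1}` -/
def c1 : Fin (m + 3) → F := Pi.single (Fin.last (m + 2)) 1 + Pi.single (pen m) 1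

/-- `φ₋₁ = e_0ᵀ a = e_0 + e_1` -/
def f1 : Fin (m + 3) → F := Pi.single 0 1 + Pi.single 1 1

/-- `ρ = a⁻¹ e_last` -/
def bRho : Fin (m + 3) → F := fun j => (-1) ^ (m + j.val)

/-- `φ = e_0ᵀ a⁻¹` -/
def bPhi : Fin (m + 3) → F := fun j => (-1) ^ j.val

/-- the columns `ρ, e_last, c₁` -/
def bC : Matrix (Fin (m + 3)) (Fin 3) F :=
  Matrix.of fun i k => ![bRho m F i, (Pi.single (Fin.last (m + 2)) 1 : Fin (m + 3) → F) i, c1 m F i] k

/-- the rows `f₁, e_0, φ` -/
def bP : Matrix (Fin 3) (Fin (m + 3)) F :=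
  Matrix.of fun k j => ![f1 m F j, (Pi.single 0 1 : Fin (m + 3) → F) j, bPhi m F j] k

end defs

variable (m : ℕ) (F : Type*) [Field F]

/-- the rows of `aMat` applied to a vector -/
theorem b_aMat_mulVec_apply (v : Fin (m + 3) → F) (i : Fin (m + 3)) :
    (aMat m F *ᵥ v) i = v i + (if h : i.val + 1 < m + 3 then v ⟨i.val + 1, h⟩ else 0) := by
  have h6 : (aMat m F *ᵥ v) i = (Pi.single i 1 : Fin (m + 3) → F) ⬝ᵥ (aMat m F *ᵥ v) := by
    rw [single_dotProduct, one_mul]
  rw [h6, dotProduct_mulVec]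
  by_cases h : i.val + 1 < m + 3
  · rw [g_single_vecMul_aMat m F i h, dif_pos h, add_dotProduct, single_dotProduct, single_dotProduct,
      one_mul, one_mul]
  · have hi : i = Fin.last (m + 2) := by
      ext
      have := i.isLt
      simp only [Fin.val_last]
      omega
    rw [dif_neg h, add_zero, hi, last_vecMul_aMat, single_dotProduct, one_mul]

theorem b_last_ne_zero : (Fin.last (m + 2) : Fin (m + 3)) ≠ 0 := by
  intro h; have := congrArg Fin.val h; simp at this

theorem b_last_ne_one : (Fin.last (m + 2) : Fin (m + 3)) ≠ 1 := by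
  intro h; have := congrArg Fin.val h; simp at this

theorem b_pen_ne_zero : (pen m : Fin (m + 3)) ≠ 0 := by
  intro h; have := congrArg Fin.val h; simp [pen] at this

theorem b_pen_ne_one (hm : 1 ≤ m) : (pen m : Fin (m + 3)) ≠ 1 := by
  intro h; have := congrArg Fin.val h; simp [pen] at this; omega

theorem b_pen_ne_last : (pen m : Fin (m + 3)) ≠ Fin.last (m + 2) := by
  intro h; have := congrArg Fin.val h; simp [pen] at this

/-- `a ρ = e_last` -/
theorem b_aMat_mulVec_rho : aMat m F *ᵥ bRho m F = Pi.single (Fin.last (m + 2)) 1 := by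
  ext i
  rw [b_aMat_mulVec_apply]
  by_cases h : i.val + 1 < m + 3
  · have hi : i ≠ Fin.last (m + 2) := by
      intro hi
      rw [hi] at h
      simp at h
    rw [dif_pos h, Pi.single_apply, if_neg hi]
    unfold bRho
    simp only
    rw [← add_assoc, pow_succ]
    ring
  · have hi : i = Fin.last (m + 2) := by
      ext
      have := i.isLt
      simp only [Fin.val_last]
      omega
    rw [dif_neg h, add_zero, hi, Pi.single_apply, if_pos rfl]
    unfold bRho
    simp only [Fin.val_last]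
    have : m + (m + 2) = 2 * (m + 1) := by ring
    rw [this, pow_mul]
    simp

/-- `a e_last = c₁` -/
theorem b_aMat_mulVec_last : aMat m F *ᵥ (Pi.single (Fin.last (m + 2)) 1 : Fin (m + 3) → F) = c1 m F := by
  ext i
  rw [b_aMat_mulVec_apply]
  unfold c1
  rw [Pi.add_apply]
  congr 1
  by_cases h : i.val + 1 < m + 3
  · rw [dif_pos h, Pi.single_apply, Pi.single_apply]
    by_cases hp : i = pen m
    · rw [if_pos hp, if_pos]
      ext
      have h3 := congrArg Fin.val hp
      change i.val = m + 1 at h3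
      change i.val + 1 = (Fin.last (m + 2) : Fin (m + 3)).val
      rw [Fin.val_last]
      omega
    · rw [if_neg hp, if_neg]
      intro h2
      apply hp
      ext
      have := congrArg Fin.val h2
      simp only [Fin.val_last] at this
      simp only [pen]
      omega
  · have hi : i = Fin.last (m + 2) := by
      ext
      have := i.isLt
      simp only [Fin.val_last]
      omega
    rw [dif_neg h, hi, Pi.single_apply, if_neg (b_pen_ne_last m).symm]

/-- the columns of `aMat` -/
theorem b_aMat_mulVec_single_succ (k : ℕ) (hk : k + 1 < m + 3) :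
    aMat m F *ᵥ (Pi.single (⟨k + 1, hk⟩ : Fin (m + 3)) 1 : Fin (m + 3) → F) =
      Pi.single ⟨k + 1, hk⟩ 1 + Pi.single ⟨k, by omega⟩ 1 := by
  ext i
  rw [b_aMat_mulVec_apply, Pi.add_apply]
  congr 1
  by_cases h : i.val + 1 < m + 3
  · rw [dif_pos h, Pi.single_apply, Pi.single_apply]
    by_cases hp : i = (⟨k, by omega⟩ : Fin (m + 3))
    · rw [if_pos hp, if_pos]
      ext
      have h3 := congrArg Fin.val hp
      change i.val = k at h3
      change i.val + 1 = k + 1
      omega
    · rw [if_neg hp, if_neg]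
      intro h2
      apply hp
      ext
      have := congrArg Fin.val h2
      simp only at this
      simp only
      omega
  · have hi : i = Fin.last (m + 2) := by
      ext
      have := i.isLt
      simp only [Fin.val_last]
      omega
    rw [dif_neg h, Pi.single_apply, if_neg]
    intro h2
    have := congrArg Fin.val h2
    rw [hi] at this
    simp only [Fin.val_last] at this
    omega

/-- `φ a = e_0` -/
theorem b_phi_vecMul_aMat : bPhi m F ᵥ* aMat m F = Pi.single 0 1 := by
  ext j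
  have h1 : (bPhi m F ᵥ* aMat m F) j = bPhi m F ⬝ᵥ (aMat m F *ᵥ Pi.single j 1) := by
    rw [Matrix.mulVec_single_one]; rfl
  rw [h1]
  obtain ⟨k, hk⟩ := j
  cases k with
  | zero =>
    have : (⟨0, hk⟩ : Fin (m + 3)) = 0 := rfl
    rw [this, aMat_mulVec_zero, dotProduct_single, mul_one, Pi.single_apply, if_pos rfl]
    simp [bPhi]
  | succ k =>
    rw [b_aMat_mulVec_single_succ m F k hk, dotProduct_add, dotProduct_single, dotProduct_single, mul_one,
      mul_one, Pi.single_apply, if_neg]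
    · unfold bPhi
      simp only
      rw [pow_succ]
      ring
    · intro h
      have := congrArg Fin.val h
      simp at this

/-- `e_0 a = f₁` -/
theorem b_e0_vecMul_aMat : (Pi.single 0 1 : Fin (m + 3) → F) ᵥ* aMat m F = f1 m F := by
  rw [g_single_vecMul_aMat m F 0 (by simp)]
  rfl

/-- the pairing matrix -/
theorem b_P_mul_C (hm : 1 ≤ m) :
    bP m F * bC m F = bK ((-1 : F) ^ m) (bPhi m F ⬝ᵥ bRho m F) := by
  have d1 : f1 m F ⬝ᵥ bRho m F = 0 := by
    unfold f1
    rw [add_dotProduct, single_dotProduct, single_dotProduct, one_mul, one_mul]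
    unfold bRho
    simp only [Fin.val_zero, Fin.val_one, add_zero]
    rw [pow_succ]
    ring
  have d2 : f1 m F ⬝ᵥ (Pi.single (Fin.last (m + 2)) 1 : Fin (m + 3) → F) = 0 := by
    unfold f1
    rw [add_dotProduct, single_dotProduct, single_dotProduct, one_mul, one_mul, Pi.single_apply,
      Pi.single_apply, if_neg (b_last_ne_zero m).symm, if_neg (b_last_ne_one m).symm, add_zero]
  have d3 : f1 m F ⬝ᵥ c1 m F = 0 := by
    unfold f1 c1
    rw [add_dotProduct, single_dotProduct, single_dotProduct, one_mul, one_mul, Pi.add_apply, Pi.add_apply,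
      Pi.single_apply, Pi.single_apply, Pi.single_apply, Pi.single_apply,
      if_neg (b_last_ne_zero m).symm, if_neg (b_last_ne_one m).symm, if_neg (b_pen_ne_zero m).symm,
      if_neg (b_pen_ne_one m hm).symm]
    simp
  have d4 : (Pi.single 0 1 : Fin (m + 3) → F) ⬝ᵥ bRho m F = (-1) ^ m := by
    rw [single_dotProduct, one_mul]
    simp [bRho]
  have d5 : (Pi.single 0 1 : Fin (m + 3) → F) ⬝ᵥ (Pi.single (Fin.last (m + 2)) 1 : Fin (m + 3) → F) = 0 := by
    rw [single_dotProduct, one_mul, Pi.single_apply, if_neg (b_last_ne_zero m).symm]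
  have d6 : (Pi.single 0 1 : Fin (m + 3) → F) ⬝ᵥ c1 m F = 0 := by
    unfold c1
    rw [single_dotProduct, one_mul, Pi.add_apply, Pi.single_apply, Pi.single_apply,
      if_neg (b_last_ne_zero m).symm, if_neg (b_pen_ne_zero m).symm, add_zero]
  have d8 : bPhi m F ⬝ᵥ (Pi.single (Fin.last (m + 2)) 1 : Fin (m + 3) → F) = (-1) ^ m := by
    rw [dotProduct_single, mul_one]
    unfold bPhi
    simp only [Fin.val_last]
    rw [pow_add]
    simp
  have d9 : bPhi m F ⬝ᵥ c1 m F = 0 := by
    unfold c1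
    rw [dotProduct_add, dotProduct_single, dotProduct_single, mul_one, mul_one]
    unfold bPhi pen
    simp only [Fin.val_last]
    rw [pow_succ]
    ring
  ext k k'
  fin_cases k <;> fin_cases k'
  · exact d1
  · exact d2
  · exact d3
  · exact d4
  · exact d5
  · exact d6
  · rfl
  · exact d8
  · exact d9

/-- `Matrix.single` as a rank one matrix -/
theorem b_single_eq (i j : Fin (m + 3)) (l : F) :
    Matrix.single i j l = l • vecMulVec (Pi.single i 1 : Fin (m + 3) → F) (Pi.single j 1) := by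
  ext a b
  rw [Matrix.single_apply, Matrix.smul_apply, vecMulVec_apply, Pi.single_apply, Pi.single_apply, smul_eq_mul]
  by_cases h1 : i = a
  · by_cases h2 : j = b
    · rw [if_pos ⟨h1, h2⟩, if_pos h1.symm, if_pos h2.symm]; ring
    · rw [if_neg (fun h => h2 h.2), if_neg (show ¬ (b = j) from fun h => h2 h.symm)]; ring
  · rw [if_neg (fun h => h1 h.1), if_neg (show ¬ (a = i) from fun h => h1 h.symm)]; ring

/-- the common value `a d₋₁ = d₀ a = v` in rank one form -/
theorem b_v4_eq (l : F) :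
    v4 m F l = aMat m F + l • vecMulVec (Pi.single (Fin.last (m + 2)) 1 : Fin (m + 3) → F) (f1 m F) -
      l • vecMulVec (c1 m F) (Pi.single 0 1 : Fin (m + 3) → F) := by
  unfold v4 f1 c1
  rw [b_single_eq, b_single_eq, vecMulVec_add, add_vecMulVec, smul_add, smul_add]
  abel

theorem b_C_X1_P (l : F) :
    bC m F * bX1 l * bP m F =
      l • vecMulVec (bRho m F) (f1 m F) -
        l • vecMulVec (Pi.single (Fin.last (m + 2)) 1 : Fin (m + 3) → F) (Pi.single 0 1) := by
  ext i j
  simp only [Matrix.mul_apply, Fin.sum_univ_three, bC, bP, bX1, Matrix.of_apply, Matrix.sub_apply,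
    Matrix.smul_apply, vecMulVec_apply, smul_eq_mul]
  simp
  ring

theorem b_C_X2_P (l : F) :
    bC m F * bX2 l * bP m F =
      l • vecMulVec (Pi.single (Fin.last (m + 2)) 1 : Fin (m + 3) → F) (Pi.single 0 1) -
        l • vecMulVec (c1 m F) (bPhi m F) := by
  ext i j
  simp only [Matrix.mul_apply, Fin.sum_univ_three, bC, bP, bX2, Matrix.of_apply, Matrix.sub_apply,
    Matrix.smul_apply, vecMulVec_apply, smul_eq_mul]
  simp
  ring

theorem b_C_Z_P (l : F) :
    bC m F * bZ l * bP m F = vecMulVec (l ^ 3 • c1 m F) (f1 m F) := by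
  ext i j
  simp only [Matrix.mul_apply, Fin.sum_univ_three, bC, bP, bZ, Matrix.of_apply, vecMulVec_apply,
    Pi.smul_apply, smul_eq_mul]
  simp
  left
  ring

theorem b_aMat_mul_D1 (l : F) : aMat m F * bD (bC m F) (bP m F) (bX1 l) = v4 m F l := by
  unfold bD
  rw [b_C_X1_P, b_v4_eq, Matrix.mul_add, Matrix.mul_one, Matrix.mul_sub, Matrix.mul_smul, Matrix.mul_smul,
    mul_vecMulVec, mul_vecMulVec, b_aMat_mulVec_rho, b_aMat_mulVec_last]
  abel

theorem b_D2_mul_aMat (l : F) : bD (bC m F) (bP m F) (bX2 l) * aMat m F = v4 m F l := by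
  unfold bD
  rw [b_C_X2_P, b_v4_eq, Matrix.add_mul, Matrix.one_mul, Matrix.sub_mul, Matrix.smul_mul, Matrix.smul_mul,
    vecMulVec_mul, vecMulVec_mul, b_e0_vecMul_aMat, b_phi_vecMul_aMat]
  abel

variable {m F}

theorem tv_mem (hm : 1 ≤ m)
    {G : Subgroup (SpecialLinearGroup (Fin (m + 3)) F)} (l : F)
    (ha : InG G (aMat m F)) (hv : InG G (v4 m F l)) :
    InG G (tvm (l ^ 3 • c1 m F) (f1 m F)) := by
  have h1 : InG G (bD (bC m F) (bP m F) (bX1 l)) := by
    refine inG_of_mul_left ha ?_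
    rw [b_aMat_mul_D1]
    exact hv
  have h2 : InG G (bD (bC m F) (bP m F) (bX2 l)) := by
    refine inG_of_mul_right ha ?_
    rw [b_D2_mul_aMat]
    exact hv
  have hε : ((-1 : F) ^ m) * ((-1 : F) ^ m) = 1 := by
    rw [← mul_pow]
    simp
  have h3 := b_core (bC m F) (bP m F) l ((-1 : F) ^ m) (bPhi m F ⬝ᵥ bRho m F) hε (b_P_mul_C m F hm) h1 h2
  unfold bD at h3
  rw [b_C_Z_P] at h3
  exact h3

end Cfsg.Agent.Lib.Helper27.RU4x
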