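import Mathlib
import Cfsg.Agent.Lib.Helper73.RUDefs
import Cfsg.Agent.Lib.Helper73.RUHub
import Cfsg.Agent.Lib.Helper02.RU4Defs

set_option autoImplicit false

/-!
# K-RU4 leaf J (S2279): the relation (R), a commutator of two transvections
-/

namespace Cfsg.Agent.Lib.Helper27.RU4x

open Matrix Cfsg.Agent.Lib.Helper73.RU Cfsg.Agent.Lib.Helper73.RUSpec Cfsg.Agent.Lib.Helper02.RU4

theorem j_inG_pow {n : ℕ} {F : Type*} [Field F] {G : Subgroup (SpecialLinearGroup (Fin n) F)}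
    {A : Matrix (Fin n) (Fin n) F} (hA : InG G A) (k : ℕ) : InG G (A ^ k) := by
  induction k with
  | zero => rw [pow_zero]; exact inG_one
  | succ k ih => rw [pow_succ]; exact inG_mul ih hA

theorem j_ck_zero {m : ℕ} {F : Type*} [Field F]
    (hH : ∀ (k : ℕ) (i j : Fin (m + 3)),
      (aMat m F ^ k) i j = if i.val ≤ j.val then ((Nat.choose k (j.val - i.val) : ℕ) : F) else 0)
    (k : ℕ) : ck m F k 0 = ((Nat.choose k (m + 2) : ℕ) : F) := by
  unfold ck
  rw [mulVec_single_one]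
  simp only [Matrix.col_apply]
  rw [hH, if_pos (by simp)]
  simp

theorem j_pow_mulVec_ck (m : ℕ) (F : Type*) [Field F] (b a : ℕ) :
    (aMat m F ^ b) *ᵥ ck m F a = ck m F (b + a) := by
  unfold ck
  rw [mulVec_mulVec, ← pow_add]

theorem rel_R {m : ℕ} {F : Type*} [Field F]
    (hH : ∀ (k : ℕ) (i j : Fin (m + 3)),
      (aMat m F ^ k) i j = if i.val ≤ j.val then ((Nat.choose k (j.val - i.val) : ℕ) : F) else 0)
    {G : Subgroup (SpecialLinearGroup (Fin (m + 3)) F)} (ha : InG G (aMat m F))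
    (i i' r : ℕ) (hi : i ≤ m + 1) (hi' : i' ≤ m + 1) (hr : m + 2 + r ≤ i + i') (s s' : F)
    (hs : InG G (tvm (s • ck m F i) (Pi.single 0 1)))
    (hs' : InG G (tvm (s' • ck m F i') (Pi.single 0 1))) :
    InG G (tvm ((-(((Nat.choose (m + 2 + r) (m + 2) : ℕ) : F) * s * s')) •
      ck m F (i + i' - (m + 2) - r)) (Pi.single 0 1)) := by
  set e : Fin (m + 3) → F := Pi.single 0 1 with he
  set b' : ℕ := m + 2 + r - i with hb'
  set a' : ℕ := i + i' - (m + 2) - r with ha'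
  have hab : b' + a' = i' := by omega
  have hbi : b' + i = m + 2 + r := by omega
  have hz : ∀ k, k ≤ m + 1 → ck m F k 0 = 0 := by
    intro k hk
    rw [j_ck_zero hH, Nat.choose_eq_zero_of_lt (by omega), Nat.cast_zero]
  set A : Matrix (Fin (m + 3)) (Fin (m + 3)) F := aMat m F ^ b' with hA
  have hAG : InG G A := j_inG_pow ha b'
  set ψ : Fin (m + 3) → F := e ᵥ* A with hψ
  -- the conjugate transvection
  have hw : InG G (tvm (s' • ck m F a') ψ) := by
    refine inG_of_mul_left hAG ?_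
    rw [hψ, mul_tvm, mulVec_smul, hA, j_pow_mulVec_ck, hab]
    exact inG_mul hs' hAG
  have hψdot : ∀ k, ψ ⬝ᵥ ck m F k = ck m F (b' + k) 0 := by
    intro k
    rw [hψ, ← dotProduct_mulVec, hA, j_pow_mulVec_ck, he, e0_dot]
  have h1 : e ⬝ᵥ (s • ck m F i) = 0 := by
    rw [he, e0_dot, Pi.smul_apply, hz i hi, smul_zero]
  have h2 : ψ ⬝ᵥ (s' • ck m F a') = 0 := by
    rw [dotProduct_smul, hψdot, hab, hz i' hi', smul_zero]
  have h3 : e ⬝ᵥ (s' • ck m F a') = 0 := by
    rw [he, e0_dot, Pi.smul_apply, hz a' (by omega), smul_zero]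
  have hc := tvm_comm (s • ck m F i) e (s' • ck m F a') ψ h1 h2 h3
  have hprod : InG G (tvm (s • ck m F i) e * tvm (s' • ck m F a') ψ * tvm (-(s • ck m F i)) e *
      tvm (-(s' • ck m F a')) ψ) :=
    inG_mul (inG_mul (inG_mul hs hw) (inG_tvm_neg h1 hs)) (inG_tvm_neg h2 hw)
  rw [hc] at hprod
  have hval : ψ ⬝ᵥ (s • ck m F i) = s * ((Nat.choose (m + 2 + r) (m + 2) : ℕ) : F) := by
    rw [dotProduct_smul, hψdot, hbi, j_ck_zero hH, smul_eq_mul]
  have hfin : (-(ψ ⬝ᵥ (s • ck m F i))) • (s' • ck m F a') =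
      (-(((Nat.choose (m + 2 + r) (m + 2) : ℕ) : F) * s * s')) • ck m F a' := by
    rw [hval, smul_smul]
    congr 1
    ring
  rw [hfin] at hprod
  exact hprod

end Cfsg.Agent.Lib.Helper27.RU4x
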