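import Mathlib
import Cfsg.Agent.Lib.Helper73.RUDefs

/-!
# K-RU pack (S2280, architect helper73), leaf G (keystone 228007), parallel hand of helper27:
columns and rows of the lower Jordan block `cMat δ`, and `phi δ ᵥ* cMat δ = e_last`.
-/

set_option autoImplicit false

namespace Cfsg.Agent.Lib.Helper27.RU

open Matrix Cfsg.Agent.Lib.Helper73.RU

theorem rug_cMat_apply (m : ℕ) (F : Type*) [Field F] (δ : F) (i j : Fin (m + 3)) :
    cMat m F δ i j =
      if i = j then 1 else if i.val = j.val + 1 then (if i = Fin.last (m + 2) then δ else 1) else 0 :=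
  rfl

/-- the entries of `cMat δ` around the subdiagonal position `(j+1, j)` -/
theorem rug_cMat_apply' (m : ℕ) (F : Type*) [Field F] (δ : F) (i j : Fin (m + 3))
    (hj : j.val + 1 < m + 3) :
    cMat m F δ i j = (if i = j then 1 else 0) +
      cMu m F δ j * (if i = (⟨j.val + 1, hj⟩ : Fin (m + 3)) then 1 else 0) := by
  rw [rug_cMat_apply]
  by_cases h1 : i = j
  · subst h1
    have : ¬ i = (⟨i.val + 1, hj⟩ : Fin (m + 3)) := by
      intro h
      have := congrArg Fin.val h
      change i.val = i.val + 1 at this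
      omega
    rw [if_pos rfl, if_pos rfl, if_neg this, mul_zero, add_zero]
  · rw [if_neg h1, if_neg h1, zero_add]
    by_cases h2 : i = (⟨j.val + 1, hj⟩ : Fin (m + 3))
    · have hv : i.val = j.val + 1 := congrArg Fin.val h2
      rw [if_pos hv, if_pos h2, mul_one]
      unfold cMu
      by_cases h3 : i = Fin.last (m + 2)
      · have hv3 : i.val = m + 2 := congrArg Fin.val h3
        rw [if_pos h3, if_pos (by omega)]
      · have hv3 : i.val ≠ m + 2 := fun h => h3 (Fin.ext h)
        rw [if_neg h3, if_neg (by omega)]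
    · have hv : ¬ i.val = j.val + 1 := fun h => h2 (Fin.ext h)
      rw [if_neg hv, if_neg h2, mul_zero]

/-- **K-RU leaf G (1)** -/
theorem cMat_mulVec_single (m : ℕ) (F : Type*) [Field F] (δ : F) (j : Fin (m + 3))
    (hj : j.val + 1 < m + 3) :
    cMat m F δ *ᵥ (Pi.single j 1 : Fin (m + 3) → F) =
      Pi.single j 1 + cMu m F δ j • Pi.single ⟨j.val + 1, hj⟩ 1 := by
  rw [Matrix.mulVec_single_one]
  ext i
  rw [Matrix.col_apply, rug_cMat_apply' m F δ i j hj, Pi.add_apply, Pi.smul_apply, smul_eq_mul,
    Pi.single_apply, Pi.single_apply]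

/-- **K-RU leaf G (2)** -/
theorem single_vecMul_cMat (m : ℕ) (F : Type*) [Field F] (δ : F) (j : Fin (m + 3))
    (hj : j.val + 1 < m + 3) :
    (Pi.single ⟨j.val + 1, hj⟩ 1 : Fin (m + 3) → F) ᵥ* cMat m F δ =
      Pi.single ⟨j.val + 1, hj⟩ 1 + cMu m F δ j • Pi.single j 1 := by
  rw [Matrix.single_one_vecMul]
  ext k
  rw [Matrix.row_apply, Pi.add_apply, Pi.smul_apply, smul_eq_mul, Pi.single_apply, Pi.single_apply]
  set j' : Fin (m + 3) := ⟨j.val + 1, hj⟩ with hj'
  have hjv : j'.val = j.val + 1 := rfl
  rw [rug_cMat_apply]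
  by_cases h1 : j' = k
  · have hkj : ¬ k = j := by
      intro h
      have := congrArg Fin.val (h1.trans h)
      omega
    rw [if_pos h1, if_pos h1.symm, if_neg hkj, mul_zero, add_zero]
  · rw [if_neg h1, if_neg (show ¬ k = j' from fun h => h1 h.symm), zero_add]
    by_cases h2 : k = j
    · subst h2
      rw [if_pos hjv, if_pos rfl, mul_one]
      unfold cMu
      by_cases h3 : j' = Fin.last (m + 2)
      · have hv3 : j'.val = m + 2 := congrArg Fin.val h3
        rw [if_pos h3, if_pos (by omega)]
      · have hv3 : j'.val ≠ m + 2 := fun h => h3 (Fin.ext h)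
        rw [if_neg h3, if_neg (by omega)]
    · have hv : ¬ j'.val = k.val + 1 := by
        intro h
        exact h2 (Fin.ext (by omega))
      rw [if_neg hv, if_neg h2, mul_zero]

/-- the last column of `cMat δ` is `e_last` -/
theorem rug_cMat_last (m : ℕ) (F : Type*) [Field F] (δ : F) (i : Fin (m + 3)) :
    cMat m F δ i (Fin.last (m + 2)) = if i = Fin.last (m + 2) then 1 else 0 := by
  rw [rug_cMat_apply]
  by_cases h : i = Fin.last (m + 2)
  · rw [if_pos h, if_pos h]
  · have h' : ¬ i.val = (Fin.last (m + 2)).val + 1 := by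
      intro h'
      have := i.2
      change i.val = m + 2 + 1 at h'
      omega
    rw [if_neg h, if_neg h', if_neg h]

/-- **K-RU leaf G (3)** -/
theorem phi_vecMul_cMat (m : ℕ) (F : Type*) [Field F] (δ : F) :
    phi m F δ ᵥ* cMat m F δ = Pi.single (Fin.last (m + 2)) 1 := by
  ext j
  rw [Matrix.vecMul_apply, Pi.single_apply]
  unfold dotProduct
  by_cases hl : j = Fin.last (m + 2)
  · subst hl
    rw [if_pos rfl]
    have : ∀ i : Fin (m + 3), phi m F δ i * (cMat m F δ).col (Fin.last (m + 2)) i =
        if i = Fin.last (m + 2) then phi m F δ (Fin.last (m + 2)) else 0 := by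
      intro i
      rw [Matrix.col_apply, rug_cMat_last]
      by_cases h : i = Fin.last (m + 2)
      · rw [if_pos h, if_pos h, mul_one, h]
      · rw [if_neg h, if_neg h, mul_zero]
    rw [Finset.sum_congr rfl (fun i _ => this i), Finset.sum_ite_eq' Finset.univ (Fin.last (m + 2))]
    rw [if_pos (Finset.mem_univ _)]
    unfold phi
    rw [if_pos rfl]
  · rw [if_neg hl]
    have hjv : j.val ≠ m + 2 := fun h => hl (Fin.ext h)
    have hj2 := j.2
    have hj : j.val + 1 < m + 3 := by omega
    set j' : Fin (m + 3) := ⟨j.val + 1, hj⟩ with hj'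
    have hjj' : j ≠ j' := by
      intro h
      have := congrArg Fin.val h
      change j.val = j.val + 1 at this
      omega
    have : ∀ i : Fin (m + 3), phi m F δ i * (cMat m F δ).col j i =
        (if i = j then phi m F δ j else 0) +
          (if i = j' then phi m F δ j' * cMu m F δ j else 0) := by
      intro i
      rw [Matrix.col_apply, rug_cMat_apply' m F δ i j hj]
      by_cases h1 : i = j
      · have h2 : ¬ i = j' := fun h => hjj' (h1.symm.trans h)
        rw [if_pos h1, if_pos h1, if_neg h2, if_neg h2, mul_zero, add_zero, mul_one, add_zero, h1]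
      · by_cases h2 : i = j'
        · rw [if_neg h1, if_neg h1, if_pos h2, if_pos h2, zero_add, zero_add, mul_one, h2]
        · rw [if_neg h1, if_neg h1, if_neg h2, if_neg h2, mul_zero, add_zero, mul_zero]
    rw [Finset.sum_congr rfl (fun i _ => this i), Finset.sum_add_distrib,
      Finset.sum_ite_eq' Finset.univ j, Finset.sum_ite_eq' Finset.univ j',
      if_pos (Finset.mem_univ _), if_pos (Finset.mem_univ _)]
    unfold phi cMu
    rw [if_neg hl]
    by_cases h3 : j' = Fin.last (m + 2)
    · have hv3 : j.val + 1 = m + 2 := congrArg Fin.val h3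
      have e1 : m + 2 - j.val = 1 := by omega
      rw [if_pos h3, if_pos (by omega), e1]
      ring
    · have hv3 : j.val + 1 ≠ m + 2 := fun h => h3 (Fin.ext h)
      have e1 : m + 2 - j.val = (m + 2 - j'.val) + 1 := by
        change m + 2 - j.val = (m + 2 - (j.val + 1)) + 1
        omega
      rw [if_neg h3, if_neg (by omega), e1, pow_succ]
      ring

end Cfsg.Agent.Lib.Helper27.RU
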