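import Mathlib
import Cfsg.Prelude.Def_CaseTheorems
import Cfsg.Agent.Lib.Helper27.S1213Wr
import Cfsg.Agent.Lib.Helper27.KleinFourAux
import Cfsg.Agent.Lib.Helper59.QDCases
import Cfsg.Agent.Lib.Helper59.QDClasses
import Cfsg.Agent.Lib.Helper59.QDBridge
import Cfsg.Agent.Lib.Helper59.QuaternionIso
import Cfsg.Agent.S1203
import Cfsg.Agent.S1204
import Cfsg.Agent.S1205
import Cfsg.Agent.S1206
import Cfsg.Agent.S1207

/-! The quasi-dihedral half of S1213. -/

set_option autoImplicit false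
set_option linter.style.haveILetI false
set_option linter.unusedSectionVars false

namespace Cfsg.Agent.Lib.Helper27

open Cfsg Cfsg.Agent.Lib.Helper59

section general

theorem isQuasiDihedral_of_mulEquiv {A B : Type*} [Group A] [Group B] (e : A ≃* B)
    (hA : Cfsg.IsQuasiDihedral A) : Cfsg.IsQuasiDihedral B := by
  obtain ⟨n, hn, hc, x, y, h1, h2, h3⟩ := hA
  refine ⟨n, hn, ?_, e x, e y, ?_, ?_, ?_⟩
  · rw [← Nat.card_congr e.toEquiv, hc]
  · rw [MulEquiv.orderOf_eq, h1]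
  · rw [MulEquiv.orderOf_eq, h2]
  · rw [← map_inv, ← map_mul, ← map_mul, h3, map_pow]

/-- if there is exactly one class of involutions, any two involutions are conjugate -/
theorem isConj_of_card_classes_eq_one {Γ : Type*} [Group Γ]
    (hcard : Nat.card {C : ConjClasses Γ // ∃ t : Γ, orderOf t = 2 ∧ ConjClasses.mk t = C} = 1)
    {t t' : Γ} (ht : orderOf t = 2) (ht' : orderOf t' = 2) : IsConj t t' := by
  have hsub := (Nat.card_eq_one_iff_unique.mp hcard).1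
  have := @Subsingleton.elim _ hsub
    (⟨ConjClasses.mk t, t, ht, rfl⟩ :
      {C : ConjClasses Γ // ∃ t : Γ, orderOf t = 2 ∧ ConjClasses.mk t = C})
    ⟨ConjClasses.mk t', t', ht', rfl⟩
  exact ConjClasses.mk_eq_mk_iff_isConj.mp (congrArg Subtype.val this)

end general

section QDSylow

variable {G : Type*} [Group G] [Finite G] {S : Sylow 2 G} {k : ℕ} {x y : ↥(S : Subgroup G)}

/-- a Klein four-subgroup of a quasi-dihedral Sylow 2-subgroup -/
theorem exists_klein_QD (hq : QD ↥(S : Subgroup G) k x y) :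
    ∃ T : Subgroup G, IsKleinFour T ∧ T ≤ (S : Subgroup G) := by
  have ha : (((x ^ (4 * 2 ^ k : ℤ) : ↥(S : Subgroup G)) : G)) ^ 2 = 1 := by
    rw [sq, ← Subgroup.coe_mul, hq.z_sq]; rfl
  have hb : ((y : ↥(S : Subgroup G)) : G) ^ 2 = 1 := by
    rw [sq, ← Subgroup.coe_mul, hq.y_sq]; rfl
  have hab : ((x ^ (4 * 2 ^ k : ℤ) : ↥(S : Subgroup G)) : G) * (y : G) =
      (y : G) * ((x ^ (4 * 2 ^ k : ℤ) : ↥(S : Subgroup G)) : G) := by
    rw [← Subgroup.coe_mul, ← Subgroup.coe_mul, hq.z_comm_y]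
  refine ⟨v4 ha hb hab, v4_isKleinFour ha hb hab ?_ ?_ ?_, ?_⟩
  · intro h1
    exact hq.z_ne_one (Subtype.ext h1)
  · intro h1
    have : orderOf (y : G) = 2 := by rw [Subgroup.orderOf_coe]; exact hq.hy
    rw [h1, orderOf_one] at this
    omega
  · intro h1
    have h2 : x ^ (4 * 2 ^ k : ℤ) = y := Subtype.ext h1
    apply hq.y_notMem
    rw [← h2]
    exact Subgroup.zpow_mem _ (Subgroup.mem_zpowers x) _
  · intro g hg
    rw [mem_v4_iff] at hg
    rcases hg with rfl | rfl | rfl | rfl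
    · exact Subgroup.one_mem _
    · exact Subtype.property _
    · exact Subtype.property _
    · exact Subgroup.mul_mem _ (Subtype.property _) (Subtype.property _)

/-- a quaternion subgroup of order 8 of a quasi-dihedral Sylow 2-subgroup -/
theorem exists_Q8_QD (hq : QD ↥(S : Subgroup G) k x y) :
    ∃ Q : Subgroup G, Q ≤ (S : Subgroup G) ∧ Nonempty (Q ≃* QuaternionGroup 2) := by
  have hord : orderOf (x ^ (2 * 2 ^ k : ℤ)) = 2 * 2 := by
    have := orderOf_uG S hq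
    rw [Subgroup.orderOf_coe] at this
    rw [this]
  have hb : (x ^ (1 : ℤ) * y) * (x ^ (1 : ℤ) * y) = (x ^ (2 * 2 ^ k : ℤ)) ^ 2 := by
    rw [hq.sq_xy, ← zpow_natCast, ← zpow_mul]
    congr 1
    push_cast; ring
  have hcb : (x ^ (1 : ℤ) * y) * x ^ (2 * 2 ^ k : ℤ) * (x ^ (1 : ℤ) * y)⁻¹ =
      (x ^ (2 * 2 ^ k : ℤ))⁻¹ := by
    rw [hq.conj_x_by_xy, ← zpow_neg, hq.zpow_eq_zpow]
    exact ⟨2 ^ k, by ring⟩
  have hbn : x ^ (1 : ℤ) * y ∉ Subgroup.zpowers (x ^ (2 * 2 ^ k : ℤ)) := by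
    intro hmem
    rw [Subgroup.mem_zpowers_iff] at hmem
    obtain ⟨i, hi⟩ := hmem
    rw [← zpow_mul] at hi
    exact hq.xy_ne_x _ _ hi.symm
  have hinj := quatHom_injective 2 (x ^ (2 * 2 ^ k : ℤ)) (x ^ (1 : ℤ) * y) hord hb hcb hbn
  refine ⟨(quatHom 2 (x ^ (2 * 2 ^ k : ℤ)) (x ^ (1 : ℤ) * y)
    (by rw [← hord]; exact pow_orderOf_eq_one _) hb hcb).range.map (S : Subgroup G).subtype,
    ?_, ⟨?_⟩⟩
  · rintro _ ⟨t, -, rfl⟩
    exact t.2
  · exact (Subgroup.equivMapOfInjective _ _ (Subgroup.subtype_injective _)).symm.trans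
      (MonoidHom.ofInjective hinj).symm

/-- the central involution lies in every quaternion subgroup of order 8 -/
theorem zG_mem_quat (hq : QD ↥(S : Subgroup G) k x y) (Q : Subgroup G)
    (hQS : Q ≤ (S : Subgroup G)) (eQ : Q ≃* QuaternionGroup 2) :
    ((x ^ (4 * 2 ^ k : ℤ) : ↥(S : Subgroup G)) : G) ∈ Q := by
  have := hq.z_mem_quat (Q.subgroupOf (S : Subgroup G))
    ((Subgroup.subgroupOfEquivOfLe hQS).trans eQ)
  exact Subgroup.mem_subgroupOf.mp this

/-- the central involution is the only involution of a quaternion subgroup of order 8 -/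
theorem quat_invol_unique_G (hq : QD ↥(S : Subgroup G) k x y) (Q : Subgroup G)
    (hQS : Q ≤ (S : Subgroup G)) (eQ : Q ≃* QuaternionGroup 2) {b : G} (hb : b ∈ Q)
    (hb2 : b * b = 1) (hb1 : b ≠ 1) :
    b = ((x ^ (4 * 2 ^ k : ℤ) : ↥(S : Subgroup G)) : G) := by
  have := hq.quat_invol_unique (Q.subgroupOf (S : Subgroup G))
    ((Subgroup.subgroupOfEquivOfLe hQS).trans eQ) ⟨b, hQS hb⟩
    (Subgroup.mem_subgroupOf.mpr hb) (Subtype.ext hb2) (fun hc => hb1 (congrArg Subtype.val hc))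
  exact congrArg Subtype.val this

/-- without subgroups of index two, both automizers have order six -/
theorem qd_six_six (hS : Cfsg.IsQuasiDihedral (S : Subgroup G))
    (hq : QD ↥(S : Subgroup G) k x y) (hG : ∀ H : Subgroup G, H.index ≠ 2)
    (T : Subgroup G) (hT : IsKleinFour T) (hTS : T ≤ (S : Subgroup G))
    (Q : Subgroup G) (hQS : Q ≤ (S : Subgroup G)) (eQ : Q ≃* QuaternionGroup 2) :
    (Subgroup.centralizer (T : Set G)).relIndex (Subgroup.normalizer (T : Set G)) = 6 ∧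
    (Q ⊔ Subgroup.centralizer (Q : Set G)).relIndex (Subgroup.normalizer (Q : Set G)) = 6 := by
  haveI : Fact (Nat.Prime 2) := ⟨Nat.prime_two⟩
  obtain ⟨hA, hB⟩ := Cfsg.Agent.S1203.result S hS T hT hTS Q hQS eQ
  rcases hA with hA | hA <;> rcases hB with hB | hB
  · exfalso
    obtain ⟨hnpc, -⟩ := Cfsg.Agent.S1207.result S hS T hT hTS Q hQS eQ hA hB
    obtain ⟨N, hNn, hN⟩ := (Cfsg.Agent.Lib.Helper03.hasNormalPComplement_iff S).mp hnpc
    haveI := hNn
    have hidx : N.index = 2 ^ (k + 4) := by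
      rw [hN.symm.index_eq_card, hq.card]
    obtain ⟨H, hH⟩ := exists_index_two_of_normal_index_pow (by omega) hidx
    exact hG H hH
  · exfalso
    obtain ⟨⟨K, -, hidx, -, -⟩, -⟩ := Cfsg.Agent.S1205.result S hS T hT hTS Q hQS eQ hA hB
    exact hG K hidx
  · exfalso
    obtain ⟨⟨K, -, hidx, -, -⟩, -⟩ := Cfsg.Agent.S1206.result S hS T hT hTS Q hQS eQ hA hB
    exact hG K hidx
  · exact ⟨hA, hB⟩

/-- the structure of the centralizer of the central involution when `|N_G(Q) : Q C_G(Q)| = 6` -/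
theorem qd_centralizer_structure (hS : Cfsg.IsQuasiDihedral (S : Subgroup G))
    (hq : QD ↥(S : Subgroup G) k x y)
    (Q : Subgroup G) (hQS : Q ≤ (S : Subgroup G)) (eQ : Q ≃* QuaternionGroup 2)
    (h₂ : (Q ⊔ Subgroup.centralizer (Q : Set G)).relIndex (Subgroup.normalizer (Q : Set G)) = 6)
    (x₁ : G) (hx₁ : x₁ = ((x ^ (4 * 2 ^ k : ℤ) : ↥(S : Subgroup G)) : G)) :
    ∃ R : Sylow 2 ↥(Subgroup.centralizer ({x₁} : Set G)), Nat.card R = Nat.card S ∧
      (∃ K : Subgroup ↥(Subgroup.centralizer ({x₁} : Set G)), K.Normal ∧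
        (∃ a : ℕ, K.index = 2 ^ a) ∧ (∀ H : Subgroup ↥K, H.index ≠ 2) ∧
        (∀ P : Sylow 2 ↥K, ∃ m : ℕ, 1 ≤ m ∧
          Nonempty ((P : Subgroup ↥K) ≃* QuaternionGroup (2 ^ m)))) ∧
      (∀ Z₀ : Subgroup ↥(Subgroup.centralizer ({x₁} : Set G)),
        Z₀ ≤ ((Subgroup.center (R : Subgroup ↥(Subgroup.centralizer ({x₁} : Set G)))).map
          (R : Subgroup ↥(Subgroup.centralizer ({x₁} : Set G))).subtype) →
        Cfsg.IsWeaklyClosed Z₀ (R : Subgroup ↥(Subgroup.centralizer ({x₁} : Set G)))) := by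
  subst hx₁
  haveI : Fact (Nat.Prime 2) := ⟨Nat.prime_two⟩
  set zG : G := ((x ^ (4 * 2 ^ k : ℤ) : ↥(S : Subgroup G)) : G) with hzG
  set C := Subgroup.centralizer ({zG} : Set G) with hC
  have hmemC : ∀ g : G, g ∈ C ↔ zG * g = g * zG := by
    intro g
    rw [hC, Subgroup.mem_centralizer_iff]
    constructor
    · intro hg; exact hg _ rfl
    · intro hg w hw
      rw [Set.mem_singleton_iff] at hw
      rw [hw]; exact hg
  have hTC : (S : Subgroup G) ≤ C := by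
    intro s hs
    rw [hmemC]
    have := hq.central_of_dvd (4 * 2 ^ k) (dvd_refl _) ⟨s, hs⟩
    exact (congrArg Subtype.val this).symm
  have hP : IsPGroup 2 ((S : Subgroup G).subgroupOf C) := S.2.comap_subtype
  have hidx : ¬ 2 ∣ ((S : Subgroup G).subgroupOf C).index := fun hd =>
    S.not_dvd_index (hd.trans (Subgroup.relIndex_dvd_index_of_le hTC))
  set R : Sylow 2 ↥C := hP.toSylow hidx with hR
  have hRmem : ∀ c : ↥C, c ∈ (R : Subgroup ↥C) ↔ (c : G) ∈ (S : Subgroup G) := fun c => Iff.rfl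
  have eR : ↥(R : Subgroup ↥C) ≃* ↥(S : Subgroup G) := Subgroup.subgroupOfEquivOfLe hTC
  have hRq : Cfsg.IsQuasiDihedral ↥(R : Subgroup ↥C) := isQuasiDihedral_of_mulEquiv eR.symm hS
  obtain ⟨k', xc, yc, hc⟩ := exists_QD_of_isQuasiDihedral hRq
  refine ⟨R, Nat.card_congr eR.toEquiv, ?_⟩
  -- the central involution of `R` is `zG`
  have hzC : zG ∈ C := hTC (Subtype.property _)
  have hcentral : ∀ c : ↥C, c * (⟨zG, hzC⟩ : ↥C) = ⟨zG, hzC⟩ * c := by
    intro c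
    apply Subtype.ext
    exact ((hmemC c).mp c.2).symm
  have hzR : (⟨zG, hzC⟩ : ↥C) ∈ (R : Subgroup ↥C) := by
    rw [hRmem]; exact (x ^ (4 * 2 ^ k : ℤ) : ↥(S : Subgroup G)).2
  have hz2 : orderOf (⟨zG, hzC⟩ : ↥C) = 2 := by
    rw [Subgroup.orderOf_mk]; exact orderOf_zG S hq
  have hxc : (⟨zG, hzC⟩ : ↥C) = ((xc ^ (4 * 2 ^ k' : ℤ) : ↥(R : Subgroup ↥C)) : ↥C) := by
    have h1 : (⟨⟨zG, hzC⟩, hzR⟩ : ↥(R : Subgroup ↥C)) ∈ Subgroup.center ↥(R : Subgroup ↥C) := by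
      rw [Subgroup.mem_center_iff]
      intro r
      apply Subtype.ext
      exact hcentral r
    have h2 : (⟨⟨zG, hzC⟩, hzR⟩ : ↥(R : Subgroup ↥C)) * ⟨⟨zG, hzC⟩, hzR⟩ = 1 := by
      apply Subtype.ext
      show (⟨zG, hzC⟩ : ↥C) * ⟨zG, hzC⟩ = 1
      rw [← sq, ← hz2]; exact pow_orderOf_eq_one _
    have h3 : (⟨⟨zG, hzC⟩, hzR⟩ : ↥(R : Subgroup ↥C)) ≠ 1 := by
      intro h0
      have : (⟨zG, hzC⟩ : ↥C) = 1 := congrArg Subtype.val h0
      rw [this, orderOf_one] at hz2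
      omega
    rcases hc.invol_cases _ h2 h3 with h4 | ⟨j, h4⟩
    · exact congrArg Subtype.val h4
    · exfalso
      rw [hc.center_eq, Subgroup.mem_zpowers_iff] at h1
      obtain ⟨i, hi⟩ := h1
      rw [h4, ← zpow_mul] at hi
      exact hc.xy_ne_x _ _ hi.symm
  -- two non-conjugate involutions of `C`
  have hnc : ¬ IsConj (⟨zG, hzC⟩ : ↥C) ((yc : ↥(R : Subgroup ↥C)) : ↥C) := by
    intro hcon
    obtain ⟨c, hcc⟩ := isConj_iff.mp hcon
    have e1 : c * (⟨zG, hzC⟩ : ↥C) * c⁻¹ = ⟨zG, hzC⟩ := by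
      rw [hcentral c]; group
    rw [e1, hxc] at hcc
    have : xc ^ (4 * 2 ^ k' : ℤ) = yc := Subtype.ext hcc
    apply hc.y_notMem
    rw [← this]
    exact Subgroup.zpow_mem _ (Subgroup.mem_zpowers xc) _
  have hy2 : orderOf (((yc : ↥(R : Subgroup ↥C)) : ↥C)) = 2 := orderOf_yG R hc
  obtain ⟨TC, hTCk, hTCR⟩ := exists_klein_QD hc
  obtain ⟨QC, hQCR, ⟨eQC⟩⟩ := exists_Q8_QD hc
  obtain ⟨hA, hB⟩ := Cfsg.Agent.S1203.result R hRq TC hTCk hTCR QC hQCR eQC
  rcases hA with hA | hA <;> rcases hB with hB | hB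
  · -- (2,2): impossible, as `C` would have a normal 2-complement
    exfalso
    obtain ⟨hnpc, -⟩ := Cfsg.Agent.S1207.result R hRq TC hTCk hTCR QC hQCR eQC hA hB
    have hF := Cfsg.Agent.Lib.Helper41.frobCond_of_hasNormalPComplement hnpc
    obtain ⟨g, hgN, hodd, hgC⟩ := exists_odd_not_mem _ _
      (sup_le Subgroup.le_normalizer (centralizer_le_normalizer' Q))
      (normalizer_le_normalizer_sup_centralizer Q) (by
        rw [h₂]
        rintro ⟨j, hj⟩
        have h3 : (3 : ℕ) ∣ 2 ^ j := by rw [← hj]; norm_num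
        have := (Nat.Prime.dvd_of_dvd_pow Nat.prime_three h3)
        omega)
    have hzQ : zG ∈ Q := zG_mem_quat hq Q hQS eQ
    have hgz : g * zG * g⁻¹ = zG := by
      apply quat_invol_unique_G hq Q hQS eQ ((Subgroup.mem_normalizer_iff.mp hgN _).mp hzQ)
      · have : g * zG * g⁻¹ * (g * zG * g⁻¹) = g * (zG * zG) * g⁻¹ := by group
        rw [this]
        have h2 : zG * zG = 1 := by
          rw [← sq, ← orderOf_zG S hq]; exact pow_orderOf_eq_one _
        rw [h2]; group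
      · intro h0
        have : zG = 1 := by
          have e : zG = g⁻¹ * (g * zG * g⁻¹) * g := by group
          rw [e, h0]; group
        have h2 := orderOf_zG S hq
        rw [← hzG, this, orderOf_one] at h2
        omega
    have hgCC : g ∈ C := by
      rw [hmemC]
      calc zG * g = (g * zG * g⁻¹) * g := by rw [hgz]
        _ = g * zG := by group
    have hQp : IsPGroup 2 (Q.subgroupOf C) := (S.2.to_le hQS).comap_subtype
    have hgN' : (⟨g, hgCC⟩ : ↥C) ∈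
        Subgroup.normalizer ((Q.subgroupOf C : Subgroup ↥C) : Set ↥C) := by
      rw [Subgroup.mem_normalizer_iff]
      intro w
      rw [Subgroup.mem_subgroupOf, Subgroup.mem_subgroupOf]
      exact Subgroup.mem_normalizer_iff.mp hgN (w : G)
    have hcop : Nat.Coprime (orderOf (⟨g, hgCC⟩ : ↥C)) 2 := by
      rw [Subgroup.orderOf_mk]; exact Nat.coprime_two_right.mpr hodd
    have hcent := hF _ hQp _ hgN' hcop
    apply hgC
    apply Subgroup.mem_sup_right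
    rw [Subgroup.mem_centralizer_iff] at hcent ⊢
    intro q hq'
    have h3 := hcent (⟨q, hTC (hQS hq')⟩ : ↥C) (by
      rw [SetLike.mem_coe, Subgroup.mem_subgroupOf]; exact hq')
    exact congrArg Subtype.val h3
  · -- (2,6): the quaternion case
    obtain ⟨⟨K, hKn, hKi, hKs, hKh⟩, hwc, -⟩ :=
      Cfsg.Agent.S1205.result R hRq TC hTCk hTCR QC hQCR eQC hA hB
    refine ⟨⟨K, hKn, ⟨1, by rw [hKi, pow_one]⟩, hKh, hKs⟩, ?_⟩
    intro Z₀ hZ₀
    set Zc := (Subgroup.center ↥(R : Subgroup ↥C)).map (R : Subgroup ↥C).subtype with hZc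
    have hcardZ : Nat.card Zc = 2 := by
      rw [hZc, Subgroup.card_map_of_injective (Subgroup.subtype_injective _), hc.card_center]
    have hdvd : Nat.card Z₀ ∣ 2 := by
      rw [← hcardZ]; exact Subgroup.card_dvd_of_le hZ₀
    rcases (Nat.dvd_prime Nat.prime_two).mp hdvd with h1 | h1
    · have : Z₀ = ⊥ := Subgroup.card_eq_one.mp h1
      rw [this]
      exact ⟨bot_le, fun g _ => Subgroup.map_bot _⟩
    · have : Z₀ = Zc := Subgroup.eq_of_le_of_card_ge hZ₀ (by rw [hcardZ, h1])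
      rw [this]
      exact hwc
  · -- (6,2): one class of involutions, impossible
    exfalso
    obtain ⟨-, hcl, -⟩ := Cfsg.Agent.S1206.result R hRq TC hTCk hTCR QC hQCR eQC hA hB
    exact hnc (isConj_of_card_classes_eq_one hcl hz2 hy2)
  · -- (6,6): one class of involutions, impossible
    exfalso
    obtain ⟨-, hcl, -⟩ := Cfsg.Agent.S1204.result R hRq TC hTCk hTCR QC hQCR eQC hA hB
    exact hnc (isConj_of_card_classes_eq_one hcl hz2 hy2)

/-- an involution in the centre of a quasi-dihedral Sylow 2-subgroup is the central involution -/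
theorem eq_zG_of_central_QD (hq : QD ↥(S : Subgroup G) k x y) {t : G}
    (ht : t ∈ (S : Subgroup G)) (ht2 : orderOf t = 2)
    (hc : ∀ s ∈ (S : Subgroup G), s * t = t * s) :
    t = ((x ^ (4 * 2 ^ k : ℤ) : ↥(S : Subgroup G)) : G) := by
  have h1 : (⟨t, ht⟩ : ↥(S : Subgroup G)) ∈ Subgroup.center ↥(S : Subgroup G) := by
    rw [Subgroup.mem_center_iff]
    intro r
    apply Subtype.ext
    exact hc r r.2
  have h2 : (⟨t, ht⟩ : ↥(S : Subgroup G)) * ⟨t, ht⟩ = 1 := by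
    apply Subtype.ext
    show t * t = 1
    rw [← sq, ← ht2]; exact pow_orderOf_eq_one _
  have h3 : (⟨t, ht⟩ : ↥(S : Subgroup G)) ≠ 1 := by
    intro h0
    have : t = 1 := congrArg Subtype.val h0
    rw [this, orderOf_one] at ht2
    omega
  rcases hq.invol_cases _ h2 h3 with h4 | ⟨j, h4⟩
  · exact congrArg Subtype.val h4
  · exfalso
    rw [hq.center_eq, Subgroup.mem_zpowers_iff] at h1
    obtain ⟨i, hi⟩ := h1
    rw [h4, ← zpow_mul] at hi
    exact hq.xy_ne_x _ _ hi.symm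

/-- the quasi-dihedral half of S1213 -/
theorem qd_half (S : Sylow 2 G) (hS : Cfsg.IsQuasiDihedral (S : Subgroup G))
    (hG : ∀ H : Subgroup G, H.index ≠ 2) (x₁ : G) (hx : orderOf x₁ = 2) :
    ∃ R : Sylow 2 ↥(Subgroup.centralizer ({x₁} : Set G)), Nat.card R = Nat.card S ∧
      (∃ K : Subgroup ↥(Subgroup.centralizer ({x₁} : Set G)), K.Normal ∧
        (∃ a : ℕ, K.index = 2 ^ a) ∧ (∀ H : Subgroup ↥K, H.index ≠ 2) ∧
        (∀ P : Sylow 2 ↥K, ∃ m : ℕ, 1 ≤ m ∧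
          Nonempty ((P : Subgroup ↥K) ≃* QuaternionGroup (2 ^ m)))) ∧
      (∀ Z₀ : Subgroup ↥(Subgroup.centralizer ({x₁} : Set G)),
        Z₀ ≤ ((Subgroup.center (R : Subgroup ↥(Subgroup.centralizer ({x₁} : Set G)))).map
          (R : Subgroup ↥(Subgroup.centralizer ({x₁} : Set G))).subtype) →
        Cfsg.IsWeaklyClosed Z₀ (R : Subgroup ↥(Subgroup.centralizer ({x₁} : Set G)))) := by
  haveI : Fact (Nat.Prime 2) := ⟨Nat.prime_two⟩
  obtain ⟨k, x, y, hq⟩ := exists_QD_of_isQuasiDihedral hS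
  obtain ⟨T, hT, hTS⟩ := exists_klein_QD hq
  obtain ⟨Q, hQS, ⟨eQ⟩⟩ := exists_Q8_QD hq
  obtain ⟨h₁, h₂⟩ := qd_six_six hS hq hG T hT hTS Q hQS eQ
  obtain ⟨-, hcl, -⟩ := Cfsg.Agent.S1204.result S hS T hT hTS Q hQS eQ h₁ h₂
  have hxz : IsConj ((x ^ (4 * 2 ^ k : ℤ) : ↥(S : Subgroup G)) : G) x₁ :=
    isConj_of_card_classes_eq_one hcl (orderOf_zG S hq) hx
  obtain ⟨g, hg⟩ := isConj_iff.mp hxz
  have hS' : Cfsg.IsQuasiDihedral ↥((g • S : Sylow 2 G) : Subgroup G) :=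
    isQuasiDihedral_of_mulEquiv (S.equivSMul g) hS
  obtain ⟨k', x', y', hq'⟩ := exists_QD_of_isQuasiDihedral hS'
  have hmem : ∀ s' : G, s' ∈ ((g • S : Sylow 2 G) : Subgroup G) ↔
      ∃ s ∈ (S : Subgroup G), g * s * g⁻¹ = s' := by
    intro s'
    rw [Sylow.coe_subgroup_smul, Subgroup.mem_smul_pointwise_iff_exists]
    rfl
  have hx₁ : x₁ = ((x' ^ (4 * 2 ^ k' : ℤ) : ↥((g • S : Sylow 2 G) : Subgroup G)) : G) := by
    apply eq_zG_of_central_QD hq' _ hx
    · intro s' hs'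
      obtain ⟨s, hs, rfl⟩ := (hmem s').mp hs'
      rw [← hg]
      have := hq.central_of_dvd (4 * 2 ^ k) (dvd_refl _) ⟨s, hs⟩
      have h5 : s * ((x ^ (4 * 2 ^ k : ℤ) : ↥(S : Subgroup G)) : G) =
          ((x ^ (4 * 2 ^ k : ℤ) : ↥(S : Subgroup G)) : G) * s := congrArg Subtype.val this
      calc g * s * g⁻¹ * (g * ((x ^ (4 * 2 ^ k : ℤ) : ↥(S : Subgroup G)) : G) * g⁻¹)
          = g * (s * ((x ^ (4 * 2 ^ k : ℤ) : ↥(S : Subgroup G)) : G)) * g⁻¹ := by group
        _ = g * (((x ^ (4 * 2 ^ k : ℤ) : ↥(S : Subgroup G)) : G) * s) * g⁻¹ := by rw [h5]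
        _ = g * ((x ^ (4 * 2 ^ k : ℤ) : ↥(S : Subgroup G)) : G) * g⁻¹ * (g * s * g⁻¹) := by group
    · rw [hmem]
      exact ⟨_, (x ^ (4 * 2 ^ k : ℤ) : ↥(S : Subgroup G)).2, hg⟩
  obtain ⟨T', hT', hT'S⟩ := exists_klein_QD hq'
  obtain ⟨Q', hQ'S, ⟨eQ'⟩⟩ := exists_Q8_QD hq'
  obtain ⟨-, h₂'⟩ := qd_six_six hS' hq' hG T' hT' hT'S Q' hQ'S eQ'
  obtain ⟨R, hRc, hR⟩ := qd_centralizer_structure hS' hq' Q' hQ'S eQ' h₂' x₁ hx₁
  refine ⟨R, ?_, hR⟩
  rw [hRc]
  exact (Nat.card_congr (S.equivSMul g).toEquiv).symm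

end QDSylow

end Cfsg.Agent.Lib.Helper27
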