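import Mathlib
import Cfsg.Prelude.Def_CaseTheorems
import Cfsg.Agent.Lib.Helper27.WreathedCenter

set_option autoImplicit false
set_option linter.style.haveILetI false
set_option linter.unusedSectionVars false

namespace Cfsg.Agent.Lib.Helper27

open Cfsg

theorem ofAdd_hh_sq {n : ℕ} (hn : 1 ≤ n) :
    (Multiplicative.ofAdd (hh n)) ^ 2 = 1 := by
  rw [← ofAdd_nsmul, nsmul_eq_mul, Nat.cast_ofNat, two_mul_hh hn]; rfl

theorem mem_zpowers_hh_iff {n : ℕ} (hn : 1 ≤ n) (a : Multiplicative (ZMod (2 ^ n))) :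
    a ∈ Subgroup.zpowers (Multiplicative.ofAdd (hh n)) ↔
      Multiplicative.toAdd a = 0 ∨ Multiplicative.toAdd a = hh n := by
  constructor
  · intro ha
    obtain ⟨k, rfl⟩ := Subgroup.mem_zpowers_iff.mp ha
    have h1 : ((Multiplicative.ofAdd (hh n)) ^ k) ^ 2 = 1 := by
      rw [← zpow_natCast, ← zpow_mul, mul_comm, zpow_mul, zpow_natCast, ofAdd_hh_sq hn, one_zpow]
    have h2 : 2 * Multiplicative.toAdd ((Multiplicative.ofAdd (hh n)) ^ k) = 0 := by
      have := congrArg Multiplicative.toAdd h1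
      rw [toAdd_pow, nsmul_eq_mul, Nat.cast_ofNat] at this
      exact this
    exact (two_mul_eq_zero_iff hn _).mp h2
  · rintro (h0 | h1)
    · have : a = 1 := Multiplicative.toAdd.injective h0
      rw [this]; exact Subgroup.one_mem _
    · have : a = Multiplicative.ofAdd (hh n) := Multiplicative.toAdd.injective h1
      rw [this]; exact Subgroup.mem_zpowers _

namespace IsWr

variable {S : Type*} [Group S] [Finite S] {n : ℕ} {x y z : S}

theorem sigmaS_surjective (h : IsWr n x y z) : Function.Surjective h.sigmaS := by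
  intro a
  exact ⟨h.P (Multiplicative.toAdd a) 0, by rw [h.sigmaS_P, add_zero]; rfl⟩

/-- the subgroup generated by the involutions -/
noncomputable def Om (h : IsWr n x y z) : Subgroup S :=
  (Subgroup.zpowers (Multiplicative.ofAdd (hh n))).comap h.sigmaS

theorem P_mem_Om_iff (h : IsWr n x y z) (i j : ZMod (2 ^ n)) :
    h.P i j ∈ h.Om ↔ i + j = 0 ∨ i + j = hh n := by
  rw [Om, Subgroup.mem_comap, mem_zpowers_hh_iff h.one_le_n, h.sigmaS_P]; rfl

theorem Q_mem_Om_iff (h : IsWr n x y z) (i j : ZMod (2 ^ n)) :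
    h.Q i j ∈ h.Om ↔ i + j = 0 ∨ i + j = hh n := by
  rw [Om, Subgroup.mem_comap, mem_zpowers_hh_iff h.one_le_n, h.sigmaS_Q]; rfl

theorem orderOf_P_hh_zero (h : IsWr n x y z) : orderOf (h.P (hh n) 0) = 2 :=
  (h.orderOf_P_eq_two_iff _ _).mpr ⟨Or.inr rfl, Or.inl rfl, fun hc => hh_ne_zero h.one_le_n hc.1⟩

theorem closure_involutions (h : IsWr n x y z) :
    Subgroup.closure {s : S | orderOf s = 2} = h.Om := by
  have hn1 := h.one_le_n
  apply le_antisymm
  · rw [Subgroup.closure_le]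
    intro t ht
    have ht' : orderOf t = 2 := ht
    rcases h.cases t with ⟨i, j, rfl⟩ | ⟨i, j, rfl⟩
    · rw [h.orderOf_P_eq_two_iff] at ht'
      obtain ⟨hi, hj, -⟩ := ht'
      rw [SetLike.mem_coe, h.P_mem_Om_iff]
      rcases hi with rfl | rfl <;> rcases hj with rfl | rfl
      · left; ring
      · right; ring
      · right; ring
      · left; exact hh_add_hh hn1
    · rw [h.orderOf_Q_eq_two_iff] at ht'
      rw [SetLike.mem_coe, h.Q_mem_Om_iff]
      left; exact ht'
  · have hQ0 : ∀ i j : ZMod (2 ^ n), i + j = 0 →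
        h.Q i j ∈ Subgroup.closure {s : S | orderOf s = 2} := by
      intro i j hij
      exact Subgroup.subset_closure ((h.orderOf_Q_eq_two_iff i j).mpr hij)
    have hPh : h.P (hh n) 0 ∈ Subgroup.closure {s : S | orderOf s = 2} :=
      Subgroup.subset_closure h.orderOf_P_hh_zero
    have hP0 : ∀ i j : ZMod (2 ^ n), i + j = 0 →
        h.P i j ∈ Subgroup.closure {s : S | orderOf s = 2} := by
      intro i j hij
      have e : h.P i j = h.Q i j * h.Q 0 0 := by
        rw [h.Q_mul_Q, add_zero, add_zero]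
      rw [e]
      exact Subgroup.mul_mem _ (hQ0 i j hij) (hQ0 0 0 (add_zero 0))
    intro s hs
    rcases h.cases s with ⟨i, j, rfl⟩ | ⟨i, j, rfl⟩
    · rw [h.P_mem_Om_iff] at hs
      rcases hs with h0 | h1
      · exact hP0 i j h0
      · have e : h.P i j = h.P (hh n) 0 * h.P (i - hh n) j := by
          rw [h.P_mul_P]; congr 1 <;> ring
        rw [e]
        refine Subgroup.mul_mem _ hPh (hP0 _ _ ?_)
        rw [sub_add_eq_add_sub, h1, sub_self]
    · rw [h.Q_mem_Om_iff] at hs
      rcases hs with h0 | h1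
      · exact hQ0 i j h0
      · have e : h.Q i j = h.P (hh n) 0 * h.Q (i - hh n) j := by
          rw [h.P_mul_Q]; congr 1 <;> ring
        rw [e]
        refine Subgroup.mul_mem _ hPh (hQ0 _ _ ?_)
        rw [sub_add_eq_add_sub, h1, sub_self]

theorem card_Om (h : IsWr n x y z) : Nat.card h.Om = 2 ^ (n + 2) := by
  have hn1 := h.one_le_n
  haveI : Fact (Nat.Prime 2) := ⟨Nat.prime_two⟩
  have ho : orderOf (Multiplicative.ofAdd (hh n)) = 2 := by
    rw [orderOf_eq_prime_iff]
    refine ⟨ofAdd_hh_sq hn1, ?_⟩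
    intro h1
    exact hh_ne_zero hn1 (congrArg Multiplicative.toAdd h1)
  have h1 := (Subgroup.zpowers (Multiplicative.ofAdd (hh n))).card_mul_index
  rw [Nat.card_zpowers, ho] at h1
  have h2 : Nat.card (Multiplicative (ZMod (2 ^ n))) = 2 ^ n := by simp
  rw [h2] at h1
  have h3 : h.Om.index = (Subgroup.zpowers (Multiplicative.ofAdd (hh n))).index :=
    Subgroup.index_comap_of_surjective _ h.sigmaS_surjective
  have h4 := h.Om.card_mul_index
  rw [h3, h.card] at h4
  obtain ⟨I, hI⟩ : ∃ I, I = (Subgroup.zpowers (Multiplicative.ofAdd (hh n))).index := ⟨_, rfl⟩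
  rw [← hI] at h1 h4
  have hIpos : 0 < I := by
    rcases Nat.eq_zero_or_pos I with h0 | hp
    · rw [h0, mul_zero] at h1
      have : 0 < 2 ^ n := by positivity
      omega
    · exact hp
  have h5 : 2 ^ (2 * n + 1) = 2 ^ (n + 2) * I := by
    have : 2 ^ (2 * n + 1) = 2 ^ (n + 1) * 2 ^ n := by rw [← pow_add]; congr 1; ring
    rw [this, ← h1, pow_succ 2 (n + 1)]; ring
  rw [h5] at h4
  exact Nat.eq_of_mul_eq_mul_right hIpos h4

theorem Om_sup_zpowers (h : IsWr n x y z) : h.Om ⊔ Subgroup.zpowers x = ⊤ := by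
  rw [eq_top_iff]
  intro g _
  obtain ⟨c, hc⟩ : ∃ c, c = Multiplicative.toAdd (h.sigmaS g) := ⟨_, rfl⟩
  have e : g = (g * h.P (-c) 0) * h.P c 0 := by
    rw [mul_assoc, h.P_mul_P, neg_add_cancel, add_zero, h.P_zero, mul_one]
  rw [e]
  apply Subgroup.mul_mem_sup
  · rw [Om, Subgroup.mem_comap, map_mul, h.sigmaS_P, add_zero]
    have : h.sigmaS g * Multiplicative.ofAdd (-c) = 1 := by
      rw [hc, ofAdd_neg, ofAdd_toAdd, mul_inv_cancel]
    rw [this]; exact Subgroup.one_mem _
  · have : h.P c 0 = zp x c := by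
      simp only [P]; rw [zp_zero, mul_one]
    rw [this]
    exact zp_mem_zpowers x c

end IsWr

end Cfsg.Agent.Lib.Helper27
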