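import Mathlib
import Cfsg.Prelude.Def_CaseTheorems
import Cfsg.Agent.Lib.Helper27.OddIndexSimple
import Cfsg.Agent.Lib.Helper27.S1213Wr
import Cfsg.Agent.Lib.Helper27.S1213QD
import Cfsg.Agent.Lib.Helper27.WreathedOmega

/-! Instantiating `exists_simple_normal_odd_index` for wreathed and quasi-dihedral Sylow
2-subgroups (statement S1214). -/

set_option autoImplicit false
set_option linter.style.haveILetI false
set_option linter.unusedSectionVars false

namespace Cfsg.Agent.Lib.Helper27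

open Cfsg Cfsg.Agent.Lib.Helper59

section

variable {G : Type*} [Group G] [Finite G]

/-- transport of "generated by involutions modulo a cyclic subgroup" from `S` to `G` -/
theorem le_sup_zpowers_of_closure_involutions {S : Subgroup G} (x : S)
    (htop : Subgroup.closure {s : S | orderOf s = 2} ⊔ Subgroup.zpowers x = ⊤)
    (M : Subgroup G) (hM : ∀ t ∈ S, orderOf t = 2 → t ∈ M) :
    S ≤ M ⊔ Subgroup.zpowers (x : G) := by
  have hcl : Subgroup.closure {s : S | orderOf s = 2} ≤ M.comap S.subtype := by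
    rw [Subgroup.closure_le]
    intro t ht
    have ht' : orderOf t = 2 := ht
    show (t : G) ∈ M
    apply hM _ t.2
    rw [Subgroup.orderOf_coe]; exact ht'
  have hz : Subgroup.zpowers x ≤ (Subgroup.zpowers (x : G)).comap S.subtype := by
    rw [Subgroup.zpowers_le]
    show (x : G) ∈ Subgroup.zpowers (x : G)
    exact Subgroup.mem_zpowers _
  have hle : (⊤ : Subgroup S) ≤ (M ⊔ Subgroup.zpowers (x : G)).comap S.subtype := by
    rw [← htop]
    exact sup_le (hcl.trans (Subgroup.comap_mono le_sup_left))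
      (hz.trans (Subgroup.comap_mono le_sup_right))
  intro s hs
  exact hle (Subgroup.mem_top (⟨s, hs⟩ : S))

theorem wreathed_simple_normal (S : Sylow 2 G) (hS : Cfsg.IsWreathed (S : Subgroup G))
    (hG : ∀ H : Subgroup G, H.index ≠ 2) :
    ∃ L : Subgroup (G ⧸ Cfsg.oddCore G), L.Normal ∧ Odd L.index ∧ IsSimpleGroup L ∧
      ¬ IsMulCommutative L := by
  haveI : Fact (Nat.Prime 2) := ⟨Nat.prime_two⟩
  obtain ⟨n, x, y, z, h⟩ := exists_isWr hS
  obtain ⟨Q, hQT, ⟨eQ⟩⟩ := h.exists_Q8G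
  obtain ⟨h₁, h₂⟩ := h.six_six_of_no_index_two hS hG Q hQT eQ
  obtain ⟨g₁, hg₁N, hodd₁, hg₁C, -⟩ := h.exists_odd_UG h₁
  obtain ⟨g₂, hg₂N, hodd₂, c, d, hg₂⟩ := h.exists_odd_V Q hQT eQ h₂
  have hzu : IsConj h.zG h.uG := h.isConj_zG_uG hg₁N hodd₁ hg₁C
  have hut : IsConj h.uG h.tG := h.isConj_uG_tG hg₂
  have hxz : ∀ x₁ : G, orderOf x₁ = 2 → IsConj h.zG x₁ := by
    intro x₁ hx
    rcases h.involution_conj hx with h1 | h1 | h1
    · exact h1.symm
    · exact hzu.trans h1.symm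
    · exact (hzu.trans hut).trans h1.symm
  have hconj : ∀ t t' : G, orderOf t = 2 → orderOf t' = 2 → IsConj t t' :=
    fun t t' ht ht' => (hxz t ht).symm.trans (hxz t' ht')
  refine exists_simple_normal_odd_index S hconj h.uG h.tG (h.PG_mem _ _) (h.QG_mem _ _)
    h.orderOf_uG h.orderOf_tG ?_ (x : G) ?_ hG
  · intro hc
    have := (h.PG_comm_QG_iff (hh n) 0 0 0).mp hc
    exact h.hh_ne_zero' this
  · intro M hM
    apply le_sup_zpowers_of_closure_involutions x _ M hM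
    rw [h.closure_involutions, h.Om_sup_zpowers]

theorem qd_simple_normal (S : Sylow 2 G) (hS : Cfsg.IsQuasiDihedral (S : Subgroup G))
    (hG : ∀ H : Subgroup G, H.index ≠ 2) :
    ∃ L : Subgroup (G ⧸ Cfsg.oddCore G), L.Normal ∧ Odd L.index ∧ IsSimpleGroup L ∧
      ¬ IsMulCommutative L := by
  haveI : Fact (Nat.Prime 2) := ⟨Nat.prime_two⟩
  obtain ⟨k, x, y, hq⟩ := exists_QD_of_isQuasiDihedral hS
  obtain ⟨T, hT, hTS⟩ := exists_klein_QD hq
  obtain ⟨Q, hQS, ⟨eQ⟩⟩ := exists_Q8_QD hq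
  obtain ⟨h₁, h₂⟩ := qd_six_six hS hq hG T hT hTS Q hQS eQ
  obtain ⟨-, hcl, -⟩ := Cfsg.Agent.S1204.result S hS T hT hTS Q hQS eQ h₁ h₂
  have hconj : ∀ t t' : G, orderOf t = 2 → orderOf t' = 2 → IsConj t t' :=
    fun t t' ht ht' => isConj_of_card_classes_eq_one hcl ht ht'
  have hw := QD.w_pos k
  refine exists_simple_normal_odd_index S hconj (y : G)
    ((x ^ (2 : ℤ) * y : ↥(S : Subgroup G)) : G) y.2 (x ^ (2 : ℤ) * y : ↥(S : Subgroup G)).2
    ?_ ?_ ?_ (x : G) ?_ hG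
  · rw [Subgroup.orderOf_coe]; exact hq.hy
  · rw [Subgroup.orderOf_coe]; exact hq.orderOf_x_sq_y
  · intro hc
    rw [← Subgroup.coe_mul, ← Subgroup.coe_mul] at hc
    have hc' : y * (x ^ (2 : ℤ) * y) = (x ^ (2 : ℤ) * y) * y := Subtype.ext hc
    have e1 : y * (x ^ (2 : ℤ) * y) = x ^ ((0 : ℤ) + (4 * 2 ^ k - 1) * 2) := by
      have := hq.mul_xy_xy 0 2
      rw [zpow_zero, one_mul] at this
      exact this
    have e2 : (x ^ (2 : ℤ) * y) * y = x ^ (2 : ℤ) := by
      rw [mul_assoc, hq.y_sq, mul_one]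
    rw [e1, e2, hq.zpow_eq_zpow] at hc'
    obtain ⟨m, hm⟩ := hc'
    have h8 : (8 * 2 ^ k : ℤ) * (1 - m) = 4 := by linarith
    have hdvd : (8 : ℤ) ∣ 4 := ⟨2 ^ k * (1 - m), by linarith⟩
    omega
  · intro M hM s hs
    have hyM : (y : G) ∈ M := by
      apply hM _ y.2
      rw [Subgroup.orderOf_coe]; exact hq.hy
    have hxpow : ∀ a : ℤ, ((x ^ a : ↥(S : Subgroup G)) : G) ∈ Subgroup.zpowers (x : G) := by
      intro a
      rw [Subgroup.coe_zpow]
      exact Subgroup.zpow_mem_zpowers _ _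
    rcases hq.cases ⟨s, hs⟩ with ⟨a, ha⟩ | ⟨a, ha⟩
    · have e : s = ((x ^ a : ↥(S : Subgroup G)) : G) := congrArg Subtype.val ha
      rw [e]
      exact Subgroup.mem_sup_right (hxpow a)
    · have e : s = ((x ^ a : ↥(S : Subgroup G)) : G) * (y : G) := by
        rw [← Subgroup.coe_mul]; exact congrArg Subtype.val ha
      rw [e]
      -- `x^a * y = y * x^{(4w-1) a}`-style: use `y * x^b = x^((4w-1) b) * y`
      have e2 : ((x ^ a : ↥(S : Subgroup G)) : G) * (y : G) =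
          (y : G) * ((x ^ ((4 * 2 ^ k - 1) * a : ℤ) : ↥(S : Subgroup G)) : G) := by
        rw [← Subgroup.coe_mul, ← Subgroup.coe_mul]
        congr 1
        rw [hq.y_mul_zpow, hq.xy_eq_xy]
        have : (a - (4 * 2 ^ k - 1) * ((4 * 2 ^ k - 1) * a) : ℤ) =
            8 * 2 ^ k * (a * (1 - 2 * 2 ^ k)) := by ring
        rw [this]
        exact Dvd.intro _ rfl
      rw [e2]
      exact Subgroup.mul_mem_sup hyM (hxpow _)

end

end Cfsg.Agent.Lib.Helper27
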