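import Mathlib
import Cfsg.Prelude.Def_CaseTheorems
import Cfsg.Agent.Lib.Helper27.ZStarWeak
import Cfsg.Agent.Lib.Helper27.S1213QD
import Cfsg.Agent.Lib.Helper27.S1213Wr

/-! Glue for S1239: quasi-dihedral or wreathed Sylow `2`-subgroup `S` and an isolated involution
in `S`; then `O(X) Z(S)` is normal, given the `Z*`-theorem as a hypothesis. -/

set_option autoImplicit false
set_option linter.style.haveILetI false
set_option linter.unusedSectionVars false

namespace Cfsg.Agent.Lib.Helper27

open Cfsg Cfsg.Agent.Lib.Helper59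

universe u

/-- if all commutators `[c, g]`, `c ∈ Z`, lie in the normal subgroup `O`, then `O Z` is normal -/
theorem normal_sup_of_commutator_mem {X : Type u} [Group X] {O Z : Subgroup X} [hO : O.Normal]
    (h : ∀ c ∈ Z, ∀ g : X, c * g * c⁻¹ * g⁻¹ ∈ O) : (O ⊔ Z).Normal := by
  refine ⟨fun n hn g => ?_⟩
  obtain ⟨o, ho, c, hc, rfl⟩ := Subgroup.mem_sup_of_normal_left.mp hn
  have h1 : g * (o * c) * g⁻¹ = (g * o * g⁻¹) * (c * g * c⁻¹ * g⁻¹)⁻¹ * c := by group
  rw [h1]
  exact (O ⊔ Z).mul_mem ((O ⊔ Z).mul_mem (Subgroup.mem_sup_left (hO.conj_mem o ho g))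
    (Subgroup.mem_sup_left (O.inv_mem (h c hc g)))) (Subgroup.mem_sup_right hc)

variable {X : Type u} [Group X] [Finite X]

theorem qd_wreathed_isolated_normal (hZ : ∀ (G : Type u) [Group G] [Finite G], ZStarHyp G)
    (S : Sylow 2 X)
    (hS : Cfsg.IsQuasiDihedral (S : Subgroup X) ∨ Cfsg.IsWreathed (S : Subgroup X))
    (z : X) (hzS : z ∈ S) (hz : Cfsg.IsIsolatedInvolution z) :
    (Cfsg.oddCore X ⊔ (Subgroup.center (S : Subgroup X)).map (S : Subgroup X).subtype).Normal := by
  haveI : Fact (Nat.Prime 2) := ⟨Nat.prime_two⟩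
  have hcen : ∀ s ∈ (S : Subgroup X), s * z = z * s := by
    intro s hs
    have h1 := isolated_sylow_unique hz S hzS s
      ((S : Subgroup X).mul_mem ((S : Subgroup X).mul_mem hs hzS) ((S : Subgroup X).inv_mem hs))
    calc s * z = s * z * s⁻¹ * s := by group
      _ = z * s := by rw [h1]
  haveI : (Cfsg.oddCore X).Normal := by unfold Cfsg.oddCore; infer_instance
  apply normal_sup_of_commutator_mem
  intro c hc g
  rcases hS with hS | hS
  · -- quasi-dihedral: `Z(S) = ⟨z⟩`
    obtain ⟨k, x, y, hq⟩ := exists_QD_of_isQuasiDihedral hS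
    have hcardZ : Nat.card ((Subgroup.center (S : Subgroup X)).map (S : Subgroup X).subtype) = 2 := by
      rw [Subgroup.card_map_of_injective (Subgroup.subtype_injective _), hq.card_center]
    have hzZ : z ∈ (Subgroup.center (S : Subgroup X)).map (S : Subgroup X).subtype := by
      refine ⟨⟨z, hzS⟩, ?_, rfl⟩
      rw [SetLike.mem_coe, Subgroup.mem_center_iff]
      intro r
      exact Subtype.ext (hcen r r.2)
    have heq : Subgroup.zpowers z =
        (Subgroup.center (S : Subgroup X)).map (S : Subgroup X).subtype :=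
      Subgroup.eq_of_le_of_card_ge (by rw [Subgroup.zpowers_le]; exact hzZ)
        (by rw [hcardZ, Nat.card_zpowers, hz.1])
    rw [← heq, Subgroup.mem_zpowers_iff] at hc
    obtain ⟨i, rfl⟩ := hc
    have h2 : z ^ i = z ^ (i % 2) := by
      have := zpow_mod_orderOf z i
      rw [hz.1] at this
      exact_mod_cast this.symm
    rw [h2]
    rcases Int.emod_two_eq_zero_or_one i with h0 | h0
    · rw [h0, zpow_zero]
      have : (1 : X) * g * (1 : X)⁻¹ * g⁻¹ = 1 := by group
      rw [this]; exact Subgroup.one_mem _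
    · rw [h0, zpow_one]
      exact commutator_mem_oddCore_of_zstar (hZ X) hz g
  · -- wreathed
    obtain ⟨m, x, y, w, h⟩ := exists_isWr hS
    have hzz : z = h.zG := h.eq_zG_of_central hzS hz.1 hcen
    rcases h.relIndex_centralizer_normalizer_UG with h2 | h6
    · have hWCC : WCC S h.ZG := by
        refine ⟨?_, ?_, fun B hB => h.isWeaklyClosed_of_le_ZG h2 hB⟩
        · rintro _ ⟨t, -, rfl⟩
          exact t.2
        · rintro _ ⟨t, ht, rfl⟩ s hs
          rw [SetLike.mem_coe, Subgroup.mem_center_iff] at ht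
          have := congrArg Subtype.val (ht ⟨s, hs⟩)
          exact this.symm
      exact wcc_commutator hZ S h.ZG hWCC c hc g
    · exfalso
      obtain ⟨g₁, hgN, hodd, hgC, -⟩ := h.exists_odd_UG h6
      obtain ⟨k, hk⟩ := isConj_iff.mp (h.isConj_zG_uG hgN hodd hgC)
      have huS : h.uG ∈ (S : Subgroup X) := h.PG_mem _ _
      have h1 := isolated_sylow_unique hz S hzS k (by rw [hzz, hk]; exact huS)
      rw [hzz, hk] at h1
      have := (h.PG_inj h1).2
      exact h.hh_ne_zero' this.symm

end Cfsg.Agent.Lib.Helper27
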