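import Mathlib
import Cfsg.Agent.Lib.Helper40.NilCovDefs

/-!
# S3894 pack, keystone 389417 (K-S3894-T4): the central element of a nilpotent subgroup of `PGL_2(F)`
containing the image of an element of a nonsplit torus with non-scalar square.
-/

set_option autoImplicit false

namespace Cfsg.Agent.Lib.Helper27.S3894T4

open Matrix Cfsg.Agent.Lib.Helper40.NilCov

variable {F : Type*} [Field F]

/-- the `(1,0)` entry of a matrix without eigenvector is nonzero (else `e₀` is an eigenvector) -/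
theorem isIrr_entry_ne_zero {g : Matrix (Fin 2) (Fin 2) F} (hg : IsIrr g) : g 1 0 ≠ 0 := by
  intro h
  have hv : (Pi.single 0 1 : Fin 2 → F) ≠ 0 := by
    intro h0
    have := congrFun h0 0
    simp at this
  apply hg (Pi.single 0 1) hv (g 0 0)
  ext i
  fin_cases i
  · simp [Matrix.mulVec, dotProduct, Fin.sum_univ_two]
  · simp [Matrix.mulVec, dotProduct, Fin.sum_univ_two, h]

/-- the commutant of a matrix without eigenvector is `F + F g` -/
theorem mem_Kset_of_commute {g : Matrix (Fin 2) (Fin 2) F} (hg : IsIrr g)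
    (y : Matrix (Fin 2) (Fin 2) F) (hy : y * g = g * y) : y ∈ Kset g := by
  have hr := isIrr_entry_ne_zero hg
  refine ⟨y 0 0 - y 1 0 / g 1 0 * g 0 0, y 1 0 / g 1 0, ?_⟩
  have h00 := congrFun (congrFun hy 0) 0
  have h10 := congrFun (congrFun hy 1) 0
  simp only [Matrix.mul_apply, Fin.sum_univ_two] at h00 h10
  ext i j
  fin_cases i <;> fin_cases j
  · simp
  · simp
    field_simp
    linear_combination h00
  · simp
    field_simp
  · simp
    field_simp
    linear_combination h10

/-- K-S3894-T4 -/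
theorem exists_central [Fintype F] {g : Matrix (Fin 2) (Fin 2) F} (hg : IsIrr g) (s : GL (Fin 2) F)
    (hs : (s : Matrix (Fin 2) (Fin 2) F) ∈ Kset g)
    (hs2 : ∀ a : F, (s : Matrix (Fin 2) (Fin 2) F) * (s : Matrix (Fin 2) (Fin 2) F) ≠
      a • (1 : Matrix (Fin 2) (Fin 2) F))
    (A : Subgroup (PGL 2 F)) (hA : Group.IsNilpotent A) (hsA : prj 2 F s ∈ A) :
    ∃ c : GL (Fin 2) F, (c : Matrix (Fin 2) (Fin 2) F) ∈ Kset g ∧
      (∀ a : F, (c : Matrix (Fin 2) (Fin 2) F) ≠ a • (1 : Matrix (Fin 2) (Fin 2) F)) ∧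
      ∀ x : GL (Fin 2) F, prj 2 F x ∈ A → ∃ μ : F,
        (x : Matrix (Fin 2) (Fin 2) F) * (c : Matrix (Fin 2) (Fin 2) F) =
          μ • ((c : Matrix (Fin 2) (Fin 2) F) * (x : Matrix (Fin 2) (Fin 2) F)) := by
  classical
  -- the kernel of the projection consists of the scalar matrices
  have hcen : ∀ y : GL (Fin 2) F,
      prj 2 F y = 1 ↔ ∃ a : F, (y : Matrix (Fin 2) (Fin 2) F) = a • 1 := by
    intro y
    rw [show (prj 2 F y = 1) ↔ y ∈ Subgroup.center (GL (Fin 2) F) from QuotientGroup.eq_one_iff y,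
      Matrix.GeneralLinearGroup.mem_center_iff_val_mem_range_scalar]
    constructor
    · rintro ⟨a, ha⟩
      exact ⟨a, by rw [← ha, Matrix.scalar_apply, Matrix.smul_one_eq_diagonal]⟩
    · rintro ⟨a, ha⟩
      exact ⟨a, by rw [ha, Matrix.scalar_apply, Matrix.smul_one_eq_diagonal]⟩
  -- `s` is not scalar
  have hsns : ∀ a : F, (s : Matrix (Fin 2) (Fin 2) F) ≠ a • 1 := by
    intro a ha
    apply hs2 (a * a)
    rw [ha, Matrix.smul_mul, Matrix.one_mul, smul_smul]
  have hs1 : prj 2 F s ≠ 1 := by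
    intro h
    obtain ⟨a, ha⟩ := (hcen s).mp h
    exact hsns a ha
  -- the centre of `A` is nontrivial
  have hnt : Nontrivial ↥A := ⟨⟨⟨prj 2 F s, hsA⟩, 1, fun h => hs1 (congrArg Subtype.val h)⟩⟩
  have hcne : Subgroup.center ↥A ≠ ⊥ := Group.IsNilpotent.center_ne_bot ↥A
  obtain ⟨z, hzc, hz1⟩ : ∃ z : ↥A, z ∈ Subgroup.center ↥A ∧ z ≠ 1 := by
    obtain ⟨z, hz⟩ := (Subgroup.ne_bot_iff_exists_ne_one).mp hcne
    exact ⟨z.1, z.2, fun h => hz (Subtype.ext h)⟩
  obtain ⟨c, hc⟩ := QuotientGroup.mk'_surjective (Subgroup.center (GL (Fin 2) F)) (z : PGL 2 F)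
  have hcz : prj 2 F c = (z : PGL 2 F) := hc
  -- `c` is not scalar
  have hcns : ∀ a : F, (c : Matrix (Fin 2) (Fin 2) F) ≠ a • 1 := by
    intro a ha
    apply hz1
    apply Subtype.ext
    rw [← hcz]
    exact (hcen c).mpr ⟨a, ha⟩
  -- lifts of elements of `A` commute with `c` up to a scalar
  have hL : ∀ x : GL (Fin 2) F, prj 2 F x ∈ A → ∃ μ : F,
      (x : Matrix (Fin 2) (Fin 2) F) * (c : Matrix (Fin 2) (Fin 2) F) =
        μ • ((c : Matrix (Fin 2) (Fin 2) F) * (x : Matrix (Fin 2) (Fin 2) F)) := by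
    intro x hx
    have h1 : (⟨prj 2 F x, hx⟩ : ↥A) * z = z * ⟨prj 2 F x, hx⟩ :=
      Subgroup.mem_center_iff.mp hzc _
    have h2 : prj 2 F x * prj 2 F c = prj 2 F c * prj 2 F x := by
      rw [hcz]
      exact congrArg Subtype.val h1
    have h3 : prj 2 F ((c * x)⁻¹ * (x * c)) = 1 := by
      rw [map_mul, map_inv, map_mul, map_mul, h2, inv_mul_cancel]
    obtain ⟨μ, hμ⟩ := (hcen _).mp h3
    refine ⟨μ, ?_⟩
    have h4 : (x * c : GL (Fin 2) F) = (c * x) * ((c * x)⁻¹ * (x * c)) := by group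
    have h5 := congrArg (fun u : GL (Fin 2) F => (u : Matrix (Fin 2) (Fin 2) F)) h4
    simp only [Units.val_mul] at h5 hμ
    rw [h5, hμ, Matrix.mul_smul, Matrix.mul_one]
  refine ⟨c, ?_, hcns, hL⟩
  -- `c` commutes with `s`
  obtain ⟨lam, hlam⟩ := hL s hsA
  have hdc : (c : Matrix (Fin 2) (Fin 2) F).det ≠ 0 := (Matrix.isUnits_det_units c).ne_zero
  have hds : (s : Matrix (Fin 2) (Fin 2) F).det ≠ 0 := (Matrix.isUnits_det_units s).ne_zero
  have hlam2 : lam ^ 2 = 1 := by
    have h := congrArg Matrix.det hlam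
    rw [Matrix.det_smul, Matrix.det_mul, Matrix.det_mul, Fintype.card_fin] at h
    have h' : (s : Matrix (Fin 2) (Fin 2) F).det * (c : Matrix (Fin 2) (Fin 2) F).det * (lam ^ 2 - 1) = 0 := by
      linear_combination -h
    rcases mul_eq_zero.mp h' with h'' | h''
    · exact absurd h'' (mul_ne_zero hds hdc)
    · linear_combination h''
  have hcomm : (s : Matrix (Fin 2) (Fin 2) F) * (c : Matrix (Fin 2) (Fin 2) F) =
      (c : Matrix (Fin 2) (Fin 2) F) * (s : Matrix (Fin 2) (Fin 2) F) := by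
    have h1 : (lam - 1) * (lam + 1) = 0 := by linear_combination hlam2
    rcases mul_eq_zero.mp h1 with h | h
    · have : lam = 1 := by linear_combination h
      rw [hlam, this, one_smul]
    · have hl : lam = -1 := by linear_combination h
      by_cases h2 : (2 : F) = 0
      · have : lam = 1 := by rw [hl]; linear_combination -h2
        rw [hlam, this, one_smul]
      · exfalso
        -- trace of `s` vanishes
        have hci : (c : Matrix (Fin 2) (Fin 2) F) * ((c⁻¹ : GL (Fin 2) F) : Matrix (Fin 2) (Fin 2) F) = 1 := by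
          rw [← Units.val_mul, mul_inv_cancel, Units.val_one]
        have hs' : (s : Matrix (Fin 2) (Fin 2) F) =
            -((c : Matrix (Fin 2) (Fin 2) F) * (s : Matrix (Fin 2) (Fin 2) F) *
              ((c⁻¹ : GL (Fin 2) F) : Matrix (Fin 2) (Fin 2) F)) := by
          calc (s : Matrix (Fin 2) (Fin 2) F)
              = (s : Matrix (Fin 2) (Fin 2) F) * ((c : Matrix (Fin 2) (Fin 2) F) *
                  ((c⁻¹ : GL (Fin 2) F) : Matrix (Fin 2) (Fin 2) F)) := by rw [hci, Matrix.mul_one]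
            _ = ((s : Matrix (Fin 2) (Fin 2) F) * (c : Matrix (Fin 2) (Fin 2) F)) *
                  ((c⁻¹ : GL (Fin 2) F) : Matrix (Fin 2) (Fin 2) F) := by rw [Matrix.mul_assoc]
            _ = _ := by rw [hlam, hl, neg_smul, one_smul, Matrix.neg_mul]
        have htr : (s : Matrix (Fin 2) (Fin 2) F).trace = 0 := by
          have h3 := congrArg Matrix.trace hs'
          rw [Matrix.trace_neg, Matrix.trace_mul_comm, ← Matrix.mul_assoc, ← Units.val_mul,
            inv_mul_cancel, Units.val_one, Matrix.one_mul] at h3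
          have h4 : (2 : F) * (s : Matrix (Fin 2) (Fin 2) F).trace = 0 := by linear_combination h3
          rcases mul_eq_zero.mp h4 with h5 | h5
          · exact absurd h5 h2
          · exact h5
        rw [Matrix.trace_fin_two] at htr
        apply hs2 (-(s : Matrix (Fin 2) (Fin 2) F).det)
        rw [Matrix.det_fin_two]
        ext i j
        fin_cases i <;> fin_cases j
        · simp [Matrix.mul_apply, Fin.sum_univ_two]
          linear_combination (s : Matrix (Fin 2) (Fin 2) F) 0 0 * htr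
        · simp [Matrix.mul_apply, Fin.sum_univ_two]
          linear_combination (s : Matrix (Fin 2) (Fin 2) F) 0 1 * htr
        · simp [Matrix.mul_apply, Fin.sum_univ_two]
          linear_combination (s : Matrix (Fin 2) (Fin 2) F) 1 0 * htr
        · simp [Matrix.mul_apply, Fin.sum_univ_two]
          linear_combination (s : Matrix (Fin 2) (Fin 2) F) 1 1 * htr
  -- hence `c` commutes with `g`
  obtain ⟨a, b, hab⟩ := hs
  have hb : b ≠ 0 := by
    intro hb0
    apply hsns a
    rw [hab, hb0, zero_smul, add_zero]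
  apply mem_Kset_of_commute hg
  rw [hab] at hcomm
  rw [Matrix.add_mul, Matrix.mul_add, Matrix.smul_mul, Matrix.mul_smul, Matrix.one_mul, Matrix.mul_one,
    Matrix.smul_mul, Matrix.mul_smul] at hcomm
  have h6 : b • ((c : Matrix (Fin 2) (Fin 2) F) * g) = b • (g * (c : Matrix (Fin 2) (Fin 2) F)) :=
    (add_left_cancel hcomm).symm
  have h7 := congrArg (fun M => b⁻¹ • M) h6
  simp only [smul_smul, inv_mul_cancel₀ hb, one_smul] at h7
  exact h7

end Cfsg.Agent.Lib.Helper27.S3894T4
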