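import Mathlib
import Cfsg.Prelude.Def_GeometricClasses
import Cfsg.Agent.Lib.Helper69.SLTDefs
import Cfsg.Agent.Lib.Helper49.SubfieldInvol

/-!
# K-SLT pack (S5979), keystone 597908 (K-SLT-P1)

`q` odd, `x ∈ GL(Fin 2 × Fin b, F)` with `det x = 1`, `x² = l²`, `(q-1)_2 ≤ (2b)_2`: for every `δ` some `h` with
`det h = δ` conjugates `x` to `1_2 ⊗ diag(l η)`.
-/

set_option autoImplicit false

namespace Cfsg.Agent.Lib.Helper27.SLT

open Matrix Cfsg.Agent.Lib.Helper69.SLT
open scoped Kronecker

variable {F : Type*} [Field F]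

/-- a finite field of odd order has `2 ≠ 0` -/
theorem two_ne_zero_of_odd_card [Fintype F] (hodd : Odd (Fintype.card F)) : (2 : F) ≠ 0 := by
  intro h2
  have hchar : ringChar F = 2 := by
    have h1 : ringChar F ∣ 2 := by
      have : ((2 : ℕ) : F) = 0 := by exact_mod_cast h2
      exact (ringChar.spec F 2).mp this
    rcases (Nat.dvd_prime Nat.prime_two).mp h1 with h | h
    · exact absurd h (CharP.ringChar_ne_one)
    · exact h
  have := FiniteField.even_card_of_char_two hchar
  rcases hodd with ⟨m, hm⟩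
  omega

/-- an involution of `F^(Fin 2 × Fin b)` in odd characteristic is diagonalisable -/
theorem exists_conj_diag_prod (h2 : (2 : F) ≠ 0) (b : ℕ) (hb : 1 ≤ b)
    (s : Matrix (Fin 2 × Fin b) (Fin 2 × Fin b) F) (hs : s * s = 1) :
    ∃ (P : Matrix (Fin 2 × Fin b) (Fin 2 × Fin b) F) (ε : Fin 2 × Fin b → F), P.det ≠ 0 ∧
      (∀ i, ε i = 1 ∨ ε i = -1) ∧ s * P = P * Matrix.diagonal ε := by
  classical
  set e : Fin 2 × Fin b ≃ Fin (2 * b) := finProdFinEquiv with he
  have hs' : s.submatrix e.symm e.symm * s.submatrix e.symm e.symm = 1 := by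
    rw [Matrix.submatrix_mul_equiv, hs, Matrix.submatrix_one_equiv]
  obtain ⟨P', ε', hdet, hε, hconj⟩ :=
    Cfsg.Agent.Lib.Helper49.exists_sl_conj_diag h2 (by omega : 0 < 2 * b) _ hs'
  refine ⟨P'.submatrix e e, ε' ∘ e, ?_, fun i => hε (e i), ?_⟩
  · rw [Matrix.det_submatrix_equiv_self, hdet]
    exact one_ne_zero
  · have h1 := congrArg (fun M : Matrix (Fin (2 * b)) (Fin (2 * b)) F => M.submatrix e e) hconj
    rw [← Matrix.submatrix_mul_equiv _ _ e e e, ← Matrix.submatrix_mul_equiv _ _ e e e,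
      Matrix.submatrix_diagonal_equiv, Matrix.submatrix_submatrix] at h1
    simpa using h1

/-- the `2`-adic argument: `l^N (-1)^k = 1` and `(q-1)_2 ≤ N_2` force `k` even -/
theorem even_of_pow_mul_neg_one_pow [Fintype F] (hodd : Odd (Fintype.card F)) (N : ℕ)
    (hv : padicValNat 2 (Fintype.card F - 1) ≤ padicValNat 2 N) (l : F) (hl : l ≠ 0) (k : ℕ)
    (h : l ^ N * (-1) ^ k = 1) : Even k := by
  by_contra hk
  rw [Nat.not_even_iff_odd] at hk
  have h2 : (2 : F) ≠ 0 := two_ne_zero_of_odd_card hodd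
  rw [hk.neg_one_pow] at h
  have hlN : l ^ N = -1 := by linear_combination -h
  have hq1 : Fintype.card F - 1 ≠ 0 := by
    have : 1 < Fintype.card F := Fintype.one_lt_card
    omega
  obtain ⟨v, m, hm, hqm⟩ := Nat.exists_eq_two_pow_mul_odd hq1
  have hv' : padicValNat 2 (Fintype.card F - 1) = v := by
    rw [hqm, padicValNat.mul (by positivity) (by rcases hm with ⟨t, rfl⟩; omega),
      padicValNat.prime_pow, padicValNat.eq_zero_of_not_dvd, add_zero]
    rcases hm with ⟨t, rfl⟩
    omega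
  have hdvd : 2 ^ v ∣ N := by
    have h1 : 2 ^ padicValNat 2 N ∣ N := pow_padicValNat_dvd
    exact (pow_dvd_pow 2 (hv' ▸ hv)).trans h1
  obtain ⟨c, hc⟩ := hdvd
  have h3 : l ^ (N * m) = 1 := by
    have : N * m = (Fintype.card F - 1) * c := by rw [hqm, hc]; ring
    rw [this, pow_mul, FiniteField.pow_card_sub_one_eq_one l hl, one_pow]
  rw [pow_mul, hlN, hm.neg_one_pow] at h3
  apply h2
  linear_combination -h3

/-- two finsets of the same cardinality are related by a permutation -/
theorem exists_perm_mem_iff {ι : Type*} [Fintype ι] [DecidableEq ι] (S S' : Finset ι)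
    (h : S.card = S'.card) : ∃ π : Equiv.Perm ι, ∀ i, i ∈ S' ↔ π i ∈ S := by
  have hc : Fintype.card {x // x ∈ S'} = Fintype.card {x // x ∈ S} := by
    rw [Fintype.card_coe, Fintype.card_coe, h]
  let e : {x // x ∈ S'} ≃ {x // x ∈ S} := Fintype.equivOfCardEq hc
  refine ⟨e.extendSubtype, fun i => ⟨fun hi => e.extendSubtype_mem i hi, fun hi => ?_⟩⟩
  by_contra hn
  exact e.extendSubtype_not_mem i hn hi


/-- K-SLT-P1 (597908) -/
theorem allDetKronConj_of_sq [Fintype F] (hodd : Odd (Fintype.card F)) (b : ℕ) (hb : 1 ≤ b)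
    (hv : padicValNat 2 (Fintype.card F - 1) ≤ padicValNat 2 (2 * b))
    (x : GL (Fin 2 × Fin b) F) (hdet : Matrix.GeneralLinearGroup.det x = 1) (l : F)
    (hx : ((x ^ 2 : GL (Fin 2 × Fin b) F) : Matrix (Fin 2 × Fin b) (Fin 2 × Fin b) F) =
      (l ^ 2) • (1 : Matrix (Fin 2 × Fin b) (Fin 2 × Fin b) F))
    (hns : ∀ z : F, (x : Matrix (Fin 2 × Fin b) (Fin 2 × Fin b) F) ≠
      z • (1 : Matrix (Fin 2 × Fin b) (Fin 2 × Fin b) F)) :
    AllDetKronConj 2 b x := by
  classical
  have h2 : (2 : F) ≠ 0 := two_ne_zero_of_odd_card hodd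
  have hne : Nonempty (Fin 2 × Fin b) := ⟨(0, ⟨0, by omega⟩)⟩
  have hl0 : l ≠ 0 := by
    rintro rfl
    have h1 : ((x ^ 2 : GL (Fin 2 × Fin b) F) : Matrix (Fin 2 × Fin b) (Fin 2 × Fin b) F).det = 0 := by
      rw [hx]; simp
    have h3 := (Matrix.GeneralLinearGroup.det (x ^ 2)).ne_zero
    rw [Matrix.GeneralLinearGroup.val_det_apply] at h3
    exact h3 h1
  set X : Matrix (Fin 2 × Fin b) (Fin 2 × Fin b) F := (x : Matrix (Fin 2 × Fin b) (Fin 2 × Fin b) F) with hX
  set s : Matrix (Fin 2 × Fin b) (Fin 2 × Fin b) F := l⁻¹ • X with hs_def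
  have hxs : X = l • s := by
    rw [hs_def, smul_smul, mul_inv_cancel₀ hl0, one_smul]
  have hs : s * s = 1 := by
    have hxx : X * X = (l ^ 2) • (1 : Matrix (Fin 2 × Fin b) (Fin 2 × Fin b) F) := by
      rw [← pow_two, hX, ← Units.val_pow_eq_pow_val]; exact hx
    rw [hs_def, Matrix.smul_mul, Matrix.mul_smul, smul_smul, hxx, smul_smul]
    have : l⁻¹ * l⁻¹ * l ^ 2 = 1 := by field_simp
    rw [this, one_smul]
  obtain ⟨P, ε, hPdet, hε, hsP⟩ := exists_conj_diag_prod h2 b hb s hs
  have hXP : X * P = P * Matrix.diagonal (fun i => l * ε i) := by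
    have e1 : Matrix.diagonal (fun i => l * ε i) = l • Matrix.diagonal ε := by
      ext i j
      by_cases hij : i = j
      · subst hij; simp
      · simp [hij]
    rw [e1, hxs, Matrix.smul_mul, hsP, Matrix.mul_smul]
  have hdetX : X.det = 1 := by
    have h1 := congrArg Units.val hdet
    rw [Matrix.GeneralLinearGroup.val_det_apply] at h1
    exact h1
  have hprod : ∏ i, (l * ε i) = 1 := by
    have h1 := congrArg Matrix.det hXP
    rw [Matrix.det_mul, Matrix.det_mul, Matrix.det_diagonal, hdetX, one_mul] at h1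
    have h3 : P.det * 1 = P.det * ∏ i, (l * ε i) := by rw [mul_one]; exact h1
    exact (mul_left_cancel₀ hPdet h3).symm
  set S : Finset (Fin 2 × Fin b) := Finset.univ.filter (fun i => ε i = -1) with hS
  have hprodε : ∏ i, ε i = (-1) ^ S.card := by
    have h1 : ∀ i, ε i = if ε i = -1 then (-1 : F) else 1 := by
      intro i
      split_ifs with h
      · exact h
      · rcases hε i with h' | h'
        · exact h'
        · exact absurd h' h
    rw [Finset.prod_congr rfl (fun i _ => h1 i), Finset.prod_ite, Finset.prod_const, Finset.prod_const_one,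
      mul_one]
  have hk : Even S.card := by
    apply even_of_pow_mul_neg_one_pow hodd (2 * b) hv l hl0
    rw [← hprodε, ← hprod, Finset.prod_mul_distrib, Finset.prod_const, Finset.card_univ, Fintype.card_prod,
      Fintype.card_fin, Fintype.card_fin]
  obtain ⟨m, hm⟩ := hk
  have hmb : m ≤ (Finset.univ : Finset (Fin b)).card := by
    rw [Finset.card_univ, Fintype.card_fin]
    have h1 : S.card ≤ Fintype.card (Fin 2 × Fin b) := Finset.card_le_univ S
    rw [Fintype.card_prod, Fintype.card_fin, Fintype.card_fin] at h1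
    omega
  obtain ⟨T, -, hT⟩ := Finset.exists_subset_card_eq hmb
  set η : Fin b → F := fun j => if j ∈ T then -1 else 1 with hη
  set S' : Finset (Fin 2 × Fin b) := Finset.univ.filter (fun i => i.2 ∈ T) with hS'
  have hS'card : S'.card = m + m := by
    have h1 : S' = (Finset.univ : Finset (Fin 2)) ×ˢ T := by
      ext i
      simp [hS']
    rw [h1, Finset.card_product, Finset.card_univ, Fintype.card_fin, hT]
    ring
  obtain ⟨π, hπ⟩ := exists_perm_mem_iff S S' (by rw [hm, hS'card])
  have hεπ : ∀ i, ε (π i) = η i.2 := by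
    intro i
    by_cases hi : i.2 ∈ T
    · have h1 : π i ∈ S := (hπ i).mp (by rw [hS', Finset.mem_filter]; exact ⟨Finset.mem_univ _, hi⟩)
      rw [hS, Finset.mem_filter] at h1
      rw [h1.2, hη]
      simp [hi]
    · have h1 : π i ∉ S := by
        intro h
        have h3 := (hπ i).mpr h
        rw [hS', Finset.mem_filter] at h3
        exact hi h3.2
      have h3 : ε (π i) = 1 := by
        rcases hε (π i) with h | h
        · exact h
        · exact absurd (by rw [hS, Finset.mem_filter]; exact ⟨Finset.mem_univ _, h⟩) h1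
      rw [h3, hη]
      simp [hi]
  set P₂ : Matrix (Fin 2 × Fin b) (Fin 2 × Fin b) F := P.submatrix id π with hP₂
  have hXP₂ : X * P₂ = P₂ * Matrix.diagonal (fun i => l * η i.2) := by
    ext r c
    have h1 := congrFun (congrFun hXP r) (π c)
    rw [Matrix.mul_diagonal, hεπ] at h1
    rw [Matrix.mul_diagonal, hP₂, Matrix.submatrix_apply, id, ← h1, Matrix.mul_apply, Matrix.mul_apply]
    rfl
  have hP₂det : P₂.det ≠ 0 := by
    rw [hP₂, Matrix.det_permute']
    apply mul_ne_zero _ hPdet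
    rcases Int.units_eq_one_or (Equiv.Perm.sign π) with h | h <;> rw [h] <;> simp
  intro δ
  set i₀ : Fin 2 × Fin b := (0, ⟨0, by omega⟩) with hi₀
  set t : Fin 2 × Fin b → F := Function.update (fun _ => (1 : F)) i₀ ((δ : F) / P₂.det) with ht
  have htprod : ∏ i, t i = (δ : F) / P₂.det := by
    rw [ht, Finset.prod_update_of_mem (Finset.mem_univ i₀), Finset.prod_const_one, mul_one]
  set H : Matrix (Fin 2 × Fin b) (Fin 2 × Fin b) F := P₂ * Matrix.diagonal t with hH
  have hHdet : H.det = (δ : F) := by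
    rw [hH, Matrix.det_mul, Matrix.det_diagonal, htprod, mul_div_cancel₀ _ hP₂det]
  have hXH : X * H = H * Matrix.diagonal (fun i => l * η i.2) := by
    rw [hH, ← Matrix.mul_assoc, hXP₂, Matrix.mul_assoc, Matrix.mul_assoc, Matrix.diagonal_mul_diagonal,
      Matrix.diagonal_mul_diagonal]
    congr 2
    funext i
    exact mul_comm _ _
  have hHne : H.det ≠ 0 := by rw [hHdet]; exact δ.ne_zero
  refine ⟨Matrix.GeneralLinearGroup.mkOfDetNeZero H hHne, ?_, ?_⟩
  · apply Units.ext
    rw [Matrix.GeneralLinearGroup.val_det_apply]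
    exact hHdet
  · have hβdet : (Matrix.diagonal (fun j : Fin b => l * η j)).det ≠ 0 := by
      rw [Matrix.det_diagonal, Finset.prod_ne_zero_iff]
      intro j _
      apply mul_ne_zero hl0
      rw [hη]
      by_cases hj : j ∈ T <;> simp [hj]
    refine ⟨1, Matrix.GeneralLinearGroup.mkOfDetNeZero _ hβdet, ?_⟩
    set hU : GL (Fin 2 × Fin b) F := Matrix.GeneralLinearGroup.mkOfDetNeZero H hHne with hhU
    have hUv : (hU : Matrix (Fin 2 × Fin b) (Fin 2 × Fin b) F) = H := rfl
    have hinv : ((hU⁻¹ : GL (Fin 2 × Fin b) F) : Matrix (Fin 2 × Fin b) (Fin 2 × Fin b) F) * H = 1 := by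
      rw [← hUv, ← Units.val_mul, inv_mul_cancel, Units.val_one]
    have hconj : ((hU⁻¹ * x * hU : GL (Fin 2 × Fin b) F) : Matrix (Fin 2 × Fin b) (Fin 2 × Fin b) F) =
        Matrix.diagonal (fun i => l * η i.2) := by
      rw [Units.val_mul, Units.val_mul, hUv, Matrix.mul_assoc, ← hX, hXH, ← Matrix.mul_assoc, hinv,
        Matrix.one_mul]
    rw [hconj]
    have e2 : ((1 : GL (Fin 2) F) : Matrix (Fin 2) (Fin 2) F) = Matrix.diagonal (fun _ => (1 : F)) := by
      rw [Units.val_one, Matrix.diagonal_one]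
    have e3 : ((Matrix.GeneralLinearGroup.mkOfDetNeZero _ hβdet : GL (Fin b) F) :
        Matrix (Fin b) (Fin b) F) = Matrix.diagonal (fun j : Fin b => l * η j) := rfl
    rw [e2, e3, Matrix.diagonal_kronecker_diagonal]
    congr 1
    funext i
    rw [one_mul]

end Cfsg.Agent.Lib.Helper27.SLT
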