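import Mathlib
import Cfsg.Prelude.Def_Classical
import Cfsg.Prelude.Def_LieClassical
import Cfsg.Prelude.Def_GeometricClasses
import Cfsg.Agent.Lib.Helper49.SLUDefs
import Cfsg.Agent.Lib.Helper19.Unitary

/-!
# K-SLU pack (S5982), keystone 598201 (K-SLU-1): eigenvalue pairing for diagonal elements

If `y = g⁻¹ x g`, `x = diag(d)` with `d_k ^ q₀ = d_k`, is a similitude of the standard hermitian form with
multiplier `c`, then `yᵀ * σ(y) = c • 1`; with `P = (g⁻¹)ᵀ * σ(g⁻¹)` (invertible) this reads `x * P * x = c • P`,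
i.e. `d_i d_j = c` whenever `P i j ≠ 0`.  A permutation `π` with `P (π i) i ≠ 0` for all `i` (a non-zero term
of `det P`) pairs the entries: `d (π i) = c / d i`.
-/

set_option autoImplicit false

namespace Cfsg.Agent.Lib.Helper27.SLU

open Matrix Cfsg.Agent.Lib.Helper49.SLU

variable {F : Type*} [Field F] [Fintype F]

/-- an invertible matrix has a permutation avoiding its zero entries -/
theorem exists_perm_ne_zero {n : ℕ} (P : Matrix (Fin n) (Fin n) F) (hP : P.det ≠ 0) :
    ∃ π : Equiv.Perm (Fin n), ∀ i, P (π i) i ≠ 0 := by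
  by_contra hcon
  apply hP
  rw [Matrix.det_apply]
  apply Finset.sum_eq_zero
  intro π _
  have : ∃ i, P (π i) i = 0 := by
    by_contra h
    apply hcon
    exact ⟨π, fun i hi => h ⟨i, hi⟩⟩
  obtain ⟨i, hi⟩ := this
  have h0 : ∏ j, P (π j) j = 0 := Finset.prod_eq_zero (Finset.mem_univ i) hi
  rw [h0, smul_zero]

/-- K-SLU-1 (598201) -/
theorem herm_diag_pairing [DecidableEq F] {q₀ : ℕ} (hF : Fintype.card F = q₀ ^ 2) (n : ℕ) :
    DiagPairing (F := F) n q₀ := by
  intro x g d hd hx hmem
  obtain ⟨c, hc⟩ := hmem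
  have hq0 : q₀ ≠ 0 := by
    rintro rfl
    have : 0 < Fintype.card F := Fintype.card_pos
    rw [hF] at this
    norm_num at this
  set σ : F →+* F := Cfsg.Agent.Lib.Helper19.frobQ hF with hσ
  have hσa : ∀ a : F, σ a = a ^ q₀ := Cfsg.Agent.Lib.Helper19.frobQ_apply hF
  set A : Matrix (Fin n) (Fin n) F := (g : Matrix (Fin n) (Fin n) F) with hA
  set B : Matrix (Fin n) (Fin n) F := ((g⁻¹ : GL (Fin n) F) : Matrix (Fin n) (Fin n) F) with hB
  set X : Matrix (Fin n) (Fin n) F := Matrix.diagonal d with hX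
  have hAB : A * B = 1 := by rw [hA, hB, ← Units.val_mul, mul_inv_cancel, Units.val_one]
  have hBA : B * A = 1 := by rw [hA, hB, ← Units.val_mul, inv_mul_cancel, Units.val_one]
  have hYv : ((g⁻¹ * x * g : GL (Fin n) F) : Matrix (Fin n) (Fin n) F) = B * X * A := by
    rw [Units.val_mul, Units.val_mul, hx]
  -- the matrix form of the similitude condition
  have hYY : (B * X * A)ᵀ * (B * X * A).map σ = (c : F) • (1 : Matrix (Fin n) (Fin n) F) := by
    ext i j
    have h1 := hc (Pi.single i 1) (Pi.single j 1)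
    rw [hYv] at h1
    rw [Matrix.mul_apply, Matrix.smul_apply, Matrix.one_apply, smul_eq_mul]
    have e1 : ∀ k : Fin n, ((B * X * A) *ᵥ Pi.single i 1) k = (B * X * A) k i := by
      intro k
      simp [Matrix.mulVec_single]
    have e2 : ∀ k : Fin n, ((B * X * A) *ᵥ Pi.single j 1) k = (B * X * A) k j := by
      intro k
      simp [Matrix.mulVec_single]
    unfold Cfsg.hermForm at h1
    simp only [e1, e2] at h1
    have e3 : ∑ k : Fin n, (Pi.single i (1 : F) : Fin n → F) k * (Pi.single j (1 : F) : Fin n → F) k ^ q₀ =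
        if i = j then 1 else 0 := by
      rw [Finset.sum_eq_single i]
      · by_cases hij : i = j
        · subst hij
          simp
        · simp [hij, hq0]
      · intro k _ hki
        simp [hki]
      · intro h
        exact absurd (Finset.mem_univ i) h
    rw [e3] at h1
    rw [← h1]
    apply Finset.sum_congr rfl
    intro k _
    rw [Matrix.transpose_apply, Matrix.map_apply, hσa]
  -- `P` and the key identity
  have hXσ : X.map σ = X := by
    rw [hX, Matrix.diagonal_map (map_zero σ)]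
    congr 1
    funext k
    exact (hσa (d k)).trans (hd k)
  have hXT : Xᵀ = X := by rw [hX, Matrix.diagonal_transpose]
  have e1 : Bᵀ * Aᵀ = 1 := by rw [← Matrix.transpose_mul, hAB, Matrix.transpose_one]
  have e2 : A.map σ * B.map σ = 1 := by
    rw [← Matrix.map_mul, hAB, Matrix.map_one _ (map_zero σ) (map_one σ)]
  have e3 : B.map σ * A.map σ = 1 := by
    rw [← Matrix.map_mul, hBA, Matrix.map_one _ (map_zero σ) (map_one σ)]
  have hkey : X * (Bᵀ * B.map σ) * X = (c : F) • (Bᵀ * B.map σ) := by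
    have hYY' : Aᵀ * X * Bᵀ * (B.map σ * X * A.map σ) = (c : F) • (1 : Matrix (Fin n) (Fin n) F) := by
      rw [← hYY, Matrix.transpose_mul, Matrix.transpose_mul, Matrix.map_mul, Matrix.map_mul, hXσ, hXT,
        Matrix.mul_assoc Aᵀ X Bᵀ]
    calc X * (Bᵀ * B.map σ) * X
        = (Bᵀ * Aᵀ) * X * (Bᵀ * B.map σ) * X * (A.map σ * B.map σ) := by
          rw [e1, e2, Matrix.one_mul, Matrix.mul_one]
      _ = Bᵀ * (Aᵀ * X * Bᵀ * (B.map σ * X * A.map σ)) * B.map σ := by
          simp only [Matrix.mul_assoc]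
      _ = Bᵀ * ((c : F) • (1 : Matrix (Fin n) (Fin n) F)) * B.map σ := by rw [hYY']
      _ = (c : F) • (Bᵀ * B.map σ) := by
          rw [Matrix.mul_smul, Matrix.mul_one, Matrix.smul_mul]
  have hPdet : (Bᵀ * B.map σ).det ≠ 0 := by
    have h1 : (Bᵀ * B.map σ) * (A.map σ * Aᵀ) = 1 := by
      calc (Bᵀ * B.map σ) * (A.map σ * Aᵀ) = Bᵀ * (B.map σ * A.map σ) * Aᵀ := by
            simp only [Matrix.mul_assoc]
        _ = 1 := by rw [e3, Matrix.mul_one, e1]
    intro h0
    have h2 := congrArg Matrix.det h1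
    rw [Matrix.det_mul, h0, zero_mul, Matrix.det_one] at h2
    exact zero_ne_one h2
  obtain ⟨π, hπ⟩ := exists_perm_ne_zero _ hPdet
  have hpair : ∀ i, d (π i) * d i = (c : F) := by
    intro i
    have h1 := congrFun (congrFun hkey (π i)) i
    rw [hX, Matrix.mul_diagonal, Matrix.diagonal_mul, Matrix.smul_apply, smul_eq_mul] at h1
    have h2 : (d (π i) * d i - (c : F)) * (Bᵀ * B.map σ) (π i) i = 0 := by
      linear_combination h1
    rcases mul_eq_zero.mp h2 with h3 | h3
    · exact sub_eq_zero.mp h3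
    · exact absurd h3 (hπ i)
  have hc0 : (c : F) ≠ 0 := c.ne_zero
  have hd0 : ∀ i, d i ≠ 0 := by
    intro i h0
    have := hpair i
    rw [h0, mul_zero] at this
    exact hc0 this.symm
  refine ⟨(c : F), hc0, fun α hα => ?_⟩
  symm
  apply Finset.card_equiv π
  intro i
  rw [Finset.mem_filter, Finset.mem_filter]
  simp only [Finset.mem_univ, true_and]
  have h1 : d (π i) = (c : F) / d i := by
    rw [eq_div_iff (hd0 i)]
    exact hpair i
  rw [h1]
  constructor
  · intro h
    rw [h]
  · intro h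
    rw [div_eq_div_iff (hd0 i) hα] at h
    exact (mul_left_cancel₀ hc0 h).symm

end Cfsg.Agent.Lib.Helper27.SLU
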