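import Cfsg.Agent.Lib.Helper27.SQOminusU

set_option autoImplicit false

/-! K-SQ-Ominus (462506), part 3: the count `|UUm| ≥ q^(r(r+1))` and `unip2_omega_minus`. -/

namespace Cfsg.Agent.Lib.Helper27.SQ

open Matrix Cfsg.Agent.Lib.Helper27.R3 Cfsg.Agent.Lib.Helper38.SQ Cfsg.Agent.Lib.Helper07

section count

variable {F : Type} [Field F] [CharP F 2] {r : ℕ} (a b : F)

omit [CharP F 2] in
lemma eg_mat (M : Matrix (Fin r ⊕ Fin r) (Fin r ⊕ Fin r) F) (C : Matrix (Fin r) (Fin r) F)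
    (W : Matrix (Fin 2) (Fin r) F) :
    eMat M * gMat a b C W
      = fromBlocks (M * fromBlocks 1 (C + Cᵀ + Wᵀ * phiM a b * W) 0 1)
          (M * fromRows (Wᵀ * (phiM a b + (phiM a b)ᵀ)) 0) (fromCols 0 W) 1 := by
  rw [eMat, gMat, fromBlocks_multiply]
  simp only [Matrix.zero_mul, add_zero, zero_add, Matrix.one_mul]
  rfl

omit [CharP F 2] in
lemma h_blk (B B' X : Matrix (Fin r) (Fin r) F) :
    hMat B B' * fromBlocks 1 X 0 1 = fromBlocks B (B * X) 0 B'ᵀ := by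
  simp [hMat, fromBlocks_multiply]

/-- the parametrisation of `UUm` -/
def paramM : ↥(UT r F) × (UPairs r → F) × Matrix (Fin 2) (Fin r) F → ↥(UUm (r := r) a b) :=
  fun p => ⟨DD a b p.1 * gIso a b (cUp p.2.1) p.2.2,
    mul_mem (Subgroup.mem_sup_left (Subgroup.mem_map_of_mem _ p.1.2))
      (Subgroup.mem_sup_right ⟨_, _, rfl⟩)⟩

lemma paramM_injective : Function.Injective (paramM (r := r) a b) := by
  rintro ⟨⟨B, hB⟩, c, W⟩ ⟨⟨B₂, hB₂⟩, c₂, W₂⟩ h
  have hmat : eMat (hMat (B : Matrix (Fin r) (Fin r) F)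
        ((B⁻¹ : SpecialLinearGroup (Fin r) F) : Matrix (Fin r) (Fin r) F)) * gMat a b (cUp c) W
      = eMat (hMat (B₂ : Matrix (Fin r) (Fin r) F)
        ((B₂⁻¹ : SpecialLinearGroup (Fin r) F) : Matrix (Fin r) (Fin r) F))
          * gMat a b (cUp c₂) W₂ :=
    congrArg (fun x : ↥(UUm (r := r) a b) =>
      (x.1.1.1 : Matrix ((Fin r ⊕ Fin r) ⊕ Fin 2) ((Fin r ⊕ Fin r) ⊕ Fin 2) F)) h
  rw [eg_mat, eg_mat, h_blk, h_blk] at hmat
  obtain ⟨h11, -, h21, -⟩ := fromBlocks_inj.1 hmat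
  obtain ⟨hB11, hB12, -, -⟩ := fromBlocks_inj.1 h11
  have hWW : W = W₂ := (fromCols_inj h21).2
  have hBB : B = B₂ := Subtype.ext hB11
  subst hBB
  subst hWW
  have hX : cUp c + (cUp c)ᵀ + Wᵀ * phiM a b * W = cUp c₂ + (cUp c₂)ᵀ + Wᵀ * phiM a b * W := by
    have h3 := congrArg (fun M => ((B⁻¹ : SpecialLinearGroup (Fin r) F) :
      Matrix (Fin r) (Fin r) F) * M) hB12
    simp only [← Matrix.mul_assoc, sl_inv_mul, Matrix.one_mul] at h3
    exact h3
  have hA := add_right_cancel hX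
  have hc : c = c₂ := by
    funext ⟨⟨i, j⟩, hij⟩
    have h4 := congrFun (congrFun hA i) j
    rwa [cUp_sym_apply c i j hij, cUp_sym_apply c₂ i j hij] at h4
  rw [hc]

lemma UUm_card [Fintype F] :
    Fintype.card F ^ (r * (r + 1)) ≤ Nat.card (UUm (r := r) a b) := by
  classical
  have h := Nat.card_le_card_of_injective _ (paramM_injective (r := r) a b)
  have hW : Nat.card (Matrix (Fin 2) (Fin r) F) = Fintype.card F ^ (2 * r) := by
    change Nat.card (Fin 2 → Fin r → F) = _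
    rw [Nat.card_eq_fintype_card, Fintype.card_fun, Fintype.card_fun, Fintype.card_fin,
      Fintype.card_fin, ← pow_mul, mul_comm]
  rw [Nat.card_prod, Nat.card_prod, card_UT, hW, Nat.card_eq_fintype_card, Fintype.card_fun,
    card_UPairs, ← pow_add, ← pow_add] at h
  have hs : (∑ i : Fin r, (i : ℕ)) + ((∑ i : Fin r, (i : ℕ)) + 2 * r) = r * (r + 1) := by
    have h1 : (∑ i : Fin r, (i : ℕ)) + ∑ i : Fin r, (i : ℕ) = r * (r - 1) := by
      rw [Fin.sum_univ_eq_sum_range (fun i => i) r, ← mul_two, Finset.sum_range_id_mul_two]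
    have h2 : r * (r - 1) + 2 * r = r * (r + 1) := by
      cases r with
      | zero => rfl
      | succ k => simp; ring
    omega
  rwa [hs] at h

/-- **the heart of K-SQ-Ominus**: `Ω(quadFormMinus r F a b)` (`char F = 2`, `r ≥ 3`, any `a b`) has a
2-subgroup of order `≥ q^(r(r+1))` generated by involutions. -/
theorem unip2_omega_minus [Fintype F] (hr : 3 ≤ r) :
    Unip2 ↥(Omm F r a b) (Fintype.card F ^ (r * (r + 1))) :=
  unip2_of_le (Omm F r a b) (UUm a b) (UUm_le a b hr) (UUm_isPGroup a b) _ (UUm_card a b)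
    (UUm_sq a b)

end count

end Cfsg.Agent.Lib.Helper27.SQ
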