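import Cfsg.Agent.Lib.Helper27.SQOplusU
import Cfsg.Agent.Lib.Helper27.R3Ominus

set_option autoImplicit false

/-! K-SQ-Ominus (462506), part 1 (matrices): the Heisenberg-type unipotent elements
`g(C,W) = [[1, C + Cᵀ + WᵀΦW, WᵀJ],[0,1,0],[0,W,1]]` of `O(quadFormMinus r F a b)`, `char F = 2`. -/

namespace Cfsg.Agent.Lib.Helper27.SQ

open Matrix Cfsg.Agent.Lib.Helper27.R3

section mats

variable {F : Type} [Field F] {r : ℕ}

lemma add_self_mat' [CharP F 2] {α β : Type*} (M : Matrix α β F) : M + M = 0 := by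
  ext i j
  exact CharTwo.add_self_eq_zero (M i j)

lemma fromRows_add' {α β γ : Type*} (A₁ A₁' : Matrix α γ F) (A₂ A₂' : Matrix β γ F) :
    fromRows A₁ A₂ + fromRows A₁' A₂' = fromRows (A₁ + A₁') (A₂ + A₂') := by
  ext (i | i) j <;> simp

lemma fromCols_add' {α β γ : Type*} (A₁ A₁' : Matrix γ α F) (A₂ A₂' : Matrix γ β F) :
    fromCols A₁ A₂ + fromCols A₁' A₂' = fromCols (A₁ + A₁') (A₂ + A₂') := by
  ext i (j | j) <;> simp

/-- Gram matrix of the binary form `z₁² + a z₁ z₂ + b z₂²` -/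
def phiM (a b : F) : Matrix (Fin 2) (Fin 2) F := !![1, a; 0, b]

/-- the unipotent element `g(C,W)` -/
def gMat (a b : F) (C : Matrix (Fin r) (Fin r) F) (W : Matrix (Fin 2) (Fin r) F) :
    Matrix ((Fin r ⊕ Fin r) ⊕ Fin 2) ((Fin r ⊕ Fin r) ⊕ Fin 2) F :=
  fromBlocks (fromBlocks 1 (C + Cᵀ + Wᵀ * phiM a b * W) 0 1)
    (fromRows (Wᵀ * (phiM a b + (phiM a b)ᵀ)) 0) (fromCols 0 W) 1

lemma xid [CharP F 2] (C C' : Matrix (Fin r) (Fin r) F) (W W' : Matrix (Fin 2) (Fin r) F)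
    (P : Matrix (Fin 2) (Fin 2) F) :
    (C' + C'ᵀ + W'ᵀ * P * W') + (C + Cᵀ + Wᵀ * P * W) + Wᵀ * (P + Pᵀ) * W'
      = (C + C' + Wᵀ * Pᵀ * W') + (C + C' + Wᵀ * Pᵀ * W')ᵀ + (W + W')ᵀ * P * (W + W') := by
  have hM : W'ᵀ * (P * W) + W'ᵀ * (P * W) = 0 := add_self_mat' _
  simp only [transpose_add, transpose_mul, transpose_transpose, Matrix.mul_add, Matrix.add_mul,
    Matrix.mul_assoc]
  rw [← sub_eq_zero]
  have h2 : ∀ X : Matrix (Fin r) (Fin r) F, X = 0 → -X = 0 := fun X hX => by rw [hX, neg_zero]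
  rw [← h2 _ hM]
  abel

lemma gMat_mul [CharP F 2] (a b : F) (C C' : Matrix (Fin r) (Fin r) F)
    (W W' : Matrix (Fin 2) (Fin r) F) :
    gMat a b C W * gMat a b C' W' = gMat a b (C + C' + Wᵀ * (phiM a b)ᵀ * W') (W + W') := by
  simp only [gMat, fromBlocks_multiply, fromRows_mul_fromCols, fromCols_mul_fromRows,
    fromBlocks_mul_fromRows, fromCols_mul_fromBlocks, Matrix.mul_one, Matrix.one_mul,
    Matrix.mul_zero, Matrix.zero_mul, add_zero, zero_add, fromBlocks_add, fromRows_add',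
    fromCols_add']
  rw [← xid C C' W W' (phiM a b)]
  congr 1
  congr 1
  rw [transpose_add, Matrix.add_mul, add_comm]

lemma gMat_zero (a b : F) :
    gMat a b (0 : Matrix (Fin r) (Fin r) F) (0 : Matrix (Fin 2) (Fin r) F) = 1 := by
  simp [gMat, fromBlocks_one]

lemma gMat_C0 (a b : F) (C : Matrix (Fin r) (Fin r) F) :
    gMat a b C (0 : Matrix (Fin 2) (Fin r) F) = eMat (uMat C) := by
  simp [gMat, eMat, uMat]

lemma gMat_inv [CharP F 2] (a b : F) (C : Matrix (Fin r) (Fin r) F)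
    (W : Matrix (Fin 2) (Fin r) F) :
    gMat a b C W * gMat a b (C + Wᵀ * (phiM a b)ᵀ * W) W = 1 := by
  rw [gMat_mul, add_self_mat', ← gMat_zero a b]
  congr 1
  rw [← add_assoc, add_self_mat', zero_add, add_self_mat']

lemma gMat_inv' [CharP F 2] (a b : F) (C : Matrix (Fin r) (Fin r) F)
    (W : Matrix (Fin 2) (Fin r) F) :
    gMat a b (C + Wᵀ * (phiM a b)ᵀ * W) W * gMat a b C W = 1 := by
  rw [gMat_mul, add_self_mat', ← gMat_zero a b]
  congr 1
  rw [add_assoc, add_self_mat']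

/-- conjugation by the Levi element -/
lemma conj_gMat (a b : F) (B B' C : Matrix (Fin r) (Fin r) F) (W : Matrix (Fin 2) (Fin r) F)
    (h1 : B * B' = 1) :
    eMat (hMat B B') * gMat a b C W * eMat (hMat B' B) = gMat a b (B * C * Bᵀ) (W * Bᵀ) := by
  have h2 : B'ᵀ * Bᵀ = 1 := by rw [← transpose_mul, h1, transpose_one]
  simp only [gMat, eMat, hMat, fromBlocks_multiply, fromBlocks_mul_fromRows,
    fromCols_mul_fromBlocks, Matrix.mul_one, Matrix.one_mul, Matrix.mul_zero, Matrix.zero_mul,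
    add_zero, zero_add, h1, h2]
  congr 1
  · congr 1
    simp only [transpose_mul, transpose_transpose, Matrix.mul_add, Matrix.add_mul,
      Matrix.mul_assoc]
  · congr 1
    simp only [transpose_mul, transpose_transpose, Matrix.mul_assoc]

end mats

end Cfsg.Agent.Lib.Helper27.SQ
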