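import Cfsg.Agent.Lib.Helper27.SQOminusM

set_option autoImplicit false

/-! K-SQ-Ominus (462506), part 2: a 2-subgroup `UUm` of `Ω(quadFormMinus r F a b)` (`char F = 2`, `r ≥ 3`, any
`a b`), generated by involutions, of order `≥ q^(r(r+1))`: `UUm = e(d(UT_r)) ⊔ {g(C,W)}`. -/

namespace Cfsg.Agent.Lib.Helper27.SQ

open Matrix Cfsg.Agent.Lib.Helper27.R3 Cfsg.Agent.Lib.Helper38.SQ Cfsg.Agent.Lib.Helper07
open Cfsg.Agent.Lib.Helper53.SQ
open scoped commutatorElement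

/-- transfer of `Unip2` data from a subgroup `U ≤ H` of `G` to `↥H` -/
lemma unip2_of_le {G : Type*} [Group G] (H U : Subgroup G) (hUH : U ≤ H) (hp : IsPGroup 2 U)
    (c : ℕ) (hc : c ≤ Nat.card U) (hsq : ∀ x ∈ U, x ^ 2 ∈ ⁅U, U⁆) : Unip2 ↥H c := by
  refine ⟨U.subgroupOf H, hp.of_equiv (Subgroup.subgroupOfEquivOfLe hUH).symm, ?_, ?_⟩
  · rw [Nat.card_congr (Subgroup.subgroupOfEquivOfLe hUH).toEquiv]
    exact hc
  · intro x hx
    have h1 : ((x : G)) ^ 2 ∈ (⁅U.subgroupOf H, U.subgroupOf H⁆).map H.subtype := by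
      rw [Subgroup.map_commutator, Subgroup.map_subgroupOf_eq_of_le hUH]
      exact hsq _ hx
    obtain ⟨t, ht, hts⟩ := h1
    have : t = x ^ 2 := Subtype.ext (by simpa using hts)
    rw [← this]
    exact ht

section iso

variable {F : Type} [Field F] {r : ℕ}

lemma qminus_dot (a b : F) (v : (Fin r ⊕ Fin r) ⊕ Fin 2 → F) :
    Cfsg.quadFormMinus r F a b v = ((v ∘ Sum.inl) ∘ Sum.inl) ⬝ᵥ ((v ∘ Sum.inl) ∘ Sum.inr)
      + (v ∘ Sum.inr) ⬝ᵥ (phiM a b *ᵥ (v ∘ Sum.inr)) := by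
  rw [qminus_eq, qplus_eq]
  congr 1
  simp [dotProduct, mulVec, Fin.sum_univ_two, phiM]
  ring

lemma gMat_mulVec (a b : F) (C : Matrix (Fin r) (Fin r) F) (W : Matrix (Fin 2) (Fin r) F)
    (v : (Fin r ⊕ Fin r) ⊕ Fin 2 → F) :
    gMat a b C W *ᵥ v = Sum.elim (Sum.elim
      (((v ∘ Sum.inl) ∘ Sum.inl) + (C + Cᵀ + Wᵀ * phiM a b * W) *ᵥ ((v ∘ Sum.inl) ∘ Sum.inr)
        + (Wᵀ * (phiM a b + (phiM a b)ᵀ)) *ᵥ (v ∘ Sum.inr))
      ((v ∘ Sum.inl) ∘ Sum.inr)) ((v ∘ Sum.inr) + W *ᵥ ((v ∘ Sum.inl) ∘ Sum.inr)) := by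
  rw [gMat, fromBlocks_mulVec, fromBlocks_mulVec, fromRows_mulVec, fromCols_mulVec]
  ext ((i | i) | i) <;> simp [add_comm]

lemma qminus_gMat [CharP F 2] (a b : F) (C : Matrix (Fin r) (Fin r) F)
    (W : Matrix (Fin 2) (Fin r) F) (v : (Fin r ⊕ Fin r) ⊕ Fin 2 → F) :
    Cfsg.quadFormMinus r F a b (gMat a b C W *ᵥ v) = Cfsg.quadFormMinus r F a b v := by
  rw [qminus_dot, qminus_dot, gMat_mulVec]
  simp only [Sum.elim_comp_inl, Sum.elim_comp_inr]
  generalize (v ∘ Sum.inl) ∘ Sum.inl = x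
  generalize (v ∘ Sum.inl) ∘ Sum.inr = y
  generalize v ∘ Sum.inr = z
  have h1 : ((C + Cᵀ) *ᵥ y) ⬝ᵥ y = 0 := by
    rw [add_mulVec, add_dotProduct]
    have h : (Cᵀ *ᵥ y) ⬝ᵥ y = (C *ᵥ y) ⬝ᵥ y := by
      rw [mulVec_transpose, ← dotProduct_mulVec, dotProduct_comm]
    rw [h, CharTwo.add_self_eq_zero]
  have h2 : ((Wᵀ * phiM a b * W) *ᵥ y) ⬝ᵥ y = (W *ᵥ y) ⬝ᵥ (phiM a b *ᵥ (W *ᵥ y)) := by
    rw [← mulVec_mulVec, ← mulVec_mulVec, mulVec_transpose, ← dotProduct_mulVec, dotProduct_comm]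
  have h3 : ((Wᵀ * (phiM a b + (phiM a b)ᵀ)) *ᵥ z) ⬝ᵥ y
      = (W *ᵥ y) ⬝ᵥ (phiM a b *ᵥ z) + z ⬝ᵥ (phiM a b *ᵥ (W *ᵥ y)) := by
    rw [← mulVec_mulVec, mulVec_transpose, ← dotProduct_mulVec, add_mulVec, add_dotProduct,
      mulVec_transpose, ← dotProduct_mulVec, dotProduct_comm (phiM a b *ᵥ z)]
  rw [add_mulVec, add_dotProduct, add_dotProduct, add_dotProduct, h1, h2, h3, mulVec_add,
    dotProduct_add, add_dotProduct, add_dotProduct]
  have hA := CharTwo.add_self_eq_zero ((W *ᵥ y) ⬝ᵥ (phiM a b *ᵥ (W *ᵥ y)))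
  have hB := CharTwo.add_self_eq_zero ((W *ᵥ y) ⬝ᵥ (phiM a b *ᵥ z))
  have hC := CharTwo.add_self_eq_zero (z ⬝ᵥ (phiM a b *ᵥ (W *ᵥ y)))
  linear_combination hA + hB + hC

end iso

/-- the isometry group of `quadFormMinus r F a b` -/
abbrev GOm (F : Type) [Field F] (r : ℕ) (a b : F) : Type :=
  ↥(Cfsg.isometryGroup F (Cfsg.quadFormMinus r F a b))

/-- `Ω(quadFormMinus r F a b)` -/
abbrev Omm (F : Type) [Field F] (r : ℕ) (a b : F) : Subgroup (GOm F r a b) :=
  Cfsg.Omega F (Cfsg.quadFormMinus r F a b)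

section grp

variable {F : Type} [Field F] [CharP F 2] {r : ℕ} (a b : F)

/-- `g(C,W)` in `GL` -/
def gGL (C : Matrix (Fin r) (Fin r) F) (W : Matrix (Fin 2) (Fin r) F) :
    GL ((Fin r ⊕ Fin r) ⊕ Fin 2) F :=
  ⟨gMat a b C W, gMat a b (C + Wᵀ * (phiM a b)ᵀ * W) W, gMat_inv a b C W, gMat_inv' a b C W⟩

/-- `g(C,W)` as an isometry -/
def gIso (C : Matrix (Fin r) (Fin r) F) (W : Matrix (Fin 2) (Fin r) F) : GOm F r a b :=
  ⟨gGL a b C W, (mem_iso_iff' _ _).2 (fun v => qminus_gMat a b C W v)⟩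

omit [CharP F 2] in
lemma gm_ext {g h : GOm F r a b}
    (e : ((g : GL ((Fin r ⊕ Fin r) ⊕ Fin 2) F) :
        Matrix ((Fin r ⊕ Fin r) ⊕ Fin 2) ((Fin r ⊕ Fin r) ⊕ Fin 2) F)
      = ((h : GL ((Fin r ⊕ Fin r) ⊕ Fin 2) F) :
        Matrix ((Fin r ⊕ Fin r) ⊕ Fin 2) ((Fin r ⊕ Fin r) ⊕ Fin 2) F)) : g = h :=
  Subtype.ext (Units.ext e)

lemma gIso_mul (C C' : Matrix (Fin r) (Fin r) F) (W W' : Matrix (Fin 2) (Fin r) F) :
    gIso a b C W * gIso a b C' W' = gIso a b (C + C' + Wᵀ * (phiM a b)ᵀ * W') (W + W') :=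
  gm_ext a b (gMat_mul a b C C' W W')

lemma gIso_zero : gIso a b (0 : Matrix (Fin r) (Fin r) F) 0 = 1 := gm_ext a b (gMat_zero a b)

lemma gIso_inv (C : Matrix (Fin r) (Fin r) F) (W : Matrix (Fin 2) (Fin r) F) :
    (gIso a b C W)⁻¹ = gIso a b (C + Wᵀ * (phiM a b)ᵀ * W) W :=
  inv_eq_of_mul_eq_one_right (gm_ext a b (gMat_inv a b C W))

lemma gIso_C0 (C : Matrix (Fin r) (Fin r) F) :
    gIso a b C (0 : Matrix (Fin 2) (Fin r) F) = eHom a b (uIso C) :=
  gm_ext a b (gMat_C0 a b C)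

lemma conj_gIso (B : SpecialLinearGroup (Fin r) F) (C : Matrix (Fin r) (Fin r) F)
    (W : Matrix (Fin 2) (Fin r) F) :
    eHom a b (dHom B) * gIso a b C W * (eHom a b (dHom B))⁻¹
      = gIso a b ((B : Matrix (Fin r) (Fin r) F) * C * (B : Matrix (Fin r) (Fin r) F)ᵀ)
          (W * (B : Matrix (Fin r) (Fin r) F)ᵀ) := by
  rw [← map_inv, ← map_inv]
  exact gm_ext a b (by
    change eMat (hMat (B : Matrix (Fin r) (Fin r) F)
        ((B⁻¹ : SpecialLinearGroup (Fin r) F) : Matrix (Fin r) (Fin r) F)) * gMat a b C W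
        * eMat (hMat ((B⁻¹ : SpecialLinearGroup (Fin r) F) : Matrix (Fin r) (Fin r) F)
          (((B⁻¹)⁻¹ : SpecialLinearGroup (Fin r) F) : Matrix (Fin r) (Fin r) F)) = _
    rw [inv_inv]
    exact conj_gMat a b _ _ C W (sl_mul_inv B))

/-- the Heisenberg-type unipotent radical -/
def RR : Subgroup (GOm F r a b) where
  carrier := {g | ∃ C W, g = gIso a b C W}
  mul_mem' := by
    rintro _ _ ⟨C, W, rfl⟩ ⟨C', W', rfl⟩
    exact ⟨_, _, gIso_mul a b C C' W W'⟩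
  one_mem' := ⟨0, 0, (gIso_zero a b).symm⟩
  inv_mem' := by
    rintro _ ⟨C, W, rfl⟩
    exact ⟨_, _, gIso_inv a b C W⟩

lemma gIso_symm_zero (C : Matrix (Fin r) (Fin r) F) (hC : Cᵀ = C) :
    gIso a b C (0 : Matrix (Fin 2) (Fin r) F) = 1 :=
  gm_ext a b (by
    change gMat a b C 0 = 1
    rw [gMat_C0, uMat, hC, add_self_mat', fromBlocks_one, eMat_one])

lemma gIso_C0_sq (C : Matrix (Fin r) (Fin r) F) :
    gIso a b C (0 : Matrix (Fin 2) (Fin r) F) ^ 2 = 1 := by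
  rw [pow_two, gIso_mul]
  simp only [add_self_mat', transpose_zero, Matrix.zero_mul, Matrix.mul_zero, add_zero]
  exact gIso_zero a b

lemma gIso_pow_four (C : Matrix (Fin r) (Fin r) F) (W : Matrix (Fin 2) (Fin r) F) :
    (gIso a b C W) ^ 4 = 1 := by
  have h2 : gIso a b C W * gIso a b C W = gIso a b (Wᵀ * (phiM a b)ᵀ * W) 0 := by
    rw [gIso_mul, add_self_mat', add_self_mat', zero_add]
  have h4 : (gIso a b C W) ^ 4
      = (gIso a b C W * gIso a b C W) ^ 2 := by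
    rw [← pow_two, ← pow_mul]
  rw [h4, h2, gIso_C0_sq]

lemma RR_isPGroup : IsPGroup 2 (RR (r := r) a b) := by
  rintro ⟨_, C, W, rfl⟩
  refine ⟨2, Subtype.ext ?_⟩
  change (gIso a b C W) ^ (2 ^ 2) = 1
  exact gIso_pow_four a b C W

/-- the `2 × r` matrix with `k`-th column `w` -/
def colMat (k : Fin r) (w : Fin 2 → F) : Matrix (Fin 2) (Fin r) F :=
  Matrix.of fun i j => if j = k then w i else 0

omit [CharP F 2] in
lemma colMat_mul_single (j i : Fin r) (w : Fin 2 → F) :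
    colMat j w * single j i (1 : F) = colMat i w := by
  ext x c
  by_cases hc : c = i
  · subst hc
    rw [mul_single_apply_same]
    simp [colMat]
  · rw [mul_single_apply_of_ne _ _ _ _ _ hc]
    simp [colMat, hc]

lemma col_induction (K : Subgroup (GOm F r a b)) (hu : ∀ C, gIso a b C 0 ∈ K)
    (hs : ∀ k w, gIso a b 0 (colMat k w) ∈ K) : ∀ C W, gIso a b C W ∈ K := by
  have key : ∀ k : ℕ, ∀ (C : Matrix (Fin r) (Fin r) F) (W : Matrix (Fin 2) (Fin r) F),
      (∀ i (j : Fin r), k ≤ j.val → W i j = 0) → gIso a b C W ∈ K := by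
    intro k
    induction k with
    | zero =>
      intro C W hW
      have : W = 0 := by
        ext i j
        exact hW i j (Nat.zero_le _)
      rw [this]
      exact hu C
    | succ k ih =>
      intro C W hW
      by_cases hk : k < r
      · have hW' : ∀ i (j : Fin r), k ≤ j.val →
            (W + colMat ⟨k, hk⟩ (fun i => W i ⟨k, hk⟩)) i j = 0 := by
          intro i j hj
          simp only [Matrix.add_apply, colMat, Matrix.of_apply]
          by_cases hjk : j = ⟨k, hk⟩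
          · rw [if_pos hjk, hjk]
            exact CharTwo.add_self_eq_zero _
          · rw [if_neg hjk, add_zero]
            apply hW
            have : j.val ≠ k := fun h => hjk (Fin.ext h)
            omega
        have hdec : gIso a b C W
            = gIso a b (C + (W + colMat ⟨k, hk⟩ (fun i => W i ⟨k, hk⟩))ᵀ * (phiM a b)ᵀ
                * colMat ⟨k, hk⟩ (fun i => W i ⟨k, hk⟩))
              (W + colMat ⟨k, hk⟩ (fun i => W i ⟨k, hk⟩))
              * gIso a b 0 (colMat ⟨k, hk⟩ (fun i => W i ⟨k, hk⟩)) := by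
          rw [gIso_mul, add_zero, add_assoc, add_self_mat', add_zero, add_assoc, add_self_mat',
            add_zero]
        rw [hdec]
        exact mul_mem (ih _ _ hW') (hs _ _)
      · apply ih
        intro i j hj
        exfalso
        have := j.2
        omega
  intro C W
  exact key r C W (fun i j hj => by have := j.2; omega)

lemma sIso_mem (hr : 3 ≤ r) (i : Fin r) (w : Fin 2 → F) :
    gIso a b 0 (colMat i w) ∈ Omm F r a b := by
  obtain ⟨j, hij, -⟩ := exists_third hr i i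
  have hc : ⁅eHom a b (dHom (Matrix.SpecialLinearGroup.transvection hij (1 : F))),
      gIso a b 0 (colMat j w)⁆ ∈ Omm F r a b :=
    Subgroup.commutator_mem_commutator (Subgroup.mem_top _) (Subgroup.mem_top _)
  rw [commutatorElement_def, conj_gIso, gIso_inv, gIso_mul] at hc
  have hW : colMat j w * ((Matrix.SpecialLinearGroup.transvection hij (1 : F) :
      SpecialLinearGroup (Fin r) F) : Matrix (Fin r) (Fin r) F)ᵀ + colMat j w = colMat i w := by
    change colMat j w * (Matrix.transvection i j (1 : F))ᵀ + _ = _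
    rw [Matrix.transvection, transpose_add, transpose_one, transpose_single, Matrix.mul_add,
      Matrix.mul_one, colMat_mul_single, add_right_comm, add_self_mat', zero_add]
  rw [hW] at hc
  have hsplit : ∀ C₂ : Matrix (Fin r) (Fin r) F,
      gIso a b C₂ (colMat i w) = gIso a b C₂ 0 * gIso a b 0 (colMat i w) := by
    intro C₂
    rw [gIso_mul, add_zero, zero_add, transpose_zero, Matrix.zero_mul, Matrix.zero_mul, add_zero]
  rw [hsplit] at hc
  have hu : ∀ C₂ : Matrix (Fin r) (Fin r) F, gIso a b C₂ 0 ∈ Omm F r a b := by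
    intro C₂
    rw [gIso_C0]
    exact eHom_mem_omega a b _ (uIso_mem_omega hr _)
  exact (Subgroup.mul_mem_cancel_left _ (hu _)).1 hc

lemma gIso_mem (hr : 3 ≤ r) (C : Matrix (Fin r) (Fin r) F) (W : Matrix (Fin 2) (Fin r) F) :
    gIso a b C W ∈ Omm F r a b := by
  apply col_induction a b (Omm F r a b)
  · intro C₂
    rw [gIso_C0]
    exact eHom_mem_omega a b _ (uIso_mem_omega hr _)
  · exact sIso_mem a b hr

/-- `d : SL_r → O(quadFormMinus)` -/
def DD : SpecialLinearGroup (Fin r) F →* GOm F r a b := (eHom a b).comp dHom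

/-- the Sylow 2-subgroup -/
def UUm : Subgroup (GOm F r a b) := (UT r F).map (DD a b) ⊔ RR a b

lemma UUm_le (hr : 3 ≤ r) : UUm (r := r) a b ≤ Omm F r a b := by
  refine sup_le ?_ ?_
  · rintro _ ⟨B, -, rfl⟩
    exact eHom_mem_omega a b _ (dHom_mem hr B)
  · rintro _ ⟨C, W, rfl⟩
    exact gIso_mem a b hr C W

lemma UUm_isPGroup [Fintype F] : IsPGroup 2 (UUm (r := r) a b) := by
  obtain ⟨f, -, hF⟩ := FiniteField.card F 2
  have h1 : IsPGroup 2 ((UT r F).map (DD a b)) := (isPGroup_UT 2 hF).map _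
  refine h1.to_sup_of_normal_right' (RR_isPGroup a b) (le_normalizer_of_conj_mem _ _ ?_)
  rintro _ ⟨B, -, rfl⟩ _ ⟨C, W, rfl⟩
  exact ⟨_, _, conj_gIso a b B C W⟩

/-- the involutions generating `UUm` -/
def genSet : Set (GOm F r a b) :=
  (DD a b) '' {x | x ∈ UT r F ∧ x ^ 2 = 1}
    ∪ ({g | ∃ C, g = gIso a b C 0} ∪ {g | ∃ k w, g = gIso a b 0 (colMat k w)})

lemma UUm_eq_closure : UUm (r := r) a b = Subgroup.closure (genSet a b) := by
  apply le_antisymm
  · refine sup_le ?_ ?_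
    · have h := UT_eq_closure (n := r) (F := F)
      rw [h, MonoidHom.map_closure]
      exact Subgroup.closure_mono Set.subset_union_left
    · rintro _ ⟨C, W, rfl⟩
      apply col_induction a b (Subgroup.closure (genSet a b))
      · intro C₂
        exact Subgroup.subset_closure (Or.inr (Or.inl ⟨C₂, rfl⟩))
      · intro k w
        exact Subgroup.subset_closure (Or.inr (Or.inr ⟨k, w, rfl⟩))
  · rw [Subgroup.closure_le]
    rintro s (⟨x, hx, rfl⟩ | ⟨C, rfl⟩ | ⟨k, w, rfl⟩)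
    · exact Subgroup.mem_sup_left (Subgroup.mem_map_of_mem _ hx.1)
    · exact Subgroup.mem_sup_right ⟨_, _, rfl⟩
    · exact Subgroup.mem_sup_right ⟨_, _, rfl⟩

omit [CharP F 2] in
lemma colMat_quad_symm (k : Fin r) (w : Fin 2 → F) (P : Matrix (Fin 2) (Fin 2) F) :
    ((colMat k w)ᵀ * P * colMat k w)ᵀ = (colMat k w)ᵀ * P * colMat k w := by
  ext i j
  rw [transpose_apply]
  simp only [Matrix.mul_apply, transpose_apply, colMat, Matrix.of_apply, Fin.sum_univ_two]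
  by_cases hi : i = k <;> by_cases hj : j = k <;> simp [hi, hj]

lemma gIso_col_sq (k : Fin r) (w : Fin 2 → F) : gIso a b 0 (colMat k w) ^ 2 = 1 := by
  rw [pow_two, gIso_mul, add_self_mat' (colMat k w), add_zero, zero_add]
  exact gIso_symm_zero a b _ (colMat_quad_symm k w _)

lemma UUm_sq : ∀ x ∈ UUm (r := r) a b, x ^ 2 ∈ ⁅UUm (r := r) a b, UUm (r := r) a b⁆ := by
  apply sq_mem_commutator_of_closure (UUm a b) _ (UUm_eq_closure a b)
  rintro s (⟨x, hx, rfl⟩ | ⟨C, rfl⟩ | ⟨k, w, rfl⟩)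
  · rw [← map_pow, hx.2, map_one]
    exact one_mem _
  · rw [gIso_C0_sq]
    exact one_mem _
  · rw [gIso_col_sq]
    exact one_mem _

end grp

end Cfsg.Agent.Lib.Helper27.SQ
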