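import Cfsg.Agent.Lib.Helper27.SQOplusU
import Cfsg.Agent.S0293

set_option autoImplicit false

/-! K-SQ-Oplus (462505), part 2: the 2-part of `|Ω⁺_{2m}(2^f)|` (from helper08's `card_GOplus` and helper43's
`index_Omega_char_two`) and the final statement. -/

namespace Cfsg.Agent.Lib.Helper27.SQ

open Cfsg.Agent.Lib.Helper38.SQ Cfsg.Agent.Lib.Helper08

lemma not_two_dvd_pow_sub_one (q k : ℕ) (hq1 : 1 ≤ q) (hq : 2 ∣ q) (hk : 1 ≤ k) :
    ¬ 2 ∣ q ^ k - 1 := by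
  have h1 : 2 ∣ q ^ k := dvd_pow hq (by omega)
  have h2 : 1 ≤ q ^ k := Nat.one_le_pow _ _ hq1
  obtain ⟨c, hc⟩ := h1
  rintro ⟨d, hd⟩
  omega

theorem twoPart_omega_plus (F : Type) [Field F] [Fintype F] [CharP F 2] (m : ℕ) (hm : 4 ≤ m)
    (f : ℕ) (hf : 1 ≤ f) (hF : Fintype.card F = 2 ^ f) :
    TwoPart ↥(Om F m) (2 ^ (f * (m * (m - 1)))) := by
  classical
  have hGO := card_GOplus hF m (by omega)
  have hQ : (QuadraticMap.polarBilin (qdataPlus (F := F) m).qf).Nondegenerate :=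
    (qdataPlus (F := F) m).qf_nondeg
  have hne : Nonempty (Fin m ⊕ Fin m) := ⟨Sum.inl ⟨0, by omega⟩⟩
  have hidx : (Cfsg.Omega F (Cfsg.quadFormPlus m F)).index = 2 :=
    Cfsg.Agent.Lib.Helper43.index_Omega_char_two (qdataPlus (F := F) m).qf hQ
      (Or.inr (by rw [Fintype.card_sum, Fintype.card_fin]; omega))
  have hcard := Subgroup.card_mul_index (Cfsg.Omega F (Cfsg.quadFormPlus m F))
  rw [hidx, hGO] at hcard
  have hq1 : 1 ≤ 2 ^ f := Nat.one_le_two_pow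
  have hq2 : 2 ∣ 2 ^ f := dvd_pow_self 2 (by omega)
  refine ⟨((2 ^ f) ^ m - 1) * ∏ i ∈ Finset.range (m - 1), ((2 ^ f) ^ (2 * (i + 1)) - 1), ?_, ?_⟩
  · rw [Nat.Prime.dvd_mul Nat.prime_two]
    rintro (h | h)
    · exact not_two_dvd_pow_sub_one _ _ hq1 hq2 (by omega) h
    · rw [Prime.dvd_finset_prod_iff Nat.prime_two.prime] at h
      obtain ⟨i, -, hi⟩ := h
      exact not_two_dvd_pow_sub_one _ _ hq1 hq2 (by omega) hi
  · have h3 : Nat.card ↥(Om F m) * 2 = (2 ^ (f * (m * (m - 1))) * (((2 ^ f) ^ m - 1)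
        * ∏ i ∈ Finset.range (m - 1), ((2 ^ f) ^ (2 * (i + 1)) - 1))) * 2 := by
      rw [hcard, pow_mul]
      ring
    exact Nat.eq_of_mul_eq_mul_right (by norm_num) h3

/-- **462505 K-SQ-Oplus.** -/
theorem sylSq_pomega_plus (F : Type) [Field F] [Fintype F] [CharP F 2] (m : ℕ) (hm : 4 ≤ m) :
    SylSq (Cfsg.POmega F (Cfsg.quadFormPlus m F)) := by
  obtain ⟨f, -, hF⟩ := FiniteField.card F 2
  have h1 : SylSq ↥(Om F m) :=
    SylSq.of_unip_twoPart (f * (m * (m - 1))) (unip2_omega_plus (by omega) f hF)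
      (twoPart_omega_plus F m hm f f.pos hF)
  exact SylSq.quotient _ h1

end Cfsg.Agent.Lib.Helper27.SQ
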