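import Cfsg.Agent.Lib.Helper27.R3Oplus
import Cfsg.Agent.Lib.Helper38.SQ.Defs
import Cfsg.Agent.Lib.Helper53.SQPSL
import Cfsg.Agent.Lib.Helper07.SLGen

set_option autoImplicit false

/-! K-SQ-Oplus (462505), part 1: a 2-subgroup `UU` of `Ω⁺_{2m}(F)` (`char F = 2`, `m ≥ 3`), generated by
involutions, of order `≥ q^(m(m-1))`: `UU = d(UT_m) ⊔ {u(C)}`, `d(B) = diag(B, B⁻ᵀ)`, `u(C) = [[1, C + Cᵀ],[0,1]]`. -/

namespace Cfsg.Agent.Lib.Helper27.SQ

open Matrix Cfsg.Agent.Lib.Helper27.R3 Cfsg.Agent.Lib.Helper38.SQ Cfsg.Agent.Lib.Helper07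
open Cfsg.Agent.Lib.Helper53.SQ
open scoped commutatorElement

/-- the isometry group `O⁺_{2m}(F)` -/
abbrev GOp (F : Type) [Field F] (m : ℕ) : Type :=
  ↥(Cfsg.isometryGroup F (Cfsg.quadFormPlus m F))

/-- `Ω⁺_{2m}(F)` -/
abbrev Om (F : Type) [Field F] (m : ℕ) : Subgroup (GOp F m) :=
  Cfsg.Omega F (Cfsg.quadFormPlus m F)

lemma map_mem_commutator {G H : Type*} [Group G] [Group H] (f : G →* H) {x : G}
    (hx : x ∈ commutator G) : f x ∈ commutator H := by
  have h1 : f x ∈ (commutator G).map f := Subgroup.mem_map_of_mem _ hx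
  rw [commutator_def, Subgroup.map_commutator] at h1
  exact Subgroup.commutator_mono le_top le_top h1

lemma le_normalizer_of_conj_mem {G : Type*} [Group G] (H K : Subgroup G)
    (h : ∀ x ∈ H, ∀ k ∈ K, x * k * x⁻¹ ∈ K) : H ≤ Subgroup.normalizer K := by
  intro x hx
  rw [Subgroup.mem_normalizer_iff]
  intro k
  constructor
  · exact h x hx k
  · intro hk
    have h1 := h x⁻¹ (inv_mem hx) _ hk
    have h2 : x⁻¹ * (x * k * x⁻¹) * x⁻¹⁻¹ = k := by group
    rwa [h2] at h1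

section

variable {F : Type} [Field F] [CharP F 2] {m : ℕ}

omit [CharP F 2] in
lemma sl_mul_inv (B : SpecialLinearGroup (Fin m) F) :
    (B : Matrix (Fin m) (Fin m) F)
      * ((B⁻¹ : SpecialLinearGroup (Fin m) F) : Matrix (Fin m) (Fin m) F) = 1 := by
  rw [← Matrix.SpecialLinearGroup.coe_mul, mul_inv_cancel, Matrix.SpecialLinearGroup.coe_one]

omit [CharP F 2] in
lemma sl_inv_mul (B : SpecialLinearGroup (Fin m) F) :
    ((B⁻¹ : SpecialLinearGroup (Fin m) F) : Matrix (Fin m) (Fin m) F)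
      * (B : Matrix (Fin m) (Fin m) F) = 1 := by
  rw [← Matrix.SpecialLinearGroup.coe_mul, inv_mul_cancel, Matrix.SpecialLinearGroup.coe_one]

/-- `d : SL_m → O⁺_{2m}`, `B ↦ diag(B, B⁻ᵀ)` -/
def dHom : SpecialLinearGroup (Fin m) F →* GOp F m where
  toFun B := hIso (B : Matrix (Fin m) (Fin m) F)
    ((B⁻¹ : SpecialLinearGroup (Fin m) F) : Matrix (Fin m) (Fin m) F) (sl_mul_inv B) (sl_inv_mul B)
  map_one' := iso_ext (by
    change hMat ((1 : SpecialLinearGroup (Fin m) F) : Matrix (Fin m) (Fin m) F)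
      (((1 : SpecialLinearGroup (Fin m) F)⁻¹ : SpecialLinearGroup (Fin m) F) :
        Matrix (Fin m) (Fin m) F) = 1
    rw [inv_one, Matrix.SpecialLinearGroup.coe_one, hMat, transpose_one, fromBlocks_one])
  map_mul' B B' := iso_ext (by
    change hMat ((B * B' : SpecialLinearGroup (Fin m) F) : Matrix (Fin m) (Fin m) F)
        (((B * B')⁻¹ : SpecialLinearGroup (Fin m) F) : Matrix (Fin m) (Fin m) F)
      = hMat (B : Matrix (Fin m) (Fin m) F)
          ((B⁻¹ : SpecialLinearGroup (Fin m) F) : Matrix (Fin m) (Fin m) F)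
        * hMat (B' : Matrix (Fin m) (Fin m) F)
          ((B'⁻¹ : SpecialLinearGroup (Fin m) F) : Matrix (Fin m) (Fin m) F)
    rw [_root_.mul_inv_rev, Matrix.SpecialLinearGroup.coe_mul, Matrix.SpecialLinearGroup.coe_mul, hMat, hMat, hMat,
      fromBlocks_multiply, transpose_mul]
    simp)

omit [CharP F 2] in
lemma conj_mat (B B' C : Matrix (Fin m) (Fin m) F) (h1 : B * B' = 1) :
    hMat B B' * uMat C * hMat B' B = uMat (B * C * Bᵀ) := by
  have h2 : B'ᵀ * Bᵀ = 1 := by rw [← transpose_mul, h1, transpose_one]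
  simp only [hMat, uMat, fromBlocks_multiply, Matrix.mul_one, Matrix.mul_zero,
    Matrix.zero_mul, add_zero, zero_add, h1, h2, transpose_add, transpose_mul, transpose_transpose]
  congr 1
  simp only [Matrix.mul_add, Matrix.add_mul, Matrix.mul_assoc]

lemma dHom_conj (B : SpecialLinearGroup (Fin m) F) (C : Matrix (Fin m) (Fin m) F) :
    dHom B * uIso C * (dHom B)⁻¹
      = uIso ((B : Matrix (Fin m) (Fin m) F) * C * (B : Matrix (Fin m) (Fin m) F)ᵀ) := by
  rw [← map_inv]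
  exact iso_ext (by
    change hMat (B : Matrix (Fin m) (Fin m) F)
        ((B⁻¹ : SpecialLinearGroup (Fin m) F) : Matrix (Fin m) (Fin m) F) * uMat C
        * hMat ((B⁻¹ : SpecialLinearGroup (Fin m) F) : Matrix (Fin m) (Fin m) F)
          (((B⁻¹)⁻¹ : SpecialLinearGroup (Fin m) F) : Matrix (Fin m) (Fin m) F) = _
    rw [inv_inv]
    exact conj_mat _ _ _ (sl_mul_inv B))

/-- `u` as a hom from the additive group of matrices -/
def uHom : Multiplicative (Matrix (Fin m) (Fin m) F) →* GOp F m where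
  toFun C := uIso (Multiplicative.toAdd C)
  map_one' := by rw [toAdd_one, uIso_zero]
  map_mul' a b := by rw [toAdd_mul, uIso_mul]

lemma mult_sq (c : Multiplicative (Matrix (Fin m) (Fin m) F)) : c ^ 2 = 1 := by
  apply Multiplicative.toAdd.injective
  rw [toAdd_pow, toAdd_one, two_nsmul, add_self_mat]

omit [CharP F 2] in
lemma exists_third (hm : 3 ≤ m) (i j : Fin m) : ∃ k : Fin m, i ≠ k ∧ j ≠ k := by
  by_cases h0 : i.val ≠ 0 ∧ j.val ≠ 0
  · exact ⟨⟨0, by omega⟩, fun h => h0.1 (by rw [h]), fun h => h0.2 (by rw [h])⟩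
  by_cases h1 : i.val ≠ 1 ∧ j.val ≠ 1
  · exact ⟨⟨1, by omega⟩, fun h => h1.1 (by rw [h]), fun h => h1.2 (by rw [h])⟩
  refine ⟨⟨2, by omega⟩, ?_, ?_⟩
  · intro h
    have h2 : i.val = 2 := by rw [h]
    have hij : i.val ≠ j.val ∨ i.val = j.val := by omega
    omega
  · intro h
    have h2 : j.val = 2 := by rw [h]
    omega

lemma uIso_mem_omega (hm : 3 ≤ m) (C : Matrix (Fin m) (Fin m) F) : uIso C ∈ Om F m := by
  have hadd : ∀ a b : Matrix (Fin m) (Fin m) F, uIso a ∈ Om F m → uIso b ∈ Om F m →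
      uIso (a + b) ∈ Om F m := by
    intro a b ha hb
    rw [← uIso_mul]
    exact mul_mem ha hb
  have h0 : uIso (0 : Matrix (Fin m) (Fin m) F) ∈ Om F m := by
    rw [uIso_zero]
    exact one_mem _
  have hC := matrix_eq_sum_single C
  rw [hC]
  refine Finset.sum_induction _ (fun D => uIso D ∈ Om F m) hadd h0 (fun i _ => ?_)
  refine Finset.sum_induction _ (fun D => uIso D ∈ Om F m) hadd h0 (fun j _ => ?_)
  by_cases hij : i = j
  · subst hij
    have : uIso (single i i (C i i)) = 1 := by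
      apply iso_ext
      change uMat (single i i (C i i)) = 1
      rw [uMat, transpose_single, add_self_mat, fromBlocks_one]
    rw [this]
    exact one_mem _
  · obtain ⟨k, hik, hjk⟩ := exists_third hm i j
    exact uIso_single_mem i j k hik hjk _

lemma dHom_mem (hm : 3 ≤ m) (B : SpecialLinearGroup (Fin m) F) : dHom B ∈ Om F m := by
  apply map_mem_commutator
  rw [commutator_sl_eq_top (by rw [Fintype.card_fin]; exact hm)]
  exact Subgroup.mem_top _

/-- `d` into `Ω` -/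
def dOm (hm : 3 ≤ m) : SpecialLinearGroup (Fin m) F →* ↥(Om F m) :=
  dHom.codRestrict _ (dHom_mem hm)

/-- `u` into `Ω` -/
def uOm (hm : 3 ≤ m) : Multiplicative (Matrix (Fin m) (Fin m) F) →* ↥(Om F m) :=
  uHom.codRestrict _ (fun _ => uIso_mem_omega hm _)

/-- the Sylow 2-subgroup of `Ω⁺` -/
def UU (hm : 3 ≤ m) : Subgroup ↥(Om F m) :=
  (UT m F).map (dOm hm) ⊔ (uOm hm).range

lemma UU_isPGroup [Fintype F] (hm : 3 ≤ m) : IsPGroup 2 (UU (F := F) hm) := by
  obtain ⟨f, -, hF⟩ := FiniteField.card F 2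
  have h1 : IsPGroup 2 ((UT m F).map (dOm hm)) := (isPGroup_UT 2 hF).map _
  have h2 : IsPGroup 2 (uOm (F := F) hm).range := by
    rintro ⟨_, c, rfl⟩
    refine ⟨1, Subtype.ext ?_⟩
    rw [pow_one]
    change (uOm hm c) ^ 2 = 1
    rw [← map_pow, mult_sq, map_one]
  refine h1.to_sup_of_normal_right' h2 (le_normalizer_of_conj_mem _ _ ?_)
  rintro _ ⟨B, -, rfl⟩ _ ⟨c, rfl⟩
  refine ⟨Multiplicative.ofAdd ((B : Matrix (Fin m) (Fin m) F) * Multiplicative.toAdd c
    * (B : Matrix (Fin m) (Fin m) F)ᵀ), ?_⟩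
  apply Subtype.ext
  exact (dHom_conj B (Multiplicative.toAdd c)).symm

lemma UU_eq_closure (hm : 3 ≤ m) :
    UU (F := F) hm = Subgroup.closure ((dOm hm) '' {x | x ∈ UT m F ∧ x ^ 2 = 1}
      ∪ (((uOm (F := F) hm).range : Subgroup ↥(Om F m)) : Set ↥(Om F m))) := by
  rw [Subgroup.closure_union, ← MonoidHom.map_closure, ← UT_eq_closure, Subgroup.closure_eq]
  rfl

lemma UU_sq (hm : 3 ≤ m) : ∀ x ∈ UU (F := F) hm, x ^ 2 ∈ ⁅UU (F := F) hm, UU (F := F) hm⁆ := by
  apply sq_mem_commutator_of_closure (UU hm) _ (UU_eq_closure hm)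
  rintro s (⟨x, hx, rfl⟩ | ⟨c, rfl⟩)
  · rw [← map_pow, hx.2, map_one]
    exact one_mem _
  · rw [← map_pow, mult_sq, map_one]
    exact one_mem _

/-- strictly upper triangular matrix with prescribed entries -/
def cUp (c : UPairs m → F) : Matrix (Fin m) (Fin m) F :=
  Matrix.of fun i j => if h : i < j then c ⟨(i, j), h⟩ else 0

omit [CharP F 2] in
lemma cUp_sym_apply (c : UPairs m → F) (i j : Fin m) (h : i < j) :
    (cUp c + (cUp c)ᵀ) i j = c ⟨(i, j), h⟩ := by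
  rw [Matrix.add_apply, transpose_apply, cUp, Matrix.of_apply, Matrix.of_apply, dif_pos h,
    dif_neg (asymm h), add_zero]

omit [CharP F 2] in
lemma hu_mat (B B' C : Matrix (Fin m) (Fin m) F) :
    hMat B B' * uMat C = fromBlocks B (B * (C + Cᵀ)) 0 B'ᵀ := by
  simp [hMat, uMat, fromBlocks_multiply]

/-- the parametrisation of `UU` -/
def paramMap (hm : 3 ≤ m) : ↥(UT m F) × (UPairs m → F) → ↥(UU (F := F) hm) := fun p =>
  ⟨dOm hm p.1 * uOm hm (Multiplicative.ofAdd (cUp p.2)),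
    mul_mem (Subgroup.mem_sup_left (Subgroup.mem_map_of_mem _ p.1.2))
      (Subgroup.mem_sup_right ⟨_, rfl⟩)⟩

lemma paramMap_injective (hm : 3 ≤ m) : Function.Injective (paramMap (F := F) hm) := by
  rintro ⟨⟨B, hB⟩, c⟩ ⟨⟨B₂, hB₂⟩, c₂⟩ h
  have hmat : hMat (B : Matrix (Fin m) (Fin m) F)
        ((B⁻¹ : SpecialLinearGroup (Fin m) F) : Matrix (Fin m) (Fin m) F) * uMat (cUp c)
      = hMat (B₂ : Matrix (Fin m) (Fin m) F)
        ((B₂⁻¹ : SpecialLinearGroup (Fin m) F) : Matrix (Fin m) (Fin m) F) * uMat (cUp c₂) :=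
    congrArg (fun x : ↥(UU (F := F) hm) => (x.1.1.1.1 : Matrix (Fin m ⊕ Fin m) (Fin m ⊕ Fin m) F)) h
  rw [hu_mat, hu_mat] at hmat
  obtain ⟨h11, h12, -, -⟩ := fromBlocks_inj.1 hmat
  have hBB : B = B₂ := Subtype.ext h11
  subst hBB
  have hA : cUp c + (cUp c)ᵀ = cUp c₂ + (cUp c₂)ᵀ := by
    have h3 := congrArg (fun M => ((B⁻¹ : SpecialLinearGroup (Fin m) F) :
      Matrix (Fin m) (Fin m) F) * M) h12
    simp only [← Matrix.mul_assoc, sl_inv_mul, Matrix.one_mul] at h3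
    exact h3
  have hc : c = c₂ := by
    funext ⟨⟨i, j⟩, hij⟩
    have h4 := congrFun (congrFun hA i) j
    rwa [cUp_sym_apply c i j hij, cUp_sym_apply c₂ i j hij] at h4
  rw [hc]

lemma UU_card [Fintype F] (hm : 3 ≤ m) :
    Fintype.card F ^ (m * (m - 1)) ≤ Nat.card (UU (F := F) hm) := by
  classical
  have h := Nat.card_le_card_of_injective _ (paramMap_injective (F := F) hm)
  rw [Nat.card_prod, card_UT, Nat.card_eq_fintype_card, Fintype.card_fun, card_UPairs,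
    ← pow_add] at h
  have hs : (∑ i : Fin m, (i : ℕ)) + ∑ i : Fin m, (i : ℕ) = m * (m - 1) := by
    rw [Fin.sum_univ_eq_sum_range (fun i => i) m, ← mul_two, Finset.sum_range_id_mul_two]
  rwa [hs] at h

/-- **the heart of K-SQ-Oplus**: `Ω⁺_{2m}(2^f)` has a 2-subgroup of order `≥ q^(m(m-1))` generated by
involutions. -/
theorem unip2_omega_plus [Fintype F] (hm : 3 ≤ m) (f : ℕ) (hF : Fintype.card F = 2 ^ f) :
    Unip2 ↥(Om F m) (2 ^ (f * (m * (m - 1)))) :=
  ⟨UU hm, UU_isPGroup hm, by rw [pow_mul, ← hF]; exact UU_card hm, UU_sq hm⟩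

end

end Cfsg.Agent.Lib.Helper27.SQ
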