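import Mathlib
import Cfsg.Prelude.Def_GeometricClasses
import Cfsg.Agent.Lib.Helper87.SU3Defs

/-!
# S5778 pack, keystone 577805 (K-SU3-C5)

`N' = ⟨a, b, S, S'⟩` conjugates every non-central element `ω^i a^j b^k` of the Heisenberg group to `a`.
The proof is characteristic free except for `3 ≠ 0`: one-step identities `G * Y = ω^e • (Y' * G)` for the
polynomial parts `G = S₀, P₀` of `S, S'`, chained, and a final conjugation by a power of `b` to remove the scalar.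
-/

set_option autoImplicit false

namespace Cfsg.Agent.Lib.Helper27.SU3K

open Cfsg Cfsg.Geo Matrix Cfsg.Agent.Lib.Helper87.SU3

variable {F : Type*} [Field F]

local notation "M3" => Matrix (Fin 3) (Fin 3) F
local notation "G3" => GL (Fin 3) F

theorem ext3 {M N : M3} (h00 : M 0 0 = N 0 0) (h01 : M 0 1 = N 0 1) (h02 : M 0 2 = N 0 2)
    (h10 : M 1 0 = N 1 0) (h11 : M 1 1 = N 1 1) (h12 : M 1 2 = N 1 2)
    (h20 : M 2 0 = N 2 0) (h21 : M 2 1 = N 2 1) (h22 : M 2 2 = N 2 2) : M = N := by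
  ext i j
  fin_cases i <;> fin_cases j <;> assumption

/-- polynomial part of `sM ω` -/
def S0 (ω : F) : M3 := !![1, 1, 1; 1, ω, ω ^ 2; 1, ω ^ 2, ω]
/-- polynomial part of `sM' ω` -/
def P0 (ω : F) : M3 := !![1, 1, ω ^ 2; 1, ω, ω; ω, 1, ω]
/-- `3 • S0⁻¹` -/
def S0bar (ω : F) : M3 := !![1, 1, 1; 1, ω ^ 2, ω; 1, ω, ω ^ 2]
/-- `3 • P0⁻¹` -/
def P0bar (ω : F) : M3 := !![1, 1, ω ^ 2; 1, ω ^ 2, 1; ω, ω ^ 2, ω ^ 2]

theorem sM_eq (ω : F) : sM ω = (ω - ω ^ 2)⁻¹ • S0 ω := rfl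
theorem sM'_eq (ω : F) : sM' ω = (ω - ω ^ 2)⁻¹ • P0 ω := rfl

section identities

variable (ω : F) (hω : ω ^ 2 + ω + 1 = 0)
include hω

theorem S0_mul_S0bar : S0 ω * S0bar ω = (3 : F) • (1 : M3) := by
  apply ext3 <;> simp [S0, S0bar, Matrix.mul_apply, Fin.sum_univ_three] <;> grind

theorem P0_mul_P0bar : P0 ω * P0bar ω = (3 : F) • (1 : M3) := by
  apply ext3 <;> simp [P0, P0bar, Matrix.mul_apply, Fin.sum_univ_three] <;> grind

theorem aM_pow_three : aM ω ^ 3 = 1 := by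
  rw [pow_succ, pow_two]
  apply ext3 <;> simp [aM, Matrix.mul_apply, Fin.sum_univ_three] <;> grind

theorem bM_mul_aM : (bM : M3) * aM ω = ω ^ 2 • (aM ω * bM) := by
  apply ext3 <;> simp [aM, bM, Matrix.mul_apply, Fin.sum_univ_three] <;> grind

theorem step1 : S0 ω * (bM : M3) = aM ω * S0 ω := by
  apply ext3 <;> simp [S0, aM, bM, Matrix.mul_apply, Fin.sum_univ_three] <;> grind

theorem step2 : S0 ω * (aM ω * aM ω) = (bM : M3) * S0 ω := by
  apply ext3 <;> simp [S0, aM, bM, Matrix.mul_apply, Fin.sum_univ_three] <;> grind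

theorem step3 : S0 ω * ((bM : M3) * bM) = (aM ω * aM ω) * S0 ω := by
  apply ext3 <;> simp [S0, aM, bM, Matrix.mul_apply, Fin.sum_univ_three] <;> grind

theorem step4 : P0 ω * (aM ω * bM) = ω • (aM ω * P0 ω) := by
  apply ext3 <;> simp [P0, aM, bM, Matrix.mul_apply, Fin.sum_univ_three] <;> grind

theorem step5 : P0 ω * (aM ω * aM ω * ((bM : M3) * bM)) = (aM ω * aM ω) * P0 ω := by
  apply ext3 <;> simp [P0, aM, bM, Matrix.mul_apply, Fin.sum_univ_three] <;> grind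

theorem step6 : P0 ω * (aM ω * ((bM : M3) * bM)) = (bM : M3) * P0 ω := by
  apply ext3 <;> simp [P0, aM, bM, Matrix.mul_apply, Fin.sum_univ_three] <;> grind

theorem step7 : S0 ω * (aM ω * aM ω * (bM : M3)) = ω ^ 2 • ((aM ω * bM) * S0 ω) := by
  apply ext3 <;> simp [S0, aM, bM, Matrix.mul_apply, Fin.sum_univ_three] <;> grind

end identities

theorem bM_pow_three : (bM : M3) ^ 3 = 1 := by
  rw [pow_succ, pow_two]
  apply ext3 <;> simp [bM, Matrix.mul_apply, Fin.sum_univ_three]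


/-- the generating set of `N'` -/
def gens (ω : F) : Set G3 :=
  {g : G3 | (g : M3) = sM ω ∨ (g : M3) = sM' ω ∨ (g : M3) = aM ω ∨ (g : M3) = bM}

/-- `Y` is conjugate to a scalar multiple of `a` under `N'` -/
def Good (ω : F) (Y : M3) : Prop :=
  ∃ u : G3, u ∈ Subgroup.closure (gens ω) ∧ ∃ e : ℕ, (u : M3) * Y = ω ^ e • (aM ω * (u : M3))

theorem good_a (ω : F) : Good ω (aM ω) :=
  ⟨1, Subgroup.one_mem _, 0, by simp⟩

theorem good_step {ω : F} {Y Y' : M3} (g : G3) (hg : g ∈ Subgroup.closure (gens ω)) (c : F) (G : M3)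
    (hgG : (g : M3) = c • G) (e : ℕ) (h : G * Y = ω ^ e • (Y' * G)) (hY' : Good ω Y') : Good ω Y := by
  obtain ⟨u, hu, e', hu'⟩ := hY'
  refine ⟨u * g, Subgroup.mul_mem _ hu hg, e + e', ?_⟩
  calc ((u * g : G3) : M3) * Y = (u : M3) * ((g : M3) * Y) := by rw [Units.val_mul, Matrix.mul_assoc]
    _ = (u : M3) * (c • (ω ^ e • (Y' * G))) := by rw [hgG, Matrix.smul_mul, h]
    _ = c • (ω ^ e • (((u : M3) * Y') * G)) := by rw [Matrix.mul_smul, Matrix.mul_smul, Matrix.mul_assoc]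
    _ = c • (ω ^ e • ((ω ^ e' • (aM ω * (u : M3))) * G)) := by rw [hu']
    _ = ω ^ (e + e') • (aM ω * ((u : M3) * (c • G))) := by
        rw [Matrix.smul_mul, Matrix.mul_smul, Matrix.mul_smul, smul_smul, smul_smul, smul_smul, Matrix.mul_assoc,
          pow_add]
        congr 1
        ring
    _ = ω ^ (e + e') • (aM ω * ((u * g : G3) : M3)) := by rw [Units.val_mul, hgG]

section main

variable [Fintype F]

theorem three_ne_zero_of_card (hF : Fintype.card F = 25) : (3 : F) ≠ 0 := by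
  have h25 : ((25 : ℕ) : F) = 0 := by
    rw [← hF]
    exact FiniteField.cast_card_eq_zero F
  have h5 : (5 : F) = 0 := by
    have : (5 : F) * 5 = 0 := by
      push_cast at h25
      linear_combination h25
    exact mul_self_eq_zero.mp this
  intro h3
  have : (1 : F) = 0 := by linear_combination 2 * h3 - h5
  exact one_ne_zero this

/-- K-SU3-C5 (577805). -/
theorem heis_conj_to_a (hF : Fintype.card F = 25) (ω : F) (hω : ω ^ 2 + ω + 1 = 0) (y : G3)
    (hy : ∃ i j k : ℕ, (y : M3) = ω ^ i • (aM ω ^ j * bM ^ k)) (hns : ¬ ∃ c : F, (y : M3) = c • (1 : M3)) :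
    ∃ u : G3, u ∈ Subgroup.closure {g : G3 | (g : M3) = sM ω ∨ (g : M3) = sM' ω ∨ (g : M3) = aM ω ∨ (g : M3) = bM} ∧
      ((u * y * u⁻¹ : G3) : M3) = aM ω := by
  have h3 : (3 : F) ≠ 0 := three_ne_zero_of_card hF
  have hd2 : (ω - ω ^ 2) ^ 2 = -3 := by linear_combination (ω ^ 2 - 3 * ω + 3) * hω
  have hd : ω - ω ^ 2 ≠ 0 := by
    intro h
    rw [h] at hd2
    apply h3
    linear_combination hd2
  have hw3 : ω ^ 3 = 1 := by linear_combination (ω - 1) * hω
  have hcc : (ω - ω ^ 2)⁻¹ * -(ω - ω ^ 2)⁻¹ * 3 = 1 := by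
    calc (ω - ω ^ 2)⁻¹ * -(ω - ω ^ 2)⁻¹ * 3 = -(3 * ((ω - ω ^ 2) ^ 2)⁻¹) := by
          rw [← inv_pow]; ring
      _ = -(3 * (-3 : F)⁻¹) := by rw [hd2]
      _ = 1 := by rw [inv_neg, mul_neg, neg_neg, mul_inv_cancel₀ h3]
  -- the units
  have hb3 : (bM : M3) ^ 3 = 1 := bM_pow_three
  have ha3 : aM ω ^ 3 = 1 := aM_pow_three ω hω
  have hb1 : (bM : M3) * (bM * bM) = 1 := by rw [← pow_two, ← pow_succ']; exact hb3
  have hS1 : sM ω * (-(ω - ω ^ 2)⁻¹ • S0bar ω) = 1 := by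
    rw [sM_eq, Matrix.smul_mul, Matrix.mul_smul, S0_mul_S0bar ω hω, smul_smul, smul_smul, hcc, one_smul]
  have hP1 : sM' ω * (-(ω - ω ^ 2)⁻¹ • P0bar ω) = 1 := by
    rw [sM'_eq, Matrix.smul_mul, Matrix.mul_smul, P0_mul_P0bar ω hω, smul_smul, smul_smul, hcc, one_smul]
  let bU : G3 := ⟨bM, bM * bM, hb1, mul_eq_one_comm.mp hb1⟩
  let SU : G3 := ⟨sM ω, -(ω - ω ^ 2)⁻¹ • S0bar ω, hS1, mul_eq_one_comm.mp hS1⟩
  let PU : G3 := ⟨sM' ω, -(ω - ω ^ 2)⁻¹ • P0bar ω, hP1, mul_eq_one_comm.mp hP1⟩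
  have hbU : bU ∈ Subgroup.closure (gens ω) := Subgroup.subset_closure (Or.inr (Or.inr (Or.inr rfl)))
  have hSU : SU ∈ Subgroup.closure (gens ω) := Subgroup.subset_closure (Or.inl rfl)
  have hPU : PU ∈ Subgroup.closure (gens ω) := Subgroup.subset_closure (Or.inr (Or.inl rfl))
  have hSv : (SU : M3) = (ω - ω ^ 2)⁻¹ • S0 ω := rfl
  have hPv : (PU : M3) = (ω - ω ^ 2)⁻¹ • P0 ω := rfl
  -- the eight classes
  have g10 : Good ω (aM ω) := good_a ω
  have g01 : Good ω (bM : M3) :=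
    good_step SU hSU _ _ hSv 0 (by rw [pow_zero, one_smul]; exact step1 ω hω) g10
  have g20 : Good ω (aM ω * aM ω) :=
    good_step SU hSU _ _ hSv 0 (by rw [pow_zero, one_smul]; exact step2 ω hω) g01
  have g02 : Good ω ((bM : M3) * bM) :=
    good_step SU hSU _ _ hSv 0 (by rw [pow_zero, one_smul]; exact step3 ω hω) g20
  have g11 : Good ω (aM ω * bM) :=
    good_step PU hPU _ _ hPv 1 (by rw [pow_one]; exact step4 ω hω) g10
  have g22 : Good ω (aM ω * aM ω * ((bM : M3) * bM)) :=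
    good_step PU hPU _ _ hPv 0 (by rw [pow_zero, one_smul]; exact step5 ω hω) g20
  have g12 : Good ω (aM ω * ((bM : M3) * bM)) :=
    good_step PU hPU _ _ hPv 0 (by rw [pow_zero, one_smul]; exact step6 ω hω) g01
  have g21 : Good ω (aM ω * aM ω * (bM : M3)) :=
    good_step SU hSU _ _ hSv 2 (step7 ω hω) g11
  obtain ⟨i, j, k, hy⟩ := hy
  rw [pow_eq_pow_mod j ha3, pow_eq_pow_mod k hb3] at hy
  have hgood : Good ω (aM ω ^ (j % 3) * bM ^ (k % 3)) := by
    have hj3 : j % 3 < 3 := Nat.mod_lt _ (by norm_num)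
    have hk3 : k % 3 < 3 := Nat.mod_lt _ (by norm_num)
    generalize j % 3 = j' at hy hj3 ⊢
    generalize k % 3 = k' at hy hk3 ⊢
    interval_cases j' <;> interval_cases k'
    · exfalso
      apply hns
      exact ⟨ω ^ i, by rw [hy]; simp⟩
    · simpa using g01
    · simpa [pow_two] using g02
    · simpa using g10
    · simpa using g11
    · simpa [pow_two] using g12
    · simpa [pow_two] using g20
    · simpa [pow_two] using g21
    · simpa [pow_two] using g22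
  obtain ⟨u₁, hu₁, e, h1⟩ := hgood
  -- removing the scalar with a power of `b`
  have hbt : ∀ t : ℕ, (bM : M3) ^ t * aM ω = (ω ^ 2) ^ t • (aM ω * bM ^ t) := by
    intro t
    induction t with
    | zero => simp
    | succ t ih =>
      rw [pow_succ', Matrix.mul_assoc, ih, Matrix.mul_smul, ← Matrix.mul_assoc, bM_mul_aM ω hω, Matrix.smul_mul,
        smul_smul, Matrix.mul_assoc, ← pow_succ' (bM : M3), pow_succ (ω ^ 2)]
  have hval : ∀ t : ℕ, ((bU ^ t : G3) : M3) = (bM : M3) ^ t := fun t => by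
    rw [Units.val_pow_eq_pow_val]
  refine ⟨bU ^ (i + e) * u₁, Subgroup.mul_mem _ (Subgroup.pow_mem _ hbU _) hu₁, ?_⟩
  have hmain : ((bU ^ (i + e) * u₁ : G3) : M3) * (y : M3) = aM ω * ((bU ^ (i + e) * u₁ : G3) : M3) := by
    rw [Units.val_mul, hval, Matrix.mul_assoc, hy, Matrix.mul_smul, h1, smul_smul, Matrix.mul_smul,
      ← Matrix.mul_assoc, ← Matrix.mul_assoc, hbt, Matrix.smul_mul, smul_smul]
    have hsc : ω ^ i * ω ^ e * (ω ^ 2) ^ (i + e) = 1 := by
      rw [← pow_add, ← pow_mul, ← pow_add, show i + e + 2 * (i + e) = 3 * (i + e) by ring, pow_mul, hw3, one_pow]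
    rw [hsc, one_smul]
  rw [Units.val_mul, Units.val_mul, hmain, Matrix.mul_assoc, ← Units.val_mul, mul_inv_cancel, Units.val_one,
    Matrix.mul_one]

end main

end Cfsg.Agent.Lib.Helper27.SU3K
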