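import Mathlib
import Cfsg.Agent.Lib.Helper69.StNDefs

/-!
# K-StN-D3 (keystone 240112, S2401 pack of helper69), parallel hand of helper27:
the comparison homomorphism is injective on the torus `Htor X`.
-/

set_option autoImplicit false

namespace Cfsg.Agent.Lib.Helper27.StN

open Cfsg.Agent.Lib.Helper69.StN Matrix

variable {n : ℕ} {K : Type*} [Field K] {S : Type*} [Group S] {X : Fin n → Fin n → K → S}

/-- the homomorphism `u ↦ hh X i0 j u` -/
def d3Hom (hX : IsSt X) (hM : HasHhMul X) (i0 j : Fin n) (h : i0 ≠ j) : Kˣ →* S where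
  toFun u := hh X i0 j (u : K)
  map_one' := by
    show hh X i0 j ((1 : Kˣ) : K) = 1
    rw [Units.val_one]
    exact hX.hh_one h
  map_mul' u v := by
    show hh X i0 j ((u * v : Kˣ) : K) = hh X i0 j (u : K) * hh X i0 j (v : K)
    rw [Units.val_mul]
    exact hM i0 j h u v u.ne_zero v.ne_zero

/-- the diagonal entries of the image of `hh X i0 j u` -/
def d3Diag (i0 j : Fin n) : Kˣ →* (Fin n → K) where
  toFun u := fun m => if m = i0 then (u : K) else if m = j then (u : K)⁻¹ else 1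
  map_one' := by
    funext m
    simp
  map_mul' u v := by
    funext m
    simp only [Pi.mul_apply, Units.val_mul]
    split_ifs <;> simp [mul_comm]

/-- the diagonal matrices as a monoid homomorphism -/
def d3DiagHom : (Fin n → K) →* Matrix (Fin n) (Fin n) K where
  toFun := Matrix.diagonal
  map_one' := Matrix.diagonal_one
  map_mul' a b := (Matrix.diagonal_mul_diagonal' a b).symm

/-- the coercion of `φ` to matrices -/
def d3Coe (φ : S →* SpecialLinearGroup (Fin n) K) : S →* Matrix (Fin n) (Fin n) K where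
  toFun s := ((φ s : SpecialLinearGroup (Fin n) K) : Matrix (Fin n) (Fin n) K)
  map_one' := by simp
  map_mul' a b := by simp

/-- the index type `{j // i0 ≠ j}` -/
abbrev D3I (i0 : Fin n) : Type := {j : Fin n // i0 ≠ j}

theorem d3_comm (hX : IsSt X) (hM : HasHhMul X)
    (hcomm : ∀ a ∈ Htor X, ∀ b ∈ Htor X, a * b = b * a) (i0 : Fin n) :
    Pairwise fun i j : D3I i0 => ∀ x y : Kˣ,
      Commute (d3Hom hX hM i0 i.1 i.2 x) (d3Hom hX hM i0 j.1 j.2 y) := by
  intro i j _ x y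
  exact hcomm _ (hh_mem_Htor X i.2 x.ne_zero) _ (hh_mem_Htor X j.2 y.ne_zero)

/-- the product of the homomorphisms `u ↦ hh X i0 j u` -/
noncomputable def d3Theta (hX : IsSt X) (hM : HasHhMul X)
    (hcomm : ∀ a ∈ Htor X, ∀ b ∈ Htor X, a * b = b * a) (i0 : Fin n) : (D3I i0 → Kˣ) →* S :=
  MonoidHom.noncommPiCoprod (fun j : D3I i0 => d3Hom hX hM i0 j.1 j.2) (d3_comm hX hM hcomm i0)

theorem d3Theta_mulSingle (hX : IsSt X) (hM : HasHhMul X)
    (hcomm : ∀ a ∈ Htor X, ∀ b ∈ Htor X, a * b = b * a) (i0 : Fin n) (j : D3I i0) (x : Kˣ) :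
    d3Theta hX hM hcomm i0 (Pi.mulSingle j x) = hh X i0 j.1 (x : K) := by
  unfold d3Theta
  rw [MonoidHom.noncommPiCoprod_mulSingle]
  rfl

theorem d3D_comm (i0 : Fin n) :
    Pairwise fun i j : D3I i0 => ∀ x y : Kˣ,
      Commute (d3Diag (K := K) i0 i.1 x) (d3Diag (K := K) i0 j.1 y) :=
  fun _ _ _ _ _ => Commute.all _ _

/-- the product of the diagonal homomorphisms -/
noncomputable def d3D (i0 : Fin n) : (D3I i0 → Kˣ) →* (Fin n → K) :=
  MonoidHom.noncommPiCoprod (fun j : D3I i0 => d3Diag (K := K) i0 j.1) (d3D_comm i0)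

theorem d3D_mulSingle (i0 : Fin n) (j : D3I i0) (x : Kˣ) :
    d3D (K := K) i0 (Pi.mulSingle j x) = d3Diag i0 j.1 x := by
  unfold d3D
  rw [MonoidHom.noncommPiCoprod_mulSingle]

theorem d3D_apply (i0 : Fin n) (u : D3I i0 → Kˣ) (m : D3I i0) :
    d3D (K := K) i0 u m.1 = ((u m : Kˣ) : K)⁻¹ := by
  classical
  unfold d3D
  rw [MonoidHom.noncommPiCoprod_apply, Finset.noncommProd_eq_prod, Finset.prod_apply,
    Finset.prod_eq_single m]
  · show (if m.1 = i0 then ((u m : Kˣ) : K) else if m.1 = m.1 then ((u m : Kˣ) : K)⁻¹ else 1) = _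
    rw [if_neg (fun e => m.2 e.symm), if_pos rfl]
  · intro j _ hjm
    show (if m.1 = i0 then ((u j : Kˣ) : K) else if m.1 = j.1 then ((u j : Kˣ) : K)⁻¹ else 1) = 1
    rw [if_neg (fun e => m.2 e.symm), if_neg (fun e => hjm (Subtype.ext e.symm))]
  · intro hm
    exact absurd (Finset.mem_univ m) hm

/-- **K-StN-D3** (keystone 240112) -/
theorem Htor_inj (hX : IsSt X) (hn : 2 ≤ n) (hM : HasHhMul X)
    (hcomm : ∀ a ∈ Htor X, ∀ b ∈ Htor X, a * b = b * a)
    (hswap : ∀ {i j : Fin n}, i ≠ j → ∀ {u : K}, u ≠ 0 → hh X j i u = (hh X i j u)⁻¹)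
    (heq : ∀ {i0 i j : Fin n}, i0 ≠ i → i0 ≠ j → i ≠ j → ∀ {u : K}, u ≠ 0 →
      hh X i j u = (hh X i0 i u)⁻¹ * hh X i0 j u)
    {φ : S →* SpecialLinearGroup (Fin n) K}
    (hphi : ∀ {i j : Fin n}, i ≠ j → ∀ {u : K}, u ≠ 0 →
      ((φ (hh X i j u) : SpecialLinearGroup (Fin n) K) : Matrix (Fin n) (Fin n) K) =
        Matrix.diagonal (fun m => if m = i then u else if m = j then u⁻¹ else 1)) :
    ∀ h ∈ Htor X, φ h = 1 → h = 1 := by
  classical
  have hn0 : 0 < n := by omega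
  obtain ⟨i0⟩ : Nonempty (Fin n) := ⟨⟨0, hn0⟩⟩
  -- the two homomorphisms agree
  have hhom : ∀ u : D3I i0 → Kˣ,
      d3Coe φ (d3Theta hX hM hcomm i0 u) = d3DiagHom (d3D (K := K) i0 u) := by
    have : (d3Coe φ).comp (d3Theta hX hM hcomm i0) = (d3DiagHom (n := n) (K := K)).comp (d3D i0) := by
      apply MonoidHom.pi_ext
      intro j x
      rw [MonoidHom.comp_apply, MonoidHom.comp_apply, d3Theta_mulSingle, d3D_mulSingle]
      exact hphi j.2 x.ne_zero
    intro u
    exact DFunLike.congr_fun this u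
  -- `Htor X` lies in the range of `θ`
  have hmem : ∀ (j : Fin n) (hj : i0 ≠ j) (u : K) (hu : u ≠ 0),
      hh X i0 j u ∈ (d3Theta hX hM hcomm i0).range := by
    intro j hj u hu
    exact ⟨Pi.mulSingle (⟨j, hj⟩ : D3I i0) (Units.mk0 u hu),
      d3Theta_mulSingle hX hM hcomm i0 ⟨j, hj⟩ (Units.mk0 u hu)⟩
  have hle : Htor X ≤ (d3Theta hX hM hcomm i0).range := by
    rw [Htor, Subgroup.closure_le]
    rintro g ⟨i, j, u, hij, hu, rfl⟩
    by_cases hi : i0 = i
    · subst hi
      exact hmem j hij u hu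
    · by_cases hj : i0 = j
      · subst hj
        rw [hswap hi hu]
        exact inv_mem (hmem i hi u hu)
      · rw [heq hi hj hij hu]
        exact mul_mem (inv_mem (hmem i hi u hu)) (hmem j hj u hu)
  intro h hh' hφ
  obtain ⟨u, rfl⟩ := hle hh'
  have e1 : d3Coe φ (d3Theta hX hM hcomm i0 u) = 1 := by
    show ((φ (d3Theta hX hM hcomm i0 u) : SpecialLinearGroup (Fin n) K) :
      Matrix (Fin n) (Fin n) K) = 1
    rw [hφ]
    rfl
  have e2 : Matrix.diagonal (d3D (K := K) i0 u) = 1 := by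
    have := hhom u
    rw [e1] at this
    exact this.symm
  have e3 : d3D (K := K) i0 u = fun _ => (1 : K) := by
    apply Matrix.diagonal_injective
    rw [e2, Matrix.diagonal_one]
  have e4 : ∀ m : D3I i0, u m = 1 := by
    intro m
    have h1 : d3D (K := K) i0 u m.1 = 1 := congrFun e3 m.1
    rw [d3D_apply] at h1
    apply Units.ext
    rw [Units.val_one]
    exact inv_eq_one.1 h1
  have e5 : u = 1 := funext e4
  rw [e5, map_one]

end Cfsg.Agent.Lib.Helper27.StN
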