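import Mathlib
import Cfsg.Agent.Lib.Helper48.StODefs
import Cfsg.Agent.Lib.Helper61.StOR0c
import Cfsg.Agent.Lib.Helper32.StOF2P

/-!
# K-StO pack (S2547), leaf F2Z (keystone 254709), parallel hand of helper27: the dichotomy for a
monomial matrix and the short simple root `ε_k` (any `k`).
-/

set_option autoImplicit false
set_option linter.unusedSectionVars false
set_option linter.unusedVariables false

namespace Cfsg.Agent.Lib.Helper27.StO

open Cfsg Cfsg.Agent.Lib.Helper48.StO Cfsg.Agent.Lib.Helper32.StO Matrix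

variable {m : ℕ} {F : Type*} [Field F]

/-- the off-diagonal entries of `x_{ε_k}(t)` -/
theorem f2z_xZMat_apply_eq_zero (k : Fin m) (t : F) (a b : OI m) (hab : a ≠ b)
    (h1 : ¬ (a = zI ∧ b = fI k)) (h2 : ¬ (a = eI k ∧ b = zI)) (h3 : ¬ (a = eI k ∧ b = fI k)) :
    xZMat m F k t a b = 0 := by
  unfold xZMat
  rw [Matrix.sub_apply, Matrix.sub_apply, Matrix.add_apply, Matrix.one_apply_ne hab,
    Matrix.single_apply, Matrix.single_apply, Matrix.single_apply, if_neg, if_neg, if_neg]
  · ring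
  · rintro ⟨rfl, rfl⟩; exact h3 ⟨rfl, rfl⟩
  · rintro ⟨rfl, rfl⟩; exact h2 ⟨rfl, rfl⟩
  · rintro ⟨rfl, rfl⟩; exact h1 ⟨rfl, rfl⟩

/-- the off-diagonal entries of `x_{-ε_k}(t)` -/
theorem f2z_yZMat_apply_eq_zero (k : Fin m) (t : F) (a b : OI m) (hab : a ≠ b)
    (h1 : ¬ (a = zI ∧ b = eI k)) (h2 : ¬ (a = fI k ∧ b = zI)) (h3 : ¬ (a = fI k ∧ b = eI k)) :
    yZMat m F k t a b = 0 := by
  unfold yZMat
  rw [Matrix.sub_apply, Matrix.sub_apply, Matrix.add_apply, Matrix.one_apply_ne hab,
    Matrix.single_apply, Matrix.single_apply, Matrix.single_apply, if_neg, if_neg, if_neg]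
  · ring
  · rintro ⟨rfl, rfl⟩; exact h3 ⟨rfl, rfl⟩
  · rintro ⟨rfl, rfl⟩; exact h2 ⟨rfl, rfl⟩
  · rintro ⟨rfl, rfl⟩; exact h1 ⟨rfl, rfl⟩

/-- `z` is the only fixed point of the duality -/
theorem f2z_eq_zI_of_dualE_eq (a : OI m) (h : dualE m a = a) : a = zI := by
  rcases a with a | a | a
  · rfl
  · exact absurd h (by simp [dualE])
  · exact absurd h (by simp [dualE])

/-- a permutation commuting with the duality fixes `z` -/
theorem f2z_sigma_zI (σ : Equiv.Perm (OI m)) (hσ : ∀ a, σ (dualE m a) = dualE m (σ a)) :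
    σ zI = zI := by
  apply f2z_eq_zI_of_dualE_eq
  rw [← hσ zI, dualE_zI]

theorem f2z_pos_zI : pos m (zI : OI m) = m := rfl

/-- the dichotomy for every `k` -/
theorem dich_Z (k : Fin m) (n : OG m F) (σ : Equiv.Perm (OI m)) (hn : MonWith m F n σ) :
    (∀ t : F, n⁻¹ * xZ m F k t * n ∈ Bsub m F) ∨
      (∀ t : F, n⁻¹ * yZ m F k t * n ∈ Bsub m F) := by
  have hz : σ zI = zI := f2z_sigma_zI σ hn.2
  -- `a0 = σ⁻¹ e_k`
  set a0 : OI m := σ.symm (eI k) with ha0
  have hσa0 : σ a0 = eI k := by rw [ha0, Equiv.apply_symm_apply]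
  have hσd : σ (dualE m a0) = fI k := by rw [hn.2 a0, hσa0, dualE_eI]
  have ha0z : a0 ≠ zI := by
    intro e
    rw [e, hz] at hσa0
    exact absurd hσa0 (by simp)
  have hposne : pos m a0 ≠ m := fun e => ha0z (pos_injective m (e.trans f2z_pos_zI.symm))
  have hle := f2p_pos_le a0
  have hpd : pos m (dualE m a0) = 2 * m - pos m a0 := pos_dualE m a0
  rcases lt_or_gt_of_ne hposne with hlt | hgt
  · left
    intro t
    apply f2p_conj_mem_B_of n _ σ hn
    intro a b hab
    rw [Cfsg.Agent.Lib.Helper61.StO.mat_xZ k t]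
    have hne : a ≠ b := by
      rintro rfl
      exact lt_irrefl _ hab
    apply f2z_xZMat_apply_eq_zero
    · exact fun e => hne (σ.injective e)
    · rintro ⟨ha, hb⟩
      have ha' : a = zI := σ.injective (ha.trans hz.symm)
      have hb' : b = dualE m a0 := σ.injective (hb.trans hσd.symm)
      rw [ha', hb', hpd, f2z_pos_zI] at hab
      omega
    · rintro ⟨ha, hb⟩
      have ha' : a = a0 := σ.injective (ha.trans hσa0.symm)
      have hb' : b = zI := σ.injective (hb.trans hz.symm)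
      rw [ha', hb', f2z_pos_zI] at hab
      omega
    · rintro ⟨ha, hb⟩
      have ha' : a = a0 := σ.injective (ha.trans hσa0.symm)
      have hb' : b = dualE m a0 := σ.injective (hb.trans hσd.symm)
      rw [ha', hb', hpd] at hab
      omega
  · right
    intro t
    apply f2p_conj_mem_B_of n _ σ hn
    intro a b hab
    rw [Cfsg.Agent.Lib.Helper61.StO.mat_yZ k t]
    have hne : a ≠ b := by
      rintro rfl
      exact lt_irrefl _ hab
    apply f2z_yZMat_apply_eq_zero
    · exact fun e => hne (σ.injective e)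
    · rintro ⟨ha, hb⟩
      have ha' : a = zI := σ.injective (ha.trans hz.symm)
      have hb' : b = a0 := σ.injective (hb.trans hσa0.symm)
      rw [ha', hb', f2z_pos_zI] at hab
      omega
    · rintro ⟨ha, hb⟩
      have ha' : a = dualE m a0 := σ.injective (ha.trans hσd.symm)
      have hb' : b = zI := σ.injective (hb.trans hz.symm)
      rw [ha', hb', hpd, f2z_pos_zI] at hab
      omega
    · rintro ⟨ha, hb⟩
      have ha' : a = dualE m a0 := σ.injective (ha.trans hσd.symm)
      have hb' : b = a0 := σ.injective (hb.trans hσa0.symm)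
      rw [ha', hb', hpd] at hab
      omega

/-- **K-StO leaf F2Z** (keystone 254709) -/
theorem dich_last (hm : 0 < m) (n : OG m F)
    (σ : Equiv.Perm (OI m)) (hn : MonWith m F n σ) :
    (∀ t : F, n⁻¹ * xZ m F (lastF hm) t * n ∈ Bsub m F) ∨
      (∀ t : F, n⁻¹ * yZ m F (lastF hm) t * n ∈ Bsub m F) :=
  dich_Z (lastF hm) n σ hn

end Cfsg.Agent.Lib.Helper27.StO
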