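import Cfsg.Agent.Lib.Helper48.StODefs
import Cfsg.Agent.Lib.Helper86.StOR0a
import Cfsg.Agent.Lib.Helper84.StOR0b
import Cfsg.Agent.Lib.Helper08.StSpF3S

/-!
# K-StO leaf F3P (keystone 254710, S2547 pack of helper48): the rank one identity for the simple
roots `ε_i - ε_{i+1}` of `O_{2m+1}(F)`

All matrices involved are block diagonal `1 ⊕ A ⊕ D` for the decomposition
`OI m = Unit ⊕ (Fin m ⊕ Fin m)`; the identity is then the `GL_m` identity
`Helper08.StSp.perm_mul_transvection` on both blocks.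
-/

set_option autoImplicit false
set_option linter.unusedSectionVars false
set_option linter.unusedVariables false
set_option linter.unusedSimpArgs false

namespace Cfsg.Agent.Lib.Helper27.StO

open Cfsg Cfsg.Agent.Lib.Helper48.StO Matrix

variable {m : ℕ} {F : Type*} [Field F]

/-- the block diagonal matrix `1 ⊕ A ⊕ D` -/
def blk3 (A D : Matrix (Fin m) (Fin m) F) : Matrix (OI m) (OI m) F :=
  Matrix.fromBlocks (1 : Matrix Unit Unit F) 0 0 (Matrix.fromBlocks A 0 0 D)

theorem blk3_mul (A D A' D' : Matrix (Fin m) (Fin m) F) :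
    blk3 A D * blk3 A' D' = blk3 (A * A') (D * D') := by
  unfold blk3
  simp only [Matrix.fromBlocks_multiply, Matrix.mul_zero, Matrix.zero_mul, add_zero, zero_add,
    Matrix.mul_one]

theorem blk3_zz (A D : Matrix (Fin m) (Fin m) F) : blk3 A D zI zI = 1 := by
  unfold blk3; simp

theorem blk3_ze (A D : Matrix (Fin m) (Fin m) F) (b : Fin m) : blk3 A D zI (eI b) = 0 := by
  unfold blk3; simp

theorem blk3_zf (A D : Matrix (Fin m) (Fin m) F) (b : Fin m) : blk3 A D zI (fI b) = 0 := by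
  unfold blk3; simp

theorem blk3_ez (A D : Matrix (Fin m) (Fin m) F) (a : Fin m) : blk3 A D (eI a) zI = 0 := by
  unfold blk3; simp

theorem blk3_fz (A D : Matrix (Fin m) (Fin m) F) (a : Fin m) : blk3 A D (fI a) zI = 0 := by
  unfold blk3; simp

theorem blk3_ee (A D : Matrix (Fin m) (Fin m) F) (a b : Fin m) :
    blk3 A D (eI a) (eI b) = A a b := by
  unfold blk3; simp

theorem blk3_ef (A D : Matrix (Fin m) (Fin m) F) (a b : Fin m) :
    blk3 A D (eI a) (fI b) = 0 := by
  unfold blk3; simp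

theorem blk3_fe (A D : Matrix (Fin m) (Fin m) F) (a b : Fin m) :
    blk3 A D (fI a) (eI b) = 0 := by
  unfold blk3; simp

theorem blk3_ff (A D : Matrix (Fin m) (Fin m) F) (a b : Fin m) :
    blk3 A D (fI a) (fI b) = D a b := by
  unfold blk3; simp

/-- the permutation matrix `sPermMat i j` in block form -/
theorem sPermMat_eq_blk3 (i j : Fin m) :
    sPermMat m F i j = blk3 ((Equiv.swap i j).permMatrix F) ((Equiv.swap i j).permMatrix F) := by
  ext a b
  unfold sPermMat swapE
  rcases a with a | a | a <;> rcases b with b | b | b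
  · rw [blk3_zz]; simp [Equiv.Perm.permMatrix, PEquiv.toMatrix_apply]
  · rw [blk3_ze]; simp [Equiv.Perm.permMatrix, PEquiv.toMatrix_apply]
  · rw [blk3_zf]; simp [Equiv.Perm.permMatrix, PEquiv.toMatrix_apply]
  · rw [blk3_ez]; simp [Equiv.Perm.permMatrix, PEquiv.toMatrix_apply]
  · rw [blk3_ee]; simp [Equiv.Perm.permMatrix, PEquiv.toMatrix_apply]
  · rw [blk3_ef]; simp [Equiv.Perm.permMatrix, PEquiv.toMatrix_apply]
  · rw [blk3_fz]; simp [Equiv.Perm.permMatrix, PEquiv.toMatrix_apply]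
  · rw [blk3_fe]; simp [Equiv.Perm.permMatrix, PEquiv.toMatrix_apply]
  · rw [blk3_ff]; simp [Equiv.Perm.permMatrix, PEquiv.toMatrix_apply]

/-- the root matrix `xPermMat i j t` in block form -/
theorem xPermMat_eq_blk3 (i j : Fin m) (t : F) :
    xPermMat m F i j t = blk3 (Matrix.transvection i j t) (Matrix.transvection j i (-t)) := by
  ext a b
  unfold xPermMat Matrix.transvection
  rcases a with a | a | a <;> rcases b with b | b | b
  · rw [blk3_zz]; simp [Matrix.one_apply, Matrix.single_apply]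
  · rw [blk3_ze]; simp [Matrix.one_apply, Matrix.single_apply]
  · rw [blk3_zf]; simp [Matrix.one_apply, Matrix.single_apply]
  · rw [blk3_ez]; simp [Matrix.one_apply, Matrix.single_apply]
  · rw [blk3_ee]; simp [Matrix.one_apply, Matrix.single_apply]
  · rw [blk3_ef]; simp [Matrix.one_apply, Matrix.single_apply]
  · rw [blk3_fz]; simp [Matrix.one_apply, Matrix.single_apply]
  · rw [blk3_fe]; simp [Matrix.one_apply, Matrix.single_apply]
  · rw [blk3_ff]; simp [Matrix.one_apply, Matrix.single_apply, sub_eq_add_neg]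
    split_ifs <;> simp

open Cfsg.Agent.Lib.Helper08.StSp in
/-- the matrix of the torus element -/
def hPermMat (i j : Fin m) (t : F) : Matrix (OI m) (OI m) F :=
  blk3 (Matrix.diagonal (dShort i j t)) (Matrix.diagonal (dShort j i (-t)))

open Cfsg.Agent.Lib.Helper08.StSp in
/-- the matrix identity -/
theorem sPermMat_mul_xPermMat (i j : Fin m) (hij : i ≠ j) (t : F) (ht : t ≠ 0) :
    sPermMat m F i j * xPermMat m F i j t =
      xPermMat m F i j t⁻¹ * hPermMat i j t * xPermMat m F j i t⁻¹ := by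
  rw [sPermMat_eq_blk3, xPermMat_eq_blk3, xPermMat_eq_blk3, xPermMat_eq_blk3]
  unfold hPermMat
  rw [blk3_mul, blk3_mul, blk3_mul]
  have h1 := perm_mul_transvection i j hij t ht
  have h2 := perm_mul_transvection j i hij.symm (-t) (neg_ne_zero.mpr ht)
  rw [Equiv.swap_comm j i, inv_neg] at h2
  rw [h1, h2]

open Cfsg.Agent.Lib.Helper08.StSp in
theorem hPermMat_mul_inv (i j : Fin m) (hij : i ≠ j) (t : F) (ht : t ≠ 0) :
    hPermMat i j t * hPermMat j i (-t) = 1 := by
  unfold hPermMat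
  rw [blk3_mul, Matrix.diagonal_mul_diagonal, Matrix.diagonal_mul_diagonal, neg_neg]
  have e1 : (fun a => dShort i j t a * dShort j i (-t) a) = fun _ => (1 : F) :=
    funext fun a => dShort_mul i j hij t ht a
  have e2 : (fun a => dShort j i (-t) a * dShort i j t a) = fun _ => (1 : F) :=
    funext fun a => by rw [mul_comm]; exact dShort_mul i j hij t ht a
  rw [e1, e2]
  ext a b
  rcases a with a | a | a <;> rcases b with b | b | b
  · rw [blk3_zz]; simp
  · rw [blk3_ze]; simp
  · rw [blk3_zf]; simp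
  · rw [blk3_ez]; simp
  · rw [blk3_ee]; simp [Matrix.diagonal_apply, Matrix.one_apply]
  · rw [blk3_ef]; simp
  · rw [blk3_fz]; simp
  · rw [blk3_fe]; simp
  · rw [blk3_ff]; simp [Matrix.diagonal_apply, Matrix.one_apply]

open Cfsg.Agent.Lib.Helper08.StSp in
theorem hPermMat_mulVec (i j : Fin m) (t : F) (u : OI m → F) :
    (hPermMat i j t *ᵥ u) zI = u zI ∧
    (∀ a, (hPermMat i j t *ᵥ u) (eI a) = dShort i j t a * u (eI a)) ∧
    (∀ a, (hPermMat i j t *ᵥ u) (fI a) = dShort j i (-t) a * u (fI a)) := by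
  refine ⟨?_, ?_, ?_⟩
  · unfold hPermMat blk3
    simp [Matrix.mulVec, dotProduct, Fintype.sum_sum_type]
  · intro a
    unfold hPermMat blk3
    simp [Matrix.mulVec, dotProduct, Fintype.sum_sum_type, Matrix.diagonal_apply]
  · intro a
    unfold hPermMat blk3
    simp [Matrix.mulVec, dotProduct, Fintype.sum_sum_type, Matrix.diagonal_apply]

open Cfsg.Agent.Lib.Helper08.StSp in
theorem quad_hPermMat (i j : Fin m) (hij : i ≠ j) (t : F) (ht : t ≠ 0) (u : OI m → F) :
    Cfsg.quadFormOdd m F (hPermMat i j t *ᵥ u) = Cfsg.quadFormOdd m F u := by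
  obtain ⟨hz, he, hf⟩ := hPermMat_mulVec i j t u
  unfold Cfsg.quadFormOdd
  have hz' : (hPermMat i j t *ᵥ u) (Sum.inl ()) = u (Sum.inl ()) := hz
  rw [hz']
  congr 1
  apply Finset.sum_congr rfl
  intro a _
  have e1 : (hPermMat i j t *ᵥ u) (Sum.inr (Sum.inl a)) = dShort i j t a * u (eI a) := he a
  have e2 : (hPermMat i j t *ᵥ u) (Sum.inr (Sum.inr a)) = dShort j i (-t) a * u (fI a) := hf a
  rw [e1, e2]
  have := dShort_mul i j hij t ht a
  calc dShort i j t a * u (eI a) * (dShort j i (-t) a * u (fI a))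
      = (dShort i j t a * dShort j i (-t) a) * (u (eI a) * u (fI a)) := by ring
    _ = u (eI a) * u (fI a) := by rw [this, one_mul]

open Cfsg.Agent.Lib.Helper08.StSp in
theorem exists_hPerm (i j : Fin m) (hij : i ≠ j) (t : F) (ht : t ≠ 0) :
    ∃ g : OG m F, mat g = hPermMat i j t := by
  refine exists_of_isometry (hPermMat i j t) (hPermMat j i (-t)) (hPermMat_mul_inv i j hij t ht) ?_
    (quad_hPermMat i j hij t ht)
  have := hPermMat_mul_inv j i hij.symm (-t) (neg_ne_zero.mpr ht)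
  rwa [neg_neg] at this

/-- the torus element -/
noncomputable def hPerm (i j : Fin m) (t : F) : OG m F := ofMat (hPermMat i j t)

theorem mat_hPerm (i j : Fin m) (hij : i ≠ j) (t : F) (ht : t ≠ 0) :
    mat (hPerm (F := F) i j t) = hPermMat i j t :=
  mat_ofMat _ (exists_hPerm i j hij t ht)

theorem hPerm_mem_T (i j : Fin m) (hij : i ≠ j) (t : F) (ht : t ≠ 0) :
    hPerm (F := F) i j t ∈ Tsub m F := by
  rw [mem_Tsub_iff]
  intro a b hab
  rw [mat_hPerm i j hij t ht]
  unfold hPermMat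
  rcases a with a | a | a <;> rcases b with b | b | b
  · exact absurd rfl hab
  · rw [blk3_ze]
  · rw [blk3_zf]
  · rw [blk3_ez]
  · have : a ≠ b := fun h => hab (by rw [h])
    rw [blk3_ee, Matrix.diagonal_apply_ne _ this]
  · rw [blk3_ef]
  · rw [blk3_fz]
  · rw [blk3_fe]
  · have : a ≠ b := fun h => hab (by rw [h])
    rw [blk3_ff, Matrix.diagonal_apply_ne _ this]

theorem rank_one_perm_aux (i j : Fin m) (hij : i ≠ j) (t : F) (ht : t ≠ 0) :
    sPerm m F i j * xPerm m F i j t =
      xPerm m F i j t⁻¹ * hPerm i j t * xPerm m F j i t⁻¹ := by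
  apply mat_injective
  rw [mat_mul, mat_mul, mat_mul, Cfsg.Agent.Lib.Helper86.StO.mat_sPerm,
    Cfsg.Agent.Lib.Helper84.StO.mat_xPerm i j hij, Cfsg.Agent.Lib.Helper84.StO.mat_xPerm i j hij,
    Cfsg.Agent.Lib.Helper84.StO.mat_xPerm j i hij.symm, mat_hPerm i j hij t ht]
  exact sPermMat_mul_xPermMat i j hij t ht

/-- LEAF F3P (keystone 254710): the rank one identity, roots `ε_i - ε_{i+1}`. -/
theorem rank_one_perm (i : Fin m) (hi : i.val + 1 < m) (t : F) (ht : t ≠ 0) :
    ∃ t' t'' : F, ∃ h ∈ Tsub m F,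
      sPerm m F i (nxt i hi) * xPerm m F i (nxt i hi) t =
        xPerm m F i (nxt i hi) t' * h * xPerm m F (nxt i hi) i t'' :=
  ⟨t⁻¹, t⁻¹, hPerm i (nxt i hi) t, hPerm_mem_T i (nxt i hi) (ne_nxt i hi) t ht,
    rank_one_perm_aux i (nxt i hi) (ne_nxt i hi) t ht⟩

end Cfsg.Agent.Lib.Helper27.StO
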