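import Cfsg.Agent.Lib.Helper53.StOmDefs
import Cfsg.Agent.Lib.Helper90.StOmR0a

/-!
# K-StOm-C4 (keystone 254917, S2549 pack of helper53): the longest element `w0` lies in `N`
(port of `Lib/Helper86/StOC4.lean`)
-/

set_option autoImplicit false
set_option linter.unusedSectionVars false

namespace Cfsg.Agent.Lib.Helper27.StOm

open Cfsg Cfsg.Agent.Lib.Helper53.StOm Cfsg.Agent.Lib.Helper90.StOm

variable {m : ℕ} {F : Type*} [Field F] {a b : F}

theorem swapE_mul_self (i j : Fin m) : swapE m i j * swapE m i j = 1 := by
  ext x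
  rcases x with (x | x) | x
  · show eI (Equiv.swap i j (Equiv.swap i j x)) = eI x
    rw [Equiv.swap_apply_self]
  · show fI (Equiv.swap i j (Equiv.swap i j x)) = fI x
    rw [Equiv.swap_apply_self]
  · rfl

theorem swapE_inv (i j : Fin m) : (swapE m i j)⁻¹ = swapE m i j :=
  inv_eq_of_mul_eq_one_right (swapE_mul_self i j)

/-- `flipE k` is conjugate to `flipE k'` under `swapE k k'` -/
theorem swapE_conj_flipE (k k' : Fin m) :
    swapE m k k' * flipE m k' * swapE m k k' = flipE m k := by
  have h := Equiv.swap_apply_apply (swapE m k k') (eI k') (fI k')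
  rw [swapE_inv] at h
  rw [show flipE m k' = Equiv.swap (eI k') (fI k') from rfl, ← h]
  have h1 : swapE m k k' (eI k') = eI k := by
    show eI (Equiv.swap k k' k') = eI k
    rw [Equiv.swap_apply_right]
  have h2 : swapE m k k' (fI k') = fI k := by
    show fI (Equiv.swap k k' k') = fI k
    rw [Equiv.swap_apply_right]
  rw [h1, h2]
  rfl

/-- the flip of the pairs in `S`, as a function -/
def flipFun (S : Finset (Fin m)) : MI m → MI m
  | Sum.inr u => Sum.inr u
  | Sum.inl (Sum.inl k) => if k ∈ S then fI k else eI k
  | Sum.inl (Sum.inr k) => if k ∈ S then eI k else fI k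

theorem flipFun_involutive (S : Finset (Fin m)) : Function.Involutive (flipFun S) := by
  intro x
  rcases x with (x | x) | x
  · by_cases h : x ∈ S
    · simp [flipFun, h]
    · simp [flipFun, h]
  · by_cases h : x ∈ S
    · simp [flipFun, h]
    · simp [flipFun, h]
  · rfl

/-- the flip of the pairs in `S` -/
def flipSet (S : Finset (Fin m)) : Equiv.Perm (MI m) := (flipFun_involutive S).toPerm

theorem flipSet_empty : flipSet (∅ : Finset (Fin m)) = 1 := by
  ext x
  rcases x with (x | x) | x <;> simp [flipSet, flipFun]

theorem flipSet_univ : flipSet (Finset.univ : Finset (Fin m)) = dualE m := by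
  ext x
  rcases x with (x | x) | x <;> simp [flipSet, flipFun, dualE]

theorem flipSet_insert (k : Fin m) (S : Finset (Fin m)) (hk : k ∉ S) :
    flipSet (insert k S) = flipE m k * flipSet S := by
  ext x
  rw [Equiv.Perm.mul_apply]
  show flipFun (insert k S) x = Equiv.swap (eI k) (fI k) (flipFun S x)
  rcases x with (x | x) | x
  · by_cases h : x = k
    · subst h
      simp [flipFun, hk]
    · by_cases hS : x ∈ S
      · have h2 : (fI x : MI m) ≠ fI k := fun e => h (Sum.inr.inj (Sum.inl.inj e))
        simp only [flipFun, Finset.mem_insert, h, hS, or_true, if_true]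
        rw [Equiv.swap_apply_of_ne_of_ne (by simp) h2]
      · have h1 : (eI x : MI m) ≠ eI k := fun e => h (Sum.inl.inj (Sum.inl.inj e))
        simp only [flipFun, Finset.mem_insert, h, hS, or_false, if_false]
        rw [Equiv.swap_apply_of_ne_of_ne h1 (by simp)]
  · by_cases h : x = k
    · subst h
      simp [flipFun, hk]
    · by_cases hS : x ∈ S
      · have h1 : (eI x : MI m) ≠ eI k := fun e => h (Sum.inl.inj (Sum.inl.inj e))
        simp only [flipFun, Finset.mem_insert, h, hS, or_true, if_true]
        rw [Equiv.swap_apply_of_ne_of_ne h1 (by simp)]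
      · have h2 : (fI x : MI m) ≠ fI k := fun e => h (Sum.inr.inj (Sum.inl.inj e))
        simp only [flipFun, Finset.mem_insert, h, hS, or_false, if_false]
        rw [Equiv.swap_apply_of_ne_of_ne (by simp) h2]
  · show (zI x : MI m) = Equiv.swap (eI k) (fI k) (zI x)
    rw [Equiv.swap_apply_of_ne_of_ne (by simp) (by simp)]

theorem sPerm_conj_sFlip (k k' : Fin m) :
    sPerm m F a b k k' * sFlip m F a b k' * sPerm m F a b k k' = sFlip m F a b k := by
  apply mat_injective
  rw [mat_mul, mat_mul, mat_sPerm, mat_sFlip, mat_sFlip]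
  unfold sPermMat sFlipMat
  rw [← Matrix.permMatrix_mul, ← Matrix.permMatrix_mul, ← mul_assoc, swapE_conj_flipE]

/-- every `sFlip k` is a product of simple reflections -/
theorem sFlip_mem_closure : ∀ (n : ℕ) (k : Fin m), k.val + n + 1 = m →
    sFlip m F a b k ∈ Subgroup.closure (Sset m F a b) := by
  intro n
  induction n with
  | zero =>
    intro k hk
    apply Subgroup.subset_closure
    right
    have hm : 0 < m := by omega
    refine ⟨hm, ?_⟩
    have : k = lastF hm := by
      apply Fin.ext
      show k.val = m - 1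
      omega
    rw [this]
  | succ n ih =>
    intro k hk
    have hi : k.val + 1 < m := by omega
    have h1 : sFlip m F a b (nxt k hi) ∈ Subgroup.closure (Sset m F a b) := by
      apply ih
      show k.val + 1 + n + 1 = m
      omega
    have h2 : sPerm m F a b k (nxt k hi) ∈ Subgroup.closure (Sset m F a b) := by
      apply Subgroup.subset_closure
      left
      exact ⟨k, hi, rfl⟩
    rw [← sPerm_conj_sFlip k (nxt k hi)]
    exact mul_mem (mul_mem h2 h1) h2

theorem sFlip_mem_closure' (k : Fin m) : sFlip m F a b k ∈ Subgroup.closure (Sset m F a b) :=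
  sFlip_mem_closure (m - 1 - k.val) k (by have := k.2; omega)

/-- the flip of the pairs in `S` is a product of simple reflections -/
theorem exists_flipSet (S : Finset (Fin m)) :
    ∃ g : OG m F a b, g ∈ Subgroup.closure (Sset m F a b) ∧ mat g = (flipSet S).permMatrix F := by
  classical
  induction S using Finset.induction_on with
  | empty =>
    refine ⟨1, one_mem _, ?_⟩
    rw [flipSet_empty, Matrix.permMatrix_one, mat_one]
  | insert k S hk ih =>
    obtain ⟨g, hg, hgm⟩ := ih
    refine ⟨g * sFlip m F a b k, mul_mem hg (sFlip_mem_closure' k), ?_⟩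
    rw [flipSet_insert k S hk, Matrix.permMatrix_mul, mat_mul, hgm, mat_sFlip]
    rfl

/-- **LEAF C4.** -/
theorem w0_mem_N : w0 m F a b ∈ Nsub m F a b := by
  obtain ⟨g, hg, hgm⟩ := exists_flipSet (F := F) (a := a) (b := b) (Finset.univ : Finset (Fin m))
  have : g = w0 m F a b := by
    apply mat_injective
    rw [hgm, flipSet_univ, mat_w0]
    rfl
  rw [← this]
  exact (le_sup_left : Subgroup.closure (Sset m F a b) ≤ Nsub m F a b) hg

end Cfsg.Agent.Lib.Helper27.StOm
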