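import Cfsg.Agent.Lib.Helper49.StOpDefs
import Cfsg.Agent.Lib.Helper59.StOpR0a

/-!
# K-StOp-C4 (keystone 254819, S2548 pack of helper49), parallel hand of helper27:
the longest element of the Weyl group of type `D_m` lies in `N`.
-/

set_option autoImplicit false
set_option linter.unusedSectionVars false
set_option linter.unusedVariables false
set_option linter.unusedSimpArgs false

namespace Cfsg.Agent.Lib.Helper27.StOp

open Cfsg Cfsg.Agent.Lib.Helper49.StOp Cfsg.Agent.Lib.Helper59.StOp

variable {m : ℕ} {F : Type*} [Field F]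

theorem swapE_mul_self (i j : Fin m) : swapE m i j * swapE m i j = 1 := by
  ext x
  rcases x with x | x
  · show eI (Equiv.swap i j (Equiv.swap i j x)) = eI x
    rw [Equiv.swap_apply_self]
  · show fI (Equiv.swap i j (Equiv.swap i j x)) = fI x
    rw [Equiv.swap_apply_self]

theorem swapE_inv (i j : Fin m) : (swapE m i j)⁻¹ = swapE m i j :=
  inv_eq_of_mul_eq_one_right (swapE_mul_self i j)

theorem swapE_eI (i j a : Fin m) : swapE m i j (eI a) = eI (Equiv.swap i j a) := rfl

theorem swapE_fI (i j a : Fin m) : swapE m i j (fI a) = fI (Equiv.swap i j a) := rfl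

/-- conjugating `crossE a b` by `swapE i j` -/
theorem swapE_conj_crossE (i j a b : Fin m) :
    swapE m i j * crossE m a b * swapE m i j =
      crossE m (Equiv.swap i j a) (Equiv.swap i j b) := by
  have h1 := Equiv.swap_apply_apply (swapE m i j) (eI a) (fI b)
  have h2 := Equiv.swap_apply_apply (swapE m i j) (eI b) (fI a)
  rw [swapE_inv, swapE_eI, swapE_fI] at h1 h2
  have hs := swapE_mul_self (m := m) i j
  unfold crossE
  rw [h1, h2]
  generalize Equiv.swap (eI a) (fI b) = A
  generalize Equiv.swap (eI b) (fI a) = B
  generalize swapE m i j = s at hs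
  calc s * (A * B) * s = s * A * 1 * B * s := by simp only [mul_assoc, one_mul]
    _ = s * A * (s * s) * B * s := by rw [hs]
    _ = s * A * s * (s * B * s) := by simp only [mul_assoc]

theorem sShort_conj_sCross (i j a b : Fin m) :
    sShort m F i j * sCross m F a b * sShort m F i j =
      sCross m F (Equiv.swap i j a) (Equiv.swap i j b) := by
  apply mat_injective
  rw [mat_mul, mat_mul, mat_sShort, mat_sCross, mat_sCross]
  unfold sShortMat sCrossMat
  rw [← Matrix.permMatrix_mul, ← Matrix.permMatrix_mul, ← mul_assoc, swapE_conj_crossE]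

theorem sCross_congr {a b a' b' : Fin m} (h1 : a = a') (h2 : b = b') :
    sCross m F a b = sCross m F a' b' := by
  rw [h1, h2]

/-- `sCross i (i+1)` is a product of simple reflections -/
theorem sCross_adj_mem : ∀ (n : ℕ) (i : Fin m) (hi : i.val + 1 < m), i.val + n + 2 = m →
    sCross m F i (nxt i hi) ∈ Subgroup.closure (Sset m F) := by
  intro n
  induction n with
  | zero =>
    intro i hi h
    apply Subgroup.subset_closure
    right
    have hm : 2 ≤ m := by omega
    refine ⟨hm, ?_⟩
    apply sCross_congr
    · apply Fin.ext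
      show i.val = m - 2
      omega
    · apply Fin.ext
      show i.val + 1 = m - 1
      omega
  | succ n ih =>
    intro i hi h
    have hi1 : (nxt i hi).val + 1 < m := by
      show i.val + 1 + 1 < m
      omega
    have h0 : sCross m F (nxt i hi) (nxt (nxt i hi) hi1) ∈ Subgroup.closure (Sset m F) := by
      apply ih
      show i.val + 1 + n + 2 = m
      omega
    have hs1 : sShort m F i (nxt i hi) ∈ Subgroup.closure (Sset m F) :=
      Subgroup.subset_closure (Or.inl ⟨i, hi, rfl⟩)
    have hs2 : sShort m F (nxt i hi) (nxt (nxt i hi) hi1) ∈ Subgroup.closure (Sset m F) :=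
      Subgroup.subset_closure (Or.inl ⟨nxt i hi, hi1, rfl⟩)
    have n1 : i ≠ nxt i hi := ne_nxt i hi
    have n2 : nxt i hi ≠ nxt (nxt i hi) hi1 := ne_nxt _ hi1
    have n3 : i ≠ nxt (nxt i hi) hi1 := by
      intro e
      have := congrArg Fin.val e
      simp only [nxt] at this
      omega
    have e1 := sShort_conj_sCross (F := F) i (nxt i hi) (nxt i hi) (nxt (nxt i hi) hi1)
    rw [Equiv.swap_apply_right, Equiv.swap_apply_of_ne_of_ne n3.symm n2.symm] at e1
    have e2 := sShort_conj_sCross (F := F) (nxt i hi) (nxt (nxt i hi) hi1) i (nxt (nxt i hi) hi1)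
    rw [Equiv.swap_apply_right, Equiv.swap_apply_of_ne_of_ne n1 n3] at e2
    rw [← e2, ← e1]
    exact mul_mem (mul_mem hs2 (mul_mem (mul_mem hs1 h0) hs1)) hs2

/-- the product of `swapE a b` and `crossE a b` flips the two pairs `a`, `b` -/
theorem crossE_mul_swapE (a b : Fin m) (hab : a ≠ b) :
    crossE m a b * swapE m a b = flipE m a * flipE m b := by
  ext x
  rcases x with x | x
  · by_cases hxa : x = a
    · subst hxa
      simp [crossE, flipE, swapE, Equiv.swap_apply_def, hab, hab.symm]
    · by_cases hxb : x = b
      · subst hxb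
        simp [crossE, flipE, swapE, Equiv.swap_apply_def, hab, hab.symm]
      · simp [crossE, flipE, swapE, Equiv.swap_apply_def, hxa, hxb]
  · by_cases hxa : x = a
    · subst hxa
      simp [crossE, flipE, swapE, Equiv.swap_apply_def, hab, hab.symm]
    · by_cases hxb : x = b
      · subst hxb
        simp [crossE, flipE, swapE, Equiv.swap_apply_def, hab, hab.symm]
      · simp [crossE, flipE, swapE, Equiv.swap_apply_def, hxa, hxb]

/-- the flip of the pairs in `S`, as a function -/
def flipFun (S : Finset (Fin m)) : OI m → OI m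
  | Sum.inl k => if k ∈ S then fI k else eI k
  | Sum.inr k => if k ∈ S then eI k else fI k

theorem flipFun_involutive (S : Finset (Fin m)) : Function.Involutive (flipFun S) := by
  intro x
  rcases x with x | x
  · by_cases h : x ∈ S
    · simp [flipFun, h]
    · simp [flipFun, h]
  · by_cases h : x ∈ S
    · simp [flipFun, h]
    · simp [flipFun, h]

/-- the flip of the pairs in `S` -/
def flipSet (S : Finset (Fin m)) : Equiv.Perm (OI m) := (flipFun_involutive S).toPerm

theorem flipSet_empty : flipSet (∅ : Finset (Fin m)) = 1 := by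
  ext x
  rcases x with x | x <;> simp [flipSet, flipFun]

theorem flipSet_insert (k : Fin m) (S : Finset (Fin m)) (hk : k ∉ S) :
    flipSet (insert k S) = flipE m k * flipSet S := by
  ext x
  rw [Equiv.Perm.mul_apply]
  show flipFun (insert k S) x = Equiv.swap (eI k) (fI k) (flipFun S x)
  rcases x with x | x
  · by_cases h : x = k
    · subst h
      simp [flipFun, hk]
    · by_cases hS : x ∈ S
      · have h2 : (fI x : OI m) ≠ fI k := fun e => h (Sum.inr.inj e)
        simp only [flipFun, Finset.mem_insert, h, hS, or_true, if_true]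
        rw [Equiv.swap_apply_of_ne_of_ne (by simp) h2]
      · have h1 : (eI x : OI m) ≠ eI k := fun e => h (Sum.inl.inj e)
        simp only [flipFun, Finset.mem_insert, h, hS, or_false, if_false]
        rw [Equiv.swap_apply_of_ne_of_ne h1 (by simp)]
  · by_cases h : x = k
    · subst h
      simp [flipFun, hk]
    · by_cases hS : x ∈ S
      · have h1 : (eI x : OI m) ≠ eI k := fun e => h (Sum.inl.inj e)
        simp only [flipFun, Finset.mem_insert, h, hS, or_true, if_true]
        rw [Equiv.swap_apply_of_ne_of_ne h1 (by simp)]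
      · have h2 : (fI x : OI m) ≠ fI k := fun e => h (Sum.inr.inj e)
        simp only [flipFun, Finset.mem_insert, h, hS, or_false, if_false]
        rw [Equiv.swap_apply_of_ne_of_ne (by simp) h2]

/-- the indices below `k` -/
def below (m k : ℕ) : Finset (Fin m) := Finset.univ.filter (fun i : Fin m => i.val < k)

theorem mem_below {k : ℕ} (i : Fin m) : i ∈ below m k ↔ i.val < k := by
  unfold below
  simp

/-- flipping the first `2 k` pairs is a product of simple reflections -/
theorem exists_flipPairs : ∀ k : ℕ, 2 * k ≤ m →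
    ∃ g : OG m F, g ∈ Subgroup.closure (Sset m F) ∧
      mat g = (flipSet (below m (2 * k))).permMatrix F := by
  classical
  intro k
  induction k with
  | zero =>
    intro _
    refine ⟨1, one_mem _, ?_⟩
    have : below m (2 * 0) = ∅ := by
      ext i
      rw [mem_below]
      simp
    rw [this, flipSet_empty, Matrix.permMatrix_one, mat_one]
  | succ k ih =>
    intro hk
    obtain ⟨g, hg, hgm⟩ := ih (by omega)
    have ha : 2 * k < m := by omega
    let a : Fin m := ⟨2 * k, ha⟩
    have hb : a.val + 1 < m := by
      show 2 * k + 1 < m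
      omega
    have hab : a ≠ nxt a hb := ne_nxt a hb
    have hS : below m (2 * (k + 1)) = insert a (insert (nxt a hb) (below m (2 * k))) := by
      ext i
      rw [mem_below, Finset.mem_insert, Finset.mem_insert, mem_below, Fin.ext_iff, Fin.ext_iff]
      show i.val < 2 * (k + 1) ↔ i.val = 2 * k ∨ i.val = 2 * k + 1 ∨ i.val < 2 * k
      omega
    have hb' : nxt a hb ∉ below m (2 * k) := by
      rw [mem_below]
      show ¬ 2 * k + 1 < 2 * k
      omega
    have ha' : a ∉ insert (nxt a hb) (below m (2 * k)) := by
      rw [Finset.mem_insert, mem_below]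
      rintro (h | h)
      · exact hab h
      · exact absurd h (by show ¬ 2 * k < 2 * k; omega)
    have hc1 : sShort m F a (nxt a hb) ∈ Subgroup.closure (Sset m F) :=
      Subgroup.subset_closure (Or.inl ⟨a, hb, rfl⟩)
    have hc2 : sCross m F a (nxt a hb) ∈ Subgroup.closure (Sset m F) :=
      sCross_adj_mem (m - 2 - a.val) a hb (by
        show 2 * k + (m - 2 - 2 * k) + 2 = m
        omega)
    refine ⟨g * (sShort m F a (nxt a hb) * sCross m F a (nxt a hb)),
      mul_mem hg (mul_mem hc1 hc2), ?_⟩
    have hR : (flipSet (below m (2 * (k + 1)))).permMatrix F =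
        (flipSet (below m (2 * k))).permMatrix F *
          ((crossE m a (nxt a hb) * swapE m a (nxt a hb)).permMatrix F) := by
      rw [hS, flipSet_insert a _ ha', flipSet_insert (nxt a hb) _ hb',
        ← mul_assoc (flipE m a), ← crossE_mul_swapE a (nxt a hb) hab, Matrix.permMatrix_mul]
    rw [hR, mat_mul, mat_mul, hgm, mat_sShort, mat_sCross, Matrix.permMatrix_mul]
    rfl

/-- flipping all pairs below `2 (m / 2)` is the permutation of the longest element -/
theorem flipSet_below_eq_rho : flipSet (below m (2 * (m / 2))) = rho m := by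
  ext x
  show flipFun (below m (2 * (m / 2))) x = rhoFun m x
  rcases x with x | x
  · have hx := x.2
    unfold rhoFun
    show (if x ∈ below m (2 * (m / 2)) then fI x else eI x) =
      if m % 2 = 1 ∧ (x.val = m - 1 ∨ x.val = m) then eI x else fI x
    by_cases h : x.val < 2 * (m / 2)
    · rw [if_pos ((mem_below x).2 h), if_neg (by omega)]
    · rw [if_neg (fun h' => h ((mem_below x).1 h')), if_pos (by omega)]
  · have hx := x.2
    unfold rhoFun
    show (if x ∈ below m (2 * (m / 2)) then eI x else fI x) =
      if m % 2 = 1 ∧ (2 * m - 1 - x.val = m - 1 ∨ 2 * m - 1 - x.val = m) then fI x else eI x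
    by_cases h : x.val < 2 * (m / 2)
    · rw [if_pos ((mem_below x).2 h), if_neg (by omega)]
    · rw [if_neg (fun h' => h ((mem_below x).1 h')), if_pos (by omega)]

theorem rho_rho (a : OI m) : rho m (rho m a) = a := rhoFun_rhoFun m a

theorem rho_dualE (a : OI m) : rho m (dualE m a) = dualE m (rho m a) := by
  have key : (m % 2 = 1 ∧ (pos m (dualE m a) = m - 1 ∨ pos m (dualE m a) = m)) ↔
      (m % 2 = 1 ∧ (pos m a = m - 1 ∨ pos m a = m)) := by
    rw [pos_dualE]
    have := pos_lt m a
    omega
  show rhoFun m (dualE m a) = dualE m (rhoFun m a)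
  unfold rhoFun
  by_cases h : (m % 2 = 1 ∧ (pos m a = m - 1 ∨ pos m a = m))
  · rw [if_pos (key.2 h), if_pos h]
  · rw [if_neg (fun h' => h (key.1 h')), if_neg h]

/-- **LEAF C4** (keystone 254819) -/
theorem exists_w0 : ∃ w ∈ Nsub m F, MonWith m F w (rho m) := by
  obtain ⟨g, hg, hgm⟩ := exists_flipPairs (F := F) (m := m) (m / 2) (by omega)
  rw [flipSet_below_eq_rho] at hgm
  refine ⟨g, (le_sup_left : Subgroup.closure (Sset m F) ≤ Nsub m F) hg, ?_, rho_dualE⟩
  intro a b
  rw [hgm, Equiv.Perm.permMatrix, PEquiv.toMatrix_apply]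
  have hmem : b ∈ (Equiv.toPEquiv (rho m)) a ↔ rho m a = b := by
    simp only [Equiv.toPEquiv_apply, Option.mem_def, Option.some.injEq]
  constructor
  · intro h
    by_contra hne
    apply h
    rw [if_neg]
    intro e
    apply hne
    rw [← hmem.1 e, rho_rho]
  · intro h
    rw [if_pos (hmem.2 (by rw [h, rho_rho]))]
    exact one_ne_zero

end Cfsg.Agent.Lib.Helper27.StOp
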