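import Cfsg.Agent.Lib.Helper43.UFDefs

/-!
# S5700 pack, keystone 570004 (K-UF-EICH): unitary Eichler transformations

`eich U hQ hn c y = sOf c (-(J y)) * sOf (J c) y`: explicit formula and commutation with `J`.
-/

set_option autoImplicit false
set_option linter.unusedSimpArgs false
set_option linter.unusedVariables false
set_option linter.unusedSectionVars false

namespace Cfsg.Agent.Lib.Helper27.UF

open Module Matrix Cfsg.Agent.Lib.Helper19 Cfsg.Agent.Lib.Helper43 Cfsg.Agent.Lib.Helper43.UF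

variable {F : Type*} [Field F] [Fintype F] {ι : Type} [Fintype ι] [DecidableEq ι]
variable {Q : QuadraticForm F (ι → F)}
variable (hQ : (QuadraticMap.polarBilin Q).Nondegenerate) (hn : 7 ≤ Fintype.card ι)

local notation "ℬ" => QuadraticMap.polarBilin Q

theorem lo_eich (U : UData Q) (c y : ι → F) (hc : Q c = 0) (hcy : U.HOrth c y) (v : ι → F) :
    lo Q (eich U hQ hn c y) v = v + ℬ v c • U.J y - ℬ v (U.J c) • y +
      (ℬ v y - Q y * ℬ v (U.J c)) • U.J c +
      (- ℬ v (U.J y) + U.tr * Q y * ℬ v (U.J c) - U.nm * Q y * ℬ v c) • c := by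
  have e1 : ℬ (U.J c) c = 0 := U.B_J_self c hc
  have e2 : ℬ y c = 0 := by rw [polar_symm]; exact hcy.1
  have e3 : ℬ (U.J c) (U.J y) = 0 := by rw [U.B_JJ, hcy.1, mul_zero]
  have e4 : ℬ y (U.J y) = U.tr * Q y := U.self y
  have e5 : Q (-(U.J y)) = U.nm * Q y := by rw [QuadraticMap.map_neg, U.norm]
  have e6 : ℬ c (-(U.J y)) = 0 := by rw [map_neg, hcy.B_right_J, neg_zero]
  unfold eich
  rw [lo_mul_apply, lo_sOf Q hQ hn (U.J c) y (U.Q_J c hc) hcy.2, lo_sOf Q hQ hn c (-(U.J y)) hc e6,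
    siegelLin_apply, siegelLin_apply, e5]
  simp only [map_add, map_smul, map_neg, LinearMap.add_apply, LinearMap.smul_apply, LinearMap.neg_apply,
    smul_eq_mul, e1, e2, e3, e4]
  module

theorem eich_comm (U : UData Q) (c y : ι → F) (hc : Q c = 0) (hcy : U.HOrth c y) (x : ι → F) :
    lo Q (eich U hQ hn c y) (U.J x) = U.J (lo Q (eich U hQ hn c y) x) := by
  rw [lo_eich hQ hn U c y hc hcy (U.J x), lo_eich hQ hn U c y hc hcy x]
  rw [U.B_JJ x c, U.B_JJ x y, U.B_J_left x c, U.B_J_left x y]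
  simp only [map_add, map_sub, map_smul, U.sq]
  module

end Cfsg.Agent.Lib.Helper27.UF
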