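import Mathlib
import Cfsg.Prelude.Def_CaseTheorems
import Cfsg.Agent.Lib.Helper27.WreathedCenter
import Cfsg.Agent.Lib.Helper27.KleinFourAux

set_option autoImplicit false
set_option linter.style.haveILetI false
set_option linter.unusedSectionVars false

namespace Cfsg.Agent.Lib.Helper27

open Cfsg

namespace IsWr

variable {S : Type*} [Group S] [Finite S] {n : ℕ} {x y z : S}

theorem tA_sq (h : IsWr n x y z) : (h.P (hh n) 0) ^ 2 = 1 := by
  rw [pow_two, h.P_mul_P, hh_add_hh h.one_le_n, add_zero, h.P_zero]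

theorem tB_sq (h : IsWr n x y z) : (h.P 0 (hh n)) ^ 2 = 1 := by
  rw [pow_two, h.P_mul_P, hh_add_hh h.one_le_n, add_zero, h.P_zero]

theorem tAB_comm (h : IsWr n x y z) : h.P (hh n) 0 * h.P 0 (hh n) = h.P 0 (hh n) * h.P (hh n) 0 := by
  rw [h.P_mul_P, h.P_mul_P, add_comm (hh n) 0, add_comm 0 (hh n)]

/-- the normal four-group -/
noncomputable def T (h : IsWr n x y z) : Subgroup S := v4 h.tA_sq h.tB_sq h.tAB_comm

theorem mem_T_iff (h : IsWr n x y z) (s : S) :
    s ∈ h.T ↔ ∃ i j, (i = 0 ∨ i = hh n) ∧ (j = 0 ∨ j = hh n) ∧ s = h.P i j := by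
  rw [T, mem_v4_iff]
  constructor
  · rintro (rfl | rfl | rfl | rfl)
    · exact ⟨0, 0, Or.inl rfl, Or.inl rfl, h.P_zero.symm⟩
    · exact ⟨hh n, 0, Or.inr rfl, Or.inl rfl, rfl⟩
    · exact ⟨0, hh n, Or.inl rfl, Or.inr rfl, rfl⟩
    · exact ⟨hh n, hh n, Or.inr rfl, Or.inr rfl, by rw [h.P_mul_P, add_zero, zero_add]⟩
  · rintro ⟨i, j, hi, hj, rfl⟩
    rcases hi with rfl | rfl <;> rcases hj with rfl | rfl
    · left; exact h.P_zero
    · right; right; left; rfl
    · right; left; rfl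
    · right; right; right; rw [h.P_mul_P, add_zero, zero_add]

theorem T_isKleinFour (h : IsWr n x y z) : IsKleinFour h.T := by
  have hn1 := h.one_le_n
  apply v4_isKleinFour
  · rw [Ne, h.P_eq_one_iff]; exact fun hc => hh_ne_zero hn1 hc.1
  · rw [Ne, h.P_eq_one_iff]; exact fun hc => hh_ne_zero hn1 hc.2
  · intro hc; exact hh_ne_zero hn1 (h.P_inj hc).1

theorem T_normal (h : IsWr n x y z) : h.T.Normal := by
  constructor
  intro t ht g
  rw [h.mem_T_iff] at ht ⊢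
  obtain ⟨i, j, hi, hj, rfl⟩ := ht
  rcases h.cases g with ⟨a, b, rfl⟩ | ⟨a, b, rfl⟩
  · exact ⟨i, j, hi, hj, h.P_conj_P a b i j⟩
  · exact ⟨j, i, hj, hi, h.Q_conj_P a b i j⟩

/-- data of a Klein four subgroup -/
theorem kf_sq (T₁ : Subgroup S) (hT : IsKleinFour T₁) {t : S} (ht : t ∈ T₁) : t * t = 1 := by
  have := IsKleinFour.mul_self (⟨t, ht⟩ : T₁)
  exact congrArg Subtype.val this

theorem kf_comm (T₁ : Subgroup S) (hT : IsKleinFour T₁) {t u : S} (ht : t ∈ T₁) (hu : u ∈ T₁) :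
    t * u = u * t := by
  have := (isMulCommutative_iff.mp (IsKleinFour.isMulCommutative (G := T₁))) ⟨t, ht⟩ ⟨u, hu⟩
  exact congrArg Subtype.val this

theorem kf_eq_T_of_le_U (h : IsWr n x y z) (T₁ : Subgroup S) (hT : IsKleinFour T₁)
    (hle : T₁ ≤ h.U) : T₁ = h.T := by
  have hn1 := h.one_le_n
  have h1 : T₁ ≤ h.T := by
    intro t ht
    obtain ⟨i, j, rfl⟩ := (h.mem_U_iff t).mp (hle ht)
    have hsq := kf_sq T₁ hT ht
    rw [h.P_mul_P, h.P_eq_one_iff, add_self_eq_zero_iff' hn1, add_self_eq_zero_iff' hn1] at hsq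
    exact (h.mem_T_iff _).mpr ⟨i, j, hsq.1, hsq.2, rfl⟩
  haveI := h.T_isKleinFour
  exact Subgroup.eq_of_le_of_card_ge h1
    (by rw [IsKleinFour.card_four, IsKleinFour.card_four])

/-- the four-set containing a Klein four subgroup that meets the `Q`-coset -/
def F (h : IsWr n x y z) (i : ZMod (2 ^ n)) : Set S :=
  {1, h.P (hh n) (hh n), h.Q i (-i), h.Q (i + hh n) (-(i + hh n))}

theorem kf_coe_eq_F (h : IsWr n x y z) (T₁ : Subgroup S) (hT : IsKleinFour T₁)
    {i j : ZMod (2 ^ n)} (hQ : h.Q i j ∈ T₁) : (T₁ : Set S) = h.F i := by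
  have hn1 := h.one_le_n
  have hij : i + j = 0 := by
    have hsq := kf_sq T₁ hT hQ
    rw [h.Q_mul_Q, h.P_eq_one_iff] at hsq
    exact hsq.1
  have hsub : (T₁ : Set S) ⊆ h.F i := by
    intro v hv
    have hv' : v ∈ T₁ := hv
    have hsq := kf_sq T₁ hT hv'
    have hc := kf_comm T₁ hT hv' hQ
    simp only [F, Set.mem_insert_iff, Set.mem_singleton_iff]
    rcases h.cases v with ⟨a, b, rfl⟩ | ⟨a, b, rfl⟩
    · have hab : a = b := (h.P_comm_Q_iff a b i j).mp hc
      subst hab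
      rw [h.P_mul_P, h.P_eq_one_iff, add_self_eq_zero_iff' hn1] at hsq
      rcases hsq.1 with rfl | rfl
      · left; exact h.P_zero
      · right; left; rfl
    · have hab : a - b = i - j := (h.Q_comm_Q_iff a b i j).mp hc
      rw [h.Q_mul_Q, h.P_eq_one_iff] at hsq
      have hb : b = -a := by linear_combination hsq.1
      have hj : j = -i := by linear_combination hij
      subst hb
      have h2 : (a - i) + (a - i) = 0 := by
        rw [hj] at hab
        linear_combination hab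
      rcases (add_self_eq_zero_iff' hn1 _).mp h2 with h0 | h1
      · right; right; left
        have : a = i := by linear_combination h0
        rw [this]
      · right; right; right
        have : a = i + hh n := by linear_combination h1
        rw [this]
  have hcard : (h.F i).ncard ≤ (T₁ : Set S).ncard := by
    have h4 : (T₁ : Set S).ncard = 4 := by
      rw [← Nat.card_coe_set_eq]
      exact IsKleinFour.card_four
    rw [h4, F]
    calc ({1, h.P (hh n) (hh n), h.Q i (-i), h.Q (i + hh n) (-(i + hh n))} : Set S).ncard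
        ≤ ({h.P (hh n) (hh n), h.Q i (-i), h.Q (i + hh n) (-(i + hh n))} : Set S).ncard + 1 :=
          Set.ncard_insert_le _ _
      _ ≤ (({h.Q i (-i), h.Q (i + hh n) (-(i + hh n))} : Set S).ncard + 1) + 1 :=
          Nat.add_le_add_right (Set.ncard_insert_le _ _) 1
      _ ≤ ((({h.Q (i + hh n) (-(i + hh n))} : Set S).ncard + 1) + 1) + 1 :=
          Nat.add_le_add_right (Nat.add_le_add_right (Set.ncard_insert_le _ _) 1) 1
      _ = 4 := by rw [Set.ncard_singleton]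
  exact Set.eq_of_subset_of_ncard_le hsub hcard (Set.toFinite _)

theorem kf_conj (h : IsWr n x y z) (T₁ T₂ : Subgroup S) (hT₁ : IsKleinFour T₁)
    (hT₂ : IsKleinFour T₂) (h1 : T₁ ≠ h.T) (h2 : T₂ ≠ h.T) :
    ∃ s : S, T₁.map (MulAut.conj s).toMonoidHom = T₂ := by
  have hn1 := h.one_le_n
  have ex : ∀ T' : Subgroup S, IsKleinFour T' → T' ≠ h.T → ∃ i j, h.Q i j ∈ T' := by
    intro T' hT' hne
    by_contra hcon
    rw [not_exists] at hcon
    apply hne
    apply h.kf_eq_T_of_le_U T' hT'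
    intro t ht
    rcases h.cases t with ⟨a, b, rfl⟩ | ⟨a, b, rfl⟩
    · exact h.P_mem_U a b
    · exact absurd ⟨b, ht⟩ (hcon a)
  obtain ⟨i₁, j₁, hQ₁⟩ := ex T₁ hT₁ h1
  obtain ⟨i₂, j₂, hQ₂⟩ := ex T₂ hT₂ h2
  have e₁ := h.kf_coe_eq_F T₁ hT₁ hQ₁
  have e₂ := h.kf_coe_eq_F T₂ hT₂ hQ₂
  have mem₁ : ∀ t, t ∈ T₁ ↔ t ∈ h.F i₁ := fun t => by rw [← e₁]; rfl
  have mem₂ : ∀ t, t ∈ T₂ ↔ t ∈ h.F i₂ := fun t => by rw [← e₂]; rfl
  refine ⟨h.P (i₂ - i₁) 0, ?_⟩
  have hle : T₁.map (MulAut.conj (h.P (i₂ - i₁) 0)).toMonoidHom ≤ T₂ := by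
    rintro _ ⟨t, ht, rfl⟩
    rw [SetLike.mem_coe, mem₁] at ht
    rw [mem₂]
    have hconj : ∀ t, (MulAut.conj (h.P (i₂ - i₁) 0)).toMonoidHom t =
        h.P (i₂ - i₁) 0 * t * (h.P (i₂ - i₁) 0)⁻¹ := fun t => rfl
    rw [hconj]
    simp only [F, Set.mem_insert_iff, Set.mem_singleton_iff] at ht ⊢
    rcases ht with rfl | rfl | rfl | rfl
    · left; group
    · right; left; exact h.P_conj_P _ _ _ _
    · right; right; left
      rw [h.P_conj_Q]; congr 1 <;> ring
    · right; right; right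
      rw [h.P_conj_Q]; congr 1 <;> ring
  apply Subgroup.eq_of_le_of_card_ge hle
  rw [Subgroup.card_map_of_injective (MulAut.conj (h.P (i₂ - i₁) 0)).injective]
  rw [IsKleinFour.card_four, IsKleinFour.card_four]

/-- a second Klein four subgroup -/
theorem exists_kf_ne_T (h : IsWr n x y z) : ∃ T₀ : Subgroup S, IsKleinFour T₀ ∧ T₀ ≠ h.T := by
  have hn1 := h.one_le_n
  have ha : (h.P (hh n) (hh n)) ^ 2 = 1 := by
    rw [pow_two, h.P_mul_P, hh_add_hh hn1, h.P_zero]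
  have hb : (h.Q 0 0) ^ 2 = 1 := by
    rw [pow_two, h.Q_mul_Q, add_zero, h.P_zero]
  have hab : h.P (hh n) (hh n) * h.Q 0 0 = h.Q 0 0 * h.P (hh n) (hh n) :=
    (h.P_comm_Q_iff _ _ _ _).mpr rfl
  refine ⟨v4 ha hb hab, ?_, ?_⟩
  · apply v4_isKleinFour
    · rw [Ne, h.P_eq_one_iff]; exact fun hc => hh_ne_zero hn1 hc.1
    · exact h.Q_ne_one 0 0
    · exact h.P_ne_Q _ _ _ _
  · intro hc
    have h1 : h.Q 0 0 ∈ v4 ha hb hab := (mem_v4_iff ha hb hab _).mpr (Or.inr (Or.inr (Or.inl rfl)))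
    rw [hc, h.mem_T_iff] at h1
    obtain ⟨i, j, -, -, hq⟩ := h1
    exact h.P_ne_Q i j 0 0 hq.symm

end IsWr

end Cfsg.Agent.Lib.Helper27
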