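import Mathlib
import Cfsg.Prelude.Def_CaseTheorems
import Cfsg.Agent.Lib.Helper27.WreathedQuat

set_option autoImplicit false
set_option linter.style.haveILetI false
set_option linter.unusedSectionVars false

namespace Cfsg.Agent.Lib.Helper27

open Cfsg

/-- a subgroup isomorphic to a generalized quaternion group is "quaternion-like" -/
theorem quatLike_of_equiv {S : Type*} [Group S] (Y : Subgroup S) (m : ℕ) [NeZero m]
    (e : Y ≃* QuaternionGroup m) :
    ∃ α : S, α ∈ Y ∧ orderOf α = 2 * m ∧ (∃ g ∈ Y, g * α * g⁻¹ = α⁻¹) ∧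
      ∀ g ∈ Y, (∃ k : ℕ, g = α ^ k) ∨ (g * α * g⁻¹ = α⁻¹ ∧ g * g = α ^ m) := by
  have hxa : ∀ k : ZMod (2 * m),
      ((e.symm (QuaternionGroup.xa k) : Y) : S) * (e.symm (QuaternionGroup.a 1) : Y) *
        ((e.symm (QuaternionGroup.xa k) : Y) : S)⁻¹ = ((e.symm (QuaternionGroup.a 1) : Y) : S)⁻¹ ∧
      ((e.symm (QuaternionGroup.xa k) : Y) : S) * (e.symm (QuaternionGroup.xa k) : Y) =
        ((e.symm (QuaternionGroup.a 1) : Y) : S) ^ m := by
    intro k
    constructor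
    · rw [← Subgroup.coe_inv, ← Subgroup.coe_mul, ← Subgroup.coe_mul, ← Subgroup.coe_inv,
        ← map_inv, ← map_mul, ← map_mul, ← map_inv, quat_xa_conj_a_one]
      rfl
    · rw [← Subgroup.coe_mul, ← Subgroup.coe_pow, ← map_mul, ← map_pow, quat_xa_sq]
  refine ⟨(e.symm (QuaternionGroup.a 1) : Y), (e.symm (QuaternionGroup.a 1)).2, ?_, ?_, ?_⟩
  · rw [Subgroup.orderOf_coe, MulEquiv.orderOf_eq, QuaternionGroup.orderOf_a_one]
  · exact ⟨(e.symm (QuaternionGroup.xa 0) : Y), (e.symm (QuaternionGroup.xa 0)).2, (hxa 0).1⟩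
  · intro g hg
    obtain ⟨q, hq⟩ : ∃ q, q = e ⟨g, hg⟩ := ⟨_, rfl⟩
    have hg' : g = ((e.symm q : Y) : S) := by rw [hq, MulEquiv.symm_apply_apply]
    rcases q with k | k
    · left
      refine ⟨k.val, ?_⟩
      rw [hg', quat_a_eq_pow, map_pow, Subgroup.coe_pow]
    · right
      rw [hg']
      exact hxa k

namespace IsWr

variable {S : Type*} [Group S] [Finite S] {n : ℕ} {x y z : S}

theorem le_Y0_of_quatLike (h : IsWr n x y z) (Y : Subgroup S) (α : S) (ho : orderOf α = 2 ^ n)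
    (hX : ∃ g ∈ Y, g * α * g⁻¹ = α⁻¹)
    (hY : ∀ g ∈ Y, (∃ k : ℕ, g = α ^ k) ∨
      (g * α * g⁻¹ = α⁻¹ ∧ g * g = α ^ (2 ^ (n - 1)))) : Y ≤ h.Y0 := by
  have hn1 := h.one_le_n
  have hN4 := h.four_le
  have hαα : α * α ≠ 1 := by
    intro hc
    have h1 : orderOf α ∣ 2 := orderOf_dvd_of_pow_eq_one (by rw [pow_two]; exact hc)
    rw [ho] at h1
    have := Nat.le_of_dvd (by norm_num) h1
    omega
  have hαinv : α⁻¹ ≠ α := by
    intro hc
    apply hαα
    calc α * α = α⁻¹ * α := by rw [hc]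
      _ = 1 := inv_mul_cancel α
  have hw1 : α ^ (2 ^ (n - 1)) ≠ 1 := by
    apply pow_ne_one_of_lt_orderOf (by positivity)
    rw [ho]
    exact Nat.pow_lt_pow_right (by norm_num) (by omega)
  obtain ⟨g₀, hg₀Y, hg₀⟩ := hX
  rcases h.cases α with ⟨c, d, rfl⟩ | ⟨i, j, rfl⟩
  · -- α = P c d
    have hinvQ : ∀ g, g * h.P c d * g⁻¹ = (h.P c d)⁻¹ → ∃ a b, g = h.Q a b ∧ d = -c := by
      intro g hg
      rcases h.cases g with ⟨a, b, rfl⟩ | ⟨a, b, rfl⟩
      · rw [h.P_conj_P] at hg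
        exact absurd hg.symm hαinv
      · rw [h.Q_conj_P, h.P_inv] at hg
        exact ⟨a, b, rfl, (h.P_inj hg).1⟩
    obtain ⟨_, _, _, hd⟩ := hinvQ g₀ hg₀
    subst hd
    have hpow : ∀ k : ℕ, (h.P c (-c)) ^ k ∈ h.Y0 := fun k =>
      Subgroup.pow_mem _ ((h.P_mem_Y0_iff _ _).mpr (add_neg_cancel c)) k
    have hwU : (h.P c (-c)) ^ (2 ^ (n - 1)) ∈ h.U := Subgroup.pow_mem _ (h.P_mem_U c (-c)) _
    obtain ⟨t, t', hw⟩ := (h.mem_U_iff _).mp hwU
    have hwY := hpow (2 ^ (n - 1))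
    rw [hw, h.P_mem_Y0_iff] at hwY
    intro g hg
    rcases hY g hg with ⟨k, rfl⟩ | ⟨hinv, hsq⟩
    · exact hpow k
    · obtain ⟨a, b, rfl, -⟩ := hinvQ g hinv
      rw [h.Q_mul_Q, hw] at hsq
      obtain ⟨e1, e2⟩ := h.P_inj hsq
      have h2 : (a + b) + (a + b) = 0 := by linear_combination e1 + e2 + hwY
      rcases (add_self_eq_zero_iff' hn1 _).mp h2 with h0 | h1
      · exfalso
        apply hw1
        rw [hw, h.P_eq_one_iff]
        constructor
        · rw [← e1]; exact h0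
        · rw [← e2, add_comm]; exact h0
      · exact (h.Q_mem_Y0_iff a b).mpr h1
  · -- α = Q i j
    have hsq : h.Q i j * h.Q i j = h.P (i + j) (i + j) := by
      rw [h.Q_mul_Q, add_comm j i]
    have hcen : h.P (i + j) (i + j) ∈ Subgroup.center S := (h.mem_center_iff _).mpr ⟨_, rfl⟩
    have h1 : g₀ * (h.Q i j * h.Q i j) * g₀⁻¹ = (h.Q i j * h.Q i j)⁻¹ := by
      calc g₀ * (h.Q i j * h.Q i j) * g₀⁻¹ = (g₀ * h.Q i j * g₀⁻¹) * (g₀ * h.Q i j * g₀⁻¹) := by
            group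
        _ = (h.Q i j * h.Q i j)⁻¹ := by rw [hg₀]; group
    rw [hsq] at h1
    have h2 : g₀ * h.P (i + j) (i + j) * g₀⁻¹ = h.P (i + j) (i + j) := by
      rw [Subgroup.mem_center_iff] at hcen
      rw [hcen g₀]; group
    rw [h2, h.P_inv] at h1
    have hs2 : (i + j) + (i + j) = 0 := by
      have := (h.P_inj h1).1
      linear_combination this
    have hs0 : i + j ≠ 0 := by
      intro hc
      apply hαα
      rw [hsq, hc]; exact h.P_zero
    have hsh : i + j = hh n := by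
      rcases (add_self_eq_zero_iff' hn1 _).mp hs2 with h0 | h1
      · exact absurd h0 hs0
      · exact h1
    -- order 4
    have h4 : (h.Q i j) ^ 4 = 1 := by
      have : (h.Q i j) ^ 4 = (h.Q i j * h.Q i j) * (h.Q i j * h.Q i j) := by
        rw [show (4 : ℕ) = 2 + 2 from rfl, pow_add, pow_two]
      rw [this, hsq, h.P_mul_P, hs2, h.P_zero]
    have hdvd : 2 ^ n ∣ 4 := by
      rw [← ho]; exact orderOf_dvd_of_pow_eq_one h4
    have hle : 2 ^ n ≤ 4 := Nat.le_of_dvd (by norm_num) hdvd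
    have hn2 : n = 2 := by
      have h2n := h.hn
      by_contra hne
      have h3 : 3 ≤ n := by omega
      have : 2 ^ 3 ≤ 2 ^ n := Nat.pow_le_pow_right (by norm_num) h3
      omega
    have hexp : 2 ^ (n - 1) = 2 := by rw [hn2]; norm_num
    have hαY : h.Q i j ∈ h.Y0 := (h.Q_mem_Y0_iff i j).mpr hsh
    have hpow : ∀ k : ℕ, (h.Q i j) ^ k ∈ h.Y0 := fun k => Subgroup.pow_mem _ hαY k
    intro g hg
    rcases hY g hg with ⟨k, rfl⟩ | ⟨hinv, hgsq⟩
    · exact hpow k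
    · rw [hexp, pow_two, hsq] at hgsq
      rcases h.cases g with ⟨a, b, rfl⟩ | ⟨a, b, rfl⟩
      · rw [h.P_mul_P] at hgsq
        obtain ⟨ea, eb⟩ := h.P_inj hgsq
        rw [h.P_conj_Q, h.Q_inv] at hinv
        have e3 := (h.Q_inj hinv).1
        have hab2 : (a + b) + (a + b) = 0 := by linear_combination ea + eb + hs2
        rw [h.P_mem_Y0_iff]
        rcases (add_self_eq_zero_iff' hn1 _).mp hab2 with h0 | h1
        · exact h0
        · exfalso
          apply hs0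
          linear_combination -ea + h1 + e3 - hsh
      · rw [h.Q_mul_Q] at hgsq
        have := (h.P_inj hgsq).1
        rw [h.Q_mem_Y0_iff, this, hsh]

theorem eq_Y0_of_equiv (h : IsWr n x y z) (Y : Subgroup S) (hc : Nat.card Y = 2 ^ (n + 1))
    (e : Y ≃* QuaternionGroup (2 ^ (n - 1))) : Y = h.Y0 := by
  obtain ⟨α, -, ho, hX, hY⟩ := quatLike_of_equiv Y (2 ^ (n - 1)) e
  rw [h.two_mul_pow] at ho
  have hle := h.le_Y0_of_quatLike Y α ho hX hY
  exact Subgroup.eq_of_le_of_card_ge hle (by rw [h.card_Y0, hc])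

end IsWr

end Cfsg.Agent.Lib.Helper27
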