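import Mathlib
import Cfsg.Prelude.Def_TwoFusion
import Cfsg.Prelude.Def_CaseTheorems
import Cfsg.Agent.Lib.Helper27.ZStarGlue
import Cfsg.Agent.Lib.Helper81.PSolvable
import Cfsg.Agent.Lib.Helper01.CoprimeSylow2

set_option autoImplicit false

/-! Maximal `z`-invariant `p`-subgroups are Sylow, for an involution `z` that is central modulo the
odd core. -/

namespace Cfsg.Agent.Lib.Helper27

open Cfsg Cfsg.Agent.Lib.Helper01

universe u

variable {G : Type u} [Group G] [Finite G]

theorem odd_card_oddCore' : Odd (Nat.card (Cfsg.oddCore G)) :=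
  Nat.coprime_two_right.mp (Cfsg.Agent.Lib.Helper81.card_pPrimeCore_coprime (G := G) 2)

theorem card_zpowers_two {z : G} (hz : orderOf z = 2) : Nat.card (Subgroup.zpowers z) = 2 := by
  rw [Nat.card_zpowers, hz]

theorem zpowers_le_normalizer {z : G} {Q : Subgroup G}
    (hzQ : z ∈ Subgroup.normalizer (Q : Set G)) :
    Subgroup.zpowers z ≤ Subgroup.normalizer (Q : Set G) := by
  rw [Subgroup.zpowers_le]; exact hzQ

/-- the case `p = 2` -/
theorem max_invariant_two_sylow {z : G} (hz : orderOf z = 2) (Q : Subgroup G) (hQ : IsPGroup 2 Q)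
    (hzQ : z ∈ Subgroup.normalizer (Q : Set G))
    (hmax : ∀ R : Subgroup G, IsPGroup 2 R → z ∈ Subgroup.normalizer (R : Set G) → Q ≤ R → R = Q) :
    ∃ P : Sylow 2 G, (P : Subgroup G) = Q := by
  haveI : Fact (Nat.Prime 2) := ⟨Nat.prime_two⟩
  have hZ2 : IsPGroup 2 (Subgroup.zpowers z) := by
    apply IsPGroup.of_card (n := 1)
    rw [card_zpowers_two hz, pow_one]
  have hR : IsPGroup 2 (Subgroup.zpowers z ⊔ Q : Subgroup G) :=
    IsPGroup.to_sup_of_normal_right' hZ2 hQ (zpowers_le_normalizer hzQ)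
  have hzR : z ∈ Subgroup.normalizer ((Subgroup.zpowers z ⊔ Q : Subgroup G) : Set G) :=
    Subgroup.le_normalizer (le_sup_left (a := Subgroup.zpowers z) (Subgroup.mem_zpowers z))
  have hRQ := hmax _ hR hzR le_sup_right
  have hzQ' : z ∈ Q := by
    rw [← hRQ]; exact le_sup_left (a := Subgroup.zpowers z) (Subgroup.mem_zpowers z)
  obtain ⟨S, hS⟩ := hQ.exists_le_sylow
  refine ⟨S, hmax _ S.2 (Subgroup.le_normalizer (hS hzQ')) hS⟩

/-- the case of odd `p` -/
theorem max_invariant_odd_sylow {z : G} (hz : orderOf z = 2)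
    (hcomm : ∀ g : G, z * g * z⁻¹ * g⁻¹ ∈ Cfsg.oddCore G)
    {p : ℕ} [Fact p.Prime] (hp : p ≠ 2) (Q : Subgroup G) (hQ : IsPGroup p Q)
    (hzQ : z ∈ Subgroup.normalizer (Q : Set G))
    (hmax : ∀ R : Subgroup G, IsPGroup p R → z ∈ Subgroup.normalizer (R : Set G) → Q ≤ R → R = Q) :
    ∃ P : Sylow p G, (P : Subgroup G) = Q := by
  have hpp : p.Prime := Fact.out
  obtain ⟨P₀, hP₀⟩ := hQ.exists_le_sylow
  set X : Subgroup G := Cfsg.oddCore G ⊔ (P₀ : Subgroup G) with hX
  have hOX : Cfsg.oddCore G ≤ X := le_sup_left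
  have hPX : (P₀ : Subgroup G) ≤ X := le_sup_right
  -- `X` has odd order
  have hpodd : Odd p := hpp.odd_of_ne_two hp
  have hcardP : Odd (Nat.card (P₀ : Subgroup G)) := by
    obtain ⟨k, hk⟩ := IsPGroup.iff_card.mp P₀.2
    rw [hk]; exact hpodd.pow
  have hXodd : Odd (Nat.card X) := by
    have h1 : Nat.card (Cfsg.oddCore G) * (Cfsg.oddCore G).relIndex X = Nat.card X := by
      have := Subgroup.relIndex_mul_relIndex (H := (⊥ : Subgroup G)) (K := Cfsg.oddCore G) (L := X)
        bot_le hOX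
      rwa [Subgroup.relIndex_bot_left, Subgroup.relIndex_bot_left] at this
    have h2 : (Cfsg.oddCore G).relIndex X = (Cfsg.oddCore G).relIndex (P₀ : Subgroup G) := by
      rw [hX, Subgroup.relIndex_sup_left]
    have h3 : Odd ((Cfsg.oddCore G).relIndex (P₀ : Subgroup G)) :=
      Odd.of_dvd_nat hcardP (Subgroup.relIndex_dvd_card _ _)
    rw [← h1, h2]
    exact odd_card_oddCore'.mul h3
  -- `z` normalizes `X`
  have hzz : z * z = 1 := by
    have := pow_orderOf_eq_one z
    rwa [hz, pow_two] at this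
  have hzinv : z⁻¹ = z := inv_eq_of_mul_eq_one_left hzz
  have hzX : z ∈ Subgroup.normalizer (X : Set G) := by
    have key : ∀ x ∈ X, z * x * z⁻¹ ∈ X := by
      intro x hx
      have : z * x * z⁻¹ = (z * x * z⁻¹ * x⁻¹) * x := by group
      rw [this]
      exact X.mul_mem (hOX (hcomm x)) hx
    rw [Subgroup.mem_normalizer_iff]
    intro x
    constructor
    · intro hx; exact key x hx
    · intro hx
      have := key _ hx
      rw [hzinv] at this hx
      have h4 : z * (z * x * z) * z = x := by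
        calc z * (z * x * z) * z = (z * z) * x * (z * z) := by simp only [mul_assoc]
          _ = x := by rw [hzz, one_mul, mul_one]
      rwa [h4] at this
  have hAX : Subgroup.zpowers z ≤ Subgroup.normalizer (X : Set G) := zpowers_le_normalizer hzX
  have hcop : (Nat.card (Subgroup.zpowers z)).Coprime (Nat.card X) := by
    rw [card_zpowers_two hz]; exact Nat.coprime_two_left.mpr hXodd
  have hsolv : Group.IsSolvable (Subgroup.zpowers z) ∨ Group.IsSolvable X := by
    left
    haveI : IsCyclic (Subgroup.zpowers z) := inferInstance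
    exact isSolvable_of_comm (fun a b => IsCyclic.commGroup.mul_comm a b) 
  obtain ⟨P, hPsyl, hQP, hAP⟩ := exists_invariant_isSylowIn_ge (A := Subgroup.zpowers z) (K := X)
    (U := Q) p hAX hcop hsolv (hP₀.trans hPX) hQ (zpowers_le_normalizer hzQ)
  have hPQ : P = Q := hmax P hPsyl.2.1 (hAP (Subgroup.mem_zpowers z)) hQP
  have hidx : ¬ p ∣ Q.index := by
    rw [← hPQ]
    have h1 : P.relIndex X * X.index = P.index := Subgroup.relIndex_mul_index hPsyl.1
    rw [← h1]
    intro hdvd
    rcases (Nat.Prime.dvd_mul hpp).mp hdvd with h | h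
    · exact hPsyl.2.2 h
    · exact P₀.not_dvd_index (h.trans (Subgroup.index_dvd_of_le hPX))
  exact ⟨hQ.toSylow hidx, IsPGroup.toSylow_coe hQ hidx⟩

/-- Under the Z*-theorem, a maximal `z`-invariant `p`-subgroup is a Sylow `p`-subgroup, for `z` an
isolated involution. -/
theorem max_invariant_sylow_of_zstar (hZ : ZStarHyp G) {z : G} (hz : IsIsolatedInvolution z)
    {p : ℕ} [Fact p.Prime] (Q : Subgroup G) (hQ : IsPGroup p Q)
    (hzQ : z ∈ Subgroup.normalizer (Q : Set G))
    (hmax : ∀ R : Subgroup G, IsPGroup p R → z ∈ Subgroup.normalizer (R : Set G) → Q ≤ R → R = Q) :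
    ∃ P : Sylow p G, (P : Subgroup G) = Q := by
  by_cases hp : p = 2
  · subst hp
    exact max_invariant_two_sylow hz.1 Q hQ hzQ hmax
  · exact max_invariant_odd_sylow hz.1 (commutator_mem_oddCore_of_zstar hZ hz) hp Q hQ hzQ hmax

end Cfsg.Agent.Lib.Helper27
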